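import Cfsg.Agent.Lib.Unitary.Commutator
import Cfsg.Agent.Lib.Linear.Criteria
/-
The action of SU on isotropic lines and the simplicity of PSU.
* IsoLine, IsoLine.mk, isoLineAction, IsoLine.smul_mk; exists_iso_pairing
* su_transitive_iso, su_transitive_nonperp; scalar_of_fixes_iso; isSimpleGroup_PSU
-/
set_option autoImplicit false

namespace Cfsg.Agent.Unitary

open scoped Matrix Pointwise

variable {F : Type*} [Field F] {q n : ℕ}

/-- The isotropic lines. -/
def IsoLine (n : ℕ) (F : Type*) [Field F] (q : ℕ) : Type _ :=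
  {W : Submodule F (Fin n → F) // ∃ v, v ≠ 0 ∧ Cfsg.hermForm n F q v v = 0 ∧ W = F ∙ v}

/-- The isotropic line through a vector. -/
def IsoLine.mk (v : Fin n → F) (hv : v ≠ 0) (h0 : Cfsg.hermForm n F q v v = 0) : IsoLine n F q :=
  ⟨F ∙ v, v, hv, h0, rfl⟩

theorem IsoLine.exists_mk (p : IsoLine n F q) :
    ∃ (v : Fin n → F) (hv : v ≠ 0) (h0 : Cfsg.hermForm n F q v v = 0), p = IsoLine.mk v hv h0 := by
  obtain ⟨W, v, hv, h0, rfl⟩ := p
  exact ⟨v, hv, h0, rfl⟩

theorem IsoLine.mk_eq_iff {v w : Fin n → F} {hv : v ≠ 0} {hv0 : Cfsg.hermForm n F q v v = 0}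
    {hw : w ≠ 0} {hw0 : Cfsg.hermForm n F q w w = 0} :
    IsoLine.mk v hv hv0 = IsoLine.mk w hw hw0 ↔ ∃ c : F, c • w = v := by
  constructor
  · intro h
    have h' : (F ∙ v) = (F ∙ w) := congrArg Subtype.val h
    have : v ∈ (F ∙ w) := h' ▸ Submodule.mem_span_singleton_self v
    exact Submodule.mem_span_singleton.1 this
  · rintro ⟨c, rfl⟩
    have hc : c ≠ 0 := fun h => hv (by rw [h, zero_smul])
    exact Subtype.ext (Submodule.span_singleton_smul_eq (IsUnit.mk0 c hc) w)

/-- SU acts on isotropic lines. -/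
instance isoLineAction : MulAction (Cfsg.SU n F q) (IsoLine n F q) where
  smul g p := ⟨p.1.map (Matrix.mulVecLin
      ((g : Matrix.SpecialLinearGroup (Fin n) F) : Matrix (Fin n) (Fin n) F)), by
    obtain ⟨v, hv, h0, hp⟩ := p.2
    refine ⟨suAct g v, fun h => hv ?_, (suAct_herm g v v).trans h0, ?_⟩
    · rw [← suAct_inv_suAct g v, h, suAct_zero]
    · rw [hp, Submodule.map_span, Set.image_singleton]; rfl⟩
  one_smul p := Subtype.ext (by
    show Submodule.map _ p.1 = p.1
    simp)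
  mul_smul g h p := Subtype.ext (by
    show Submodule.map _ p.1 = Submodule.map _ (Submodule.map _ p.1)
    rw [← Submodule.map_comp, ← Matrix.mulVecLin_mul]
    rfl)

theorem suAct_ne_zero (g : Cfsg.SU n F q) {v : Fin n → F} (hv : v ≠ 0) : suAct g v ≠ 0 :=
  fun h => hv (by rw [← suAct_inv_suAct g v, h, suAct_zero])

theorem IsoLine.smul_mk (g : Cfsg.SU n F q) (v : Fin n → F) (hv : v ≠ 0)
    (h0 : Cfsg.hermForm n F q v v = 0) :
    g • IsoLine.mk v hv h0 =
      IsoLine.mk (suAct g v) (suAct_ne_zero g hv) ((suAct_herm g v v).trans h0) := by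
  apply Subtype.ext
  show Submodule.map _ (F ∙ v) = F ∙ _
  rw [Submodule.map_span, Set.image_singleton]
  rfl

variable [Fintype F]

/-- For independent orthogonal isotropic p, r there is an isotropic z pairing 1 with r and α with p. -/
theorem exists_iso_pairing (hF : Fintype.card F = q ^ 2) {p r : Fin n → F}
    (hp : p ≠ 0) (hr0 : Cfsg.hermForm n F q r r = 0) (hpr : Cfsg.hermForm n F q p r = 0)
    (hind : ∀ c : F, c • p ≠ r) (α : F) :
    ∃ z, Cfsg.hermForm n F q z z = 0 ∧ Cfsg.hermForm n F q r z = 1 ∧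
      Cfsg.hermForm n F q p z = α := by
  have H := hermForm_isHerm hF n
  have : RingHomSurjective (conjHom hF) := ⟨(conjHom_bijective hF).2⟩
  have hx : r ∉ (F ∙ (p - α • r)) := by
    intro h
    obtain ⟨c, hc⟩ := Submodule.mem_span_singleton.1 h
    rw [smul_sub, smul_smul, sub_eq_iff_eq_add] at hc
    by_cases h1 : 1 + c * α = 0
    · have : c • p = 0 := by rw [hc]; nth_rewrite 1 [← one_smul F r]; rw [← add_smul, h1, zero_smul]
      rcases smul_eq_zero.1 this with h2 | h2
      · simp [h2] at h1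
      · exact hp h2
    · refine hind ((1 + c * α)⁻¹ * c) ?_
      rw [mul_smul, hc]
      nth_rewrite 1 [← one_smul F r]
      rw [← add_smul, inv_smul_smul₀ h1]
  obtain ⟨z, hzW, hzr⟩ := Cfsg.Agent.Forms.exists_dual_vector (hermSesq hF n)
    (fun y hy => hermForm_nondeg hF n y fun x => hy x) _ r hx 1
  change Cfsg.hermForm n F q r z = 1 at hzr
  have hpz : Cfsg.hermForm n F q p z = α := by
    have := hzW _ (Submodule.mem_span_singleton_self _)
    change Cfsg.hermForm n F q (p - α • r) z = 0 at this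
    rw [H.sub_left, H.smul_left, hzr, mul_one, sub_eq_zero] at this
    exact this
  have hzr' : Cfsg.hermForm n F q z r = 1 := by rw [H.conj_symm r z, hzr, one_pow]
  obtain ⟨l, hl⟩ := exists_trace_eq hF (c := -Cfsg.hermForm n F q z z)
    (by rw [neg_pow_q hF, H.self_fixed])
  refine ⟨z + l • r, ?_, ?_, ?_⟩
  · simp only [H.add_left, H.add_right hF, H.smul_left, H.smul_right, hr0, hzr, hzr']
    linear_combination hl
  · rw [H.add_right hF, H.smul_right, hr0, hzr, mul_zero, add_zero]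
  · rw [H.add_right hF, H.smul_right, hpr, hpz, mul_zero, add_zero]

/-- A model hyperbolic pair with a norm-one vector orthogonal to it. -/
theorem exists_model (hF : Fintype.card F = q ^ 2) (hn : 3 ≤ n) :
    ∃ r s e : Fin n → F, Cfsg.hermForm n F q r r = 0 ∧ Cfsg.hermForm n F q s s = 0 ∧
      Cfsg.hermForm n F q r s = 1 ∧ Cfsg.hermForm n F q e e = 1 ∧
      Cfsg.hermForm n F q r e = 0 ∧ Cfsg.hermForm n F q s e = 0 := by
  have H := hermForm_isHerm hF n
  obtain ⟨ε, hε⟩ := exists_eps hF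
  obtain ⟨l, hl⟩ := exists_trace_eq hF (c := (-1 : F)) (by rw [neg_pow_q hF, one_pow])
  let b : Fin 3 → (Fin n → F) := fun i => Pi.single (Fin.castLE hn i) 1
  have hb : Orthonormal (Cfsg.hermForm n F q) b :=
    (single_orthonormal hF n).comp (Fin.castLE hn) (Fin.castLE_injective hn)
  have B : ∀ i j, Cfsg.hermForm n F q (b i) (b j) = if i = j then 1 else 0 := hb.apply
  let r := b 0 + ε • b 1
  have hr : Cfsg.hermForm n F q r r = 0 := by
    simp only [r, H.add_left, H.add_right hF, H.smul_left, H.smul_right, B]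
    simp (config := { decide := true }) only [if_true, if_false]
    linear_combination hε
  have hrb : Cfsg.hermForm n F q r (b 0) = 1 := by
    simp only [r, H.add_left, H.smul_left, B]
    simp (config := { decide := true })
  have hbr : Cfsg.hermForm n F q (b 0) r = 1 := by rw [H.conj_symm r (b 0), hrb, one_pow]
  have hre : Cfsg.hermForm n F q r (b 2) = 0 := by
    simp only [r, H.add_left, H.smul_left, B]
    simp (config := { decide := true })
  refine ⟨r, b 0 + l • r, b 2, hr, ?_, ?_, ?_, hre, ?_⟩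
  · simp only [H.add_left, H.add_right hF, H.smul_left, H.smul_right, hr, hrb, hbr, B]
    simp only [if_true]
    linear_combination hl
  · simp [H.add_right hF, H.smul_right, hr, hrb]
  · exact hb.1 2
  · simp only [H.add_left, H.smul_left, hre, mul_zero, add_zero, B]
    simp (config := { decide := true })

theorem linearIndependent_hyperbolic (hF : Fintype.card F = q ^ 2) {v w : Fin n → F}
    (hv : Cfsg.hermForm n F q v v = 0) (hw : Cfsg.hermForm n F q w w = 0)
    (hvw : Cfsg.hermForm n F q v w = 1) : LinearIndependent F ![v, w] := by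
  have H := hermForm_isHerm hF n
  rw [LinearIndependent.pair_iff]
  intro s t h
  have h1 := congrArg (fun x => Cfsg.hermForm n F q x w) h
  have h2 := congrArg (fun x => Cfsg.hermForm n F q x v) h
  have hwv : Cfsg.hermForm n F q w v = 1 := by rw [H.conj_symm v w, hvw, one_pow]
  simp only [H.add_left, H.smul_left, hv, hw, hvw, hwv, H.zero_left] at h1 h2
  exact ⟨by simpa using h1, by simpa using h2⟩

/-- SU is transitive on hyperbolic pairs. -/
theorem su_transitive_hyperbolic (hF : Fintype.card F = q ^ 2) (hn : 3 ≤ n) {v w v' w' : Fin n → F}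
    (hv : Cfsg.hermForm n F q v v = 0) (hw : Cfsg.hermForm n F q w w = 0)
    (hvw : Cfsg.hermForm n F q v w = 1) (hv' : Cfsg.hermForm n F q v' v' = 0)
    (hw' : Cfsg.hermForm n F q w' w' = 0) (hvw' : Cfsg.hermForm n F q v' w' = 1) :
    ∃ g : Cfsg.SU n F q, suAct g v = v' ∧ suAct g w = w' := by
  obtain ⟨r, s, e, hr, hs, hrs, he, hre, hse⟩ := exists_model hF hn (n := n)
  have H := hermForm_isHerm hF n
  have key : ∀ {a b : Fin n → F}, Cfsg.hermForm n F q a a = 0 → Cfsg.hermForm n F q b b = 0 →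
      Cfsg.hermForm n F q a b = 1 → ∃ g : Cfsg.SU n F q, suAct g a = r ∧ suAct g b = s := by
    intro a b ha hb hab
    obtain ⟨g, hg⟩ := exists_su_witt hF (linearIndependent_hyperbolic hF ha hb hab)
      (linearIndependent_hyperbolic hF hr hs hrs) (fun i j => by
        have hba : Cfsg.hermForm n F q b a = 1 := by rw [H.conj_symm a b, hab, one_pow]
        have hsr : Cfsg.hermForm n F q s r = 1 := by rw [H.conj_symm r s, hrs, one_pow]
        fin_cases i <;> fin_cases j <;> simp [ha, hb, hab, hba, hr, hs, hrs, hsr])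
      he (fun i => by fin_cases i <;> simp [hre, hse])
    exact ⟨g, hg 0, hg 1⟩
  obtain ⟨g, hg1, hg2⟩ := key hv hw hvw
  obtain ⟨g', hg1', hg2'⟩ := key hv' hw' hvw'
  exact ⟨g'⁻¹ * g, by rw [suAct_mul, hg1, ← hg1', suAct_inv_suAct],
    by rw [suAct_mul, hg2, ← hg2', suAct_inv_suAct]⟩

theorem exists_iso_partner (hF : Fintype.card F = q ^ 2) {v : Fin n → F} (hv : v ≠ 0)
    (hv0 : Cfsg.hermForm n F q v v = 0) :
    ∃ w, Cfsg.hermForm n F q w w = 0 ∧ Cfsg.hermForm n F q v w = 1 := by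
  have H := hermForm_isHerm hF n
  obtain ⟨ε, hε⟩ := exists_eps hF
  obtain ⟨a, a', hA, rfl⟩ := isotropic_split hF (b := (Fin.elim0 : Fin 0 → (Fin n → F)))
    ⟨fun i => i.elim0, fun i => i.elim0⟩ hv hv0 (fun i => i.elim0) hε
  obtain ⟨l, hl⟩ := exists_trace_eq hF (c := (-1 : F)) (by rw [neg_pow_q hF, one_pow])
  have haa : Cfsg.hermForm n F q a a = 1 := by
    simpa only [Fin.snoc_castSucc, Fin.snoc_last] using hA.1 (Fin.castSucc (Fin.last 0))
  have ha'a : Cfsg.hermForm n F q a' a = 0 := by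
    simpa only [Fin.snoc_castSucc, Fin.snoc_last] using
      hA.2 (Fin.castSucc_lt_last (Fin.last 0)).ne'
  have hva : Cfsg.hermForm n F q (a + ε • a') a = 1 := by
    rw [H.add_left, H.smul_left, haa, ha'a, mul_zero, add_zero]
  generalize a + ε • a' = v at hv0 hva ⊢
  have hav : Cfsg.hermForm n F q a v = 1 := by rw [H.conj_symm v a, hva, one_pow]
  refine ⟨a + l • v, ?_, ?_⟩
  · simp only [H.add_left, H.add_right hF, H.smul_left, H.smul_right, hv0, hva, hav, haa]
    linear_combination hl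
  · rw [H.add_right hF, H.smul_right, hv0, hva, mul_zero, add_zero]

theorem su_transitive_iso (hF : Fintype.card F = q ^ 2) (hn : 3 ≤ n) {v v' : Fin n → F}
    (hv : v ≠ 0) (hv0 : Cfsg.hermForm n F q v v = 0) (hv' : v' ≠ 0)
    (hv0' : Cfsg.hermForm n F q v' v' = 0) : ∃ g : Cfsg.SU n F q, suAct g v = v' := by
  obtain ⟨w, hw, hvw⟩ := exists_iso_partner hF hv hv0
  obtain ⟨w', hw', hvw'⟩ := exists_iso_partner hF hv' hv0'
  obtain ⟨g, hg, -⟩ := su_transitive_hyperbolic hF hn hv0 hw hvw hv0' hw' hvw'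
  exact ⟨g, hg⟩

theorem isoLine_pretransitive (hF : Fintype.card F = q ^ 2) (hn : 3 ≤ n) :
    MulAction.IsPretransitive (Cfsg.SU n F q) (IsoLine n F q) := by
  refine ⟨fun p p' => ?_⟩
  obtain ⟨v, hv, hv0, rfl⟩ := p.exists_mk
  obtain ⟨v', hv', hv0', rfl⟩ := p'.exists_mk
  obtain ⟨g, hg⟩ := su_transitive_iso hF hn hv hv0 hv' hv0'
  exact ⟨g, by rw [IsoLine.smul_mk]; exact IsoLine.mk_eq_iff.2 ⟨1, by rw [one_smul, hg]⟩⟩

theorem isoLine_quasiprimitive (hF : Fintype.card F = q ^ 2) (hn : 3 ≤ n) :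
    MulAction.IsQuasiPreprimitive (Cfsg.SU n F q) (IsoLine n F q) := by
  have htr := isoLine_pretransitive (n := n) hF hn
  refine { toIsPretransitive := htr, isPretransitive_of_normal := ?_ }
  intro N hN hfix
  have H := hermForm_isHerm hF n
  let R : IsoLine n F q → IsoLine n F q → Prop := fun p p' => ∃ m : N, m • p = p'
  have Rsymm : ∀ {a b}, R a b → R b a := fun {a b} ⟨m, hm⟩ => ⟨m⁻¹, by rw [← hm, inv_smul_smul]⟩
  have Rtrans : ∀ {a b c}, R a b → R b c → R a c := fun {a b c} ⟨m, hm⟩ ⟨m', hm'⟩ =>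
    ⟨m' * m, by rw [mul_smul, hm, hm']⟩
  have Rsmul : ∀ (g : Cfsg.SU n F q) {a b}, R a b → R (g • a) (g • b) := fun g {a b} ⟨m, hm⟩ =>
    ⟨⟨g * m * g⁻¹, hN.conj_mem m m.2 g⟩, by
      show (g * (m : Cfsg.SU n F q) * g⁻¹) • g • a = g • b
      rw [mul_smul, mul_smul, inv_smul_smul]
      exact congrArg (g • ·) hm⟩
  -- some pair of non-orthogonal lines is related
  obtain ⟨v, w, hv, hw, hv0, hw0, hvw, hR⟩ : ∃ (v w : Fin n → F) (hv : v ≠ 0) (hw : w ≠ 0)
      (hv0 : Cfsg.hermForm n F q v v = 0) (hw0 : Cfsg.hermForm n F q w w = 0),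
      Cfsg.hermForm n F q v w = 1 ∧ R (IsoLine.mk v hv hv0) (IsoLine.mk w hw hw0) := by
    obtain ⟨p, hp⟩ := (Set.ne_univ_iff_exists_notMem _).1 hfix
    obtain ⟨m, hm⟩ : ∃ m : N, m • p ≠ p := not_forall.1 fun h => hp h
    obtain ⟨v, hv, hv0, rfl⟩ := p.exists_mk
    obtain ⟨w, hw, hw0, hweq⟩ := (m • IsoLine.mk v hv hv0).exists_mk
    have hR : R (IsoLine.mk v hv hv0) (IsoLine.mk w hw hw0) := ⟨m, hweq⟩
    have fin : ∀ (a b : Fin n → F) (ha : a ≠ 0) (hb : b ≠ 0) (ha0 : Cfsg.hermForm n F q a a = 0)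
        (hb0 : Cfsg.hermForm n F q b b = 0), Cfsg.hermForm n F q a b ≠ 0 →
        R (IsoLine.mk a ha ha0) (IsoLine.mk b hb hb0) →
        ∃ (v w : Fin n → F) (hv : v ≠ 0) (hw : w ≠ 0) (hv0 : Cfsg.hermForm n F q v v = 0)
          (hw0 : Cfsg.hermForm n F q w w = 0),
          Cfsg.hermForm n F q v w = 1 ∧ R (IsoLine.mk v hv hv0) (IsoLine.mk w hw hw0) := by
      intro a b ha hb ha0 hb0 hab hR
      have hc : (Cfsg.hermForm n F q a b)⁻¹ ≠ 0 := inv_ne_zero hab
      have ha' : Cfsg.hermForm n F q ((Cfsg.hermForm n F q a b)⁻¹ • a)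
          ((Cfsg.hermForm n F q a b)⁻¹ • a) = 0 := by
        rw [H.smul_left, H.smul_right, ha0, mul_zero, mul_zero]
      refine ⟨_, b, smul_ne_zero hc ha, hb, ha', hb0, by rw [H.smul_left, inv_mul_cancel₀ hab], ?_⟩
      rwa [show IsoLine.mk _ (smul_ne_zero hc ha) ha' = IsoLine.mk a ha ha0 from
        IsoLine.mk_eq_iff.2 ⟨_, rfl⟩]
    by_cases hvw : Cfsg.hermForm n F q v w = 0
    · have hind : ∀ c : F, c • v ≠ w := fun c hc => hm (by
        rw [hweq]; exact IsoLine.mk_eq_iff.2 ⟨c, hc⟩)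
      obtain ⟨z, hz0, hwz, hvz⟩ := exists_iso_pairing hF hv hw0 hvw hind 0
      obtain ⟨δ, hδ0, hδ⟩ := exists_skew hF
      let T := suTransvection hF z hz0 δ (by rw [hδ, add_neg_cancel])
      have hT := Rsmul T hR
      have hTv : T • IsoLine.mk v hv hv0 = IsoLine.mk v hv hv0 := by
        rw [IsoLine.smul_mk]
        exact IsoLine.mk_eq_iff.2
          ⟨1, by rw [suAct_suTransvection, hvz, mul_zero, zero_smul, add_zero, one_smul]⟩
      rw [hTv, IsoLine.smul_mk] at hT
      refine fin w _ hw _ hw0 _ ?_ (Rtrans (Rsymm hR) hT)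
      rw [suAct_suTransvection, H.add_right hF, H.smul_right, hw0, hwz, mul_one, mul_one, zero_add]
      exact pow_ne_zero _ hδ0
    · exact fin v w hv hw hv0 hw0 hvw hR
  have key : ∀ (a b : Fin n → F) (ha : a ≠ 0) (hb : b ≠ 0) (ha0 : Cfsg.hermForm n F q a a = 0)
      (hb0 : Cfsg.hermForm n F q b b = 0), Cfsg.hermForm n F q a b ≠ 0 →
      R (IsoLine.mk a ha ha0) (IsoLine.mk b hb hb0) := by
    intro a b ha hb ha0 hb0 hab
    obtain ⟨g, hg1, hg2⟩ := su_transitive_hyperbolic hF hn hv0 hw0 hvw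
      (v' := (Cfsg.hermForm n F q a b)⁻¹ • a) (w' := b)
      (by rw [H.smul_left, H.smul_right, ha0, mul_zero, mul_zero]) hb0
      (by rw [H.smul_left, inv_mul_cancel₀ hab])
    have := Rsmul g hR
    rw [IsoLine.smul_mk, IsoLine.smul_mk] at this
    convert this using 1
    · exact IsoLine.mk_eq_iff.2
        ⟨Cfsg.hermForm n F q a b, by rw [hg1, smul_inv_smul₀ hab]⟩
    · exact IsoLine.mk_eq_iff.2 ⟨1, by rw [hg2, one_smul]⟩
  refine ⟨fun p p' => ?_⟩
  obtain ⟨a, ha, ha0, rfl⟩ := p.exists_mk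
  obtain ⟨b, hb, hb0, rfl⟩ := p'.exists_mk
  by_cases hab : Cfsg.hermForm n F q a b = 0
  · by_cases hind : ∀ c : F, c • a ≠ b
    · obtain ⟨z, hz0, hbz, haz⟩ := exists_iso_pairing hF ha hb0 hab hind 1
      have hz : z ≠ 0 := fun h => by simp [h, H.zero_right hF] at hbz
      exact Rtrans (key a z ha hz ha0 hz0 (by rw [haz]; exact one_ne_zero))
        (Rsymm (key b z hb hz hb0 hz0 (by rw [hbz]; exact one_ne_zero)))
    · simp only [not_forall, not_not] at hind
      obtain ⟨c, hc⟩ := hind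
      exact ⟨1, by rw [one_smul]; exact (IsoLine.mk_eq_iff.2 ⟨c, hc⟩).symm⟩
  · exact key a b ha hb ha0 hb0 hab

/-- An element fixing every isotropic line is scalar. -/
theorem scalar_of_fixes_iso (hF : Fintype.card F = q ^ 2) (hn : 2 ≤ n)
    (M : Matrix (Fin n) (Fin n) F)
    (hM : ∀ v, v ≠ 0 → Cfsg.hermForm n F q v v = 0 → ∃ c : F, M *ᵥ v = c • v) :
    ∃ z : F, M = Matrix.scalar (Fin n) z := by
  have H := hermForm_isHerm hF n
  have hso := single_orthonormal hF n
  obtain ⟨ε, hε⟩ := exists_eps hF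
  obtain ⟨ζ, hζ, hord⟩ := exists_norm_one_gen hF
  have hq := two_le_q hF
  have hε0 : ε ≠ 0 := fun h => by simp [h] at hε
  have hζ0 : ζ ≠ 0 := fun h => by simp [h] at hζ
  have hζ1 : ζ ≠ 1 := fun h => by rw [h, orderOf_one] at hord; omega
  have hζ2 : ζ * ζ ≠ 1 := fun h => by
    have := Nat.le_of_dvd two_pos (hord ▸ orderOf_dvd_of_pow_eq_one (show ζ ^ 2 = 1 by rw [sq, h]))
    omega
  have key : ∀ i j, i ≠ j → M j i = 0 ∧ M i i = M j j := by
    intro i j hij
    have hcoord : ∀ e : F, e ^ (q + 1) = -1 → M j i + e * M j j = e * (M i i + e * M i j) := by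
      intro e he
      let v : Fin n → F := Pi.single i 1 + e • Pi.single j 1
      have hvi : v i = 1 := by simp [v, hij]
      have hv : v ≠ 0 := fun h => by rw [h] at hvi; simp at hvi
      have hv0 : Cfsg.hermForm n F q v v = 0 := by
        simp only [v, H.add_left, H.add_right hF, H.smul_left, H.smul_right, hso.apply]
        simp only [if_true, hij, hij.symm, if_false]
        linear_combination he
      obtain ⟨c, hc⟩ := hM v hv hv0
      have h1 := congrFun hc i
      have h2 := congrFun hc j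
      simp [v, Matrix.mulVec_add, Matrix.mulVec_smul, hij, hij.symm] at h1 h2
      rw [h2, h1, mul_comm]
    have e1 := hcoord ε hε
    have e2 := hcoord (ζ * ε) (by rw [mul_pow, hζ, hε, one_mul])
    have e3 := hcoord (ζ * ζ * ε) (by rw [mul_pow, mul_pow, hζ, hε, one_mul, one_mul])
    have f1 : (ε - ζ * ε) * (M j j - M i i - (ε + ζ * ε) * M i j) = 0 := by
      linear_combination e1 - e2
    have f2 : (ε - ζ * ζ * ε) * (M j j - M i i - (ε + ζ * ζ * ε) * M i j) = 0 := by
      linear_combination e1 - e3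
    have d1 : ε - ζ * ε ≠ 0 := by
      rw [show ε - ζ * ε = (1 - ζ) * ε by ring]
      exact mul_ne_zero (sub_ne_zero.2 (Ne.symm hζ1)) hε0
    have d2 : ε - ζ * ζ * ε ≠ 0 := by
      rw [show ε - ζ * ζ * ε = (1 - ζ * ζ) * ε by ring]
      exact mul_ne_zero (sub_ne_zero.2 (Ne.symm hζ2)) hε0
    have g1 := (mul_eq_zero.1 f1).resolve_left d1
    have g2 := (mul_eq_zero.1 f2).resolve_left d2
    have g3 : (ζ * ε * (1 - ζ)) * M i j = 0 := by linear_combination g2 - g1
    have hij0 : M i j = 0 :=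
      (mul_eq_zero.1 g3).resolve_left (mul_ne_zero (mul_ne_zero hζ0 hε0) (sub_ne_zero.2 (Ne.symm hζ1)))
    have hd : M i i = M j j := by rw [hij0] at g1; linear_combination -g1
    refine ⟨?_, hd⟩
    rw [hij0, ← hd] at e1
    linear_combination e1
  refine ⟨M ⟨0, by omega⟩ ⟨0, by omega⟩, ?_⟩
  ext i j
  rcases eq_or_ne i j with rfl | h
  · rcases eq_or_ne i ⟨0, by omega⟩ with rfl | h0
    · simp
    · simpa using (key i _ h0).2
  · simpa [h] using (key j i (Ne.symm h)).1

/-- The transvections with centre on a given isotropic line. -/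
def rootGroup (hF : Fintype.card F = q ^ 2) (p : IsoLine n F q) : Subgroup (Cfsg.SU n F q) where
  carrier := {A | ∃ v ∈ p.1, ∃ c : F, c + c ^ q = 0 ∧ Cfsg.hermForm n F q v v = 0 ∧
    ((A : Matrix.SpecialLinearGroup (Fin n) F) : Matrix (Fin n) (Fin n) F) =
      Cfsg.unitaryTransvection n q v c}
  mul_mem' := by
    rintro A B ⟨v, hv, c, hc, hv0, hA⟩ ⟨w, hw, d, hd, hw0, hB⟩
    obtain ⟨u, hu, hu0, hp⟩ := p.2
    rw [hp, Submodule.mem_span_singleton] at hv hw
    obtain ⟨a, rfl⟩ := hv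
    obtain ⟨b, rfl⟩ := hw
    rw [transvection_smul] at hA hB
    refine ⟨u, hp ▸ Submodule.mem_span_singleton_self u, c * a ^ (q + 1) + d * b ^ (q + 1), ?_,
      hu0, by rw [Subgroup.coe_mul, Matrix.SpecialLinearGroup.coe_mul, hA, hB, transvection_mul u hu0]⟩
    rw [add_pow_q hF, mul_pow, mul_pow, pow_q_succ_fixed hF, pow_q_succ_fixed hF]
    linear_combination a ^ (q + 1) * hc + b ^ (q + 1) * hd
  one_mem' := ⟨0, zero_mem _, 0, by simp [zero_pow_q hF], (hermForm_isHerm hF n).zero_left _,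
    by simp [transvection_zero]⟩
  inv_mem' := by
    rintro A ⟨v, hv, c, hc, hv0, hA⟩
    have hc' : -c + (-c) ^ q = 0 := by rw [neg_pow_q hF]; linear_combination -hc
    refine ⟨v, hv, -c, hc', hv0, ?_⟩
    have e : A⁻¹ = suTransvection hF v hv0 (-c) hc' := by
      refine inv_eq_of_mul_eq_one_right (Subtype.ext (Subtype.ext ?_))
      rw [Subgroup.coe_mul, Matrix.SpecialLinearGroup.coe_mul, hA]
      show _ * Cfsg.unitaryTransvection n q v (-c) = _
      rw [transvection_mul v hv0, add_neg_cancel, transvection_zero]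
      simp
    rw [e]; rfl

theorem rootGroup_conj (hF : Fintype.card F = q ^ 2) (g : Cfsg.SU n F q) (p : IsoLine n F q)
    {A : Cfsg.SU n F q} (hA : A ∈ rootGroup hF p) : g * A * g⁻¹ ∈ rootGroup hF (g • p) := by
  obtain ⟨v, hv, c, hc, hv0, hA⟩ := hA
  refine ⟨suAct g v, Submodule.mem_map_of_mem hv, c, hc, (suAct_herm g v v).trans hv0, ?_⟩
  refine Matrix.ext_iff_mulVec.2 fun x => ?_
  show suAct (g * A * g⁻¹) x = _
  have hAx : ∀ y, suAct A y = y + (c * Cfsg.hermForm n F q y v) • v := fun y => by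
    rw [suAct, hA, transvection_mulVec]
  rw [suAct_mul, suAct_mul, hAx, suAct_add, suAct_suAct_inv, suAct_smul, transvection_mulVec]
  congr 2
  rw [← suAct_herm g (suAct g⁻¹ x) v, suAct_suAct_inv]

/-- The root groups form an Iwasawa structure. -/
noncomputable def suIwasawa (hF : Fintype.card F = q ^ 2) (hn : 4 ≤ n ∨ (n = 3 ∧ 3 ≤ q)) :
    MulAction.IwasawaStructure (Cfsg.SU n F q) (IsoLine n F q) where
  T p := rootGroup hF p
  is_comm p := ⟨⟨by
    rintro ⟨A, v, hv, c, hc, hv0, hA⟩ ⟨B, w, hw, d, hd, hw0, hB⟩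
    obtain ⟨u, hu, hu0, hp⟩ := p.2
    rw [hp, Submodule.mem_span_singleton] at hv hw
    obtain ⟨a, rfl⟩ := hv
    obtain ⟨b, rfl⟩ := hw
    rw [transvection_smul] at hA hB
    refine Subtype.ext (Subtype.ext (Subtype.ext ?_))
    simp only [Subgroup.coe_mul, Matrix.SpecialLinearGroup.coe_mul, hA, hB, transvection_mul u hu0,
      add_comm]⟩⟩
  is_conj g p := by
    ext A
    rw [Subgroup.mem_pointwise_smul_iff_inv_smul_mem]
    constructor
    · intro hA
      have := rootGroup_conj hF g⁻¹ _ hA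
      rw [inv_smul_smul] at this
      simpa [MulAut.smul_def] using this
    · intro hA
      have := rootGroup_conj hF g _ hA
      simpa [MulAut.smul_def, mul_assoc] using this
  is_generator := by
    rw [eq_top_iff, ← transvectionGroup_eq_top (n := n) hF (by omega), transvectionGroup,
      Subgroup.closure_le]
    rintro A ⟨v, c, hv0, hA⟩
    by_cases hv : v = 0
    · have : A = 1 := Subtype.ext (Subtype.ext (by simp [hA, hv, Cfsg.unitaryTransvection]))
      rw [this]; exact one_mem _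
    · exact Subgroup.mem_iSup_of_mem (IsoLine.mk v hv hv0) ⟨v, Submodule.mem_span_singleton_self v, c,
        (transvection_isometry_iff hF v hv hv0 c).1 (hA ▸ (A.2 : IsUnitary q _)), hv0, hA⟩

theorem isSimpleGroup_PSU (hF : Fintype.card F = q ^ 2) (hn : 4 ≤ n ∨ (n = 3 ∧ 3 ≤ q)) :
    IsSimpleGroup (Cfsg.PSU n F q) := by
  have := isoLine_quasiprimitive (n := n) hF (by omega)
  obtain ⟨r, s, e, hr, hs, hrs, -⟩ := exists_model (n := n) hF (by omega)
  have H := hermForm_isHerm hF n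
  have hr' : r ≠ 0 := fun h => by simp [h, H.zero_left] at hrs
  have hs' : s ≠ 0 := fun h => by simp [h, H.zero_right hF] at hrs
  have : Nontrivial (IsoLine n F q) := by
    refine ⟨⟨IsoLine.mk r hr' hr, IsoLine.mk s hs' hs, fun h => ?_⟩⟩
    obtain ⟨c, hc⟩ := IsoLine.mk_eq_iff.1 h
    rw [← hc, H.smul_left, hs, mul_zero] at hrs
    exact zero_ne_one hrs
  refine Cfsg.Agent.Linear.isSimpleGroup_quotient_center_of_iwasawa (commutator_SU_eq_top hF hn)
    (suIwasawa hF hn) fun g hg => ?_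
  rw [mem_center_SU_iff hF (by omega)]
  refine scalar_of_fixes_iso hF (by omega) _ fun v hv hv0 => ?_
  have := hg (IsoLine.mk v hv hv0)
  rw [IsoLine.smul_mk, IsoLine.mk_eq_iff] at this
  obtain ⟨c, hc⟩ := this
  exact ⟨c, hc.symm⟩

end Cfsg.Agent.Unitary
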