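import Cfsg.Agent.Lib.Unitary.Count
/-
The centre of SU and the order of PSU.
* exists_norm_one_gen: an element a with a^(q+1) = 1 of order q+1
* scalar_of_commutes: a matrix commuting with SU (n ≥ 2) is scalar
* mem_center_SU_iff, center_SU_equiv, card_center_SU = gcd n (q+1), card_PSU
-/
set_option autoImplicit false

namespace Cfsg.Agent.Unitary

open scoped Matrix

variable {F : Type*} [Field F] [Fintype F] {q n : ℕ}

theorem exists_norm_one_gen (hF : Fintype.card F = q ^ 2) :
    ∃ a : F, a ^ (q + 1) = 1 ∧ orderOf a = q + 1 := by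
  obtain ⟨g, hg⟩ := IsCyclic.exists_generator (α := Fˣ)
  have ho : orderOf g = q ^ 2 - 1 := by rw [orderOf_eq_card_of_forall_mem_zpowers hg, card_units hF]
  have hd : q ^ 2 - 1 = (q - 1) * (q + 1) := by rw [mul_comm]; simpa using Nat.sq_sub_sq q 1
  have hq := two_le_q hF
  have h : orderOf (g ^ (q - 1)) = q + 1 := by
    rw [orderOf_pow' _ (by omega), ho, Nat.gcd_eq_right (q_pred_dvd q), hd,
      Nat.mul_div_cancel_left _ (by omega)]
  refine ⟨((g ^ (q - 1) : Fˣ) : F), ?_, by rw [orderOf_units, h]⟩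
  rw [← Units.val_pow_eq_pow_val, ← h, pow_orderOf_eq_one, Units.val_one]

theorem inv_pow_succ (a : F) (h : a ^ (q + 1) = 1) : (a⁻¹) ^ (q + 1) = 1 := by
  rw [inv_pow, h, inv_one]

/-- A matrix commuting with all of SU is scalar (n ≥ 2). -/
theorem scalar_of_commutes (hF : Fintype.card F = q ^ 2) (hn : 2 ≤ n) (M : Matrix (Fin n) (Fin n) F)
    (hM : ∀ B : Cfsg.SU n F q,
      M * ((B : Matrix.SpecialLinearGroup (Fin n) F) : Matrix (Fin n) (Fin n) F) =
        ((B : Matrix.SpecialLinearGroup (Fin n) F) : Matrix (Fin n) (Fin n) F) * M) :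
    ∃ z : F, M = Matrix.scalar (Fin n) z := by
  obtain ⟨a, ha, hord⟩ := exists_norm_one_gen hF
  have hq := two_le_q hF
  have ha0 : a ≠ 0 := fun h => by simp [h] at ha
  have ha2 : a ≠ a⁻¹ := by
    intro h
    have h2 : a ^ 2 = 1 := by rw [sq]; nth_rewrite 2 [h]; exact mul_inv_cancel₀ ha0
    have := Nat.le_of_dvd two_pos (hord ▸ orderOf_dvd_of_pow_eq_one h2)
    omega
  have hoff : ∀ r s, r ≠ s → M r s = 0 := by
    intro r s hrs
    let d : Fin n → F := Function.update (Function.update 1 r a) s a⁻¹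
    have hr : d r = a := by simp [d, hrs]
    have hs : d s = a⁻¹ := by simp [d]
    have hd : ∀ i, d i ^ (q + 1) = 1 := by
      intro i
      rcases eq_or_ne i s with rfl | hi
      · rw [hs, inv_pow_succ a ha]
      rcases eq_or_ne i r with rfl | hi'
      · rw [hr, ha]
      · simp [d, hi, hi']
    have hdet : (Matrix.diagonal d).det = 1 := by
      rw [Matrix.det_diagonal,
        Finset.prod_eq_mul r s hrs (fun c _ hc => by simp [d, hc.1, hc.2]) (by simp) (by simp),
        hr, hs, mul_inv_cancel₀ ha0]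
    have := congrFun (congrFun (hM (suOfUnitary _ (isUnitary_diagonal hF hd) hdet)) r) s
    rw [suOfUnitary_val, Matrix.mul_diagonal, Matrix.diagonal_mul, hr, hs] at this
    have h2 : M r s * (a - a⁻¹) = 0 := by linear_combination -this
    exact (mul_eq_zero.1 h2).resolve_right (sub_ne_zero.2 ha2)
  have hdiag : ∀ r s, M r r = M s s := by
    intro r s
    rcases eq_or_ne r s with rfl | hrs
    · rfl
    let d : Fin n → F := Pi.mulSingle s (-1)
    have hd : ∀ i, d i ^ (q + 1) = 1 := by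
      intro i
      rcases eq_or_ne i s with rfl | hi
      · have : ((-1 : F)) ^ q = -1 := by rw [neg_pow_q hF, one_pow]
        simp [d, pow_succ, this]
      · simp [d, hi]
    let P : Matrix (Fin n) (Fin n) F := (Equiv.swap r s).permMatrix F * Matrix.diagonal d
    have hP : IsUnitary q P := (isUnitary_permMatrix _).mul (isUnitary_diagonal hF hd)
    have hdet : P.det = 1 := by
      simp [P, d, Equiv.Perm.sign_swap hrs, Finset.prod_pi_mulSingle']
    have := congrFun (congrFun (hM (suOfUnitary P hP hdet)) r) s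
    rw [suOfUnitary_val, Matrix.mul_apply, Matrix.mul_apply,
      Finset.sum_eq_single r (fun j _ hj => by rw [hoff r j hj.symm, zero_mul]) (by simp),
      Finset.sum_eq_single s (fun j _ hj => by rw [hoff j s hj, mul_zero]) (by simp)] at this
    have e : P r s = -1 := by
      simp [P, d, Matrix.mul_diagonal, Equiv.Perm.permMatrix, PEquiv.toMatrix_apply]
    rw [e] at this
    linear_combination -this
  refine ⟨M ⟨0, by omega⟩ ⟨0, by omega⟩, ?_⟩
  ext r s
  rcases eq_or_ne r s with rfl | hrs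
  · simp [hdiag r ⟨0, by omega⟩]
  · simp [hoff r s hrs, hrs]

theorem center_SU_scalar (hF : Fintype.card F = q ^ 2) (hn : 2 ≤ n) {g : Cfsg.SU n F q}
    (hg : g ∈ Subgroup.center (Cfsg.SU n F q)) :
    ∃ z : F, z ^ n = 1 ∧ z ^ (q + 1) = 1 ∧
      ((g : Matrix.SpecialLinearGroup (Fin n) F) : Matrix (Fin n) (Fin n) F) = Matrix.scalar (Fin n) z := by
  obtain ⟨z, hz⟩ := scalar_of_commutes hF hn _ fun B =>
    (congrArg (fun x : Cfsg.SU n F q =>
      ((x : Matrix.SpecialLinearGroup (Fin n) F) : Matrix (Fin n) (Fin n) F))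
      (Subgroup.mem_center_iff.1 hg B)).symm
  refine ⟨z, ?_, ?_, hz⟩
  · have := (g : Matrix.SpecialLinearGroup (Fin n) F).2
    rw [hz] at this
    simpa using this
  · have := ((isUnitary_iff_orthonormal hF
      ((g : Matrix.SpecialLinearGroup (Fin n) F) : Matrix (Fin n) (Fin n) F)).1 g.2).1 ⟨0, by omega⟩
    rw [hz, hermForm_self] at this
    simpa [Matrix.scalar, Matrix.diagonal_apply, apply_ite (fun y : F => y ^ (q + 1)),
      zero_pow (Nat.succ_ne_zero q)] using this

theorem mem_center_SU_iff (hF : Fintype.card F = q ^ 2) (hn : 2 ≤ n) (g : Cfsg.SU n F q) :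
    g ∈ Subgroup.center (Cfsg.SU n F q) ↔
      ∃ z : F, ((g : Matrix.SpecialLinearGroup (Fin n) F) : Matrix (Fin n) (Fin n) F) =
        Matrix.scalar (Fin n) z := by
  refine ⟨fun hg => ?_, fun ⟨z, hz⟩ => Subgroup.mem_center_iff.2 fun B => ?_⟩
  · obtain ⟨z, -, -, hz⟩ := center_SU_scalar hF hn hg
    exact ⟨z, hz⟩
  · apply Subtype.ext
    apply Subtype.ext
    simp only [Subgroup.coe_mul, Matrix.SpecialLinearGroup.coe_mul, hz]
    exact (Matrix.scalar_commute z (fun r => mul_comm _ _) _).symm.eq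

omit [Fintype F] in
theorem pow_gcd_iff (q : ℕ) (z : F) :
    z ^ Nat.gcd n (q + 1) = 1 ↔ z ^ n = 1 ∧ z ^ (q + 1) = 1 := by
  simp only [← orderOf_dvd_iff_pow_eq_one, Nat.dvd_gcd_iff]

theorem card_center_SU (hF : Fintype.card F = q ^ 2) (hn : 2 ≤ n) :
    Nat.card (Subgroup.center (Cfsg.SU n F q)) = Nat.gcd n (q + 1) := by
  have hd : Nat.gcd n (q + 1) ∣ q ^ 2 - 1 := (Nat.gcd_dvd_right _ _).trans (q_succ_dvd q)
  have hd0 : Nat.gcd n (q + 1) ≠ 0 := (Nat.gcd_pos_of_pos_left _ (by omega)).ne'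
  refine Eq.trans ?_ (card_pow_eq_one hF hd0 hd)
  have hu : ∀ z : {z : F // z ^ Nat.gcd n (q + 1) = 1},
      IsUnitary q (Matrix.scalar (Fin n) z.1) ∧ (Matrix.scalar (Fin n) z.1).det = 1 := by
    intro z
    obtain ⟨h1, h2⟩ := (pow_gcd_iff q z.1).1 z.2
    exact ⟨isUnitary_diagonal hF (fun _ => h2), by simpa using h1⟩
  refine (Nat.card_eq_of_bijective
    (fun z => ⟨suOfUnitary _ (hu z).1 (hu z).2,
      (mem_center_SU_iff hF hn _).2 ⟨z.1, rfl⟩⟩) ⟨fun a b hab => ?_, fun g => ?_⟩).symm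
  · apply Subtype.ext
    have := congrArg (fun x : Subgroup.center (Cfsg.SU n F q) =>
      (((x : Cfsg.SU n F q) : Matrix.SpecialLinearGroup (Fin n) F) : Matrix (Fin n) (Fin n) F)
        ⟨0, by omega⟩ ⟨0, by omega⟩) hab
    simpa using this
  · obtain ⟨z, h1, h2, hz⟩ := center_SU_scalar hF hn g.2
    exact ⟨⟨z, (pow_gcd_iff q z).2 ⟨h1, h2⟩⟩, Subtype.ext (Subtype.ext (Subtype.ext hz.symm))⟩

theorem card_PSU (hF : Fintype.card F = q ^ 2) (hn : 2 ≤ n) :
    Nat.gcd n (q + 1) * ((q + 1) * Nat.card (Cfsg.PSU n F q)) = q ^ (n * (n - 1) / 2) *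
      ∏ i ∈ Finset.range n, (if Even i then q ^ (i + 1) + 1 else q ^ (i + 1) - 1) := by
  rw [← card_SU hF n (by omega), mul_left_comm, ← card_center_SU hF hn]
  congr 1
  exact Subgroup.card_mul_index _

end Cfsg.Agent.Unitary
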