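import Cfsg.Agent.Lib.Unitary.Center

/-!
# The Sylow 2-subgroups of `PSU₃(q)`, `q` even

* `mat3 q a b`: the matrix `1 + [[b, b, a^q], [b, b, a^q], [a, a, 0]]`.
* `sylThree`: the subgroup of `SU₃(q)` of these matrices with `b + b^q = a^(q+1)`; order `q³`.
* `coordA`, `coordB`: coordinates; `mem_center_iff`, `sq_eq_one_iff`, `card_sqrt`.
* `exists_equiv`: every Sylow 2-subgroup of `PSU₃(q)` is isomorphic to it.
-/

set_option autoImplicit false
set_option linter.unusedSectionVars false

namespace Cfsg.Agent.Unitary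

open Matrix

variable {F : Type*} [Field F] [Fintype F] {q : ℕ}

/-- The matrix with coordinates `(a, b)`. -/
def mat3 (q : ℕ) (a b : F) : Matrix (Fin 3) (Fin 3) F :=
  !![1 + b, b, a ^ q; b, 1 + b, a ^ q; a, a, 1]

variable (hF : Fintype.card F = q ^ 2) (h2 : (2 : F) = 0)

include h2 in
theorem det_mat3 (a b : F) : (mat3 q a b).det = 1 := by
  simp [mat3, Matrix.det_fin_three]
  linear_combination b * h2 - a ^ q * a * h2

/-- The element of `SL₃` with coordinates `(a, b)`. -/
def sl3 (a b : F) : Matrix.SpecialLinearGroup (Fin 3) F :=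
  ⟨mat3 q a b, det_mat3 h2 a b⟩

include hF h2 in
theorem mat3_mul (a b a' b' : F) :
    mat3 q a b * mat3 q a' b' = mat3 q (a + a') (b + b' + a ^ q * a') := by
  have h := add_pow_q hF a a'
  ext i j
  fin_cases i <;> fin_cases j <;>
    simp [mat3, Matrix.mul_apply, Fin.sum_univ_three, h] <;>
    first
      | ring1
      | linear_combination b * b' * h2
      | linear_combination b * a' ^ q * h2
      | linear_combination a * b' * h2
      | linear_combination a * a' ^ q * h2

include hF h2 in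
theorem sl3_mem_SU {a b : F} (hab : b + b ^ q = a ^ (q + 1)) :
    sl3 (q := q) h2 a b ∈ Cfsg.SU 3 F q := by
  intro u v
  have ha : (a ^ q) ^ q = a := pow_q_pow_q hF a
  have hab' : b + b ^ q = a ^ q * a := by rw [hab, pow_succ]
  change Cfsg.hermForm 3 F q (mat3 q a b *ᵥ u) (mat3 q a b *ᵥ v) = Cfsg.hermForm 3 F q u v
  simp only [Cfsg.hermForm, Fin.sum_univ_three, mat3, Matrix.mulVec, dotProduct]
  simp [add_pow_q hF, mul_pow, ha]
  linear_combination (u 0 + u 1) * (v 0 ^ q + v 1 ^ q) * hab' +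
    ((u 0 + u 1) * (v 0 ^ q + v 1 ^ q) * (b * b ^ q + a ^ q * a) +
      (u 0 + u 1) * v 2 ^ q * (a * b + a) + u 2 * (v 0 ^ q + v 1 ^ q) * (a ^ q * b ^ q + a ^ q)
      + u 2 * v 2 ^ q * (a ^ q * a)) * h2

/-- The Sylow 2-subgroup of `SU₃(q)`. -/
def sylThree : Subgroup (Cfsg.SU 3 F q) where
  carrier := {g | ∃ a b : F, b + b ^ q = a ^ (q + 1) ∧ g.1 = sl3 (q := q) h2 a b}
  one_mem' := ⟨0, 0, by
    rw [zero_pow (Nat.succ_ne_zero q), zero_pow_q hF, add_zero], by
    apply Subtype.ext
    simp [sl3, mat3, zero_pow_q hF, Matrix.one_fin_three]⟩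
  mul_mem' := by
    rintro g g' ⟨a, b, hab, hg⟩ ⟨a', b', hab', hg'⟩
    refine ⟨a + a', b + b' + a ^ q * a', ?_, ?_⟩
    · have ha : (a ^ q) ^ q = a := pow_q_pow_q hF a
      rw [add_pow_q hF, add_pow_q hF, mul_pow, ha, pow_succ, add_pow_q hF]
      rw [pow_succ] at hab hab'
      linear_combination hab + hab'
    · apply Subtype.ext
      rw [Subgroup.coe_mul, hg, hg', Matrix.SpecialLinearGroup.coe_mul]
      exact mat3_mul hF h2 a b a' b'
  inv_mem' := by
    rintro g ⟨a, b, hab, hg⟩
    refine ⟨a, b + a ^ q * a, ?_, ?_⟩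
    · rw [add_pow_q hF, mul_pow, pow_q_pow_q hF, pow_succ]
      rw [pow_succ] at hab
      linear_combination hab + a ^ q * a * h2
    · rw [InvMemClass.coe_inv, hg]
      refine inv_eq_of_mul_eq_one_right (Subtype.ext ?_)
      rw [Matrix.SpecialLinearGroup.coe_mul]
      change mat3 q a b * mat3 q a (b + a ^ q * a) = 1
      rw [mat3_mul hF h2, show a + a = 0 by linear_combination a * h2,
        show b + (b + a ^ q * a) + a ^ q * a = 0 by linear_combination (b + a ^ q * a) * h2]
      simp [mat3, zero_pow_q hF, Matrix.one_fin_three]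

variable {hF h2}

/-- The first coordinate. -/
def coordA (g : sylThree hF h2) : F := (g.1.1 : Matrix (Fin 3) (Fin 3) F) 2 0
/-- The second coordinate. -/
def coordB (g : sylThree hF h2) : F := (g.1.1 : Matrix (Fin 3) (Fin 3) F) 0 1

theorem coe_eq (g : sylThree hF h2) :
    (g.1.1 : Matrix (Fin 3) (Fin 3) F) = mat3 q (coordA g) (coordB g) ∧
      coordB g + coordB g ^ q = coordA g ^ (q + 1) := by
  obtain ⟨a, b, hab, hg⟩ := g.2
  have hA : coordA g = a := by rw [coordA, hg]; simp [sl3, mat3]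
  have hB : coordB g = b := by rw [coordB, hg]; simp [sl3, mat3]
  rw [hA, hB, hg]
  exact ⟨rfl, hab⟩

theorem ext' {g g' : sylThree hF h2} (hA : coordA g = coordA g') (hB : coordB g = coordB g') :
    g = g' :=
  Subtype.ext (Subtype.ext (Subtype.ext (by rw [(coe_eq g).1, (coe_eq g').1, hA, hB])))

theorem exists_mk {a b : F} (hab : b + b ^ q = a ^ (q + 1)) :
    ∃ g : sylThree hF h2, coordA g = a ∧ coordB g = b :=
  ⟨⟨⟨_, sl3_mem_SU hF h2 hab⟩, a, b, hab, rfl⟩,
    by simp [coordA, sl3, mat3], by simp [coordB, sl3, mat3]⟩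

theorem coord_mul (g g' : sylThree hF h2) :
    coordA (g * g') = coordA g + coordA g' ∧
      coordB (g * g') = coordB g + coordB g' + coordA g ^ q * coordA g' := by
  have h : ((g * g').1.1 : Matrix (Fin 3) (Fin 3) F) =
      mat3 q (coordA g + coordA g') (coordB g + coordB g' + coordA g ^ q * coordA g') := by
    rw [Subgroup.coe_mul, Subgroup.coe_mul, Matrix.SpecialLinearGroup.coe_mul, (coe_eq g).1,
      (coe_eq g').1, mat3_mul hF h2]
  exact ⟨by rw [coordA, h]; simp [mat3], by rw [coordB, h]; simp [mat3]⟩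

theorem coord_one : coordA (1 : sylThree hF h2) = 0 ∧ coordB (1 : sylThree hF h2) = 0 :=
  ⟨by simp [coordA], by simp [coordB]⟩

theorem coord_sq (g : sylThree hF h2) :
    coordA (g * g) = 0 ∧ coordB (g * g) = coordA g ^ (q + 1) := by
  obtain ⟨hA, hB⟩ := coord_mul g g
  rw [hA, hB, pow_succ]
  exact ⟨by linear_combination coordA g * h2, by linear_combination coordB g * h2⟩

theorem sq_eq_one_iff (g : sylThree hF h2) : g * g = 1 ↔ coordA g = 0 := by
  constructor
  · intro h
    have h' := (coord_sq g).2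
    rw [h, coord_one.2] at h'
    exact pow_eq_zero_iff (Nat.succ_ne_zero q) |>.1 h'.symm
  · intro h
    refine ext' ((coord_sq g).1.trans coord_one.1.symm) ?_
    rw [(coord_sq g).2, h, zero_pow (Nat.succ_ne_zero q), coord_one.2]

include h2 in
theorem add_self' (x : F) : x + x = 0 := by linear_combination x * h2

include h2 in
theorem fixed_iff_trace_zero (b : F) : b + b ^ q = 0 ↔ b ^ q = b := by
  constructor
  · intro h; linear_combination h - b * h2
  · intro h; linear_combination h + b * h2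

theorem exists_trace (hF : Fintype.card F = q ^ 2) (a : F) : ∃ b : F, b + b ^ q = a ^ (q + 1) :=
  exists_trace_eq hF (pow_q_succ_fixed hF a)

theorem mem_center_iff (g : sylThree hF h2) :
    g ∈ Subgroup.center (sylThree hF h2) ↔ coordA g = 0 := by
  constructor
  · intro hg
    by_contra ha
    rw [Subgroup.mem_center_iff] at hg
    set a := coordA g
    have key : ∀ a' : F, a' ^ q * a = a ^ q * a' := by
      intro a'
      obtain ⟨b', hb'⟩ := exists_trace hF a'
      obtain ⟨g', hA', hB'⟩ := exists_mk (hF := hF) (h2 := h2) hb'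
      have h := congrArg coordB (hg g')
      rw [(coord_mul g' g).2, (coord_mul g g').2, hA'] at h
      linear_combination h
    have h1 := key 1
    rw [one_pow, one_mul, mul_one] at h1
    have hall : ∀ a' : F, a' ^ q = a' := fun a' => by
      have := key a'
      rw [← h1] at this
      exact mul_right_cancel₀ ha (this.trans (mul_comm _ _))
    have hc := card_fixed hF
    have hall' : Nat.card {x : F // x ^ q = x} = q ^ 2 := by
      rw [Nat.card_congr (Equiv.subtypeUnivEquiv hall), Nat.card_eq_fintype_card, hF]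
    have hq := two_le_q hF
    nlinarith
  · intro ha
    rw [Subgroup.mem_center_iff]
    intro g'
    refine ext' ?_ ?_
    · rw [(coord_mul g' g).1, (coord_mul g g').1, add_comm]
    · rw [(coord_mul g' g).2, (coord_mul g g').2, ha, zero_pow_q hF]
      ring

include hF h2 in
theorem card_fibre {c : F} (a : F) (hc : a ^ (q + 1) = c) :
    Nat.card {b : F // b + b ^ q = c} = q := by
  obtain ⟨b₀, hb₀⟩ := exists_trace hF a
  rw [hc] at hb₀
  refine Eq.trans (Nat.card_congr ?_) (card_fixed hF)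
  exact
    { toFun := fun b => ⟨b.1 + b₀, (fixed_iff_trace_zero (h2 := h2) _).1 (by
        rw [add_pow_q hF]; linear_combination b.2 + hb₀ + c * h2)⟩
      invFun := fun b => ⟨b.1 + b₀, by
        rw [add_pow_q hF]
        linear_combination hb₀ + (fixed_iff_trace_zero (h2 := h2) _).2 b.2⟩
      left_inv := fun b => Subtype.ext (by linear_combination b₀ * h2)
      right_inv := fun b => Subtype.ext (by linear_combination b₀ * h2) }

/-- Coordinates as an equivalence. -/
noncomputable def coordEquiv :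
    sylThree hF h2 ≃ (a : F) × {b : F // b + b ^ q = a ^ (q + 1)} :=
  Equiv.ofBijective (fun g => ⟨coordA g, coordB g, (coe_eq g).2⟩) <| by
    constructor
    · intro g g' h
      obtain ⟨hA, hB⟩ := Sigma.subtype_ext_iff.1 h
      exact ext' hA hB
    · rintro ⟨a, b, hb⟩
      obtain ⟨g, hA, hB⟩ := exists_mk (hF := hF) (h2 := h2) hb
      exact ⟨g, Sigma.subtype_ext hA hB⟩

theorem card_sylThree : Nat.card (sylThree hF h2) = q ^ 3 := by
  classical
  rw [Nat.card_congr coordEquiv, Nat.card_sigma,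
    Finset.sum_congr rfl fun a _ => card_fibre (hF := hF) (h2 := h2) a rfl, Finset.sum_const,
    Finset.card_univ, hF, smul_eq_mul]
  ring

theorem card_center : Nat.card (Subgroup.center (sylThree hF h2)) = q := by
  refine Eq.trans (Nat.card_congr ?_) (card_fibre (hF := hF) (h2 := h2) (c := (0 : F) ^ (q + 1)) 0 rfl)
  refine Equiv.ofBijective (fun g => ⟨coordB g.1, by
    have := (coe_eq g.1).2
    rwa [(mem_center_iff g.1).1 g.2] at this⟩) ⟨?_, ?_⟩
  · intro g g' h
    exact Subtype.ext (ext' (((mem_center_iff g.1).1 g.2).trans ((mem_center_iff g'.1).1 g'.2).symm)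
      (congrArg Subtype.val h))
  · rintro ⟨b, hb⟩
    obtain ⟨g, hA, hB⟩ := exists_mk (hF := hF) (h2 := h2) hb
    exact ⟨⟨g, (mem_center_iff g).2 hA⟩, Subtype.ext hB⟩

/-- A nontrivial central involution has `q (q + 1)` square roots. -/
theorem card_sqrt {z : sylThree hF h2} (hz : z ∈ Subgroup.center (sylThree hF h2)) (hz1 : z ≠ 1) :
    Nat.card {g : sylThree hF h2 // g * g = z} = q * (q + 1) := by
  classical
  have ha := (mem_center_iff z).1 hz
  set c := coordB z with hc
  have hcfix : c ^ q = c := by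
    refine (fixed_iff_trace_zero (h2 := h2) _).1 ?_
    rw [(coe_eq z).2, ha, zero_pow (Nat.succ_ne_zero q)]
  have hc0 : c ≠ 0 := fun h => hz1 (ext' (ha.trans coord_one.1.symm) (h.trans coord_one.2.symm))
  have e : {g : sylThree hF h2 // g * g = z} ≃
      (a : {x : F // x ^ (q + 1) = c}) × {b : F // b + b ^ q = c} := by
    refine Equiv.ofBijective (fun g => ⟨⟨coordA g.1, by rw [← (coord_sq g.1).2, g.2]⟩,
      ⟨coordB g.1, by rw [(coe_eq g.1).2, ← (coord_sq g.1).2, g.2]⟩⟩) ⟨?_, ?_⟩
    · intro g g' h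
      simp only [Sigma.mk.injEq, Subtype.mk.injEq, heq_eq_eq] at h
      exact Subtype.ext (ext' h.1 h.2)
    · rintro ⟨⟨a, ha'⟩, ⟨b, hb⟩⟩
      obtain ⟨g, hA, hB⟩ := exists_mk (hF := hF) (h2 := h2) (a := a) (b := b) (by rw [hb, ha'])
      refine ⟨⟨g, ext' ((coord_sq g).1.trans ha.symm) (by rw [(coord_sq g).2, hA, ha'])⟩, ?_⟩
      simp [hA, hB]
  obtain ⟨a0, ha0⟩ := exists_norm_eq hF hcfix
  rw [Nat.card_congr e, Nat.card_sigma, Finset.sum_const, Finset.card_univ, smul_eq_mul,
    ← Nat.card_eq_fintype_card, card_norm_fibre hF hcfix hc0,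
    card_fibre (hF := hF) (h2 := h2) a0 ha0]
  ring

/-- The Sylow 2-subgroups of `PSU₃(2^n)`. -/
theorem exists_equiv {n : ℕ} (hn : 1 ≤ n) (hq : q = 2 ^ n) (hF : Fintype.card F = q ^ 2)
    (h2 : (2 : F) = 0) (S : Sylow 2 (Cfsg.PSU 3 F q)) :
    Nonempty (sylThree hF h2 ≃* (S : Subgroup (Cfsg.PSU 3 F q))) := by
  classical
  have hq2 : 2 ∣ q := hq ▸ dvd_pow_self 2 (by omega)
  have hqpos : 0 < q := hq ▸ Nat.two_pow_pos n
  let π : sylThree hF h2 →* Cfsg.PSU 3 F q :=
    (QuotientGroup.mk' (Subgroup.center (Cfsg.SU 3 F q))).comp (sylThree hF h2).subtype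
  have hπ : Function.Injective π := by
    rw [injective_iff_map_eq_one]
    intro g hg
    obtain ⟨z, hz⟩ := (mem_center_SU_iff hF (by norm_num) g.1).1
      ((QuotientGroup.eq_one_iff _).1 hg)
    rw [(coe_eq g).1] at hz
    have h20 := congrArg (fun M : Matrix (Fin 3) (Fin 3) F => M 2 0) hz
    have h01 := congrArg (fun M : Matrix (Fin 3) (Fin 3) F => M 0 1) hz
    simp [mat3, Matrix.scalar_apply] at h20 h01
    exact ext' (h20.trans coord_one.1.symm) (h01.trans coord_one.2.symm)
  have hcard : Nat.card π.range = q ^ 3 :=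
    (Nat.card_congr (MonoidHom.ofInjective hπ).toEquiv).symm.trans card_sylThree
  have hP : IsPGroup 2 π.range := IsPGroup.of_card (n := n * 3) (by rw [hcard, hq, pow_mul])
  have hidx : ¬ 2 ∣ π.range.index := by
    have h := card_PSU (n := 3) hF (by norm_num)
    rw [← π.range.card_mul_index, hcard] at h
    simp only [Finset.prod_range_succ, Finset.prod_range_zero] at h
    simp only [Nat.reduceAdd, Nat.reduceSub, Nat.reduceMul, Nat.reduceDiv, pow_one, one_mul,
      even_two, Even.zero, if_true, Nat.not_even_one, if_false] at h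
    have hq0 : 0 < q ^ 3 * (q + 1) := Nat.mul_pos (pow_pos (by omega) 3) (Nat.succ_pos q)
    have h' : Nat.gcd 3 (q + 1) * π.range.index = (q ^ 2 - 1) * (q ^ 3 + 1) := by
      apply Nat.eq_of_mul_eq_mul_left hq0
      calc q ^ 3 * (q + 1) * (Nat.gcd 3 (q + 1) * π.range.index)
          = Nat.gcd 3 (q + 1) * ((q + 1) * (q ^ 3 * π.range.index)) := by ring
        _ = _ := by rw [h]; ring
    intro hd
    have h2d : 2 ∣ (q ^ 2 - 1) * (q ^ 3 + 1) := h' ▸ dvd_mul_of_dvd_right hd _
    have e2 : 2 ∣ q ^ 2 := hq2.trans (dvd_pow_self q two_ne_zero)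
    have e3 : 2 ∣ q ^ 3 := hq2.trans (dvd_pow_self q three_ne_zero)
    have e1 : 1 ≤ q ^ 2 := Nat.one_le_pow _ _ (by omega)
    rcases (Nat.Prime.dvd_mul Nat.prime_two).1 h2d with h3 | h3 <;> omega
  have : Fact (Nat.Prime 2) := ⟨Nat.prime_two⟩
  let e₀ := (hP.toSylow hidx).equiv S
  let e : π.range ≃* (S : Subgroup (Cfsg.PSU 3 F q)) :=
    { toFun := fun x => e₀ ⟨x.1, x.2⟩
      invFun := fun y => ⟨(e₀.symm ⟨y.1, y.2⟩).1, (e₀.symm ⟨y.1, y.2⟩).2⟩
      left_inv := fun x => Subtype.ext (congrArg Subtype.val (e₀.symm_apply_apply ⟨x.1, x.2⟩))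
      right_inv := fun y => Subtype.ext (congrArg Subtype.val (e₀.apply_symm_apply ⟨y.1, y.2⟩))
      map_mul' := fun x y => map_mul e₀ ⟨x.1, x.2⟩ ⟨y.1, y.2⟩ }
  exact ⟨(MonoidHom.ofInjective hπ).trans e⟩

end Cfsg.Agent.Unitary
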