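import Cfsg.Agent.Lib.Unitary.SylowThree
import Cfsg.Agent.Lib.Cores.Basic

/-!
# Automorphisms of the Sylow 2-subgroup of `SU₃(q)`, `q = 2^n`

* `semilinear_of_norm`: an additive injective map compatible with the norm is `a ↦ λ a^(2^i)`.
* `perm`: the induced permutation of the first coordinate; `card_range_perm`, `card_ker_perm`.
* `pCore_eq`, `card_mulAut`, `exists_equiv_SU`.
-/

set_option autoImplicit false
set_option linter.unusedSectionVars false

namespace Cfsg.Agent.Unitary

variable {F : Type*} [Field F] [Fintype F] {q : ℕ}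

theorem exists_frobenius_pow {K L : Type*} [Field K] [Field L] [Finite L] [Fintype K] [Algebra K L]
    (f : L →ₐ[K] L) : ∃ i < Module.finrank K L, ∀ x, f x = x ^ (Fintype.card K) ^ i := by
  obtain ⟨⟨i, hi⟩, he⟩ := (FiniteField.bijective_frobeniusAlgHom_pow K L).2 f
  refine ⟨i, hi, fun x => ?_⟩
  rw [← he]
  change (FiniteField.frobeniusAlgHom K L ^ i) x = _
  rw [AlgHom.coe_pow, FiniteField.coe_frobeniusAlgHom, pow_iterate]

theorem finrank_eq_of_card {L : Type*} [Field L] [Fintype L] [Algebra (ZMod 2) L] {m : ℕ}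
    (h : Fintype.card L = 2 ^ m) : Module.finrank (ZMod 2) L = m := by
  have h1 := Module.card_eq_pow_finrank (K := ZMod 2) (V := L)
  rw [h, ZMod.card] at h1
  exact (Nat.pow_right_injective (le_refl 2) h1).symm

theorem frobenius_pow_injective {L : Type*} [Field L] [Fintype L] {m : ℕ}
    (h : Fintype.card L = 2 ^ m) (h2 : (2 : L) = 0) {i j : ℕ} (hi : i < m) (hj : j < m)
    (he : ∀ x : L, x ^ 2 ^ i = x ^ 2 ^ j) : i = j := by
  have : CharP L 2 := CharTwo.of_one_ne_zero_of_two_eq_zero one_ne_zero h2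
  let _ : Algebra (ZMod 2) L := ZMod.algebra L 2
  have hf := finrank_eq_of_card h
  have := (FiniteField.bijective_frobeniusAlgHom_pow (ZMod 2) L).1
    (a₁ := ⟨i, hf.symm ▸ hi⟩) (a₂ := ⟨j, hf.symm ▸ hj⟩) (AlgHom.ext fun x => by
      simp only [AlgHom.coe_pow, FiniteField.coe_frobeniusAlgHom, pow_iterate, ZMod.card]
      exact he x)
  exact congrArg Fin.val this

theorem add_pow_two_pow (h2 : (2 : F) = 0) (x y : F) (i : ℕ) :
    (x + y) ^ 2 ^ i = x ^ 2 ^ i + y ^ 2 ^ i := by
  have : CharP F 2 := CharTwo.of_one_ne_zero_of_two_eq_zero one_ne_zero h2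
  exact add_pow_char_pow x y 2 i

/-- The main algebraic lemma. -/
theorem semilinear_of_norm {n : ℕ} (hn : 1 ≤ n) (hq : q = 2 ^ n) (hF : Fintype.card F = q ^ 2)
    (h2 : (2 : F) = 0) (φ : F → F) (hφ : ∀ x y, φ (x + y) = φ x + φ y)
    (hinj : Function.Injective φ) (ψ : F → F)
    (hψ : ∀ x y, x ^ q = x → y ^ q = y → ψ (x + y) = ψ x + ψ y)
    (hN : ∀ u, φ u ^ (q + 1) = ψ (u ^ (q + 1))) :
    ∃ l : F, l ≠ 0 ∧ ∃ i < 2 * n, ∀ a, φ a = l * a ^ 2 ^ i := by
  classical
  have hφ0 : φ 0 = 0 := add_left_cancel (by rw [← hφ, add_zero, add_zero] : φ 0 + φ 0 = φ 0 + 0)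
  set l := φ 1 with hl
  have hl0 : l ≠ 0 := fun h => one_ne_zero (hinj (h.trans hφ0.symm))
  -- normalise
  set g : F → F := fun a => l⁻¹ * φ a with hg
  set p : F → F := fun c => (l⁻¹) ^ (q + 1) * ψ c with hp
  have hga : ∀ x y, g (x + y) = g x + g y := fun x y => by simp [hg, hφ, mul_add]
  have hg1 : g 1 = 1 := inv_mul_cancel₀ hl0
  have hg0 : g 0 = 0 := by simp [hg, hφ0]
  have hgi : Function.Injective g := fun x y h =>
    hinj (mul_left_cancel₀ (inv_ne_zero hl0) h)
  have hgN : ∀ u, g u ^ (q + 1) = p (u ^ (q + 1)) := fun u => by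
    simp only [hg, hp, mul_pow, hN]
  have hpa : ∀ x y, x ^ q = x → y ^ q = y → p (x + y) = p x + p y := fun x y hx hy => by
    simp only [hp, hψ x y hx hy, mul_add]
  have hp1 : p 1 = 1 := by
    have h := hgN 1
    rw [hg1, one_pow] at h
    exact h.symm
  have hp0 : p 0 = 0 := by
    have h := hgN 0
    rw [hg0, zero_pow (Nat.succ_ne_zero q)] at h
    exact h.symm
  -- the polar form
  have hβ : ∀ u v, g u ^ q * g v + g v ^ q * g u = p (u ^ q * v + v ^ q * u) := by
    intro u v
    have h := hgN (u + v)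
    have e : ∀ x y : F, (x + y) ^ (q + 1) = x ^ (q + 1) + y ^ (q + 1) + (x ^ q * y + y ^ q * x) :=
      fun x y => by rw [pow_succ, add_pow_q hF, pow_succ, pow_succ]; ring
    have hfix : (u ^ q * v + v ^ q * u) ^ q = u ^ q * v + v ^ q * u := by
      rw [add_pow_q hF, mul_pow, mul_pow, pow_q_pow_q hF, pow_q_pow_q hF]; ring
    rw [hga, e, e, hpa _ _ (by rw [add_pow_q hF, pow_q_succ_fixed hF, pow_q_succ_fixed hF]) hfix,
      hpa _ _ (pow_q_succ_fixed hF u) (pow_q_succ_fixed hF v), hgN, hgN] at h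
    linear_combination h
  have htr : ∀ v, g v + g v ^ q = p (v + v ^ q) := fun v => by
    have h := hβ 1 v
    simpa [hg1] using h
  have hgK : ∀ k, k ^ q = k → g k ^ q = g k := fun k hk => by
    have h := htr k
    rw [hk, show k + k = 0 by linear_combination k * h2, hp0] at h
    linear_combination h - g k * h2
  have hpg : ∀ k, k ^ q = k → ∀ v, p (k * (v + v ^ q)) = g k * p (v + v ^ q) := by
    intro k hk v
    have h := hβ k v
    rw [hgK k hk, hk] at h
    rw [mul_add, ← htr v, show k * v ^ q = v ^ q * k from mul_comm _ _, ← h]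
    ring
  have hKtr : ∀ c, c ^ q = c → ∃ v, v + v ^ q = c := fun c hc => exists_trace_eq hF hc
  have hpgK : ∀ k, k ^ q = k → p k = g k := fun k hk => by
    obtain ⟨v, hv⟩ := hKtr 1 (one_pow q)
    have h := hpg k hk v
    rw [hv, mul_one, hp1, mul_one] at h
    exact h
  -- the restriction to the fixed field is a Frobenius power
  let K := fixedField hF
  have : CharP F 2 := CharTwo.of_one_ne_zero_of_two_eq_zero one_ne_zero h2
  have h2K : (2 : K) = 0 := Subtype.ext (by push_cast; exact h2)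
  have : CharP K 2 := CharTwo.of_one_ne_zero_of_two_eq_zero one_ne_zero h2K
  let _ : Algebra (ZMod 2) K := ZMod.algebra K 2
  let f : K →+* K :=
    { toFun := fun k => ⟨g k, (mem_fixedField hF).2 (hgK k ((mem_fixedField hF).1 k.2))⟩
      map_one' := Subtype.ext hg1
      map_zero' := Subtype.ext hg0
      map_add' := fun x y => Subtype.ext (hga x y)
      map_mul' := fun x y => Subtype.ext (by
        obtain ⟨v, hv⟩ := hKtr (y : F) ((mem_fixedField hF).1 y.2)
        have hx := (mem_fixedField hF).1 x.2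
        have hy := (mem_fixedField hF).1 y.2
        have h := hpg x hx v
        rw [hv, hpgK _ (by rw [mul_pow, hx, hy]), hpgK _ hy] at h
        exact h) }
  have hKcard : Fintype.card K = 2 ^ n := by
    rw [← Nat.card_eq_fintype_card, ← hq]
    exact card_fixed hF
  have hcomm : ∀ r, f (algebraMap (ZMod 2) K r) = algebraMap (ZMod 2) K r := fun r =>
    DFunLike.congr_fun
      (RingHom.ext_zmod (f.comp (algebraMap (ZMod 2) K)) (algebraMap (ZMod 2) K)) r
  let fA : K →ₐ[ZMod 2] K := { f with commutes' := hcomm }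
  obtain ⟨i, hi, hfi⟩ := exists_frobenius_pow (K := ZMod 2) (L := K) fA
  rw [finrank_eq_of_card hKcard] at hi
  have hK : ∀ k, k ^ q = k → g k = k ^ 2 ^ i := by
    intro k hk
    have h := congrArg Subtype.val (hfi ⟨k, (mem_fixedField hF).2 hk⟩)
    rw [ZMod.card] at h
    push_cast at h
    exact h
  have hP : ∀ k, k ^ q = k → p k = k ^ 2 ^ i := fun k hk => (hpgK k hk).trans (hK k hk)
  have hsplit : ∀ v, g v = v ^ 2 ^ i ∨ g v = (v ^ q) ^ 2 ^ i := by
    intro v
    have ht : g v + g v ^ q = v ^ 2 ^ i + (v ^ q) ^ 2 ^ i := by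
      rw [htr, hP _ (trace_fixed hF v), add_pow_two_pow h2]
    have hnm : g v ^ q * g v = (v ^ q) ^ 2 ^ i * v ^ 2 ^ i := by
      rw [← pow_succ, hgN, hP _ (pow_q_succ_fixed hF v), pow_succ, mul_pow]
    have : (g v - v ^ 2 ^ i) * (g v - (v ^ q) ^ 2 ^ i) = 0 := by
      linear_combination g v * ht - hnm
    rcases mul_eq_zero.1 this with h | h
    · exact Or.inl (sub_eq_zero.1 h)
    · exact Or.inr (sub_eq_zero.1 h)
  have hall : (∀ v, g v = v ^ 2 ^ i) ∨ (∀ v, g v = (v ^ q) ^ 2 ^ i) := by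
    by_contra hcon
    rw [not_or] at hcon
    push Not at hcon
    obtain ⟨⟨v, hv⟩, ⟨w, hw⟩⟩ := hcon
    have hv' := (hsplit v).resolve_left hv
    have hw' := (hsplit w).resolve_right hw
    rcases hsplit (v + w) with h | h
    · rw [hga, hw', add_pow_two_pow h2, add_left_inj] at h
      exact hv h
    · rw [hga, hv', add_pow_q hF, add_pow_two_pow h2, add_right_inj] at h
      exact hw h
  have hback : ∀ a, φ a = l * g a := fun a => by rw [hg, mul_inv_cancel_left₀ hl0]
  rcases hall with h | h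
  · exact ⟨l, hl0, i, by omega, fun a => by rw [hback, h]⟩
  · exact ⟨l, hl0, n + i, by omega, fun a => by rw [hback, h, hq, ← pow_mul, ← pow_add]⟩

variable {hF : Fintype.card F = q ^ 2} {h2 : (2 : F) = 0}

/-- A chosen lift. -/
noncomputable def liftA (a : F) : sylThree hF h2 :=
  Classical.choose (exists_mk (hF := hF) (h2 := h2) (exists_trace hF a).choose_spec)

theorem coordA_liftA (a : F) : coordA (liftA (hF := hF) (h2 := h2) a) = a :=
  (Classical.choose_spec (exists_mk (hF := hF) (h2 := h2) (exists_trace hF a).choose_spec)).1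

theorem inv_mul_mem_center {g g' : sylThree hF h2} (h : coordA g = coordA g') :
    g⁻¹ * g' ∈ Subgroup.center (sylThree hF h2) := by
  rw [mem_center_iff]
  have h1 := (coord_mul g (g⁻¹ * g')).1
  rw [mul_inv_cancel_left, ← h] at h1
  linear_combination -h1

theorem coordA_aut {σ : MulAut (sylThree hF h2)} {g g' : sylThree hF h2}
    (h : coordA g = coordA g') : coordA (σ g) = coordA (σ g') := by
  have hz : σ (g⁻¹ * g') ∈ Subgroup.center (sylThree hF h2) := by
    rw [Subgroup.mem_center_iff]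
    intro k
    obtain ⟨k, rfl⟩ := σ.surjective k
    rw [← map_mul, ← map_mul, Subgroup.mem_center_iff.1 (inv_mul_mem_center h)]
  have h1 := (coord_mul (σ g) (σ (g⁻¹ * g'))).1
  rw [← map_mul, mul_inv_cancel_left, (mem_center_iff _).1 hz, add_zero] at h1
  exact h1.symm

/-- The permutation of the first coordinate induced by an automorphism. -/
noncomputable def perm : MulAut (sylThree hF h2) →* Equiv.Perm F :=
  MonoidHom.mk'
    (fun σ =>
      { toFun := fun a => coordA (σ (liftA a))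
        invFun := fun a => coordA (σ.symm (liftA a))
        left_inv := fun a => by
          change coordA (σ.symm (liftA (coordA (σ (liftA a))))) = a
          rw [coordA_aut (σ := σ.symm) (g' := σ (liftA a)) (coordA_liftA _),
            σ.symm_apply_apply, coordA_liftA]
        right_inv := fun a => by
          change coordA (σ (liftA (coordA (σ.symm (liftA a))))) = a
          rw [coordA_aut (σ := σ) (g' := σ.symm (liftA a)) (coordA_liftA _),
            σ.apply_symm_apply, coordA_liftA] })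
    (fun σ τ => Equiv.ext fun a => by
      change coordA (σ (τ (liftA a))) = coordA (σ (liftA (coordA (τ (liftA a)))))
      exact coordA_aut (coordA_liftA _).symm)

theorem perm_apply (σ : MulAut (sylThree hF h2)) (g : sylThree hF h2) :
    perm σ (coordA g) = coordA (σ g) := coordA_aut (coordA_liftA _)

theorem perm_eq_one_iff (σ : MulAut (sylThree hF h2)) :
    perm σ = 1 ↔ ∀ g, coordA (σ g) = coordA g := by
  constructor
  · intro h g
    rw [← perm_apply, h]; rfl
  · intro h
    refine Equiv.ext fun a => ?_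
    obtain ⟨g, hg, -⟩ := exists_mk (hF := hF) (h2 := h2) (exists_trace hF a).choose_spec
    rw [← hg, perm_apply, h]; rfl

theorem fixed_coordB {z : sylThree hF h2} (hz : coordA z = 0) : coordB z ^ q = coordB z := by
  refine (fixed_iff_trace_zero (h2 := h2) _).1 ?_
  rw [(coe_eq z).2, hz, zero_pow (Nat.succ_ne_zero q)]

theorem exists_central {c : F} (hc : c ^ q = c) :
    ∃ z : sylThree hF h2, coordA z = 0 ∧ coordB z = c :=
  exists_mk (by rw [zero_pow (Nat.succ_ne_zero q), (fixed_iff_trace_zero (h2 := h2) c).2 hc])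

/-- The image of an automorphism. -/
theorem perm_semilinear {n : ℕ} (hn : 1 ≤ n) (hq : q = 2 ^ n) (σ : MulAut (sylThree hF h2)) :
    ∃ l : F, l ≠ 0 ∧ ∃ i < 2 * n, ∀ a, perm σ a = l * a ^ 2 ^ i := by
  classical
  let ψ : F → F := fun c =>
    if h : c ^ q = c then coordB (σ (exists_central (hF := hF) (h2 := h2) h).choose) else 0
  have hψ : ∀ z : sylThree hF h2, coordA z = 0 → ψ (coordB z) = coordB (σ z) := fun z hz => by
    have h := fixed_coordB hz
    obtain ⟨h1, h2'⟩ := (exists_central (hF := hF) (h2 := h2) h).choose_spec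
    simp only [ψ, dif_pos h]
    rw [ext' (h1.trans hz.symm) h2']
  refine semilinear_of_norm hn hq hF h2 (perm σ) ?_ (perm σ).injective ψ ?_ ?_
  · intro x y
    rw [← coordA_liftA (hF := hF) (h2 := h2) x, ← coordA_liftA (hF := hF) (h2 := h2) y,
      ← (coord_mul _ _).1, perm_apply, map_mul, (coord_mul _ _).1, ← perm_apply, ← perm_apply]
  · intro x y hx hy
    obtain ⟨z, hzA, hzB⟩ := exists_central (hF := hF) (h2 := h2) hx
    obtain ⟨w, hwA, hwB⟩ := exists_central (hF := hF) (h2 := h2) hy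
    have hA : ∀ v : sylThree hF h2, coordA v = 0 → coordA (σ v) = 0 := fun v hv => by
      rw [coordA_aut (σ := σ) (hv.trans coord_one.1.symm), map_one, coord_one.1]
    have h := hψ (z * w) (by rw [(coord_mul z w).1, hzA, hwA, add_zero])
    rw [(coord_mul z w).2, hzA, zero_pow_q hF, zero_mul, add_zero, map_mul, (coord_mul _ _).2,
      hA z hzA, zero_pow_q hF, zero_mul, add_zero, ← hψ z hzA, ← hψ w hwA, hzB, hwB] at h
    exact h
  · intro u
    have h := hψ _ (coord_sq (liftA (hF := hF) (h2 := h2) u)).1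
    rw [(coord_sq _).2, map_mul, (coord_sq _).2, coordA_liftA] at h
    rw [h, ← perm_apply, coordA_liftA]

theorem exists_aut {n : ℕ} (hq : q = 2 ^ n) {l : F} (hl : l ≠ 0) (i : ℕ) :
    ∃ σ : MulAut (sylThree hF h2), ∀ g,
      coordA (σ g) = l * coordA g ^ 2 ^ i := by
  have hex : ∀ g : sylThree hF h2, ∃ g' : sylThree hF h2,
      coordA g' = l * coordA g ^ 2 ^ i ∧ coordB g' = l ^ (q + 1) * coordB g ^ 2 ^ i := fun g =>
    exists_mk (by
      rw [mul_pow, pow_q_succ_fixed hF, ← pow_mul, mul_comm (2 ^ i) q, pow_mul, ← mul_add,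
        ← add_pow_two_pow h2, (coe_eq g).2, mul_pow, ← pow_mul, ← pow_mul, mul_comm (q + 1)])
  choose f hA hB using hex
  let fh : sylThree hF h2 →* sylThree hF h2 := MonoidHom.mk' f fun g g' => ext'
    (by rw [hA, (coord_mul g g').1, (coord_mul (f g) (f g')).1, hA, hA, add_pow_two_pow h2, mul_add])
    (by
      rw [hB, (coord_mul g g').2, (coord_mul (f g) (f g')).2, hA, hA, hB, hB, add_pow_two_pow h2,
        add_pow_two_pow h2, mul_pow (coordA g ^ q) (coordA g'), mul_pow l, pow_succ l q,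
        ← pow_mul (coordA g) q, ← pow_mul (coordA g) (2 ^ i), mul_comm (2 ^ i) q]
      ring)
  have hinj : Function.Injective fh := by
    rw [injective_iff_map_eq_one]
    intro g hg
    have e1 := congrArg coordA hg
    have e2 := congrArg coordB hg
    simp only [fh, MonoidHom.mk'_apply] at e1 e2
    rw [hA, coord_one.1, mul_eq_zero, or_iff_right hl] at e1
    rw [hB, coord_one.2, mul_eq_zero, or_iff_right (pow_ne_zero _ hl)] at e2
    exact ext' ((eq_zero_of_pow_eq_zero e1).trans coord_one.1.symm)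
      ((eq_zero_of_pow_eq_zero e2).trans coord_one.2.symm)
  exact ⟨MulEquiv.ofBijective fh ⟨hinj, Finite.injective_iff_surjective.1 hinj⟩, hA⟩

theorem mem_range_perm {n : ℕ} (hq : q = 2 ^ n) {l : F} (hl : l ≠ 0) (i : ℕ) :
    ∃ σ : MulAut (sylThree hF h2), ∀ a, perm σ a = l * a ^ 2 ^ i := by
  obtain ⟨σ, hσ⟩ := exists_aut (hF := hF) (h2 := h2) hq hl i
  refine ⟨σ, fun a => ?_⟩
  rw [← coordA_liftA (hF := hF) (h2 := h2) a, perm_apply, hσ]

theorem card_range_perm {n : ℕ} (hn : 1 ≤ n) (hq : q = 2 ^ n) :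
    Nat.card (perm (hF := hF) (h2 := h2)).range = 2 * n * (q ^ 2 - 1) := by
  classical
  have hcard : Fintype.card F = 2 ^ (2 * n) := by rw [hF, hq, ← pow_mul, mul_comm]
  choose s hs using fun p : Fˣ × Fin (2 * n) =>
    mem_range_perm (hF := hF) (h2 := h2) hq p.1.ne_zero p.2.1
  have e : Fˣ × Fin (2 * n) ≃ (perm (hF := hF) (h2 := h2)).range := by
    refine Equiv.ofBijective (fun p => ⟨perm (s p), s p, rfl⟩) ⟨?_, ?_⟩
    · rintro ⟨u, i⟩ ⟨v, j⟩ h
      have h' : ∀ a, (u : F) * a ^ 2 ^ i.1 = (v : F) * a ^ 2 ^ j.1 := fun a => by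
        rw [← hs ⟨u, i⟩, ← hs ⟨v, j⟩]
        exact DFunLike.congr_fun (congrArg Subtype.val h) a
      have hu : u = v := Units.ext (by simpa using h' 1)
      subst hu
      refine Prod.ext rfl (Fin.ext (frobenius_pow_injective hcard h2 i.2 j.2 fun x => ?_))
      exact mul_left_cancel₀ u.ne_zero (h' x)
    · rintro ⟨_, σ, rfl⟩
      obtain ⟨l, hl, i, hi, h⟩ := perm_semilinear hn hq σ
      refine ⟨⟨Units.mk0 l hl, ⟨i, hi⟩⟩, Subtype.ext (Equiv.ext fun a => ?_)⟩
      exact (hs ⟨Units.mk0 l hl, ⟨i, hi⟩⟩ a).trans (h a).symm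
  rw [← Nat.card_congr e, Nat.card_prod, Nat.card_units, Nat.card_eq_fintype_card, hF,
    Nat.card_fin, mul_comm]

theorem ker_fix_center {σ : MulAut (sylThree hF h2)} (hσ : perm σ = 1) {z : sylThree hF h2}
    (hz : coordA z = 0) : σ z = z := by
  obtain ⟨a, ha⟩ := exists_norm_eq hF (fixed_coordB hz)
  have hg : z = liftA a * liftA a := ext' (by rw [hz, (coord_sq _).1])
    (by rw [(coord_sq _).2, coordA_liftA, ha])
  rw [hg, map_mul]
  refine ext' (by rw [(coord_sq _).1, (coord_sq _).1]) ?_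
  rw [(coord_sq _).2, (coord_sq _).2, (perm_eq_one_iff σ).1 hσ]

/-- The change of the second coordinate. -/
theorem shift_eq {σ : MulAut (sylThree hF h2)} (hσ : perm σ = 1) (g : sylThree hF h2) :
    ∃ z : sylThree hF h2, coordA z = 0 ∧ σ g = g * z ∧ coordB (σ g) = coordB g + coordB z := by
  have hA : coordA g = coordA (σ g) := ((perm_eq_one_iff σ).1 hσ g).symm
  have hz := (mem_center_iff _).1 (inv_mul_mem_center hA)
  refine ⟨g⁻¹ * σ g, hz, (mul_inv_cancel_left _ _).symm, ?_⟩
  conv_lhs => rw [← mul_inv_cancel_left g (σ g)]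
  rw [(coord_mul _ _).2, hz, mul_zero, add_zero]

theorem ker_sq {σ : MulAut (sylThree hF h2)} (hσ : perm σ = 1) : σ * σ = 1 := by
  refine MulEquiv.ext fun g => ?_
  obtain ⟨z, hz, he, -⟩ := shift_eq hσ g
  change σ (σ g) = g
  rw [he, map_mul, he, ker_fix_center hσ hz, mul_assoc, (sq_eq_one_iff z).2 hz, mul_one]

theorem card_ker_perm {n : ℕ} (hn : 1 ≤ n) (hq : q = 2 ^ n) :
    Nat.card (perm (hF := hF) (h2 := h2)).ker = 2 ^ (2 * n ^ 2) := by
  classical
  have : CharP F 2 := CharTwo.of_one_ne_zero_of_two_eq_zero one_ne_zero h2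
  let _ : Algebra (ZMod 2) F := ZMod.algebra F 2
  let Kf := fixedField hF
  have h2K : (2 : Kf) = 0 := Subtype.ext (by push_cast; exact h2)
  have : CharP Kf 2 := CharTwo.of_one_ne_zero_of_two_eq_zero one_ne_zero h2K
  let _ : Algebra (ZMod 2) Kf := ZMod.algebra Kf 2
  have hKcard : Fintype.card Kf = 2 ^ n := by
    rw [← Nat.card_eq_fintype_card, ← hq]; exact card_fixed hF
  have hcard : Fintype.card F = 2 ^ (2 * n) := by rw [hF, hq, ← pow_mul, mul_comm]
  -- the homomorphism attached to a kernel element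
  have hex : ∀ σ : (perm (hF := hF) (h2 := h2)).ker, ∃ h : F →ₗ[ZMod 2] Kf,
      ∀ g, coordB (σ.1 g) = coordB g + (h (coordA g) : F) := by
    intro σ
    have hσ : perm σ.1 = 1 := MonoidHom.mem_ker.1 σ.2
    let d : sylThree hF h2 → F := fun g => coordB (σ.1 g) - coordB g
    have hd : ∀ g, d g ^ q = d g := fun g => by
      obtain ⟨z, hz, -, hB⟩ := shift_eq hσ g
      simp only [d, hB, add_sub_cancel_left]
      exact fixed_coordB hz
    have hdmul : ∀ g g', d (g * g') = d g + d g' := fun g g' => by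
      simp only [d, map_mul, (coord_mul _ _).2, (perm_eq_one_iff _).1 hσ]
      ring
    have hdA : ∀ g g', coordA g = coordA g' → d g = d g' := fun g g' e => by
      have hz := (mem_center_iff _).1 (inv_mul_mem_center e)
      have h0 : d (g⁻¹ * g') = 0 := by simp only [d, ker_fix_center hσ hz, sub_self]
      have := hdmul g (g⁻¹ * g')
      rw [mul_inv_cancel_left, h0, add_zero] at this
      exact this.symm
    let h0 : F →+ Kf := AddMonoidHom.mk'
      (fun a => ⟨d (liftA a), (mem_fixedField hF).2 (hd _)⟩) fun a a' => Subtype.ext (by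
        change d (liftA (a + a')) = d (liftA a) + d (liftA a')
        rw [← hdmul]
        exact hdA _ _ (by rw [(coord_mul _ _).1, coordA_liftA, coordA_liftA, coordA_liftA]))
    refine ⟨h0.toZModLinearMap 2, fun g => ?_⟩
    change _ = coordB g + d (liftA (coordA g))
    rw [hdA (liftA (coordA g)) g (coordA_liftA _)]
    simp only [d]
    ring
  choose H hH using hex
  have e : (perm (hF := hF) (h2 := h2)).ker ≃ (F →ₗ[ZMod 2] Kf) := by
    refine Equiv.ofBijective H ⟨fun σ τ e => Subtype.ext (MulEquiv.ext fun g => ?_), fun h => ?_⟩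
    · exact ext' (((perm_eq_one_iff _).1 (MonoidHom.mem_ker.1 σ.2) g).trans
        ((perm_eq_one_iff _).1 (MonoidHom.mem_ker.1 τ.2) g).symm) (by rw [hH, hH, e])
    · have hex' : ∀ g : sylThree hF h2, ∃ g' : sylThree hF h2,
          coordA g' = coordA g ∧ coordB g' = coordB g + (h (coordA g) : F) := fun g =>
        exists_mk (by
          rw [add_pow_q hF, (mem_fixedField hF).1 (h (coordA g)).2]
          linear_combination (coe_eq g).2 + (h (coordA g) : F) * h2)
      choose f hA hB using hex'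
      let fh : sylThree hF h2 →* sylThree hF h2 := MonoidHom.mk' f fun g g' => ext'
        (by rw [hA, (coord_mul g g').1, (coord_mul (f g) (f g')).1, hA, hA])
        (by
          rw [hB, (coord_mul g g').1, (coord_mul g g').2, (coord_mul (f g) (f g')).2, hA, hA, hB,
            hB, map_add, Subfield.coe_add]
          ring)
      have hinj : Function.Injective fh := fun g g' e => by
        have e1 : coordA g = coordA g' := by rw [← hA g, ← hA g']; exact congrArg coordA e
        have e2 := congrArg coordB e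
        simp only [fh, MonoidHom.mk'_apply, hB, e1, add_left_inj] at e2
        exact ext' e1 e2
      let σ : MulAut (sylThree hF h2) :=
        MulEquiv.ofBijective fh ⟨hinj, Finite.injective_iff_surjective.1 hinj⟩
      have hσ : σ ∈ (perm (hF := hF) (h2 := h2)).ker :=
        MonoidHom.mem_ker.2 ((perm_eq_one_iff σ).2 hA)
      refine ⟨⟨σ, hσ⟩, LinearMap.ext fun a => Subtype.ext ?_⟩
      have h1 := hH ⟨σ, hσ⟩ (liftA a)
      change coordB (f (liftA a)) = _ at h1
      rw [hB, coordA_liftA, add_right_inj] at h1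
      exact h1.symm
  rw [Nat.card_congr e, Module.natCard_eq_pow_finrank (K := ZMod 2), Nat.card_zmod,
    Module.finrank_linearMap, finrank_eq_of_card hcard]
  erw [finrank_eq_of_card hKcard]
  ring_nf

theorem card_mulAut {n : ℕ} (hn : 1 ≤ n) (hq : q = 2 ^ n) :
    Nat.card (MulAut (sylThree hF h2)) = 2 ^ (2 * n ^ 2) * (2 * n * (q ^ 2 - 1)) := by
  rw [← (perm (hF := hF) (h2 := h2)).ker.card_mul_index, Subgroup.index_ker,
    card_ker_perm hn hq, card_range_perm hn hq]

theorem pCore_eq {n : ℕ} (hn : 1 ≤ n) (hq : q = 2 ^ n) :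
    Cfsg.pCore 2 (MulAut (sylThree hF h2)) = (perm (hF := hF) (h2 := h2)).ker := by
  classical
  refine le_antisymm ?_ (Cores.le_pCore inferInstance
    (IsPGroup.of_card (n := 2 * n ^ 2) (card_ker_perm hn hq)))
  intro σ hσ
  rw [MonoidHom.mem_ker]
  obtain ⟨l, hl, i, hi, hσa⟩ := perm_semilinear hn hq σ
  set P := (Cfsg.pCore 2 (MulAut (sylThree hF h2))).map perm with hPdef
  have hPp : IsPGroup 2 P := (Cores.isPGroup_pCore 2 _).map _
  have hodd : Odd (q ^ 2 - 1) := by
    have h1 : 2 ∣ q ^ 2 := (hq ▸ dvd_pow_self 2 (by omega : n ≠ 0)).trans (dvd_pow_self q two_ne_zero)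
    have := Nat.one_le_pow 2 q (hq ▸ Nat.two_pow_pos n)
    rw [← Nat.not_even_iff_odd, even_iff_two_dvd]
    omega
  -- an element of `P` acting as a scalar is trivial
  have hscal : ∀ π ∈ P, ∀ m : F, (∀ a, π a = m * a) → π = 1 := by
    intro π hπ m hm
    have hm0 : m ≠ 0 := fun h => by
      have h1 : π 1 = π 0 := by rw [hm, hm, h, zero_mul, zero_mul]
      exact one_ne_zero (π.injective h1)
    have hpow : ∀ (k : ℕ) (a : F), (π ^ k) a = m ^ k * a := by
      intro k
      induction k with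
      | zero => intro a; simp
      | succ k ih => intro a; rw [pow_succ', Equiv.Perm.mul_apply, ih, hm, pow_succ']; ring
    have h1 : π ^ (q ^ 2 - 1) = 1 := Equiv.ext fun a => by
      rw [hpow, ← hF, FiniteField.pow_card_sub_one_eq_one m hm0, one_mul]; rfl
    obtain ⟨k, hk⟩ := hPp ⟨π, hπ⟩
    have h2' : π ^ 2 ^ k = 1 := congrArg Subtype.val hk
    exact orderOf_eq_one_iff.1 (Nat.eq_one_of_dvd_coprimes
      ((Nat.coprime_two_right.2 hodd).pow_right k) (orderOf_dvd_of_pow_eq_one h1)
      (orderOf_dvd_of_pow_eq_one h2'))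
  have hσP : perm σ ∈ P := Subgroup.mem_map_of_mem _ hσ
  have hfix : ∀ c : F, c ^ 2 ^ i = c := by
    intro c
    rcases eq_or_ne c 0 with rfl | hc
    · exact zero_pow (by positivity)
    obtain ⟨τ, hτ⟩ := mem_range_perm (hF := hF) (h2 := h2) hq hc 0
    obtain ⟨τ', hτ'⟩ := mem_range_perm (hF := hF) (h2 := h2) hq (pow_ne_zero (2 ^ i) hc) 0
    have hτ0 : ∀ a, perm τ a = c * a := fun a => by rw [hτ, pow_zero, pow_one]
    have hτ0' : ∀ a, perm τ' a = c ^ 2 ^ i * a := fun a => by rw [hτ', pow_zero, pow_one]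
    have hcomm : perm σ * perm τ = perm τ' * perm σ := Equiv.ext fun a => by
      rw [Equiv.Perm.mul_apply, Equiv.Perm.mul_apply, hτ0, hτ0', hσa, hσa, mul_pow]; ring
    have hmem : σ * τ * σ⁻¹ * τ⁻¹ ∈ Cfsg.pCore 2 (MulAut (sylThree hF h2)) := by
      have := (Cfsg.pCore 2 (MulAut (sylThree hF h2))).mul_mem hσ
        ((Cores.pCore_normal 2 _).conj_mem _ (inv_mem hσ) τ)
      simpa [mul_assoc] using this
    have he : perm (σ * τ * σ⁻¹ * τ⁻¹) = perm τ' * (perm τ)⁻¹ := by
      rw [map_mul, map_mul, map_mul, map_inv, map_inv, hcomm, mul_inv_cancel_right]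
    have h1 := hscal _ (Subgroup.mem_map_of_mem _ hmem) (c ^ 2 ^ i * c⁻¹) fun a => by
      rw [he, Equiv.Perm.mul_apply, hτ0']
      have : (perm τ)⁻¹ a = c⁻¹ * a := by
        rw [Equiv.Perm.inv_eq_iff_eq, hτ0, mul_inv_cancel_left₀ hc]
      rw [this]; ring
    rw [he, mul_inv_eq_one] at h1
    have := DFunLike.congr_fun h1 1
    rw [hτ0, hτ0', mul_one, mul_one] at this
    exact this
  exact hscal _ hσP l fun a => by rw [hσa, hfix]

/-- The Sylow 2-subgroups of `SU₃(2^n)`. -/
theorem exists_equiv_SU {n : ℕ} (hn : 1 ≤ n) (hq : q = 2 ^ n) (hF : Fintype.card F = q ^ 2)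
    (h2 : (2 : F) = 0) (S : Sylow 2 (Cfsg.SU 3 F q)) :
    Nonempty (sylThree hF h2 ≃* (S : Subgroup (Cfsg.SU 3 F q))) := by
  have hq2 : 2 ∣ q := hq ▸ dvd_pow_self 2 (by omega)
  have hqpos : 0 < q := hq ▸ Nat.two_pow_pos n
  have hcard : Nat.card (sylThree hF h2) = q ^ 3 := card_sylThree
  have hP : IsPGroup 2 (sylThree hF h2) := IsPGroup.of_card (n := n * 3) (by rw [hcard, hq, pow_mul])
  have hidx : ¬ 2 ∣ (sylThree hF h2).index := by
    have h := card_SU (F := F) hF 3 (by norm_num)
    rw [← (sylThree hF h2).card_mul_index, hcard] at h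
    simp only [Finset.prod_range_succ, Finset.prod_range_zero] at h
    simp only [Nat.reduceAdd, Nat.reduceSub, Nat.reduceMul, Nat.reduceDiv, pow_one, one_mul,
      even_two, Even.zero, if_true, Nat.not_even_one, if_false] at h
    have h' : (sylThree hF h2).index = (q ^ 2 - 1) * (q ^ 3 + 1) := by
      refine Nat.eq_of_mul_eq_mul_left (n := q ^ 3 * (q + 1))
        (Nat.mul_pos (pow_pos hqpos 3) (Nat.succ_pos q)) ?_
      calc q ^ 3 * (q + 1) * (sylThree hF h2).index
          = (q + 1) * (q ^ 3 * (sylThree hF h2).index) := by ring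
        _ = _ := by rw [h]; ring
    intro hd
    rw [h'] at hd
    have e2 : 2 ∣ q ^ 2 := hq2.trans (dvd_pow_self q two_ne_zero)
    have e3 : 2 ∣ q ^ 3 := hq2.trans (dvd_pow_self q three_ne_zero)
    have e1 : 1 ≤ q ^ 2 := Nat.one_le_pow _ _ hqpos
    rcases (Nat.Prime.dvd_mul Nat.prime_two).1 hd with h3 | h3 <;> omega
  have : Fact (Nat.Prime 2) := ⟨Nat.prime_two⟩
  let e₀ := (hP.toSylow hidx).equiv S
  exact ⟨{ toFun := fun x => e₀ ⟨x.1, x.2⟩
           invFun := fun y => ⟨(e₀.symm ⟨y.1, y.2⟩).1, (e₀.symm ⟨y.1, y.2⟩).2⟩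
           left_inv := fun x => Subtype.ext (congrArg Subtype.val (e₀.symm_apply_apply ⟨x.1, x.2⟩))
           right_inv := fun y => Subtype.ext (congrArg Subtype.val (e₀.apply_symm_apply ⟨y.1, y.2⟩))
           map_mul' := fun x y => map_mul e₀ ⟨x.1, x.2⟩ ⟨y.1, y.2⟩ }⟩

end Cfsg.Agent.Unitary
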