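import Cfsg.Agent.Lib.Unitary.Center
/-
PSU_3(2): order 72, a normal subgroup of order 9 and exponent 3 with quotient the quaternion group.
* GF4 (a table model of the field with four elements), suMapEquiv (SU transported along a field isomorphism)
* card_PSU_three_two, exists_normal_nine, isSolvable_PSU_three_two
-/
set_option autoImplicit false

namespace Cfsg.Agent.Unitary

open scoped Matrix

/-- A table model of the field with four elements: 0, 1, w, w². -/
inductive GF4 where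
  | zr | un | om | om2
  deriving DecidableEq

instance gf4Fintype : Fintype GF4 :=
  ⟨⟨([GF4.zr, GF4.un, GF4.om, GF4.om2] : List GF4), by decide⟩, fun x => by cases x <;> decide⟩

namespace GF4

/-- Addition table. -/
def addTab : GF4 → GF4 → GF4
  | .zr, b => b
  | a, .zr => a
  | .un, .un => .zr
  | .un, .om => .om2
  | .un, .om2 => .om
  | .om, .un => .om2
  | .om, .om => .zr
  | .om, .om2 => .un
  | .om2, .un => .om
  | .om2, .om => .un
  | .om2, .om2 => .zr

/-- Multiplication table. -/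
def mulTab : GF4 → GF4 → GF4
  | .zr, _ => .zr
  | _, .zr => .zr
  | .un, b => b
  | a, .un => a
  | .om, .om => .om2
  | .om, .om2 => .un
  | .om2, .om => .un
  | .om2, .om2 => .om

/-- Inversion table. -/
def invTab : GF4 → GF4
  | .zr => .zr
  | .un => .un
  | .om => .om2
  | .om2 => .om

instance gf4Zero : Zero GF4 := ⟨.zr⟩
instance gf4One : One GF4 := ⟨.un⟩
instance gf4Add : Add GF4 := ⟨addTab⟩
instance gf4Mul : Mul GF4 := ⟨mulTab⟩
instance gf4Neg : Neg GF4 := ⟨id⟩
instance gf4Inv : Inv GF4 := ⟨invTab⟩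

instance gf4Field : Field GF4 where
  add_assoc := fun x => by cases x <;> decide +kernel
  zero_add := fun x => by cases x <;> decide +kernel
  add_zero := fun x => by cases x <;> decide +kernel
  add_comm := fun x => by cases x <;> decide +kernel
  mul_assoc := fun x => by cases x <;> decide +kernel
  mul_comm := fun x => by cases x <;> decide +kernel
  one_mul := fun x => by cases x <;> decide +kernel
  mul_one := fun x => by cases x <;> decide +kernel
  zero_mul := fun x => by cases x <;> decide +kernel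
  mul_zero := fun x => by cases x <;> decide +kernel
  left_distrib := fun x => by cases x <;> decide +kernel
  right_distrib := fun x => by cases x <;> decide +kernel
  neg_add_cancel := fun x => by cases x <;> decide +kernel
  exists_pair_ne := ⟨0, 1, by decide +kernel⟩
  mul_inv_cancel := by decide +kernel
  inv_zero := by decide +kernel
  nsmul := nsmulRec
  zsmul := zsmulRec
  nnqsmul := _
  nnqsmul_def := fun _ _ => rfl
  qsmul := _
  qsmul_def := fun _ _ => rfl

theorem card : Fintype.card GF4 = 2 ^ 2 := by decide +kernel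

end GF4

section Transfer

variable {F L : Type*} [Field F] [Field L] {q n : ℕ}

theorem hermForm_map (f : F →+* L) (u v : Fin n → F) :
    Cfsg.hermForm n L q (f ∘ u) (f ∘ v) = f (Cfsg.hermForm n F q u v) := by
  simp [Cfsg.hermForm, map_sum]

theorem map_mem_SU (e : F ≃+* L) {g : Matrix.SpecialLinearGroup (Fin n) F} (hg : g ∈ Cfsg.SU n F q) :
    Matrix.SpecialLinearGroup.map e.toRingHom g ∈ Cfsg.SU n L q := by
  rw [mem_SU_iff] at hg ⊢
  intro u v
  have key : ∀ w : Fin n → L,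
      ((Matrix.SpecialLinearGroup.map e.toRingHom g : Matrix.SpecialLinearGroup (Fin n) L) :
        Matrix (Fin n) (Fin n) L) *ᵥ w =
      e.toRingHom ∘ ((g : Matrix (Fin n) (Fin n) F) *ᵥ (e.symm ∘ w)) := by
    intro w
    ext i
    simp [Matrix.mulVec, dotProduct, map_sum]
  rw [key, key, hermForm_map, hg, ← hermForm_map]
  simp [Function.comp_def]

/-- SU transported along a field isomorphism. -/
def suMapEquiv (e : F ≃+* L) (n q : ℕ) : Cfsg.SU n F q ≃* Cfsg.SU n L q where
  toFun g := ⟨Matrix.SpecialLinearGroup.map e.toRingHom g, map_mem_SU e g.2⟩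
  invFun g := ⟨Matrix.SpecialLinearGroup.map e.symm.toRingHom g, map_mem_SU e.symm g.2⟩
  left_inv g := by ext; simp
  right_inv g := by ext; simp
  map_mul' g h := by ext; simp

/-- The induced isomorphism of PSU. -/
def psuMapEquiv (e : F ≃+* L) (n q : ℕ) : Cfsg.PSU n F q ≃* Cfsg.PSU n L q :=
  QuotientGroup.congr _ _ (suMapEquiv e n q) (by
    ext x
    simp only [Subgroup.mem_map, MonoidHom.coe_coe, Subgroup.mem_center_iff]
    constructor
    · rintro ⟨z, hz, rfl⟩ g
      obtain ⟨g, rfl⟩ := (suMapEquiv e n q).surjective g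
      rw [← map_mul, ← map_mul, hz g]
    · intro hx
      obtain ⟨z, rfl⟩ := (suMapEquiv e n q).surjective x
      exact ⟨z, fun g => (suMapEquiv e n q).injective (by rw [map_mul, map_mul, hx]), rfl⟩)

end Transfer

namespace PSU32

/-- A computable test for membership in SU_3(2). -/
def SUCond (M : Matrix (Fin 3) (Fin 3) GF4) : Prop :=
  M.det = 1 ∧ ∀ i j : Fin 3,
    M 0 i * (M 0 j * M 0 j) + M 1 i * (M 1 j * M 1 j) + M 2 i * (M 2 j * M 2 j) =
      if i = j then 1 else 0

instance suCondDecidable (M : Matrix (Fin 3) (Fin 3) GF4) : Decidable (SUCond M) :=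
  decidable_of_iff
    (M 0 0 * (M 1 1 * M 2 2 - M 1 2 * M 2 1) - M 0 1 * (M 1 0 * M 2 2 - M 1 2 * M 2 0) +
        M 0 2 * (M 1 0 * M 2 1 - M 1 1 * M 2 0) = 1 ∧ ∀ i j : Fin 3,
      M 0 i * (M 0 j * M 0 j) + M 1 i * (M 1 j * M 1 j) + M 2 i * (M 2 j * M 2 j) =
        if i = j then 1 else 0) (by
      unfold SUCond
      rw [Matrix.det_fin_three]
      constructor <;> rintro ⟨h1, h2⟩ <;> refine ⟨?_, h2⟩ <;> rw [← h1] <;> ring)

theorem isUnitary_of_cond {M : Matrix (Fin 3) (Fin 3) GF4} (h : SUCond M) : IsUnitary 2 M := by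
  rw [isUnitary_iff_orthonormal GF4.card]
  refine ⟨fun i => ?_, fun i j hij => ?_⟩
  · have := h.2 i i
    rw [if_pos rfl] at this
    simpa [Cfsg.hermForm, Fin.sum_univ_three, sq] using this
  · have := h.2 i j
    rw [if_neg hij] at this
    simpa [Cfsg.hermForm, Fin.sum_univ_three, sq] using this

/-- w. -/
def w : GF4 := .om

/-- w². -/
def W : GF4 := .om2

/-- powers of w. -/
def wpow (i : Fin 3) : GF4 := (![1, w, W] : Fin 3 → GF4) i

/-- The 27 monomial matrices `diag(w^c, w^e, w^(-c-e)) P^s`. -/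
def hMat (x : Fin 3 × Fin 3 × Fin 3) : Matrix (Fin 3) (Fin 3) GF4 :=
  Matrix.of fun i j => if j = i + x.1 then wpow ((![x.2.1, x.2.2, -x.2.1 - x.2.2] : Fin 3 → Fin 3) i) else 0

theorem hMat_cond : ∀ x, SUCond (hMat x) := by decide +kernel

/-- Product of indices. -/
def hMul (x y : Fin 3 × Fin 3 × Fin 3) : Fin 3 × Fin 3 × Fin 3 :=
  (x.1 + y.1, x.2.1 + (![y.2.1, y.2.2, -y.2.1 - y.2.2] : Fin 3 → Fin 3) x.1,
    x.2.2 + (![y.2.1, y.2.2, -y.2.1 - y.2.2] : Fin 3 → Fin 3) (1 + x.1))

/-- Inverse of an index. -/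
def hInv (x : Fin 3 × Fin 3 × Fin 3) : Fin 3 × Fin 3 × Fin 3 :=
  (-x.1, -(![x.2.1, x.2.2, -x.2.1 - x.2.2] : Fin 3 → Fin 3) (-x.1),
    -(![x.2.1, x.2.2, -x.2.1 - x.2.2] : Fin 3 → Fin 3) (1 - x.1))

/-- An element of the monomial subgroup. -/
def hElt (x : Fin 3 × Fin 3 × Fin 3) : Cfsg.SU 3 GF4 2 :=
  suOfUnitary (hMat x) (isUnitary_of_cond (hMat_cond x)) (hMat_cond x).1

/-- Entrywise matrix product, for computation. -/
def mmul (A B : Matrix (Fin 3) (Fin 3) GF4) : Matrix (Fin 3) (Fin 3) GF4 :=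
  Matrix.of fun i j => A i 0 * B 0 j + A i 1 * B 1 j + A i 2 * B 2 j

theorem mmul_eq (A B : Matrix (Fin 3) (Fin 3) GF4) : mmul A B = A * B := by
  ext i j
  simp [mmul, Matrix.mul_apply, Fin.sum_univ_three]

theorem hMat_mul : ∀ x y, mmul (hMat x) (hMat y) = hMat (hMul x y) := by decide +kernel

theorem hMat_inv : ∀ x, mmul (hMat x) (hMat (hInv x)) = hMat (0, 0, 0) := by decide +kernel

theorem hMat_one : hMat (0, 0, 0) = 1 := by decide +kernel

theorem su_ext {a b : Cfsg.SU 3 GF4 2}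
    (h : ((a : Matrix.SpecialLinearGroup (Fin 3) GF4) : Matrix (Fin 3) (Fin 3) GF4) =
      ((b : Matrix.SpecialLinearGroup (Fin 3) GF4) : Matrix (Fin 3) (Fin 3) GF4)) : a = b :=
  Subtype.ext (Subtype.ext h)

theorem hElt_mul (x y : Fin 3 × Fin 3 × Fin 3) : hElt x * hElt y = hElt (hMul x y) :=
  su_ext ((mmul_eq _ _).symm.trans (hMat_mul x y))

theorem hElt_one : hElt (0, 0, 0) = 1 := su_ext hMat_one

/-- The monomial subgroup of order 27. -/
def H : Subgroup (Cfsg.SU 3 GF4 2) where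
  carrier := Set.range hElt
  mul_mem' := by rintro _ _ ⟨x, rfl⟩ ⟨y, rfl⟩; exact ⟨_, (hElt_mul x y).symm⟩
  one_mem' := ⟨_, hElt_one⟩
  inv_mem' := by
    rintro _ ⟨x, rfl⟩
    refine ⟨hInv x, (inv_eq_of_mul_eq_one_right ?_).symm⟩
    rw [← hElt_one]
    exact su_ext ((mmul_eq _ _).symm.trans (hMat_inv x))

theorem hMat_injective : ∀ x y, hMat x = hMat y → x = y := by decide +kernel

theorem card_H : Nat.card H = 27 := by
  have e : Nat.card H = Nat.card (Fin 3 × Fin 3 × Fin 3) :=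
    (Nat.card_eq_of_bijective (fun x => (⟨hElt x, x, rfl⟩ : H))
      ⟨fun x y h => hMat_injective x y (congrArg (fun a : H =>
        ((a.1 : Matrix.SpecialLinearGroup (Fin 3) GF4) : Matrix (Fin 3) (Fin 3) GF4)) h),
        fun ⟨_, x, hx⟩ => ⟨x, Subtype.ext hx⟩⟩).symm
  simp [e]

/-- First quaternion generator. -/
def aMat : Matrix (Fin 3) (Fin 3) GF4 := !![1, 1, 1; 1, w, W; 1, W, w]

/-- Second quaternion generator. -/
def bMat : Matrix (Fin 3) (Fin 3) GF4 := !![1, 1, W; 1, w, w; w, 1, w]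

/-- Coset representatives indexed by the quaternion group. -/
def rMat : QuaternionGroup 2 → Matrix (Fin 3) (Fin 3) GF4
  | .a i => (![1, aMat, mmul aMat aMat, mmul aMat (mmul aMat aMat)] : Fin 4 → _) i
  | .xa i => mmul bMat ((![1, aMat, mmul aMat aMat, mmul aMat (mmul aMat aMat)] : Fin 4 → _) i)

theorem rMat_cond : ∀ g, SUCond (rMat g) := by decide +kernel

/-- Coset representative. -/
def rElt (g : QuaternionGroup 2) : Cfsg.SU 3 GF4 2 :=
  suOfUnitary (rMat g) (isUnitary_of_cond (rMat_cond g)) (rMat_cond g).1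

theorem rMat_hom : ∀ g g', ∃ x, mmul (rMat g) (rMat g') = mmul (rMat (g * g')) (hMat x) := by
  decide +kernel

theorem rMat_conj : ∀ g x, ∃ y, mmul (rMat g) (hMat x) = mmul (hMat y) (rMat g) := by
  decide +kernel

theorem rMat_notMem : ∀ g, (∃ x, rMat g = hMat x) → g = 1 := by decide +kernel

theorem rElt_mem_normalizer (g : QuaternionGroup 2) : rElt g ∈ Subgroup.normalizer (H : Set (Cfsg.SU 3 GF4 2)) := by
  have hfwd : ∀ h ∈ H, rElt g * h * (rElt g)⁻¹ ∈ H := by
    rintro _ ⟨x, rfl⟩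
    obtain ⟨y, hy⟩ := rMat_conj g x
    refine ⟨y, ?_⟩
    rw [eq_mul_inv_iff_mul_eq]
    exact su_ext ((mmul_eq _ _).symm.trans (hy.symm.trans (mmul_eq _ _)))
  rw [Subgroup.mem_normalizer_iff]
  intro h
  refine ⟨hfwd h, fun hh => ?_⟩
  have hsurj := (Finite.injective_iff_surjective
    (f := fun a : H => (⟨rElt g * a * (rElt g)⁻¹, hfwd a a.2⟩ : H))).1
    (fun a b hab => Subtype.ext (by simpa using congrArg Subtype.val hab)) ⟨_, hh⟩
  obtain ⟨a, ha⟩ := hsurj
  have : (a : Cfsg.SU 3 GF4 2) = h := by simpa using congrArg Subtype.val ha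
  exact this ▸ a.2

theorem rElt_mul (g g' : QuaternionGroup 2) : ∃ h ∈ H, rElt g * rElt g' = rElt (g * g') * h := by
  obtain ⟨x, hx⟩ := rMat_hom g g'
  exact ⟨hElt x, ⟨x, rfl⟩, su_ext ((mmul_eq _ _).symm.trans (hx.trans (mmul_eq _ _)))⟩

theorem card_SU32 : Nat.card (Cfsg.SU 3 GF4 2) = 216 := by
  have h := card_SU GF4.card 3 (by norm_num)
  simp [Finset.prod_range_succ] at h
  have h2 : ¬ Even 1 := by decide
  omega

theorem H_normal : H.Normal := by
  have hN : Subgroup.normalizer (H : Set (Cfsg.SU 3 GF4 2)) = ⊤ := by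
    refine Subgroup.eq_top_of_card_eq _ (le_antisymm (Subgroup.card_le_card_group _) ?_)
    have hle : H ≤ Subgroup.normalizer (H : Set (Cfsg.SU 3 GF4 2)) := Subgroup.le_normalizer
    let f : QuaternionGroup 2 × H → Subgroup.normalizer (H : Set (Cfsg.SU 3 GF4 2)) := fun p =>
      ⟨rElt p.1 * p.2, mul_mem (rElt_mem_normalizer p.1) (hle p.2.2)⟩
    have hf : Function.Injective f := by
      rintro ⟨g, h⟩ ⟨g', h'⟩ he
      have e : rElt g * h = rElt g' * h' := congrArg Subtype.val he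
      obtain ⟨k, hk, ek⟩ := rElt_mul g (g⁻¹ * g')
      rw [mul_inv_cancel_left] at ek
      have e2 : rElt g' = rElt g * rElt (g⁻¹ * g') * k⁻¹ := by rw [ek, mul_inv_cancel_right]
      have hmem : rElt (g⁻¹ * g') ∈ H := by
        have : rElt (g⁻¹ * g') = (h : Cfsg.SU 3 GF4 2) * (h' : Cfsg.SU 3 GF4 2)⁻¹ * k := by
          rw [e2, mul_assoc (rElt g), mul_assoc (rElt g)] at e
          rw [mul_left_cancel e]
          group
        rw [this]
        exact mul_mem (mul_mem h.2 (inv_mem h'.2)) hk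
      obtain ⟨x, hx⟩ := hmem
      have := rMat_notMem (g⁻¹ * g') ⟨x, (congrArg (fun a : Cfsg.SU 3 GF4 2 =>
        ((a : Matrix.SpecialLinearGroup (Fin 3) GF4) : Matrix (Fin 3) (Fin 3) GF4)) hx).symm⟩
      obtain rfl : g = g' := inv_mul_eq_one.1 this
      exact Prod.ext rfl (Subtype.ext (mul_left_cancel e))
    have hc := Nat.card_le_card_of_injective f hf
    rw [Nat.card_prod, card_H, Nat.card_eq_fintype_card, QuaternionGroup.card] at hc
    rw [card_SU32]
    exact hc
  exact Subgroup.normalizer_eq_top_iff.1 hN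

/-- The quaternion group onto SU/H. -/
def quatHom (hH : H.Normal) : QuaternionGroup 2 →* Cfsg.SU 3 GF4 2 ⧸ H :=
  MonoidHom.mk' (fun g => (rElt g : Cfsg.SU 3 GF4 2 ⧸ H)) fun g g' => by
    obtain ⟨h, hh, e⟩ := rElt_mul g g'
    rw [← QuotientGroup.mk_mul, e, QuotientGroup.mk_mul, (QuotientGroup.eq_one_iff h).2 hh, mul_one]

theorem quatHom_bijective (hH : H.Normal) : Function.Bijective (quatHom hH) := by
  refine (Nat.bijective_iff_injective_and_card _).2 ⟨?_, ?_⟩
  · rw [injective_iff_map_eq_one]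
    intro g hg
    obtain ⟨x, hx⟩ := (QuotientGroup.eq_one_iff (rElt g)).1 hg
    exact rMat_notMem g ⟨x, (congrArg (fun a : Cfsg.SU 3 GF4 2 =>
      ((a : Matrix.SpecialLinearGroup (Fin 3) GF4) : Matrix (Fin 3) (Fin 3) GF4)) hx).symm⟩
  · have h := Subgroup.card_eq_card_quotient_mul_card_subgroup H
    rw [card_SU32, card_H] at h
    rw [Nat.card_eq_fintype_card, QuaternionGroup.card]
    omega

theorem hMat_cube : ∀ x, ∃ y, mmul (hMat x) (mmul (hMat x) (hMat x)) = hMat (0, y, y) := by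
  decide +kernel

theorem scalar_mem : ∀ z : GF4, z * z * z = 1 → ∃ y, hMat (0, y, y) = Matrix.scalar (Fin 3) z := by
  decide +kernel

theorem hMat_scalar : ∀ y, hMat (0, y, y) = Matrix.scalar (Fin 3) (wpow y) := by decide +kernel

theorem center_le : Subgroup.center (Cfsg.SU 3 GF4 2) ≤ H := by
  intro g hg
  obtain ⟨z, h1, -, hz⟩ := center_SU_scalar GF4.card (by norm_num) hg
  obtain ⟨y, hy⟩ := scalar_mem z (by rw [← pow_three'] ; exact h1)
  exact ⟨(0, y, y), su_ext (hy.trans hz.symm)⟩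

theorem exists_normal_nine : ∃ (N : Subgroup (Cfsg.PSU 3 GF4 2)) (_ : N.Normal),
    Nat.card N = 9 ∧ (∀ x ∈ N, x ^ 3 = 1) ∧
      Nonempty (Cfsg.PSU 3 GF4 2 ⧸ N ≃* QuaternionGroup 2) := by
  have hH := H_normal
  let π := QuotientGroup.mk' (Subgroup.center (Cfsg.SU 3 GF4 2))
  have hN : (H.map π).Normal := hH.map π (QuotientGroup.mk'_surjective _)
  refine ⟨H.map π, hN, ?_, ?_, ?_⟩
  · let f := π.comp H.subtype
    have hr : f.range = H.map π := by rw [MonoidHom.range_comp, Subgroup.range_subtype]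
    have hk : f.ker = (Subgroup.center (Cfsg.SU 3 GF4 2)).subgroupOf H := by
      ext x
      simp [f, π, Subgroup.mem_subgroupOf, QuotientGroup.eq_one_iff]
    have h := Subgroup.card_mul_index f.ker
    rw [Subgroup.index_ker, card_H, hr, hk,
      Nat.card_congr (Subgroup.subgroupOfEquivOfLe center_le).toEquiv,
      card_center_SU GF4.card (by norm_num)] at h
    rw [show Nat.gcd 3 (2 + 1) = 3 from rfl] at h
    exact Nat.eq_of_mul_eq_mul_left (n := 3) (by norm_num) h
  · rintro _ ⟨_, ⟨x, rfl⟩, rfl⟩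
    obtain ⟨y, hy⟩ := hMat_cube x
    rw [← map_pow]
    refine (QuotientGroup.eq_one_iff _).2 ((mem_center_SU_iff GF4.card (by norm_num) _).2 ⟨wpow y, ?_⟩)
    rw [← hMat_scalar, ← hy, mmul_eq, mmul_eq, pow_three]
    rfl
  · exact ⟨(QuotientGroup.quotientQuotientEquivQuotient _ H center_le).trans
      (MulEquiv.ofBijective _ (quatHom_bijective hH)).symm⟩

end PSU32

variable {F : Type*} [Field F] [Fintype F]

/-- Transport to the table model. -/
noncomputable def psu32Equiv (hF : Fintype.card F = 4) : Cfsg.PSU 3 F 2 ≃* Cfsg.PSU 3 GF4 2 :=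
  psuMapEquiv (FiniteField.ringEquivOfCardEq (hF.trans GF4.card.symm)) 3 2

theorem card_PSU_three_two (hF : Fintype.card F = 4) : Nat.card (Cfsg.PSU 3 F 2) = 72 := by
  have h := card_PSU (n := 3) (q := 2) (show Fintype.card F = 2 ^ 2 from hF) (by norm_num)
  simp [Finset.prod_range_succ] at h
  omega

theorem psu_three_two_normal_nine (hF : Fintype.card F = 4) :
    ∃ (N : Subgroup (Cfsg.PSU 3 F 2)) (_ : N.Normal), Nat.card N = 9 ∧ (∀ x ∈ N, x ^ 3 = 1) ∧
      Nonempty (Cfsg.PSU 3 F 2 ⧸ N ≃* QuaternionGroup 2) := by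
  obtain ⟨N, hN, hc, h3, ⟨e'⟩⟩ := PSU32.exists_normal_nine
  let e := psu32Equiv hF
  refine ⟨N.comap e.toMonoidHom, hN.comap _, ?_, fun x hx => ?_, ?_⟩
  · refine Eq.trans ?_ hc
    exact Nat.card_congr (e.toEquiv.subtypeEquiv fun x => Iff.rfl)
  · apply e.injective
    rw [map_pow, map_one]
    exact h3 _ hx
  · exact ⟨(QuotientGroup.congr _ N e
      (Subgroup.map_comap_eq_self_of_surjective e.surjective N)).trans e'⟩

theorem isSolvable_PSU_three_two (hF : Fintype.card F = 4) : Group.IsSolvable (Cfsg.PSU 3 F 2) := by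
  obtain ⟨N, hN, hc, -, ⟨e⟩⟩ := psu_three_two_normal_nine hF
  have : Fact (Nat.Prime 3) := ⟨by norm_num⟩
  have : Fact (Nat.Prime 2) := ⟨by norm_num⟩
  have h1 : Group.IsNilpotent N := (IsPGroup.of_card (n := 2) (p := 3) (by rw [hc]; norm_num)).isNilpotent
  have h2 : Group.IsNilpotent (Cfsg.PSU 3 F 2 ⧸ N) := (IsPGroup.of_card (n := 3) (p := 2) (by
    rw [Nat.card_congr e.toEquiv, Nat.card_eq_fintype_card, QuaternionGroup.card]; norm_num)).isNilpotent
  exact Group.isSolvable_of_ker_le_range N.subtype (QuotientGroup.mk' N) (by simp)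

end Cfsg.Agent.Unitary
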