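import Cfsg.Agent.Lib.Unitary.Group
/-
Counting for the standard hermitian form, and the orders of GU and SU.
Main results:
* normCount n q a = #{v | h v v = a}; isotropic_count, normOne_count (closed forms), normCount_eq_normOne
* orthonormal_next: #(norm-one vectors orthogonal to an orthonormal k-family) = normOne n-k
* card_orthonormal: #(orthonormal k-families) = ∏ i<k, #(norm one in dimension n-i)
* card_GU, card_SU
-/
set_option autoImplicit false

namespace Cfsg.Agent.Unitary

open scoped Matrix BigOperators

variable {F : Type*} [Field F] [Fintype F] {q n : ℕ}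

/-- The number of vectors with `h v v = a`. -/
noncomputable def normCount (n : ℕ) (q : ℕ) (a : F) : ℕ :=
  Nat.card {v : Fin n → F // Cfsg.hermForm n F q v v = a}

omit [Fintype F] in
theorem hermForm_cons (x y : F) (u v : Fin n → F) :
    Cfsg.hermForm (n + 1) F q (Fin.cons x u) (Fin.cons y v) =
      x * y ^ q + Cfsg.hermForm n F q u v := by
  simp [Cfsg.hermForm, Fin.sum_univ_succ]

theorem normCount_succ (n : ℕ) (a : F) :
    normCount (n + 1) q a = ∑ x : F, normCount n q (a - x ^ (q + 1)) := by
  unfold normCount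
  rw [← Nat.card_sigma]
  refine Nat.card_congr
    { toFun := fun v => ⟨v.1 0, Fin.tail v.1, ?_⟩
      invFun := fun p => ⟨Fin.cons p.1 p.2.1, ?_⟩
      left_inv := fun v => Subtype.ext (Fin.cons_self_tail v.1)
      right_inv := fun p => rfl }
  · have h2 : Cfsg.hermForm (n + 1) F q (Fin.cons (v.1 0) (Fin.tail v.1))
        (Fin.cons (v.1 0) (Fin.tail v.1)) = a := by rw [Fin.cons_self_tail]; exact v.2
    rw [hermForm_cons] at h2
    linear_combination h2
  · rw [hermForm_cons, p.2.2]; ring

theorem normCount_eq_normOne (hF : Fintype.card F = q ^ 2) (n : ℕ) {a : F} (ha : a ^ q = a)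
    (ha0 : a ≠ 0) : normCount n q a = normCount n q (1 : F) := by
  obtain ⟨s, hs⟩ := exists_norm_eq hF ha
  have hs0 : s ≠ 0 := fun h => ha0 (by rw [← hs, h, zero_pow (Nat.succ_ne_zero q)])
  have H := hermForm_isHerm hF n
  unfold normCount
  refine Nat.card_congr
    { toFun := fun v => ⟨s⁻¹ • v.1, ?_⟩
      invFun := fun v => ⟨s • v.1, ?_⟩
      left_inv := fun v => Subtype.ext (smul_inv_smul₀ hs0 _)
      right_inv := fun v => Subtype.ext (inv_smul_smul₀ hs0 _) }
  · rw [H.smul_left, H.smul_right, v.2, ← mul_assoc, ← pow_succ', inv_pow, hs, inv_mul_cancel₀ ha0]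
  · rw [H.smul_left, H.smul_right, v.2, mul_one, ← pow_succ', hs]

theorem normCount_total (hF : Fintype.card F = q ^ 2) (n : ℕ) :
    (q ^ 2) ^ n = normCount n q (0 : F) + (q - 1) * normCount n q (1 : F) := by
  classical
  have H := hermForm_isHerm hF n
  have hfib : (∑ a : fixedField hF, normCount n q (a : F)) = (q ^ 2) ^ n := by
    unfold normCount
    rw [← Nat.card_sigma]
    calc Nat.card (Σ a : fixedField hF, {v : Fin n → F // Cfsg.hermForm n F q v v = (a : F)})
        = Nat.card (Fin n → F) := Nat.card_congr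
          { toFun := fun p => p.2.1
            invFun := fun v => ⟨⟨Cfsg.hermForm n F q v v, H.self_fixed v⟩, v, rfl⟩
            left_inv := fun p => Sigma.subtype_ext (Subtype.ext p.2.2) rfl
            right_inv := fun v => rfl }
      _ = (q ^ 2) ^ n := by simp [Nat.card_eq_fintype_card, hF]
  rw [← hfib, ← Finset.add_sum_erase _ _ (Finset.mem_univ (0 : fixedField hF))]
  congr 1
  rw [Finset.sum_congr rfl (g := fun _ => normCount n q (1 : F)) fun a ha =>
      normCount_eq_normOne hF n a.2 fun h => Finset.ne_of_mem_erase ha (Subtype.ext h),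
    Finset.sum_const, smul_eq_mul, Finset.card_erase_of_mem (Finset.mem_univ _), Finset.card_univ,
    ← Nat.card_eq_fintype_card, card_fixedField hF]

theorem normCount_zero_succ (hF : Fintype.card F = q ^ 2) (n : ℕ) :
    normCount (n + 1) q (0 : F) = normCount n q (0 : F) + (q ^ 2 - 1) * normCount n q (1 : F) := by
  classical
  rw [normCount_succ, ← Finset.add_sum_erase _ _ (Finset.mem_univ (0 : F))]
  congr 1
  · rw [zero_pow (Nat.succ_ne_zero q), sub_zero]
  rw [Finset.sum_congr rfl (g := fun _ => normCount n q (1 : F)), Finset.sum_const, smul_eq_mul,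
    Finset.card_erase_of_mem (Finset.mem_univ _), Finset.card_univ, hF]
  intro x hx
  rw [zero_sub]
  refine normCount_eq_normOne hF n ?_ (neg_ne_zero.2 (pow_ne_zero _ (Finset.ne_of_mem_erase hx)))
  rw [neg_pow_q hF, pow_q_succ_fixed hF]

theorem normCount_zero_zero (hF : Fintype.card F = q ^ 2) : normCount 0 q (0 : F) = 1 := by
  unfold normCount
  rw [Nat.card_eq_one_iff_exists]
  exact ⟨⟨0, (hermForm_isHerm hF 0).zero_left 0⟩, fun v => Subtype.ext (Subsingleton.elim _ _)⟩

/-- Closed form (multiplied by q) for the number of isotropic vectors, over the integers. -/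
theorem isotropic_count_int (hF : Fintype.card F = q ^ 2) (n : ℕ) :
    (q : ℤ) * normCount n q (0 : F) =
      (q : ℤ) ^ (2 * n) + (-1) ^ n * ((q : ℤ) ^ (n + 1) - (q : ℤ) ^ n) := by
  induction n with
  | zero => simp [normCount_zero_zero hF]
  | succ n ih =>
    have hq := two_le_q hF
    have h1 := congrArg (Nat.cast : ℕ → ℤ) (normCount_total hF n)
    have h2 := congrArg (Nat.cast : ℕ → ℤ) (normCount_zero_succ hF n)
    push_cast [Nat.cast_sub (show 1 ≤ q by omega), Nat.cast_sub (show 1 ≤ q ^ 2 from Nat.one_le_pow _ _ (by omega))] at h1 h2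
    rw [← pow_mul] at h1
    linear_combination (q : ℤ) * h2 - (q : ℤ) * ((q : ℤ) + 1) * h1 - (q : ℤ) * ih

theorem normOne_count_int (hF : Fintype.card F = q ^ 2) (n : ℕ) :
    (q : ℤ) * normCount n q (1 : F) = (q : ℤ) ^ n * ((q : ℤ) ^ n - (-1) ^ n) := by
  have hq := two_le_q hF
  have h1 := congrArg (Nat.cast : ℕ → ℤ) (normCount_total hF n)
  have h2 := isotropic_count_int hF n
  push_cast [Nat.cast_sub (show 1 ≤ q by omega)] at h1
  rw [← pow_mul] at h1
  apply mul_left_cancel₀ (show ((q : ℤ) - 1) ≠ 0 by omega)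
  linear_combination -(q : ℤ) * h1 - h2

theorem normOne_count (hF : Fintype.card F = q ^ 2) (n : ℕ) :
    normCount n q (1 : F) =
      if Even n then q ^ (n - 1) * (q ^ n - 1) else q ^ (n - 1) * (q ^ n + 1) := by
  have h := normOne_count_int hF n
  have hq := two_le_q hF
  rcases n with _ | m
  · simp at h ⊢
    omega
  have h1 : 1 ≤ q ^ (m + 1) := Nat.one_le_pow _ _ (by omega)
  rw [pow_succ (q : ℤ) m] at h
  apply Nat.cast_injective (R := ℤ)
  apply mul_left_cancel₀ (show (q : ℤ) ≠ 0 by omega)
  rcases Nat.even_or_odd (m + 1) with he | ho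
  · rw [he.neg_one_pow] at h
    rw [h, if_pos he]
    push_cast [Nat.cast_sub h1]
    ring
  · rw [ho.neg_one_pow] at h
    rw [h, if_neg (Nat.not_even_iff_odd.2 ho)]
    push_cast
    ring

theorem isotropic_count (hF : Fintype.card F = q ^ 2) (n : ℕ) :
    normCount n q (0 : F) =
      (if Even n then (q ^ n - 1) * (q ^ (n - 1) + 1) else (q ^ n + 1) * (q ^ (n - 1) - 1)) + 1 := by
  have h := isotropic_count_int hF n
  have hq := two_le_q hF
  rcases n with _ | m
  · simp at h ⊢
    exact_mod_cast mul_left_cancel₀ (show (q : ℤ) ≠ 0 by omega) (h.trans (mul_one _).symm)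
  have h1 : 1 ≤ q ^ (m + 1) := Nat.one_le_pow _ _ (by omega)
  have h2 : 1 ≤ q ^ m := Nat.one_le_pow _ _ (by omega)
  apply Nat.cast_injective (R := ℤ)
  apply mul_left_cancel₀ (show (q : ℤ) ≠ 0 by omega)
  rcases Nat.even_or_odd (m + 1) with he | ho
  · rw [he.neg_one_pow] at h
    rw [h, if_pos he]
    push_cast [Nat.cast_sub h1]
    ring
  · rw [ho.neg_one_pow] at h
    rw [h, if_neg (Nat.not_even_iff_odd.2 ho)]
    push_cast [Nat.cast_sub h2]
    ring

/-- Vectors of given norm orthogonal to an orthonormal family form a space of the complementary dimension. -/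
theorem orthonormal_next (hF : Fintype.card F = q ^ 2) {k : ℕ} (hk : k ≤ n) {b : Fin k → (Fin n → F)}
    (hb : Orthonormal (Cfsg.hermForm n F q) b) (a : F) :
    Nat.card {v : Fin n → F // Cfsg.hermForm n F q v v = a ∧ ∀ i, Cfsg.hermForm n F q v (b i) = 0} =
      normCount (n - k) q a := by
  obtain ⟨m, rfl⟩ : ∃ m, n = k + m := ⟨n - k, by omega⟩
  rw [Nat.add_sub_cancel_left]
  have H := hermForm_isHerm hF (k + m)
  obtain ⟨c, hc, hcb⟩ := exists_orthonormal_extend hF H (hermForm_nondeg hF _) hb hk
    (le_of_eq (Module.finrank_fin_fun F).symm)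
  have hsum := Orthonormal.eq_sum_of_card H hc (by simp)
  have hnorm : ∀ v : Fin (k + m) → F, (∀ i : Fin k, Cfsg.hermForm _ F q v (b i) = 0) →
      Cfsg.hermForm _ F q v v = Cfsg.hermForm m F q
        (fun j => Cfsg.hermForm _ F q v (c (Fin.natAdd k j)))
        (fun j => Cfsg.hermForm _ F q v (c (Fin.natAdd k j))) := by
    intro v hv
    conv_lhs => rw [hsum v, Orthonormal.inner_sum hF H hc]
    have hz : ∀ i : Fin k, Cfsg.hermForm _ F q v (c (Fin.castAdd m i)) = 0 := by
      intro i
      rw [show c (Fin.castAdd m i) = b i from hcb i, hv i]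
    simp only [Fin.sum_univ_add, hz, zero_mul, Finset.sum_const_zero, zero_add]
    rfl
  refine Nat.card_congr
    { toFun := fun v => ⟨fun j => Cfsg.hermForm _ F q v.1 (c (Fin.natAdd k j)),
        (hnorm v.1 v.2.2).symm.trans v.2.1⟩
      invFun := fun w => ⟨∑ i, (Fin.append (0 : Fin k → F) w.1 i) • c i, ?_, ?_⟩
      left_inv := ?_
      right_inv := ?_ }
  · rw [Orthonormal.inner_sum hF H hc, Fin.sum_univ_add]
    simp only [Fin.append_left, Fin.append_right, Pi.zero_apply, zero_mul, Finset.sum_const_zero,
      zero_add]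
    exact w.2
  · intro i
    rw [← hcb i, Orthonormal.coeff H hc]
    exact Fin.append_left _ _ i
  · intro v
    refine Subtype.ext ?_
    show (∑ i, _ • c i) = v.1
    conv_rhs => rw [hsum v.1]
    refine Finset.sum_congr rfl fun i _ => ?_
    congr 1
    induction i using Fin.addCases with
    | left i => rw [Fin.append_left, Pi.zero_apply, show c (Fin.castAdd m i) = b i from hcb i, v.2.2 i]
    | right j => rw [Fin.append_right]
  · intro w
    refine Subtype.ext (funext fun j => ?_)
    show Cfsg.hermForm _ F q (∑ i, _ • c i) (c (Fin.natAdd k j)) = w.1 j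
    rw [Orthonormal.coeff H hc, Fin.append_right]

theorem card_orthonormal (hF : Fintype.card F = q ^ 2) (n k : ℕ) (hk : k ≤ n) :
    Nat.card {b : Fin k → (Fin n → F) // Orthonormal (Cfsg.hermForm n F q) b} =
      ∏ i ∈ Finset.range k, normCount (n - i) q (1 : F) := by
  classical
  induction k with
  | zero =>
    rw [Finset.prod_range_zero, Nat.card_eq_one_iff_exists]
    exact ⟨⟨Fin.elim0, fun i => i.elim0, fun i => i.elim0⟩,
      fun b => Subtype.ext (Subsingleton.elim _ _)⟩
  | succ k ih =>
    have H := hermForm_isHerm hF n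
    have e : Nat.card {b : Fin (k + 1) → (Fin n → F) // Orthonormal (Cfsg.hermForm n F q) b} =
        Nat.card (Σ b : {b : Fin k → (Fin n → F) // Orthonormal (Cfsg.hermForm n F q) b},
          {v : Fin n → F // Cfsg.hermForm n F q v v = 1 ∧
            ∀ i, Cfsg.hermForm n F q v (b.1 i) = 0}) :=
      Nat.card_congr
        { toFun := fun b => ⟨⟨Fin.init b.1, b.2.comp Fin.castSucc (Fin.castSucc_injective k)⟩,
            b.1 (Fin.last k), b.2.1 _, fun i => b.2.2 (Fin.castSucc_lt_last i).ne'⟩
          invFun := fun p => ⟨Fin.snoc p.1.1 p.2.1, by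
            obtain ⟨⟨b, hb⟩, v, hv, hvb⟩ := p
            refine ⟨fun i => ?_, fun i j hij => ?_⟩
            · induction i using Fin.lastCases with
              | last => simpa using hv
              | cast i => simpa using hb.1 i
            · induction i using Fin.lastCases with
              | last =>
                induction j using Fin.lastCases with
                | last => exact absurd rfl hij
                | cast j => simpa using hvb j
              | cast i =>
                induction j using Fin.lastCases with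
                | last => simpa using (H.eq_zero_symm hF).1 (hvb i)
                | cast j => simpa using hb.2 (fun e => hij (congrArg Fin.castSucc e))⟩
          left_inv := fun b => Subtype.ext (Fin.snoc_init_self b.1)
          right_inv := fun p =>
            Sigma.subtype_ext (Subtype.ext (Fin.init_snoc (α := fun _ => Fin n → F) p.2.1 p.1.1))
              (Fin.snoc_last (α := fun _ => Fin n → F) p.2.1 p.1.1) }
    rw [e, Nat.card_sigma, Finset.sum_congr rfl fun b _ => orthonormal_next hF (by omega) b.2 1,
      Finset.sum_const, smul_eq_mul, Finset.card_univ, ← Nat.card_eq_fintype_card, ih (by omega),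
      Finset.prod_range_succ]

theorem card_GU (hF : Fintype.card F = q ^ 2) (n : ℕ) :
    Nat.card (Cfsg.GU n F q) = q ^ (n * (n - 1) / 2) *
      ∏ i ∈ Finset.range n, (if Even i then q ^ (i + 1) + 1 else q ^ (i + 1) - 1) := by
  rw [Nat.card_congr (guEquivOrthonormal hF n), card_orthonormal hF n n le_rfl]
  rw [← Finset.prod_range_reflect (fun i => normCount (n - i) q (1 : F))]
  have : ∀ i ∈ Finset.range n, normCount (n - (n - 1 - i)) q (1 : F) =
      q ^ i * (if Even i then q ^ (i + 1) + 1 else q ^ (i + 1) - 1) := by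
    intro i hi
    rw [Finset.mem_range] at hi
    rw [show n - (n - 1 - i) = i + 1 by omega, normOne_count hF, Nat.add_sub_cancel]
    by_cases he : Even i
    · rw [if_pos he, if_neg (Nat.not_even_iff_odd.2 he.add_one)]
    · rw [if_neg he, if_pos (Nat.even_add_one.2 he)]
  rw [Finset.prod_congr rfl this, Finset.prod_mul_distrib, Finset.prod_pow_eq_pow_sum,
    Finset.sum_range_id]

theorem card_SU (hF : Fintype.card F = q ^ 2) (n : ℕ) (hn : 1 ≤ n) :
    (q + 1) * Nat.card (Cfsg.SU n F q) = q ^ (n * (n - 1) / 2) *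
      ∏ i ∈ Finset.range n, (if Even i then q ^ (i + 1) + 1 else q ^ (i + 1) - 1) := by
  rw [← card_GU_eq_succ_mul_card_SU hF hn, card_GU hF]

end Cfsg.Agent.Unitary
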