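import Cfsg.Agent.EqLemmas
/-
The quadratic extension F/K with |F| = q^2, K = {x | x^q = x}.
Main results (hF : Fintype.card F = q ^ 2 throughout):
* two_le_q, exists_prime_pow, add_pow_q, sub_pow_q, neg_pow_q, sum_pow_q, pow_q_pow_q, conjHom, fixedField
* card_norm_one: #{x | x^(q+1) = 1} = q+1;  exists_norm_eq: norm onto K;  card_norm_fibre
* exists_trace_eq: trace onto K;  card_trace_zero: #{x | x + x^q = 0} = q;  exists_skew: δ ≠ 0, δ^q = -δ
-/
set_option autoImplicit false

namespace Cfsg.Agent.Unitary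

variable {F : Type*} [Field F] [Fintype F] {q : ℕ}

theorem two_le_q (hF : Fintype.card F = q ^ 2) : 2 ≤ q := by
  have h : 1 < Fintype.card F := Fintype.one_lt_card
  rw [hF] at h
  by_contra hq
  interval_cases q <;> simp_all

theorem exists_prime_pow (hF : Fintype.card F = q ^ 2) :
    ∃ p m : ℕ, p.Prime ∧ CharP F p ∧ q = p ^ m ∧ 1 ≤ m := by
  obtain ⟨p, hchar⟩ := CharP.exists F
  obtain ⟨k, hp, hk⟩ := FiniteField.card F p
  obtain ⟨m, _, hm⟩ := (Nat.dvd_prime_pow hp).1 (⟨q, by rw [← hk, hF, sq]⟩ : q ∣ p ^ (k : ℕ))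
  refine ⟨p, m, hp, hchar, hm, ?_⟩
  rcases Nat.eq_zero_or_pos m with rfl | h
  · have := two_le_q hF
    simp at hm
    omega
  · exact h

theorem add_pow_q (hF : Fintype.card F = q ^ 2) (x y : F) : (x + y) ^ q = x ^ q + y ^ q := by
  obtain ⟨p, m, hp, hchar, rfl, _⟩ := exists_prime_pow hF
  have := Fact.mk hp
  exact add_pow_char_pow x y p m

/-- `x ↦ x^q` as a ring homomorphism. -/
def conjHom (hF : Fintype.card F = q ^ 2) : F →+* F where
  toFun x := x ^ q
  map_one' := one_pow q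
  map_mul' x y := mul_pow x y q
  map_zero' := zero_pow (by have := two_le_q hF; omega)
  map_add' x y := add_pow_q hF x y

@[simp] theorem conjHom_apply (hF : Fintype.card F = q ^ 2) (x : F) : conjHom hF x = x ^ q := rfl

theorem zero_pow_q (hF : Fintype.card F = q ^ 2) : (0 : F) ^ q = 0 := map_zero (conjHom hF)

theorem sub_pow_q (hF : Fintype.card F = q ^ 2) (x y : F) : (x - y) ^ q = x ^ q - y ^ q :=
  map_sub (conjHom hF) x y

theorem neg_pow_q (hF : Fintype.card F = q ^ 2) (x : F) : (-x) ^ q = -x ^ q :=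
  map_neg (conjHom hF) x

theorem sum_pow_q (hF : Fintype.card F = q ^ 2) {ι : Type*} (s : Finset ι) (f : ι → F) :
    (∑ i ∈ s, f i) ^ q = ∑ i ∈ s, (f i) ^ q :=
  map_sum (conjHom hF) f s

theorem pow_q_pow_q (hF : Fintype.card F = q ^ 2) (x : F) : (x ^ q) ^ q = x := by
  rw [← pow_mul, ← sq, ← hF, FiniteField.pow_card]

theorem pow_q_eq_zero (hF : Fintype.card F = q ^ 2) {x : F} : x ^ q = 0 ↔ x = 0 :=
  pow_eq_zero_iff (by have := two_le_q hF; omega)

theorem pow_q_injective (hF : Fintype.card F = q ^ 2) : Function.Injective (fun x : F => x ^ q) := by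
  intro a b h
  have h' := congrArg (fun y : F => y ^ q) h
  simpa [pow_q_pow_q hF] using h'

theorem conjHom_bijective (hF : Fintype.card F = q ^ 2) : Function.Bijective (conjHom hF) :=
  ⟨(conjHom hF).injective, fun x => ⟨x ^ q, pow_q_pow_q hF x⟩⟩

theorem pow_q_succ_fixed (hF : Fintype.card F = q ^ 2) (x : F) :
    (x ^ (q + 1)) ^ q = x ^ (q + 1) := by
  rw [pow_succ, mul_pow, pow_q_pow_q hF, mul_comm]

theorem trace_fixed (hF : Fintype.card F = q ^ 2) (x : F) : (x + x ^ q) ^ q = x + x ^ q := by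
  rw [add_pow_q hF, pow_q_pow_q hF, add_comm]

theorem card_units (hF : Fintype.card F = q ^ 2) : Nat.card Fˣ = q ^ 2 - 1 := by
  classical
  rw [Nat.card_eq_fintype_card, Fintype.card_units, hF]

theorem card_units_ker_pow (hF : Fintype.card F = q ^ 2) {d : ℕ} (hd : d ∣ q ^ 2 - 1) :
    Nat.card {u : Fˣ // u ^ d = 1} = d := by
  have h := IsCyclic.card_powMonoidHom_ker (G := Fˣ) d
  rw [card_units hF, Nat.gcd_eq_right hd] at h
  refine Eq.trans ?_ h
  exact Nat.card_congr (Equiv.subtypeEquivRight fun u => by simp [MonoidHom.mem_ker])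

theorem card_pow_eq_one (hF : Fintype.card F = q ^ 2) {d : ℕ} (hd0 : d ≠ 0) (hd : d ∣ q ^ 2 - 1) :
    Nat.card {x : F // x ^ d = 1} = d := by
  refine Eq.trans ?_ (card_units_ker_pow hF hd)
  refine Nat.card_congr
    { toFun := fun x => ⟨Units.mk0 x.1 fun h => by simpa [h, zero_pow hd0] using x.2, ?_⟩
      invFun := fun u => ⟨(u.1 : F), by rw [← Units.val_pow_eq_pow_val, u.2]; rfl⟩
      left_inv := fun x => rfl
      right_inv := fun u => Subtype.ext (Units.ext rfl) }
  ext
  simpa using x.2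

theorem q_succ_dvd (q : ℕ) : q + 1 ∣ q ^ 2 - 1 :=
  ⟨q - 1, by simpa using Nat.sq_sub_sq q 1⟩

theorem q_pred_dvd (q : ℕ) : q - 1 ∣ q ^ 2 - 1 :=
  ⟨q + 1, by rw [mul_comm]; simpa using Nat.sq_sub_sq q 1⟩

theorem card_norm_one (hF : Fintype.card F = q ^ 2) :
    Nat.card {x : F // x ^ (q + 1) = 1} = q + 1 :=
  card_pow_eq_one hF (Nat.succ_ne_zero q) (q_succ_dvd q)

theorem fixed_iff (hF : Fintype.card F = q ^ 2) {x : F} (hx : x ≠ 0) :
    x ^ q = x ↔ x ^ (q - 1) = 1 := by
  have hq := two_le_q hF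
  constructor
  · intro h
    apply mul_left_cancel₀ hx
    rw [← pow_succ', Nat.sub_add_cancel (by omega), mul_one, h]
  · intro h
    calc x ^ q = x ^ (q - 1) * x := by rw [← pow_succ, Nat.sub_add_cancel (by omega)]
      _ = x := by rw [h, one_mul]

theorem exists_norm_eq (hF : Fintype.card F = q ^ 2) {c : F} (hc : c ^ q = c) :
    ∃ x : F, x ^ (q + 1) = c := by
  rcases eq_or_ne c 0 with rfl | hc0
  · exact ⟨0, zero_pow (Nat.succ_ne_zero q)⟩
  have hq := two_le_q hF
  let φ : Fˣ →* Fˣ := powMonoidHom (q + 1)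
  let ψ : Fˣ →* Fˣ := powMonoidHom (q - 1)
  have hle : φ.range ≤ ψ.ker := by
    rintro _ ⟨u, rfl⟩
    show (u ^ (q + 1)) ^ (q - 1) = 1
    apply Units.ext
    have := (fixed_iff hF (pow_ne_zero (q + 1) u.ne_zero)).1 (pow_q_succ_fixed hF (u : F))
    simpa using this
  have hcard : Nat.card ψ.ker ≤ Nat.card φ.range := by
    rw [IsCyclic.card_powMonoidHom_ker, IsCyclic.card_powMonoidHom_range, card_units hF,
      Nat.gcd_eq_right (q_pred_dvd q), Nat.gcd_eq_right (q_succ_dvd q)]
    apply le_of_eq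
    rw [show q ^ 2 - 1 = (q + 1) * (q - 1) by simpa using Nat.sq_sub_sq q 1,
      Nat.mul_div_cancel_left _ (Nat.succ_pos q)]
  have heq := Subgroup.eq_of_le_of_card_ge hle hcard
  have hmem : Units.mk0 c hc0 ∈ ψ.ker := by
    show (Units.mk0 c hc0) ^ (q - 1) = 1
    apply Units.ext
    simpa using (fixed_iff hF hc0).1 hc
  rw [← heq] at hmem
  obtain ⟨u, hu⟩ := hmem
  exact ⟨u, by simpa [φ] using congrArg Units.val hu⟩

theorem card_norm_fibre (hF : Fintype.card F = q ^ 2) {c : F} (hc : c ^ q = c) (hc0 : c ≠ 0) :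
    Nat.card {x : F // x ^ (q + 1) = c} = q + 1 := by
  obtain ⟨x₀, hx₀⟩ := exists_norm_eq hF hc
  have hne : x₀ ≠ 0 := fun h => hc0 (by rw [← hx₀, h, zero_pow (Nat.succ_ne_zero q)])
  refine Eq.trans ?_ (card_norm_one hF)
  refine Nat.card_congr
    { toFun := fun x => ⟨x.1 / x₀, ?_⟩
      invFun := fun z => ⟨x₀ * z.1, ?_⟩
      left_inv := fun x => Subtype.ext (mul_div_cancel₀ _ hne)
      right_inv := fun z => Subtype.ext (mul_div_cancel_left₀ _ hne) }
  · rw [div_pow, x.2, hx₀, div_self hc0]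
  · rw [mul_pow, z.2, hx₀, mul_one]

theorem exists_skew (hF : Fintype.card F = q ^ 2) : ∃ d : F, d ≠ 0 ∧ d ^ q = -d := by
  have hq := two_le_q hF
  obtain ⟨t, ht⟩ : ∃ t : F, t ^ q ≠ t := by
    by_contra h
    simp only [not_exists, not_not] at h
    have hle : Nat.card Fˣ ≤ q - 1 := by
      have h2 : Nat.card {u : Fˣ // u ^ (q - 1) = 1} = q - 1 :=
        card_units_ker_pow hF (q_pred_dvd q)
      refine le_of_le_of_eq ?_ h2
      exact Nat.card_le_card_of_injective
        (fun u => ⟨u, Units.ext (by simpa using (fixed_iff hF u.ne_zero).1 (h u))⟩)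
        (fun a b hab => congrArg Subtype.val hab)
    rw [card_units hF] at hle
    have : q * 2 ≤ q ^ 2 := by rw [sq]; exact Nat.mul_le_mul_left q hq
    omega
  refine ⟨t - t ^ q, sub_ne_zero.2 (Ne.symm ht), ?_⟩
  rw [sub_pow_q hF, pow_q_pow_q hF, neg_sub]

/-- The fixed field of `x ↦ x^q`. -/
def fixedField (hF : Fintype.card F = q ^ 2) : Subfield F :=
  RingHom.eqLocusField (conjHom hF) (RingHom.id F)

theorem mem_fixedField (hF : Fintype.card F = q ^ 2) {x : F} : x ∈ fixedField hF ↔ x ^ q = x :=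
  Iff.rfl

theorem card_fixed (hF : Fintype.card F = q ^ 2) : Nat.card {x : F // x ^ q = x} = q := by
  classical
  have hq := two_le_q hF
  have h1 := card_pow_eq_one hF (d := q - 1) (by omega) (q_pred_dvd q)
  have h2 : ({x : F | x ^ q = x}) = insert 0 {x : F | x ^ (q - 1) = 1} := by
    ext x
    rcases eq_or_ne x 0 with rfl | hx
    · simp [zero_pow_q hF]
    · simp [hx, fixed_iff hF hx]
  calc Nat.card {x : F // x ^ q = x} = Set.ncard {x : F | x ^ q = x} :=
        Nat.card_coe_set_eq _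
    _ = q := by
        rw [h2, Set.ncard_insert_of_notMem (by simp [zero_pow (show q - 1 ≠ 0 by omega)])
          (Set.toFinite _), ← Nat.card_coe_set_eq]
        change Nat.card {x : F // x ^ (q - 1) = 1} + 1 = q
        rw [h1]
        omega

theorem card_fixedField (hF : Fintype.card F = q ^ 2) : Nat.card (fixedField hF) = q :=
  card_fixed hF

theorem card_trace_zero (hF : Fintype.card F = q ^ 2) :
    Nat.card {x : F // x + x ^ q = 0} = q := by
  obtain ⟨d, hd0, hd⟩ := exists_skew hF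
  refine Eq.trans ?_ (card_fixed hF)
  refine Nat.card_congr
    { toFun := fun x => ⟨x.1 / d, ?_⟩
      invFun := fun z => ⟨d * z.1, ?_⟩
      left_inv := fun x => Subtype.ext (mul_div_cancel₀ _ hd0)
      right_inv := fun z => Subtype.ext (mul_div_cancel_left₀ _ hd0) }
  · rw [div_pow, hd, eq_neg_of_add_eq_zero_right x.2, neg_div_neg_eq]
  · rw [mul_pow, hd, z.2]; ring

/-- The trace as an additive homomorphism onto the fixed field. -/
def traceHom (hF : Fintype.card F = q ^ 2) : F →+ fixedField hF where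
  toFun x := ⟨x + x ^ q, trace_fixed hF x⟩
  map_zero' := Subtype.ext (by simp [zero_pow_q hF])
  map_add' x y := Subtype.ext (by simp [add_pow_q hF]; ring)

theorem exists_trace_eq (hF : Fintype.card F = q ^ 2) {c : F} (hc : c ^ q = c) :
    ∃ x : F, x + x ^ q = c := by
  have hq := two_le_q hF
  have hker : Nat.card (traceHom hF).ker = q := by
    refine Eq.trans ?_ (card_trace_zero hF)
    refine Nat.card_congr (Equiv.subtypeEquivRight fun x => ?_)
    simp [AddMonoidHom.mem_ker, traceHom, Subtype.ext_iff]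
  have h := AddSubgroup.card_mul_index (traceHom hF).ker
  rw [hker, AddSubgroup.index_ker, Nat.card_eq_fintype_card (α := F), hF, sq] at h
  have hr : Nat.card (traceHom hF).range = Nat.card (fixedField hF) := by
    rw [card_fixedField hF]
    exact Nat.eq_of_mul_eq_mul_left (by omega) h
  have htop := AddSubgroup.eq_top_of_card_eq _ hr
  have hm : (⟨c, hc⟩ : fixedField hF) ∈ (traceHom hF).range := by rw [htop]; trivial
  obtain ⟨x, hx⟩ := hm
  exact ⟨x, congrArg Subtype.val hx⟩

end Cfsg.Agent.Unitary
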