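import Cfsg.Agent.Lib.Unitary.Witt
/-
SU is generated by transvections, for (n,q) ≠ (3,2).
* suAct g x = g *ᵥ x and its rules; transvectionGroup; Moves
* eichler_mem: the map x ↦ x + h(x,r) y - h(x,y) r is a product of transvections
* moves_norm_one: products of transvections are transitive on norm-one vectors, fixing an orthonormal family
* transvectionGroup_eq_top
-/
set_option autoImplicit false

namespace Cfsg.Agent.Unitary

open scoped Matrix

variable {F : Type*} [Field F] {q n : ℕ}

/-- An element of SU applied to a vector. -/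
def suAct (g : Cfsg.SU n F q) (x : Fin n → F) : Fin n → F :=
  ((g : Matrix.SpecialLinearGroup (Fin n) F) : Matrix (Fin n) (Fin n) F) *ᵥ x

@[simp] theorem suAct_one (x : Fin n → F) : suAct (1 : Cfsg.SU n F q) x = x := by simp [suAct]

theorem suAct_mul (g h : Cfsg.SU n F q) (x : Fin n → F) : suAct (g * h) x = suAct g (suAct h x) := by
  simp [suAct, Matrix.mulVec_mulVec]

theorem suAct_add (g : Cfsg.SU n F q) (x y : Fin n → F) : suAct g (x + y) = suAct g x + suAct g y :=
  Matrix.mulVec_add _ _ _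

theorem suAct_sub (g : Cfsg.SU n F q) (x y : Fin n → F) : suAct g (x - y) = suAct g x - suAct g y :=
  Matrix.mulVec_sub _ _ _

theorem suAct_smul (g : Cfsg.SU n F q) (c : F) (x : Fin n → F) : suAct g (c • x) = c • suAct g x :=
  Matrix.mulVec_smul _ _ _

theorem suAct_zero (g : Cfsg.SU n F q) : suAct g 0 = 0 := Matrix.mulVec_zero _

theorem suAct_herm (g : Cfsg.SU n F q) (x y : Fin n → F) :
    Cfsg.hermForm n F q (suAct g x) (suAct g y) = Cfsg.hermForm n F q x y := g.2 x y

theorem suAct_inv_suAct (g : Cfsg.SU n F q) (x : Fin n → F) : suAct g⁻¹ (suAct g x) = x := by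
  rw [← suAct_mul, inv_mul_cancel, suAct_one]

theorem suAct_suAct_inv (g : Cfsg.SU n F q) (x : Fin n → F) : suAct g (suAct g⁻¹ x) = x := by
  rw [← suAct_mul, mul_inv_cancel, suAct_one]

theorem suAct_ext {g h : Cfsg.SU n F q} (H : ∀ x, suAct g x = suAct h x) : g = h :=
  Subtype.ext (Subtype.ext (Matrix.ext_iff_mulVec.2 H))

/-- The subgroup of SU generated by the unitary transvections. -/
def transvectionGroup (n : ℕ) (F : Type*) [Field F] (q : ℕ) : Subgroup (Cfsg.SU n F q) :=
  Subgroup.closure {A : ↥(Cfsg.SU n F q) | ∃ (v : Fin n → F) (c : F),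
    Cfsg.hermForm n F q v v = 0 ∧
      ((A : Matrix.SpecialLinearGroup (Fin n) F) : Matrix (Fin n) (Fin n) F) =
        Cfsg.unitaryTransvection n q v c}

/-- Some product of transvections fixes `E` and maps `u` to `w`. -/
def Moves (q : ℕ) (E : Set (Fin n → F)) (u w : Fin n → F) : Prop :=
  ∃ t ∈ transvectionGroup n F q, (∀ x ∈ E, suAct t x = x) ∧ suAct t u = w

theorem Moves.trans {E : Set (Fin n → F)} {u v w : Fin n → F} (h₁ : Moves q E u v)
    (h₂ : Moves q E v w) : Moves q E u w := by
  obtain ⟨t, ht, htE, rfl⟩ := h₁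
  obtain ⟨s, hs, hsE, rfl⟩ := h₂
  exact ⟨s * t, mul_mem hs ht, fun x hx => by rw [suAct_mul, htE x hx, hsE x hx], suAct_mul s t u⟩

theorem Moves.mono {E E' : Set (Fin n → F)} {u w : Fin n → F} (hE : E ⊆ E') (h : Moves q E' u w) :
    Moves q E u w := by
  obtain ⟨t, ht, htE, h⟩ := h
  exact ⟨t, ht, fun x hx => htE x (hE hx), h⟩

variable [Fintype F]

theorem suTransvection_mem (hF : Fintype.card F = q ^ 2) (v : Fin n → F)
    (hv : Cfsg.hermForm n F q v v = 0) (c : F) (hc : c + c ^ q = 0) :
    suTransvection hF v hv c hc ∈ transvectionGroup n F q :=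
  Subgroup.subset_closure ⟨v, c, hv, rfl⟩

theorem suAct_suTransvection (hF : Fintype.card F = q ^ 2) (v x : Fin n → F)
    (hv : Cfsg.hermForm n F q v v = 0) (c : F) (hc : c + c ^ q = 0) :
    suAct (suTransvection hF v hv c hc) x = x + (c * Cfsg.hermForm n F q x v) • v :=
  transvection_mulVec v x c

section Plane

variable (hF : Fintype.card F = q ^ 2) {r s : Fin n → F} {E : Set (Fin n → F)}
include hF

/-- The norm of a vector in a hyperbolic plane. -/
theorem herm_plane (hr : Cfsg.hermForm n F q r r = 0) (hs : Cfsg.hermForm n F q s s = 0)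
    (hrs : Cfsg.hermForm n F q r s = 1) (a b : F) :
    Cfsg.hermForm n F q (a • r + b • s) (a • r + b • s) = a * b ^ q + (a * b ^ q) ^ q := by
  have H := hermForm_isHerm hF n
  have hsr : Cfsg.hermForm n F q s r = 1 := by rw [H.conj_symm r s, hrs, one_pow]
  simp only [H.add_left, H.add_right hF, H.smul_left, H.smul_right, hr, hs, hrs, hsr, mul_pow,
    pow_q_pow_q hF]
  ring

theorem moves_plane_step (hr : Cfsg.hermForm n F q r r = 0)
    (hrs : Cfsg.hermForm n F q r s = 1) (hEr : ∀ x ∈ E, Cfsg.hermForm n F q x r = 0)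
    {a a' b : F} (h : a * b ^ q + (a * b ^ q) ^ q = 1) (h' : a' * b ^ q + (a' * b ^ q) ^ q = 1) :
    Moves q E (a • r + b • s) (a' • r + b • s) := by
  have H := hermForm_isHerm hF n
  have hb : b ≠ 0 := fun e => by simp [e, zero_pow_q hF] at h
  have hsr : Cfsg.hermForm n F q s r = 1 := by rw [H.conj_symm r s, hrs, one_pow]
  let c : F := (a' - a) / b
  have hc : c + c ^ q = 0 := by
    have hN : (b ^ (q + 1)) ^ q = b ^ (q + 1) := pow_q_succ_fixed hF b
    have e : c = (a' * b ^ q - a * b ^ q) / b ^ (q + 1) := by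
      simp only [c, pow_succ]
      field_simp
    rw [e, div_pow, sub_pow_q hF, hN, ← add_div]
    rw [show a' * b ^ q - a * b ^ q + ((a' * b ^ q) ^ q - (a * b ^ q) ^ q) =
      (a' * b ^ q + (a' * b ^ q) ^ q) - (a * b ^ q + (a * b ^ q) ^ q) by ring, h, h', sub_self,
      zero_div]
  refine ⟨suTransvection hF r hr c hc, suTransvection_mem hF r hr c hc, fun x hx => ?_, ?_⟩
  · rw [suAct_suTransvection, hEr x hx, mul_zero, zero_smul, add_zero]
  · rw [suAct_suTransvection, H.add_left, H.smul_left, H.smul_left, hr, hsr, mul_zero, zero_add,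
      mul_one, div_mul_cancel₀ _ hb]
    module

/-- Two independent trace conditions can be met at once. -/
theorem exists_trace_pair {b b' : F} (hb : b ≠ 0) (hbb : (b' / b) ^ q ≠ b' / b) :
    ∃ a : F, a * b ^ q + (a * b ^ q) ^ q = 1 ∧ a * b' ^ q + (a * b' ^ q) ^ q = 1 := by
  let f : F →+ fixedField hF × fixedField hF :=
    ((traceHom hF).comp (AddMonoidHom.mulRight (b ^ q))).prod
      ((traceHom hF).comp (AddMonoidHom.mulRight (b' ^ q)))
  have hinj : Function.Injective f := by
    rw [injective_iff_map_eq_zero]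
    intro a ha
    by_contra ha0
    simp only [f, AddMonoidHom.prod_apply, AddMonoidHom.comp_apply, AddMonoidHom.coe_mulRight,
      Prod.mk_eq_zero, traceHom, AddMonoidHom.coe_mk, ZeroHom.coe_mk, Subtype.ext_iff] at ha
    obtain ⟨h1, h2⟩ := ha
    change a * b ^ q + (a * b ^ q) ^ q = 0 at h1
    change a * b' ^ q + (a * b' ^ q) ^ q = 0 at h2
    rw [mul_pow, pow_q_pow_q hF] at h1 h2
    apply hbb
    have hbq : b ^ q ≠ 0 := pow_ne_zero _ hb
    rw [div_pow, div_eq_div_iff hbq hb]
    have haq : a ^ q ≠ 0 := pow_ne_zero _ ha0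
    apply mul_left_cancel₀ (mul_ne_zero ha0 haq)
    linear_combination (a ^ q * b) * h2 - (a ^ q * b') * h1
  have hbij : Function.Bijective f := by
    refine (Nat.bijective_iff_injective_and_card f).2 ⟨hinj, ?_⟩
    rw [Nat.card_prod, card_fixedField hF, Nat.card_eq_fintype_card, hF, sq]
  obtain ⟨a, ha⟩ := hbij.2 (1, 1)
  exact ⟨a, congrArg Subtype.val (congrArg Prod.fst ha), congrArg Subtype.val (congrArg Prod.snd ha)⟩

theorem moves_plane (hr : Cfsg.hermForm n F q r r = 0) (hs : Cfsg.hermForm n F q s s = 0)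
    (hrs : Cfsg.hermForm n F q r s = 1) (hEr : ∀ x ∈ E, Cfsg.hermForm n F q x r = 0)
    (hEs : ∀ x ∈ E, Cfsg.hermForm n F q x s = 0)
    {a b a' b' : F} (h : a * b ^ q + (a * b ^ q) ^ q = 1)
    (h' : a' * b' ^ q + (a' * b' ^ q) ^ q = 1) :
    Moves q E (a • r + b • s) (a' • r + b' • s) := by
  have hsr : Cfsg.hermForm n F q s r = 1 := by
    rw [(hermForm_isHerm hF n).conj_symm r s, hrs, one_pow]
  have swap : ∀ x y : F, x * y ^ q + (x * y ^ q) ^ q = y * x ^ q + (y * x ^ q) ^ q := fun x y => by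
    simp only [mul_pow, pow_q_pow_q hF]; ring
  have key : ∀ x y x' y' : F, x * y ^ q + (x * y ^ q) ^ q = 1 →
      x' * y' ^ q + (x' * y' ^ q) ^ q = 1 → (y' / y) ^ q ≠ y' / y →
      Moves q E (x • r + y • s) (x' • r + y' • s) := by
    intro x y x' y' hxy hxy' hne
    have hy : y ≠ 0 := fun e => by simp [e, zero_pow_q hF] at hxy
    obtain ⟨z, hz, hz'⟩ := exists_trace_pair hF hy hne
    refine (moves_plane_step hF hr hrs hEr hxy hz).trans
      (Moves.trans ?_ (moves_plane_step hF hr hrs hEr hz' hxy'))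
    rw [add_comm (z • r), add_comm (z • r)]
    exact moves_plane_step hF hs hsr hEs ((swap y z).trans hz) ((swap y' z).trans hz')
  by_cases hne : (b' / b) ^ q = b' / b
  · have hb : b ≠ 0 := fun e => by simp [e, zero_pow_q hF] at h
    have hb' : b' ≠ 0 := fun e => by simp [e, zero_pow_q hF] at h'
    obtain ⟨t, ht⟩ : ∃ t : F, t ^ q ≠ t := by
      by_contra hc
      simp only [not_exists, not_not] at hc
      exact conjHom_ne_id hF (RingHom.ext hc)
    have ht0 : t ≠ 0 := fun e => ht (by rw [e, zero_pow_q hF])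
    obtain ⟨x, hx⟩ := exists_trace_eq hF (c := (1 : F)) (one_pow q)
    have h3 : x / (b * t) ^ q * (b * t) ^ q + (x / (b * t) ^ q * (b * t) ^ q) ^ q = 1 := by
      rw [div_mul_cancel₀ _ (pow_ne_zero _ (mul_ne_zero hb ht0))]; exact hx
    refine (key a b _ (b * t) h h3 ?_).trans (key _ (b * t) a' b' h3 h' ?_)
    · rwa [mul_div_cancel_left₀ _ hb]
    · rw [← div_div, div_pow, hne]
      intro e
      apply ht
      rw [div_eq_div_iff (pow_ne_zero _ ht0) ht0] at e
      exact (mul_left_cancel₀ (div_ne_zero hb' hb) e).symm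
  · exact key a b a' b' h h' hne

end Plane

/-- Transitivity on the norm-one vectors of the plane spanned by two orthonormal vectors. -/
theorem moves_orth (hF : Fintype.card F = q ^ 2) {E : Set (Fin n → F)} {u u' : Fin n → F}
    (hu : Cfsg.hermForm n F q u u = 1) (hu' : Cfsg.hermForm n F q u' u' = 1)
    (huu' : Cfsg.hermForm n F q u u' = 0) (hEu : ∀ x ∈ E, Cfsg.hermForm n F q x u = 0)
    (hEu' : ∀ x ∈ E, Cfsg.hermForm n F q x u' = 0) {α β : F}
    (hw : Cfsg.hermForm n F q (α • u + β • u') (α • u + β • u') = 1) :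
    Moves q E u (α • u + β • u') := by
  have H := hermForm_isHerm hF n
  obtain ⟨ε, hε⟩ := exists_eps hF
  have hε0 : ε ≠ 0 := fun h => by simp [h] at hε
  have hu'u : Cfsg.hermForm n F q u' u = 0 := (H.eq_zero_symm hF).1 huu'
  obtain ⟨l, hl⟩ := exists_trace_eq hF (c := (-1 : F)) (by rw [neg_pow_q hF, one_pow])
  let r := u + ε • u'
  have hr : Cfsg.hermForm n F q r r = 0 := by
    simp only [r, H.add_left, H.add_right hF, H.smul_left, H.smul_right, hu, hu', huu', hu'u]
    linear_combination hε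
  have hru : Cfsg.hermForm n F q r u = 1 := by
    simp [r, H.add_left, H.smul_left, hu, hu'u]
  have hur : Cfsg.hermForm n F q u r = 1 := by rw [H.conj_symm r u, hru, one_pow]
  let s := u + l • r
  have hs : Cfsg.hermForm n F q s s = 0 := by
    simp only [s, H.add_left, H.add_right hF, H.smul_left, H.smul_right, hr, hru, hur, hu]
    linear_combination hl
  have hrs : Cfsg.hermForm n F q r s = 1 := by
    simp [s, H.add_right hF, H.smul_right, hr, hru]
  have hEr : ∀ x ∈ E, Cfsg.hermForm n F q x r = 0 := fun x hx => by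
    simp [r, H.add_right hF, H.smul_right, hEu x hx, hEu' x hx]
  have hEs : ∀ x ∈ E, Cfsg.hermForm n F q x s = 0 := fun x hx => by
    simp [s, H.add_right hF, H.smul_right, hEu x hx, hEr x hx]
  have e1 : u = (-l) • r + (1 : F) • s := by simp only [s]; module
  have e2 : α • u + β • u' = (β / ε - l * (α - β / ε)) • r + (α - β / ε) • s := by
    have h2 : β • u' = (β / ε) • (r - u) := by
      simp only [r, add_sub_cancel_left, smul_smul, div_mul_cancel₀ _ hε0]
    rw [h2]; simp only [s]; module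
  have h1 := herm_plane hF hr hs hrs (-l) 1
  rw [← e1, hu] at h1
  have h2 := herm_plane hF hr hs hrs (β / ε - l * (α - β / ε)) (α - β / ε)
  rw [← e2, hw] at h2
  rw [e2]
  conv => arg 3; rw [e1]
  exact moves_plane hF hr hs hrs hEr hEs h1.symm h2.symm

/-- For isotropic orthogonal `r`, `y` the Eichler map is a product of three transvections. -/
theorem eichler_mem (hF : Fintype.card F = q ^ 2) {r y : Fin n → F}
    (hr : Cfsg.hermForm n F q r r = 0) (hy : Cfsg.hermForm n F q y y = 0)
    (hry : Cfsg.hermForm n F q r y = 0) :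
    ∃ t ∈ transvectionGroup n F q, ∀ x,
      suAct t x = x + Cfsg.hermForm n F q x r • y - Cfsg.hermForm n F q x y • r := by
  have H := hermForm_isHerm hF n
  obtain ⟨δ, hδ0, hδ⟩ := exists_skew hF
  have hyr : Cfsg.hermForm n F q y r = 0 := (H.eq_zero_symm hF).1 hry
  let v := r + δ⁻¹ • y
  have hv : Cfsg.hermForm n F q v v = 0 := by
    simp [v, H.add_left, H.add_right hF, H.smul_left, H.smul_right, hr, hy, hry, hyr]
  have hc1 : δ + δ ^ q = 0 := by rw [hδ, add_neg_cancel]
  have hc2 : -δ + (-δ) ^ q = 0 := by rw [neg_pow_q hF, hδ]; ring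
  have hc3 : -δ * δ⁻¹ ^ (q + 1) + (-δ * δ⁻¹ ^ (q + 1)) ^ q = 0 := by
    rw [mul_pow, pow_q_succ_fixed hF, neg_pow_q hF, hδ]; ring
  refine ⟨suTransvection hF v hv δ hc1 * (suTransvection hF r hr (-δ) hc2 *
    suTransvection hF y hy (-δ * δ⁻¹ ^ (q + 1)) hc3),
    mul_mem (suTransvection_mem hF v hv δ hc1) (mul_mem (suTransvection_mem hF r hr _ hc2)
      (suTransvection_mem hF y hy _ hc3)), fun x => ?_⟩
  have hvr : Cfsg.hermForm n F q v r = 0 := by simp [v, H.add_left, H.smul_left, hr, hyr]
  have hvy : Cfsg.hermForm n F q v y = 0 := by simp [v, H.add_left, H.smul_left, hy, hry]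
  simp only [suAct_mul, suAct_suTransvection, H.add_left, H.smul_left,
    hyr, mul_zero, add_zero, v, H.add_right hF, H.smul_right, hr, hy, hry]
  have e1 : δ⁻¹ ^ q = -δ⁻¹ := by rw [inv_pow, hδ, inv_neg]
  rw [pow_succ, e1]
  match_scalars <;> field_simp <;> ring

/-- For n ≥ 4, `u` and `u + r` are related when r is isotropic and orthogonal to u. -/
theorem moves_eichler (hF : Fintype.card F = q ^ 2) (hn : 4 ≤ n) {u r : Fin n → F}
    (hu : Cfsg.hermForm n F q u u = 1) (hr : Cfsg.hermForm n F q r r = 0)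
    (hur : Cfsg.hermForm n F q u r = 0) :
    Moves q {x | Cfsg.hermForm n F q x u = 0 ∧ Cfsg.hermForm n F q x r = 0} u (u + r) := by
  have H := hermForm_isHerm hF n
  rcases eq_or_ne r 0 with rfl | hr0
  · exact ⟨1, one_mem _, fun x _ => suAct_one x, by simp⟩
  have hru : Cfsg.hermForm n F q r u = 0 := (H.eq_zero_symm hF).1 hur
  obtain ⟨ε, hε⟩ := exists_eps hF
  obtain ⟨ζ, hζ, hord⟩ := exists_norm_one_gen hF
  have hb : Orthonormal (Cfsg.hermForm n F q) (fun _ : Fin 1 => u) :=
    ⟨fun _ => hu, fun i j hij => absurd (Subsingleton.elim i j) hij⟩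
  obtain ⟨a, a', hA, rfl⟩ := isotropic_split hF hb hr0 hr (fun _ => hru) hε
  obtain ⟨z, hz, hzA⟩ := exists_orthonormal_step hF H (hermForm_nondeg hF n) hA
    (show 3 < _ by rw [Module.finrank_fin_fun]; omega)
  have hza' : Cfsg.hermForm n F q a' z = 0 := by
    simpa only [Fin.snoc_castSucc, Fin.snoc_last] using hzA (Fin.last (1 + 1))
  have hza : Cfsg.hermForm n F q a z = 0 := by
    simpa only [Fin.snoc_castSucc, Fin.snoc_last] using hzA (Fin.castSucc (Fin.last 1))
  have hzu : Cfsg.hermForm n F q u z = 0 := by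
    simpa only [Fin.snoc_castSucc, Fin.snoc_last] using hzA (Fin.castSucc (Fin.castSucc (0 : Fin 1)))
  have hrz : Cfsg.hermForm n F q (a + ε • a') z = 0 := by
    simp [H.add_left, H.smul_left, hza, hza']
  generalize a + ε • a' = r at hr hur hru hr0 hrz ⊢
  have hzu' : Cfsg.hermForm n F q z u = 0 := (H.eq_zero_symm hF).1 hzu
  -- two different elements of norm -1
  have hε0 : ε ≠ 0 := fun h => by simp [h] at hε
  let ε' := ζ * ε
  have hε' : ε' ^ (q + 1) = -1 := by simp [ε', mul_pow, hζ, hε]
  have hne : ε - ε' ≠ 0 := by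
    intro h
    have : ζ = 1 := mul_right_cancel₀ hε0 (by rw [one_mul]; exact (sub_eq_zero.1 h).symm)
    rw [this, orderOf_one] at hord
    have := two_le_q hF
    omega
  let y1 := (ε' / (ε - ε')) • (u + ε • z)
  let y2 := (-ε / (ε - ε')) • (u + ε' • z)
  have hiso : ∀ e : F, e ^ (q + 1) = -1 →
      Cfsg.hermForm n F q (u + e • z) (u + e • z) = 0 := by
    intro e he
    simp only [H.add_left, H.add_right hF, H.smul_left, H.smul_right, hu, hz, hzu, hzu']
    linear_combination he
  have hy1 : Cfsg.hermForm n F q y1 y1 = 0 := by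
    simp only [y1, H.smul_left, H.smul_right, hiso ε hε, mul_zero]
  have hy2 : Cfsg.hermForm n F q y2 y2 = 0 := by
    simp only [y2, H.smul_left, H.smul_right, hiso ε' hε', mul_zero]
  have hry1 : Cfsg.hermForm n F q r y1 = 0 := by
    simp [y1, H.smul_right, H.add_right hF, hru, hrz]
  have hry2 : Cfsg.hermForm n F q r y2 = 0 := by
    simp [y2, H.smul_right, H.add_right hF, hru, hrz]
  have hsum : y1 + y2 = -u := by
    simp only [y1, y2]
    match_scalars <;> field_simp <;> ring
  obtain ⟨t1, ht1, h1⟩ := eichler_mem hF hr hy1 hry1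
  obtain ⟨t2, ht2, h2⟩ := eichler_mem hF hr hy2 hry2
  have key : ∀ x, Cfsg.hermForm n F q x r = 0 →
      suAct (t1 * t2) x = x + Cfsg.hermForm n F q x u • r := by
    intro x hx
    have e : Cfsg.hermForm n F q x y1 + Cfsg.hermForm n F q x y2 = -Cfsg.hermForm n F q x u := by
      rw [← H.add_right hF, hsum, H.neg_right hF]
    rw [suAct_mul, h2, hx, zero_smul, add_zero, suAct_sub, suAct_smul, h1, h1, hx, hr, hry1]
    have : Cfsg.hermForm n F q x u =
        -(Cfsg.hermForm n F q x y1 + Cfsg.hermForm n F q x y2) := by rw [e, neg_neg]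
    rw [this]; module
  refine ⟨t1 * t2, mul_mem ht1 ht2, fun x hx => ?_, ?_⟩
  · rw [key x hx.2, hx.1, zero_smul, add_zero]
  · rw [key u hur, hu, one_smul]

/-- Products of transvections are transitive on norm-one vectors orthogonal to an orthonormal family. -/
theorem moves_norm_one (hF : Fintype.card F = q ^ 2) (hn : 4 ≤ n ∨ (n = 3 ∧ 3 ≤ q) ∨ n ≤ 2)
    {k : ℕ} (hk : k + 2 ≤ n) {b : Fin k → (Fin n → F)} (hb : Orthonormal (Cfsg.hermForm n F q) b)
    {u w : Fin n → F} (hu : Cfsg.hermForm n F q u u = 1) (hw : Cfsg.hermForm n F q w w = 1)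
    (hub : ∀ i, Cfsg.hermForm n F q (b i) u = 0) (hwb : ∀ i, Cfsg.hermForm n F q (b i) w = 0) :
    Moves q (Set.range b) u w := by
  have H := hermForm_isHerm hF n
  -- the non-degenerate case
  have nondeg : ∀ (E : Set (Fin n → F)) (u w : Fin n → F), Cfsg.hermForm n F q u u = 1 →
      Cfsg.hermForm n F q w w = 1 → (∀ x ∈ E, Cfsg.hermForm n F q x u = 0) →
      (∀ x ∈ E, Cfsg.hermForm n F q x w = 0) → Cfsg.hermForm n F q w u ^ (q + 1) ≠ 1 →
      Moves q E u w := by
    intro E u w hu hw hEu hEw hα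
    have huw : Cfsg.hermForm n F q u w = Cfsg.hermForm n F q w u ^ q := H.conj_symm w u
    generalize hαdef : Cfsg.hermForm n F q w u = α at hα huw
    have hnorm : Cfsg.hermForm n F q (w - α • u) (w - α • u) = 1 - α ^ (q + 1) := by
      simp only [H.sub_left, H.sub_right hF, H.smul_left, H.smul_right, hu, hw, hαdef, huw]
      ring
    obtain ⟨β, hβ⟩ := exists_norm_eq hF (c := 1 - α ^ (q + 1))
      (by rw [← hnorm]; exact H.self_fixed _)
    have hβ0 : β ≠ 0 := fun h => hα (by
      rw [h, zero_pow (Nat.succ_ne_zero q)] at hβ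
      exact (sub_eq_zero.1 hβ.symm).symm)
    have e : w = α • u + β • (β⁻¹ • (w - α • u)) := by
      rw [smul_inv_smul₀ hβ0, add_sub_cancel]
    rw [e]
    refine moves_orth hF hu ?_ ?_ hEu (fun x hx => ?_) (by rw [← e]; exact hw)
    · rw [H.smul_left, H.smul_right, hnorm, ← hβ, ← mul_assoc, ← pow_succ', ← mul_pow,
        inv_mul_cancel₀ hβ0, one_pow]
    · simp [H.smul_right, H.sub_right hF, hu, huw]
    · simp [H.smul_right, H.sub_right hF, hEu x hx, hEw x hx]
  have scal : ∀ (u : Fin n → F) (α : F), Cfsg.hermForm n F q u u = 1 →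
      (∀ i, Cfsg.hermForm n F q (b i) u = 0) → α ^ (q + 1) = 1 → Moves q (Set.range b) u (α • u) := by
    intro u α hu hub hα
    obtain ⟨z, hz, hzA⟩ := exists_orthonormal_step hF H (hermForm_nondeg hF n) (hb.snoc hF hu hub)
      (by rw [Module.finrank_fin_fun]; omega)
    have e : α • u = α • u + (0 : F) • z := by simp
    rw [e]
    refine moves_orth hF hu hz (by simpa using hzA (Fin.last k)) ?_ ?_ ?_
    · rintro _ ⟨i, rfl⟩; exact hub i
    · rintro _ ⟨i, rfl⟩; simpa using hzA (Fin.castSucc i)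
    · rw [← e, H.smul_left, H.smul_right, hu, mul_one, ← pow_succ', hα]
  by_cases hα : Cfsg.hermForm n F q w u ^ (q + 1) = 1
  swap
  · refine nondeg _ u w hu hw ?_ ?_ hα
    · rintro _ ⟨i, rfl⟩; exact hub i
    · rintro _ ⟨i, rfl⟩; exact hwb i
  have huw : Cfsg.hermForm n F q u w = Cfsg.hermForm n F q w u ^ q := H.conj_symm w u
  generalize hαdef : Cfsg.hermForm n F q w u = α at hα huw
  have hα0 : α ≠ 0 := fun h => by simp [h] at hα
  let r := α⁻¹ • (w - α • u)
  have hweq : w = α • (u + r) := by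
    simp only [r, smul_add, smul_inv_smul₀ hα0, add_sub_cancel]
  have hr : Cfsg.hermForm n F q r r = 0 := by
    simp only [r, H.smul_left, H.smul_right, H.sub_left, H.sub_right hF, hu, hw, hαdef, huw]
    rw [show (1 : F) - α ^ q * α - α * (α ^ q - α ^ q * 1) = 1 - α ^ (q + 1) by ring, hα,
      sub_self, mul_zero, mul_zero]
  have hru : Cfsg.hermForm n F q r u = 0 := by
    simp [r, H.smul_left, H.sub_left, hu, hαdef]
  have hur : Cfsg.hermForm n F q u r = 0 := (H.eq_zero_symm hF).1 hru
  have hbr : ∀ i, Cfsg.hermForm n F q (b i) r = 0 := fun i => by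
    simp [r, H.smul_right, H.sub_right hF, hub i, hwb i]
  by_cases hr0 : r = 0
  · rw [hweq, hr0, add_zero]
    exact scal u α hu hub hα
  have hroom := isotropic_room hF (hb.snoc hF hu hub) hr0 hr (fun i => by
    induction i using Fin.lastCases with
    | last => simpa using hru
    | cast i => simpa using (H.eq_zero_symm hF).1 (hbr i))
  rcases hn with hn4 | ⟨rfl, hq3⟩ | hn2
  · refine ((moves_eichler hF hn4 hu hr hur).mono ?_).trans ?_
    · rintro _ ⟨i, rfl⟩; exact ⟨hub i, hbr i⟩
    · rw [hweq]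
      refine scal (u + r) α ?_ (fun i => by simp [H.add_right hF, hub i, hbr i]) hα
      simp [H.add_left, H.add_right hF, hu, hr, hur, hru]
  · -- n = 3, q ≥ 3
    obtain rfl : k = 0 := by omega
    obtain ⟨t, ht, ht0, ht1⟩ : ∃ t : F, t ^ q = t ∧ t ≠ 0 ∧ t ≠ 1 := by
      by_contra hc
      simp only [not_exists, not_and, not_not] at hc
      have h1 := card_fixed hF
      have h2 : Nat.card {x : F // x ^ q = x} ≤ Nat.card Bool := by
        classical
        refine Nat.card_le_card_of_injective (fun x => decide (x.1 = 0)) fun x y hxy => ?_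
        simp only [decide_eq_decide] at hxy
        apply Subtype.ext
        by_cases hx : x.1 = 0
        · rw [hx, hxy.1 hx]
        · rw [hc x.1 x.2 hx, hc y.1 y.2 (fun h => hx (hxy.2 h))]
      rw [h1] at h2
      simp at h2
      omega
    obtain ⟨γ, hγ⟩ := exists_norm_eq hF ht
    have hγ0 : γ ≠ 0 := fun h => ht0 (by rw [← hγ, h, zero_pow (Nat.succ_ne_zero q)])
    obtain ⟨ε, hε⟩ := exists_eps hF
    have hb1 : Orthonormal (Cfsg.hermForm 3 F q) (fun _ : Fin 1 => u) :=
      ⟨fun _ => hu, fun i j hij => absurd (Subsingleton.elim i j) hij⟩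
    obtain ⟨a, a', hA, hsplit⟩ := isotropic_split hF hb1 (v := γ • r) (smul_ne_zero hγ0 hr0)
      (by simp [H.smul_left, H.smul_right, hr]) (fun _ => by simp [H.smul_left, hru]) hε
    have haa : Cfsg.hermForm 3 F q a a = 1 := by
      simpa only [Fin.snoc_castSucc, Fin.snoc_last] using hA.1 (Fin.castSucc (Fin.last 1))
    have hau : Cfsg.hermForm 3 F q a u = 0 := by
      simpa only [Fin.snoc_castSucc, Fin.snoc_last] using hA.2 (show Fin.castSucc (Fin.last 1) ≠ Fin.castSucc (Fin.castSucc (0 : Fin 1))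
        from fun h => by simp [Fin.ext_iff] at h)
    have ha'a : Cfsg.hermForm 3 F q a' a = 0 := by
      simpa only [Fin.snoc_castSucc, Fin.snoc_last] using hA.2 (show Fin.last (1 + 1) ≠ Fin.castSucc (Fin.last 1)
        from fun h => by simp [Fin.ext_iff] at h)
    have hra : γ * Cfsg.hermForm 3 F q r a = 1 := by
      rw [← H.smul_left, hsplit, H.add_left, H.smul_left, haa, ha'a, mul_zero, add_zero]
    have hE : ∀ (v : Fin 3 → F), ∀ x ∈ Set.range b, Cfsg.hermForm 3 F q x v = 0 := by
      rintro v _ ⟨i, rfl⟩; exact i.elim0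
    refine (nondeg _ u a hu haa (hE _) (hE _) ?_).trans (nondeg _ a w haa hw (hE _) (hE _) ?_)
    · simp [hau]
    · intro h
      rw [hweq, H.smul_left, H.add_left, (H.eq_zero_symm hF).1 hau, zero_add, mul_pow, hα,
        one_mul] at h
      apply ht1
      simpa [mul_pow, h, hγ] using congrArg (fun x : F => x ^ (q + 1)) hra
  · omega

theorem transvectionGroup_eq_top (hF : Fintype.card F = q ^ 2)
    (hn : 4 ≤ n ∨ (n = 3 ∧ 3 ≤ q) ∨ n ≤ 2) : transvectionGroup n F q = ⊤ := by
  rw [eq_top_iff]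
  intro g _
  rcases Nat.eq_zero_or_pos n with rfl | hn0
  · rw [show g = 1 from suAct_ext fun x => funext fun i => i.elim0]
    exact one_mem _
  obtain ⟨m, rfl⟩ : ∃ m, n = m + 1 := ⟨n - 1, by omega⟩
  have H := hermForm_isHerm hF (m + 1)
  have hso := single_orthonormal hF (m + 1)
  have main : ∀ k, (hk : k ≤ m) → ∃ t ∈ transvectionGroup (m + 1) F q, ∀ i : Fin k,
      suAct t (Pi.single (Fin.castLE (by omega) i) 1) =
        suAct g (Pi.single (Fin.castLE (by omega : k ≤ m + 1) i) 1) := by
    intro k hk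
    induction k with
    | zero => exact ⟨1, one_mem _, fun i => i.elim0⟩
    | succ k ih =>
      obtain ⟨t, ht, hti⟩ := ih (by omega)
      let e : Fin (m + 1) := ⟨k, by omega⟩
      have hne : ∀ i : Fin k, Fin.castLE (by omega : k ≤ m + 1) i ≠ e := fun i h => by
        have := congrArg Fin.val h; simp [e] at this; omega
      obtain ⟨s, hs, hsE, hsu⟩ := moves_norm_one hF hn (k := k) (by omega)
        (b := fun i => suAct g (Pi.single (Fin.castLE (by omega : k ≤ m + 1) i) 1))
        ⟨fun i => by rw [suAct_herm, hso.1], fun i j hij => by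
          simp only [suAct_herm]
          exact hso.2 (fun h => hij (Fin.castLE_injective _ h))⟩
        (u := suAct t (Pi.single e 1)) (w := suAct g (Pi.single e 1))
        (by rw [suAct_herm, hso.1]) (by rw [suAct_herm, hso.1])
        (fun i => by simp only [← hti i, suAct_herm]; exact hso.2 (hne i))
        (fun i => by simp only [suAct_herm]; exact hso.2 (hne i))
      refine ⟨s * t, mul_mem hs ht, fun i => ?_⟩
      induction i using Fin.lastCases with
      | last => rw [suAct_mul]; exact hsu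
      | cast i =>
        rw [suAct_mul]
        show suAct s (suAct t (Pi.single (Fin.castLE (by omega : k ≤ m + 1) i) 1)) =
          suAct g (Pi.single (Fin.castLE (by omega : k ≤ m + 1) i) 1)
        rw [hti i]
        exact hsE _ ⟨i, rfl⟩
  obtain ⟨t, ht, hti⟩ := main m le_rfl
  suffices ht1 : t⁻¹ * g = 1 by
    rwa [← inv_mul_eq_one.1 ht1]
  let M := (((t⁻¹ * g : Cfsg.SU (m + 1) F q) : Matrix.SpecialLinearGroup (Fin (m + 1)) F) :
    Matrix (Fin (m + 1)) (Fin (m + 1)) F)
  have hcol : ∀ i : Fin m, suAct (t⁻¹ * g) (Pi.single (Fin.castSucc i) 1) =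
      Pi.single (Fin.castSucc i) 1 := fun i => by
    rw [suAct_mul]
    show suAct t⁻¹ (suAct g (Pi.single (Fin.castLE (Nat.le_succ m) i) 1)) = _
    rw [← hti i, suAct_inv_suAct]
    rfl
  have hlast : ∀ i : Fin m, suAct (t⁻¹ * g) (Pi.single (Fin.last m) 1) (Fin.castSucc i) = 0 := by
    intro i
    rw [← hermForm_single_right hF (suAct (t⁻¹ * g) (Pi.single (Fin.last m) 1)) (Fin.castSucc i),
      ← hcol i, suAct_herm]
    exact hso.2 (Fin.castSucc_lt_last i).ne'
  have hM : M = Matrix.diagonal (Pi.mulSingle (Fin.last m) (M (Fin.last m) (Fin.last m))) := by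
    ext i j
    induction j using Fin.lastCases with
    | last =>
      induction i using Fin.lastCases with
      | last => simp
      | cast i =>
        have := hlast i
        simp only [suAct, Matrix.mulVec_single_one, Matrix.col_apply] at this
        rw [Matrix.diagonal_apply_ne _ (Fin.castSucc_lt_last i).ne]
        exact this
    | cast j =>
      have := congrFun (hcol j) i
      simp only [suAct, Matrix.mulVec_single_one, Matrix.col_apply] at this
      rcases eq_or_ne i (Fin.castSucc j) with rfl | hij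
      · simpa [M] using this
      · rw [Matrix.diagonal_apply_ne _ hij]
        simpa [M, hij] using this
  have hd : M.det = 1 := ((t⁻¹ * g : Cfsg.SU (m + 1) F q) : Matrix.SpecialLinearGroup (Fin (m + 1)) F).2
  rw [hM, Matrix.det_diagonal, Finset.prod_pi_mulSingle', if_pos (Finset.mem_univ _)] at hd
  rw [hd, Pi.mulSingle_one] at hM
  exact Subtype.ext (Subtype.ext (hM.trans Matrix.diagonal_one))

end Cfsg.Agent.Unitary
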