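import Cfsg.Agent.Lib.Unitary.Form
/-
GU and SU for the standard hermitian form.
Main results:
* mem_GU_iff, GU_apply, SU_apply, slMemSU_iff, GU.orthonormal_col, guOfBasis, guEquivOrthonormal
* exists_gu_map: extends an orthonormal family to an element of GU (Witt for nondegenerate subspaces)
* subspace_orthonormalBasis: a nondegenerate subspace has an orthonormal spanning family
* detHom : GU →* norm-one units, surjective; suToGU, suEquivKer
* diagonal matrices in GU; permutation matrices in GU
-/
set_option autoImplicit false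

namespace Cfsg.Agent.Unitary

open scoped Matrix

variable {F : Type*} [Field F] {q n : ℕ}

section Membership

theorem mem_GU_iff (g : Matrix.GeneralLinearGroup (Fin n) F) :
    g ∈ Cfsg.GU n F q ↔ ∀ u v : Fin n → F, Cfsg.hermForm n F q
      ((g : Matrix (Fin n) (Fin n) F) *ᵥ u) ((g : Matrix (Fin n) (Fin n) F) *ᵥ v) =
        Cfsg.hermForm n F q u v :=
  Iff.rfl

theorem GU_apply (g : Cfsg.GU n F q) (u v : Fin n → F) :
    Cfsg.hermForm n F q
      (((g : Matrix.GeneralLinearGroup (Fin n) F) : Matrix (Fin n) (Fin n) F) *ᵥ u)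
      (((g : Matrix.GeneralLinearGroup (Fin n) F) : Matrix (Fin n) (Fin n) F) *ᵥ v) =
        Cfsg.hermForm n F q u v :=
  g.2 u v

theorem mem_SU_iff (g : Matrix.SpecialLinearGroup (Fin n) F) :
    g ∈ Cfsg.SU n F q ↔ ∀ u v : Fin n → F, Cfsg.hermForm n F q
      ((g : Matrix (Fin n) (Fin n) F) *ᵥ u) ((g : Matrix (Fin n) (Fin n) F) *ᵥ v) =
        Cfsg.hermForm n F q u v :=
  Iff.rfl

theorem SU_apply (g : Cfsg.SU n F q) (u v : Fin n → F) :
    Cfsg.hermForm n F q
      (((g : Matrix.SpecialLinearGroup (Fin n) F) : Matrix (Fin n) (Fin n) F) *ᵥ u)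
      (((g : Matrix.SpecialLinearGroup (Fin n) F) : Matrix (Fin n) (Fin n) F) *ᵥ v) =
        Cfsg.hermForm n F q u v :=
  g.2 u v

/-- The matrix `M` preserves the form. -/
def IsUnitary (q : ℕ) (M : Matrix (Fin n) (Fin n) F) : Prop :=
  ∀ u v : Fin n → F, Cfsg.hermForm n F q (M *ᵥ u) (M *ᵥ v) = Cfsg.hermForm n F q u v

theorem IsUnitary.one : IsUnitary q (1 : Matrix (Fin n) (Fin n) F) := fun u v => by simp

theorem IsUnitary.mul {A B : Matrix (Fin n) (Fin n) F} (hA : IsUnitary q A) (hB : IsUnitary q B) :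
    IsUnitary q (A * B) := fun u v => by
  rw [← Matrix.mulVec_mulVec, ← Matrix.mulVec_mulVec, hA, hB]

end Membership

variable [Fintype F]

theorem isUnitary_iff_orthonormal (hF : Fintype.card F = q ^ 2) (M : Matrix (Fin n) (Fin n) F) :
    IsUnitary q M ↔ Orthonormal (Cfsg.hermForm n F q) (fun i => Mᵀ i) := by
  constructor
  · intro h
    refine ⟨fun i => ?_, fun i j hij => ?_⟩
    · have := h (Pi.single i 1) (Pi.single i 1)
      simp only [Matrix.mulVec_single_one] at this
      exact this.trans ((single_orthonormal hF n).1 i)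
    · have := h (Pi.single i 1) (Pi.single j 1)
      simp only [Matrix.mulVec_single_one] at this
      exact this.trans ((single_orthonormal hF n).2 hij)
  · intro hb u v
    have e : ∀ w : Fin n → F, M *ᵥ w = ∑ i, w i • Mᵀ i := fun w => by
      ext j; simp [Matrix.mulVec, dotProduct, mul_comm]
    rw [e, e, Orthonormal.inner_sum hF (hermForm_isHerm hF n) hb]
    rfl

theorem IsUnitary.isUnit (hF : Fintype.card F = q ^ 2) {M : Matrix (Fin n) (Fin n) F}
    (hM : IsUnitary q M) : IsUnit M :=
  Matrix.linearIndependent_cols_iff_isUnit.1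
    (((isUnitary_iff_orthonormal hF M).1 hM).linearIndependent (hermForm_isHerm hF n))

theorem IsUnitary.det_norm (hF : Fintype.card F = q ^ 2) {M : Matrix (Fin n) (Fin n) F}
    (hM : IsUnitary q M) : M.det ^ (q + 1) = 1 := by
  have hb := (isUnitary_iff_orthonormal hF M).1 hM
  have e : Mᵀ * M.map (fun x => x ^ q) = 1 := by
    ext i j
    rw [Matrix.one_apply, ← Orthonormal.apply hb i j]
    rfl
  have := congrArg Matrix.det e
  rw [Matrix.det_mul, Matrix.det_transpose, Matrix.det_one] at this
  have e2 : (M.map (fun x => x ^ q)).det = M.det ^ q :=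
    ((conjHom hF).map_det M).symm
  rw [e2, ← pow_succ'] at this
  exact this

/-- An element of GU from a unitary matrix. -/
noncomputable def guOfUnitary (hF : Fintype.card F = q ^ 2) (M : Matrix (Fin n) (Fin n) F)
    (hM : IsUnitary q M) : Cfsg.GU n F q :=
  ⟨(hM.isUnit hF).unit, fun u v => by simpa using hM u v⟩

@[simp] theorem guOfUnitary_val (hF : Fintype.card F = q ^ 2) (M : Matrix (Fin n) (Fin n) F)
    (hM : IsUnitary q M) :
    ((guOfUnitary hF M hM : Matrix.GeneralLinearGroup (Fin n) F) : Matrix (Fin n) (Fin n) F) = M :=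
  rfl

/-- An element of SU from a unitary matrix of determinant one. -/
def suOfUnitary (M : Matrix (Fin n) (Fin n) F) (hM : IsUnitary q M) (hd : M.det = 1) :
    Cfsg.SU n F q :=
  ⟨⟨M, hd⟩, hM⟩

omit [Fintype F] in
@[simp] theorem suOfUnitary_val (M : Matrix (Fin n) (Fin n) F) (hM : IsUnitary q M) (hd : M.det = 1) :
    ((suOfUnitary M hM hd : Matrix.SpecialLinearGroup (Fin n) F) : Matrix (Fin n) (Fin n) F) = M :=
  rfl

/-- GU corresponds to orthonormal bases (its columns). -/
noncomputable def guEquivOrthonormal (hF : Fintype.card F = q ^ 2) (n : ℕ) :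
    Cfsg.GU n F q ≃ {b : Fin n → (Fin n → F) // Orthonormal (Cfsg.hermForm n F q) b} where
  toFun g := ⟨fun i => ((g : Matrix.GeneralLinearGroup (Fin n) F) : Matrix (Fin n) (Fin n) F)ᵀ i,
    (isUnitary_iff_orthonormal hF _).1 g.2⟩
  invFun b := guOfUnitary hF (Matrix.of b.1)ᵀ ((isUnitary_iff_orthonormal hF _).2 b.2)
  left_inv g := Subtype.ext (Units.ext rfl)
  right_inv b := rfl

/-- Witt extension: an orthonormal family is the image of the first standard vectors under some element of GU. -/
theorem exists_gu_map (hF : Fintype.card F = q ^ 2) {k : ℕ} (hk : k ≤ n) {b : Fin k → (Fin n → F)}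
    (hb : Orthonormal (Cfsg.hermForm n F q) b) :
    ∃ g : Cfsg.GU n F q, ∀ i : Fin k,
      ((g : Matrix.GeneralLinearGroup (Fin n) F) : Matrix (Fin n) (Fin n) F) *ᵥ
        Pi.single (Fin.castLE hk i) 1 = b i := by
  obtain ⟨c, hc, hcb⟩ := exists_orthonormal_extend hF (hermForm_isHerm hF n)
    (hermForm_nondeg hF n) hb hk (le_of_eq (Module.finrank_fin_fun F).symm)
  refine ⟨(guEquivOrthonormal hF n).symm ⟨c, hc⟩, fun i => ?_⟩
  rw [Matrix.mulVec_single_one]
  exact hcb i

/-- A nondegenerate subspace has an orthonormal spanning family. -/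
theorem subspace_orthonormalBasis (hF : Fintype.card F = q ^ 2) (W : Submodule F (Fin n → F))
    (hW : ∀ u ∈ W, (∀ v ∈ W, Cfsg.hermForm n F q u v = 0) → u = 0) :
    ∃ b : Fin (Module.finrank F W) → (Fin n → F),
      Orthonormal (Cfsg.hermForm n F q) b ∧ Submodule.span F (Set.range b) = W := by
  have H := (hermForm_isHerm hF n).comap W.subtype
  obtain ⟨c, hc⟩ := exists_orthonormalBasis hF H
    (fun x hx => Subtype.ext (hW x x.2 fun v hv => hx ⟨v, hv⟩))
  refine ⟨fun i => (c i : Fin n → F), hc, ?_⟩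
  have := (Orthonormal.linearIndependent H hc).span_eq_top_of_card_eq_finrank'
    (Fintype.card_fin _)
  have h2 := congrArg (Submodule.map W.subtype) this
  rw [Submodule.map_span, Submodule.map_top, Submodule.range_subtype, ← Set.range_comp] at h2
  exact h2

theorem isUnitary_diagonal (hF : Fintype.card F = q ^ 2) {d : Fin n → F}
    (hd : ∀ i, d i ^ (q + 1) = 1) : IsUnitary q (Matrix.diagonal d) := by
  intro u v
  refine Finset.sum_congr rfl fun i _ => ?_
  rw [Matrix.mulVec_diagonal, Matrix.mulVec_diagonal, mul_pow]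
  linear_combination u i * v i ^ q * hd i

omit [Fintype F] in
theorem isUnitary_permMatrix (σ : Equiv.Perm (Fin n)) : IsUnitary q (σ.permMatrix F) := by
  intro u v
  rw [Matrix.permMatrix_mulVec, Matrix.permMatrix_mulVec]
  exact Equiv.sum_comp σ fun i => u i * v i ^ q

/-- The determinant on GU, landing in the units. -/
def detHom (n : ℕ) (F : Type*) [Field F] (q : ℕ) : Cfsg.GU n F q →* Fˣ :=
  Matrix.GeneralLinearGroup.det.comp (Cfsg.GU n F q).subtype

theorem detHom_range (hF : Fintype.card F = q ^ 2) (hn : 1 ≤ n) :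
    (detHom n F q).range = (powMonoidHom (q + 1) : Fˣ →* Fˣ).ker := by
  apply le_antisymm
  · rintro _ ⟨g, rfl⟩
    apply Units.ext
    simpa [detHom] using IsUnitary.det_norm hF (g.2 : IsUnitary q _)
  · intro u hu
    have hu1 : (u : F) ^ (q + 1) = 1 := by simpa using congrArg Units.val hu
    let d : Fin n → F := Pi.mulSingle ⟨0, hn⟩ (u : F)
    have hd : ∀ i, d i ^ (q + 1) = 1 := by
      intro i
      rcases eq_or_ne i ⟨0, hn⟩ with rfl | hi <;> simp [d, *]
    refine ⟨guOfUnitary hF _ (isUnitary_diagonal hF hd), Units.ext ?_⟩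
    simp [detHom, d, Finset.prod_pi_mulSingle']

/-- SU inside GU. -/
def suToGU (n : ℕ) (F : Type*) [Field F] (q : ℕ) : Cfsg.SU n F q →* Cfsg.GU n F q :=
  (Matrix.SpecialLinearGroup.toGL.comp (Cfsg.SU n F q).subtype).codRestrict _ fun g => g.2

omit [Fintype F] in
theorem suToGU_injective : Function.Injective (suToGU n F q) := fun a b hab =>
  Subtype.ext (Matrix.SpecialLinearGroup.toGL_injective (congrArg Subtype.val hab))

omit [Fintype F] in
theorem range_suToGU : (suToGU n F q).range = (detHom n F q).ker := by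
  ext g
  constructor
  · rintro ⟨a, rfl⟩
    exact Units.ext (a : Matrix.SpecialLinearGroup (Fin n) F).2
  · intro hg
    exact ⟨suOfUnitary _ g.2 (congrArg Units.val hg), Subtype.ext (Units.ext rfl)⟩

/-- SU is isomorphic to the kernel of the determinant on GU. -/
noncomputable def suEquivKer (n : ℕ) (F : Type*) [Field F] (q : ℕ) :
    Cfsg.SU n F q ≃* (detHom n F q).ker :=
  (MonoidHom.ofInjective suToGU_injective).trans (MulEquiv.subgroupCongr range_suToGU)

theorem card_GU_eq_succ_mul_card_SU (hF : Fintype.card F = q ^ 2) (hn : 1 ≤ n) :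
    Nat.card (Cfsg.GU n F q) = (q + 1) * Nat.card (Cfsg.SU n F q) := by
  rw [← Subgroup.card_mul_index (detHom n F q).ker, Subgroup.index_ker, detHom_range hF hn,
    IsCyclic.card_powMonoidHom_ker, card_units hF, Nat.gcd_eq_right (q_succ_dvd q),
    ← Nat.card_congr (suEquivKer n F q).toEquiv, mul_comm]

end Cfsg.Agent.Unitary
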