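import Cfsg.Agent.Lib.Unitary.Witt
/-
GU_k × GU_m inside GU_{k+m}.
* blockMatrix, blockHom, blockHom_injective, mem_range_blockHom_iff (lower-left block zero)
* stabilizer_nondegenerate_equiv: the stabiliser of a nondegenerate k-subspace is GU_k × GU_{n-k}
-/
set_option autoImplicit false

namespace Cfsg.Agent.Unitary

open scoped Matrix

variable {F : Type*} [Field F] {q k m n : ℕ}

/-- `diag(A, B)` on `Fin (k + m)`. -/
def blockMatrix (A : Matrix (Fin k) (Fin k) F) (B : Matrix (Fin m) (Fin m) F) :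
    Matrix (Fin (k + m)) (Fin (k + m)) F :=
  Matrix.of (Fin.append (fun i => Fin.append (A i) 0) (fun i => Fin.append 0 (B i)))

theorem blockMatrix_mulVec (A : Matrix (Fin k) (Fin k) F) (B : Matrix (Fin m) (Fin m) F)
    (u : Fin k → F) (v : Fin m → F) :
    blockMatrix A B *ᵥ Fin.append u v = Fin.append (A *ᵥ u) (B *ᵥ v) := by
  ext i
  induction i using Fin.addCases with
  | left i => simp [blockMatrix, Matrix.mulVec, dotProduct, Fin.sum_univ_add]
  | right i => simp [blockMatrix, Matrix.mulVec, dotProduct, Fin.sum_univ_add]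

theorem hermForm_append (u u' : Fin k → F) (v v' : Fin m → F) :
    Cfsg.hermForm (k + m) F q (Fin.append u v) (Fin.append u' v') =
      Cfsg.hermForm k F q u u' + Cfsg.hermForm m F q v v' := by
  simp [Cfsg.hermForm, Fin.sum_univ_add]

theorem append_split (w : Fin (k + m) → F) :
    Fin.append (fun i => w (Fin.castAdd m i)) (fun i => w (Fin.natAdd k i)) = w :=
  Fin.append_castAdd_natAdd

theorem isUnitary_block {A : Matrix (Fin k) (Fin k) F} {B : Matrix (Fin m) (Fin m) F}
    (hA : IsUnitary q A) (hB : IsUnitary q B) : IsUnitary q (blockMatrix A B) := by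
  intro u v
  rw [← append_split u, ← append_split v, blockMatrix_mulVec, blockMatrix_mulVec, hermForm_append,
    hermForm_append, hA, hB]

theorem blockMatrix_mul (A A' : Matrix (Fin k) (Fin k) F) (B B' : Matrix (Fin m) (Fin m) F) :
    blockMatrix (A * A') (B * B') = blockMatrix A B * blockMatrix A' B' := by
  refine Matrix.ext_iff_mulVec.2 fun w => ?_
  rw [← append_split w, ← Matrix.mulVec_mulVec, blockMatrix_mulVec, blockMatrix_mulVec,
    blockMatrix_mulVec, Matrix.mulVec_mulVec, Matrix.mulVec_mulVec]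

variable [Fintype F]

/-- GU_k × GU_m → GU_{k+m}. -/
noncomputable def blockHom (hF : Fintype.card F = q ^ 2) (k m : ℕ) :
    Cfsg.GU k F q × Cfsg.GU m F q →* Cfsg.GU (k + m) F q :=
  MonoidHom.mk' (fun p => guOfUnitary hF _ (isUnitary_block (q := q)
      (A := ((p.1 : Matrix.GeneralLinearGroup (Fin k) F) : Matrix (Fin k) (Fin k) F))
      (B := ((p.2 : Matrix.GeneralLinearGroup (Fin m) F) : Matrix (Fin m) (Fin m) F)) p.1.2 p.2.2))
    fun p p' => Subtype.ext (Units.ext (blockMatrix_mul _ _ _ _))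

theorem blockHom_injective (hF : Fintype.card F = q ^ 2) (k m : ℕ) :
    Function.Injective (blockHom hF k m : Cfsg.GU k F q × Cfsg.GU m F q →* _) := by
  rintro ⟨A, B⟩ ⟨A', B'⟩ h
  have h' : blockMatrix ((A : Matrix.GeneralLinearGroup (Fin k) F) : Matrix (Fin k) (Fin k) F)
        ((B : Matrix.GeneralLinearGroup (Fin m) F) : Matrix (Fin m) (Fin m) F) =
      blockMatrix ((A' : Matrix.GeneralLinearGroup (Fin k) F) : Matrix (Fin k) (Fin k) F)
        ((B' : Matrix.GeneralLinearGroup (Fin m) F) : Matrix (Fin m) (Fin m) F) :=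
    congrArg (fun g : Cfsg.GU (k + m) F q =>
      ((g : Matrix.GeneralLinearGroup (Fin (k + m)) F) : Matrix (Fin (k + m)) (Fin (k + m)) F)) h
  refine Prod.ext (Subtype.ext (Units.ext (Matrix.ext fun i j => ?_)))
    (Subtype.ext (Units.ext (Matrix.ext fun i j => ?_)))
  · simpa [blockMatrix] using congrFun (congrFun h' (Fin.castAdd m i)) (Fin.castAdd m j)
  · simpa [blockMatrix] using congrFun (congrFun h' (Fin.natAdd k i)) (Fin.natAdd k j)

theorem mem_range_blockHom_iff (hF : Fintype.card F = q ^ 2) (g : Cfsg.GU (k + m) F q) :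
    g ∈ (blockHom hF k m).range ↔ ∀ (i : Fin m) (j : Fin k),
      ((g : Matrix.GeneralLinearGroup (Fin (k + m)) F) : Matrix (Fin (k + m)) (Fin (k + m)) F)
        (Fin.natAdd k i) (Fin.castAdd m j) = 0 := by
  constructor
  · rintro ⟨p, rfl⟩ i j
    simp [blockHom, blockMatrix]
  intro hll
  set M := ((g : Matrix.GeneralLinearGroup (Fin (k + m)) F) :
    Matrix (Fin (k + m)) (Fin (k + m)) F) with hMdef
  have hMu : IsUnitary q M := g.2
  let A : Matrix (Fin k) (Fin k) F := M.submatrix (Fin.castAdd m) (Fin.castAdd m)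
  let B : Matrix (Fin m) (Fin m) F := M.submatrix (Fin.natAdd k) (Fin.natAdd k)
  have hMA : ∀ u : Fin k → F, M *ᵥ Fin.append u 0 = Fin.append (A *ᵥ u) 0 := by
    intro u
    ext i
    induction i using Fin.addCases with
    | left i => simp [A, Matrix.mulVec, dotProduct, Fin.sum_univ_add]
    | right i => simp [Matrix.mulVec, dotProduct, Fin.sum_univ_add, hll]
  have H0 := hermForm_isHerm hF m
  have hA : IsUnitary q A := fun u v => by
    have := hMu (Fin.append u 0) (Fin.append v 0)
    rwa [hMA, hMA, hermForm_append, hermForm_append, H0.zero_left, add_zero, add_zero] at this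
  have hur : ∀ i j, M (Fin.castAdd m i) (Fin.natAdd k j) = 0 := by
    intro i j
    -- the column j of the right part is orthogonal to the image of the left part
    obtain ⟨u, hu⟩ : ∃ u, A *ᵥ u = Pi.single i 1 :=
      Matrix.mulVec_surjective_iff_isUnit.2 (hA.isUnit hF) _
    have := hMu (Fin.append 0 (Pi.single j 1)) (Fin.append u 0)
    rw [hMA, hu, hermForm_append, (hermForm_isHerm hF k).zero_left, H0.zero_right hF, add_zero,
      ← append_split (M *ᵥ Fin.append 0 (Pi.single j 1)), hermForm_append, H0.zero_right hF,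
      add_zero, hermForm_single_right hF] at this
    simpa [Matrix.mulVec, dotProduct, Fin.sum_univ_add, Pi.single_apply] using this
  have hMB : ∀ v : Fin m → F, M *ᵥ Fin.append 0 v = Fin.append 0 (B *ᵥ v) := by
    intro v
    ext i
    induction i using Fin.addCases with
    | left i => simp [Matrix.mulVec, dotProduct, Fin.sum_univ_add, hur]
    | right i => simp [B, Matrix.mulVec, dotProduct, Fin.sum_univ_add]
  have hB : IsUnitary q B := fun u v => by
    have := hMu (Fin.append 0 u) (Fin.append 0 v)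
    rwa [hMB, hMB, hermForm_append, hermForm_append, (hermForm_isHerm hF k).zero_left,
      zero_add, zero_add] at this
  refine ⟨(guOfUnitary hF A hA, guOfUnitary hF B hB), Subtype.ext (Units.ext ?_)⟩
  show blockMatrix A B = M
  ext i j
  induction i using Fin.addCases with
  | left i =>
    induction j using Fin.addCases with
    | left j => simp [blockMatrix, A]
    | right j => simp [blockMatrix, hur]
  | right i =>
    induction j using Fin.addCases with
    | left j => simp [blockMatrix, hll]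
    | right j => simp [blockMatrix, B]

/-- The stabiliser of a nondegenerate subspace. -/
theorem stabilizer_nondegenerate_equiv (hF : Fintype.card F = q ^ 2) (n k : ℕ) (hk : k ≤ n)
    (W : Submodule F (Fin n → F)) (hWk : Module.finrank F W = k)
    (hW : ∀ u ∈ W, (∀ v ∈ W, Cfsg.hermForm n F q u v = 0) → u = 0) :
    Nonempty (↥((Cfsg.stabilizing (Cfsg.glToMat (Fin n) F) (W : Set (Fin n → F))).subgroupOf
      (Cfsg.GU n F q)) ≃* ↥(Cfsg.GU k F q) × ↥(Cfsg.GU (n - k) F q)) := by
  obtain ⟨m, rfl⟩ : ∃ m, n = k + m := ⟨n - k, by omega⟩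
  rw [Nat.add_sub_cancel_left]
  obtain ⟨b₀, hb₀, hb₀W⟩ := subspace_orthonormalBasis hF W hW
  obtain ⟨b, hb, hbW⟩ : ∃ b : Fin k → (Fin (k + m) → F), Orthonormal (Cfsg.hermForm (k + m) F q) b ∧
      Submodule.span F (Set.range b) = W := by
    refine ⟨b₀ ∘ Fin.cast hWk.symm, hb₀.comp _ (Fin.cast_injective _), ?_⟩
    show Submodule.span F (Set.range (b₀ ∘ (finCongr hWk.symm))) = W
    rw [Function.Surjective.range_comp (finCongr hWk.symm).surjective b₀]
    exact hb₀W
  obtain ⟨g, hg⟩ := exists_gu_map hF hk hb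
  let G : Cfsg.GU (k + m) F q → Matrix _ _ F := fun h =>
    ((h : Matrix.GeneralLinearGroup (Fin (k + m)) F) :
      Matrix (Fin (k + m)) (Fin (k + m)) F)
  have Gmul : ∀ a b, G (a * b) = G a * G b := fun a b => rfl
  have Ginv : ∀ a v, G a⁻¹ *ᵥ (G a *ᵥ v) = v := fun a v => by
    rw [Matrix.mulVec_mulVec, ← Gmul, inv_mul_cancel]; exact Matrix.one_mulVec v
  have Ginv' : ∀ a v, G a *ᵥ (G a⁻¹ *ᵥ v) = v := fun a v => by
    rw [Matrix.mulVec_mulVec, ← Gmul, mul_inv_cancel]; exact Matrix.one_mulVec v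
  have hWiff : ∀ v, v ∈ W ↔ ∀ i : Fin m, (G g⁻¹ *ᵥ v) (Fin.natAdd _ i) = 0 := by
    intro v
    constructor
    · intro hv i
      have hv' := hv
      rw [← hbW, Submodule.mem_span_range_iff_exists_fun] at hv'
      obtain ⟨c, rfl⟩ := hv'
      rw [Matrix.mulVec_sum, Finset.sum_apply]
      refine Finset.sum_eq_zero fun j _ => ?_
      rw [Matrix.mulVec_smul, ← hg j, Ginv]
      simp [Fin.ext_iff, Pi.single_apply]
      omega
    · intro hv
      rw [← hbW, Submodule.mem_span_range_iff_exists_fun]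
      refine ⟨fun i => (G g⁻¹ *ᵥ v) (Fin.castAdd m i), ?_⟩
      have e : ∑ i, (G g⁻¹ *ᵥ v) (Fin.castAdd m i) •
          (Pi.single (Fin.castLE hk i) 1 : Fin (k + m) → F) = G g⁻¹ *ᵥ v := by
        ext j
        induction j using Fin.addCases with
        | left j =>
          rw [Finset.sum_apply, Finset.sum_eq_single j]
          · simp [show Fin.castLE hk j = Fin.castAdd m j from rfl]
          · intro i _ hij
            simp [show Fin.castLE hk i = Fin.castAdd m i from rfl, Fin.ext_iff, Pi.single_apply,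
              Fin.val_inj, Ne.symm hij]
          · simp
        | right j =>
          rw [Finset.sum_apply, hv j]
          refine Finset.sum_eq_zero fun i _ => ?_
          simp [Fin.ext_iff, Pi.single_apply]
          omega
      have := congrArg (fun x => G g *ᵥ x) e
      simp only [Ginv', Matrix.mulVec_sum, Matrix.mulVec_smul] at this
      simpa only [← hg] using this
  let φ := (MulAut.conj g).toMonoidHom.comp (blockHom hF (k) m)
  have hφ : Function.Injective φ := (MulAut.conj g).injective.comp (blockHom_injective hF _ _)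
  refine ⟨((MonoidHom.ofInjective hφ).trans (MulEquiv.subgroupCongr ?_)).symm⟩
  ext a
  have e : a ∈ φ.range ↔ g⁻¹ * a * g ∈ (blockHom hF (k) m).range := by
    constructor
    · rintro ⟨p, rfl⟩; exact ⟨p, by simp [φ, mul_assoc]⟩
    · rintro ⟨p, hp⟩; exact ⟨p, by simp [φ, hp, mul_assoc]⟩
  rw [e, mem_range_blockHom_iff hF, Subgroup.mem_subgroupOf]
  constructor
  · intro hll
    have fwd : ∀ v ∈ W, G a *ᵥ v ∈ W := by
      intro v hv
      rw [hWiff] at hv ⊢
      intro i
      have e2 : G g⁻¹ *ᵥ (G a *ᵥ v) = G (g⁻¹ * a * g) *ᵥ (G g⁻¹ *ᵥ v) := by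
        rw [Matrix.mulVec_mulVec, Matrix.mulVec_mulVec, ← Gmul, ← Gmul]
        congr 2
        group
      rw [e2, Matrix.mulVec, dotProduct, Fin.sum_univ_add]
      rw [Finset.sum_eq_zero fun j _ => mul_eq_zero_of_left
        (show G (g⁻¹ * a * g) (Fin.natAdd k i) (Fin.castAdd m j) = 0 from hll i j) _, zero_add]
      exact Finset.sum_eq_zero fun j _ => mul_eq_zero_of_right _ (hv j)
    intro v
    refine ⟨fwd v, fun hv => ?_⟩
    -- a restricted to W is injective, hence surjective
    have hbij : Function.Bijective (fun w : W => (⟨G a *ᵥ w, fwd w w.2⟩ : W)) :=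
      Finite.injective_iff_bijective.1 fun x y hxy => Subtype.ext (by
        have := congrArg (fun z : W => G a⁻¹ *ᵥ (z : Fin _ → F)) hxy
        simpa [Ginv] using this)
    obtain ⟨w, hw⟩ := hbij.2 ⟨G a *ᵥ v, hv⟩
    have := congrArg (fun z : W => G a⁻¹ *ᵥ (z : Fin _ → F)) hw
    simp only [Ginv] at this
    rw [← this]; exact w.2
  · intro ha i j
    have hmem : G g *ᵥ Pi.single (Fin.castAdd m j) 1 ∈ W := by
      rw [← hbW, show Fin.castAdd m j = Fin.castLE hk j from rfl, hg j]
      exact Submodule.subset_span ⟨j, rfl⟩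
    have := (hWiff _).1 ((ha _).1 hmem) i
    have e2 : G g⁻¹ *ᵥ (G a *ᵥ (G g *ᵥ Pi.single (Fin.castAdd m j) 1)) =
        G (g⁻¹ * a * g) *ᵥ Pi.single (Fin.castAdd m j) 1 := by
      rw [Matrix.mulVec_mulVec, Matrix.mulVec_mulVec, ← Gmul, ← Gmul]
    change (G g⁻¹ *ᵥ (G a *ᵥ (G g *ᵥ Pi.single (Fin.castAdd m j) 1))) (Fin.natAdd k i) = 0 at this
    rw [e2, Matrix.mulVec_single_one] at this
    exact this

end Cfsg.Agent.Unitary
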