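import Cfsg.Agent.Lib.Unitary.Generation
/-
Unitary transvections are commutators in SU; SU is perfect for n ≥ 3, (n,q) ≠ (3,2).
* transvection_isotropic_skew; transvection_mem_commutatorSet; commutator_SU_eq_top
-/
set_option autoImplicit false

namespace Cfsg.Agent.Unitary

open scoped Matrix commutatorElement

variable {F : Type*} [Field F] [Fintype F] {q n : ℕ}

theorem exists_fixed_ne_zero_one (hF : Fintype.card F = q ^ 2) (hq : 3 ≤ q) :
    ∃ t : F, t ^ q = t ∧ t ≠ 0 ∧ t ≠ 1 := by
  classical
  by_contra hc
  simp only [not_exists, not_and, not_not] at hc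
  have h1 := card_fixed hF
  have h2 : Nat.card {x : F // x ^ q = x} ≤ Nat.card Bool := by
    refine Nat.card_le_card_of_injective (fun x => decide (x.1 = 0)) fun x y hxy => ?_
    simp only [decide_eq_decide] at hxy
    apply Subtype.ext
    by_cases hx : x.1 = 0
    · rw [hx, hxy.1 hx]
    · rw [hc x.1 x.2 hx, hc y.1 y.2 (fun h => hx (hxy.2 h))]
  rw [h1] at h2
  simp at h2
  omega

theorem transvection_mem_commutatorSet (hF : Fintype.card F = q ^ 2)
    (hn : 4 ≤ n ∨ (n = 3 ∧ 3 ≤ q)) (A : Cfsg.SU n F q) (v : Fin n → F) (c : F)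
    (hv0 : Cfsg.hermForm n F q v v = 0)
    (hA : ((A : Matrix.SpecialLinearGroup (Fin n) F) : Matrix (Fin n) (Fin n) F) =
      Cfsg.unitaryTransvection n q v c) :
    A ∈ commutatorSet (Cfsg.SU n F q) := by
  have H := hermForm_isHerm hF n
  by_cases hv : v = 0
  · refine ⟨1, 1, ?_⟩
    rw [commutatorElement_one_left]
    exact Subtype.ext (Subtype.ext (by simp [hA, hv, Cfsg.unitaryTransvection]))
  have hc : c + c ^ q = 0 :=
    (transvection_isometry_iff hF v hv hv0 c).1 (hA ▸ (A.2 : IsUnitary q _))
  obtain ⟨ε, hε⟩ := exists_eps hF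
  have hb0 : Orthonormal (Cfsg.hermForm n F q) (Fin.elim0 : Fin 0 → (Fin n → F)) :=
    ⟨fun i => i.elim0, fun i => i.elim0⟩
  rcases hn with hn4 | ⟨hn3, hq3⟩
  · obtain ⟨a, a', hA2, hsplit⟩ := isotropic_split hF hb0 hv hv0 (fun i => i.elim0) hε
    obtain ⟨b, hb, hbA⟩ := exists_orthonormal_extend hF H (hermForm_nondeg hF n) hA2
      (show 2 ≤ 4 by norm_num) (show 4 ≤ _ by rw [Module.finrank_fin_fun]; exact hn4)
    have e0 : b 0 = a := hbA (Fin.castSucc (Fin.last 0)) |>.trans (by simp only [Fin.snoc_castSucc, Fin.snoc_last])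
    have e1 : b 1 = a' := hbA (Fin.last (0 + 1)) |>.trans (by simp only [Fin.snoc_castSucc, Fin.snoc_last])
    have B : ∀ i j, Cfsg.hermForm n F q (b i) (b j) = if i = j then 1 else 0 := hb.apply
    obtain ⟨l, hl⟩ := exists_trace_eq hF (c := (-1 : F)) (by rw [neg_pow_q hF, one_pow])
    let r := b 2 + ε • b 3
    let s := b 2 + l • r
    have hr : Cfsg.hermForm n F q r r = 0 := by
      simp only [r, H.add_left, H.add_right hF, H.smul_left, H.smul_right, B]
      simp (config := { decide := true }) only [if_true, if_false]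
      linear_combination hε
    have hrb : Cfsg.hermForm n F q r (b 2) = 1 := by
      simp only [r, H.add_left, H.smul_left, B]
      simp (config := { decide := true })
    have hbr : Cfsg.hermForm n F q (b 2) r = 1 := by rw [H.conj_symm r (b 2), hrb, one_pow]
    have hs : Cfsg.hermForm n F q s s = 0 := by
      simp only [s, H.add_left, H.add_right hF, H.smul_left, H.smul_right, hr, hrb, hbr, B]
      simp only [if_true]
      linear_combination hl
    have hrs : Cfsg.hermForm n F q r s = 1 := by
      simp [s, H.add_right hF, H.smul_right, hr, hrb]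
    have hvr : Cfsg.hermForm n F q v r = 0 := by
      rw [hsplit, ← e0, ← e1]
      simp only [r, H.add_left, H.add_right hF, H.smul_left, H.smul_right, B]
      simp (config := { decide := true })
    have hvs : Cfsg.hermForm n F q v s = 0 := by
      simp only [s, H.add_right hF, H.smul_right, hvr]
      rw [hsplit, ← e0, ← e1]
      simp only [H.add_left, H.smul_left, B]
      simp (config := { decide := true })
    obtain ⟨δ, hδ0, hδ⟩ := exists_skew hF
    obtain ⟨σ, hσ⟩ := exists_trace_eq hF (c := c / δ)
      (by rw [div_pow, hδ, eq_neg_of_add_eq_zero_right hc, neg_div_neg_eq])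
    let τ := δ * σ
    have hτ : τ - τ ^ q = c := by
      simp only [τ, mul_pow, hδ]
      have : δ * (σ + σ ^ q) = c := by rw [hσ, mul_div_cancel₀ _ hδ0]
      linear_combination this
    have hab : Cfsg.hermForm n F q (τ • r) s = τ := by rw [H.smul_left, hrs, mul_one]
    have hba : Cfsg.hermForm n F q s (τ • r) = τ ^ q := by rw [H.conj_symm (τ • r) s, hab]
    have hva : Cfsg.hermForm n F q v (τ • r) = 0 := by rw [H.smul_right, hvr, mul_zero]
    have hav : Cfsg.hermForm n F q (τ • r) v = 0 := (H.eq_zero_symm hF).1 hva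
    have hsv : Cfsg.hermForm n F q s v = 0 := (H.eq_zero_symm hF).1 hvs
    have hrv : Cfsg.hermForm n F q r v = 0 := (H.eq_zero_symm hF).1 hvr
    obtain ⟨g, -, hg⟩ := eichler_mem hF hv0 (show Cfsg.hermForm n F q (τ • r) (τ • r) = 0 by
      rw [H.smul_left, H.smul_right, hr, mul_zero, mul_zero]) hva
    obtain ⟨h, -, hh⟩ := eichler_mem hF hv0 hs hvs
    refine ⟨g, h, ?_⟩
    have key : g * h = A * (h * g) := by
      refine suAct_ext fun x => ?_
      have hAx : ∀ y, suAct A y = y + (c * Cfsg.hermForm n F q y v) • v := fun y => by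
        rw [suAct, hA, transvection_mulVec]
      simp only [suAct_mul, hg, hh, hAx, H.add_left, H.sub_left, H.smul_left, hv0, hva, hvs, hav,
        hsv, hrv, hrs, hab, hba]
      match_scalars <;>
        first
          | ring1
          | linear_combination (Cfsg.hermForm n F q x v) * hτ
          | linear_combination -(Cfsg.hermForm n F q x v) * hτ
    calc ⁅g, h⁆ = g * h * g⁻¹ * h⁻¹ := commutatorElement_def g h
      _ = A := by rw [key]; group
  · obtain ⟨t, ht, ht0, ht1⟩ := exists_fixed_ne_zero_one hF hq3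
    obtain ⟨lam, hlam⟩ := exists_norm_eq hF ht
    have hl0 : lam ≠ 0 := fun h => ht0 (by rw [← hlam, h, zero_pow (Nat.succ_ne_zero q)])
    obtain ⟨a, a', hA2, hsplit⟩ := isotropic_split hF hb0 hv hv0 (fun i => i.elim0) hε
    obtain ⟨e, he, heA⟩ := exists_orthonormal_step hF H (hermForm_nondeg hF n) hA2
      (show 2 < _ by rw [Module.finrank_fin_fun]; omega)
    have hea : Cfsg.hermForm n F q a e = 0 := by
      simpa only [Fin.snoc_castSucc, Fin.snoc_last] using heA (Fin.castSucc (Fin.last 0))
    have hea' : Cfsg.hermForm n F q a' e = 0 := by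
      simpa only [Fin.snoc_castSucc, Fin.snoc_last] using heA (Fin.last (0 + 1))
    have hev : Cfsg.hermForm n F q v e = 0 := by
      rw [hsplit, H.add_left, H.smul_left, hea, hea', mul_zero, add_zero]
    obtain ⟨g, hg⟩ := exists_su_witt hF (u := fun _ : Fin 1 => v) (w := fun _ => lam • v)
      (linearIndependent_unique_iff.2 hv)
      (linearIndependent_unique_iff.2 (smul_ne_zero hl0 hv))
      (fun i j => by rw [H.smul_left, H.smul_right, hv0, mul_zero, mul_zero]) he
      (fun i => by rw [H.smul_left, hev, mul_zero])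
    have hgv : suAct g v = lam • v := hg 0
    let c' := c / (t - 1)
    have hc' : c' + c' ^ q = 0 := by
      simp only [c', div_pow, sub_pow_q hF, one_pow, ht, ← add_div, hc, zero_div]
    let T := suTransvection hF v hv0 c' hc'
    refine ⟨g, T, ?_⟩
    have key : g * T = A * (T * g) := by
      refine suAct_ext fun x => ?_
      have hAx : ∀ y, suAct A y = y + (c * Cfsg.hermForm n F q y v) • v := fun y => by
        rw [suAct, hA, transvection_mulVec]
      have hxv : Cfsg.hermForm n F q (suAct g x) v * lam ^ q = Cfsg.hermForm n F q x v := by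
        rw [mul_comm, ← H.smul_right, ← hgv, suAct_herm]
      have e3 : c' * (t - 1) = c := div_mul_cancel₀ _ (sub_ne_zero.2 ht1)
      simp only [suAct_mul, T, suAct_suTransvection, hAx, suAct_add, suAct_smul, hgv, H.add_left,
        H.smul_left, hv0]
      match_scalars
      · ring
      · linear_combination -(c' * lam) * hxv + (c' * Cfsg.hermForm n F q (suAct g x) v) * hlam +
          Cfsg.hermForm n F q (suAct g x) v * e3
    calc ⁅g, T⁆ = g * T * g⁻¹ * T⁻¹ := commutatorElement_def g T
      _ = A := by rw [key]; group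

theorem commutator_SU_eq_top (hF : Fintype.card F = q ^ 2) (hn : 4 ≤ n ∨ (n = 3 ∧ 3 ≤ q)) :
    commutator (Cfsg.SU n F q) = ⊤ := by
  rw [eq_top_iff, ← transvectionGroup_eq_top (n := n) hF (by omega), transvectionGroup,
    Subgroup.closure_le]
  rintro A ⟨v, c, hv0, hA⟩
  rw [commutator_eq_closure]
  exact Subgroup.subset_closure (transvection_mem_commutatorSet hF hn A v c hv0 hA)

end Cfsg.Agent.Unitary
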