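import Cfsg.Agent.Lib.Unitary.OrthInU
/-
The symplectic subfield subgroup of the special unitary group is maximal (all q).
* mem_subfieldSubgroup_of_map, subfieldSubgroup_map, SympData, isMaximalIn_symp_subfield
-/
set_option autoImplicit false
set_option linter.unusedSectionVars false

namespace Cfsg.Agent.Unitary

open scoped Matrix

variable {F : Type*} [Field F] [Fintype F] {q n : ℕ} {F₀ : Subfield F}
  {P : Matrix.GeneralLinearGroup (Fin n) F}

theorem ratEmb_injective {u v : Fin n → F₀} (h : ratEmb P F₀ u = ratEmb P F₀ v) : u = v := by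
  have h' : (fun i => (u i : F)) = fun i => (v i : F) :=
    Matrix.mulVec_injective_iff_isUnit.2 (Units.isUnit P) h
  exact funext fun i => Subtype.ext (congrFun h' i)

/-- An element mapping the rational structure to a multiple of itself lies in the subfield subgroup. -/
theorem mem_subfieldSubgroup_of_map {g : Matrix.GeneralLinearGroup (Fin n) F} {l : F} (hl : l ≠ 0)
    (h : ∀ u, ∃ v, (g : Matrix (Fin n) (Fin n) F) *ᵥ ratEmb P F₀ u = l • ratEmb P F₀ v) :
    g ∈ Cfsg.Geo.subfieldSubgroup F₀ P := by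
  choose v hv using fun j : Fin n => h (Pi.single j 1)
  let A : Matrix (Fin n) (Fin n) F₀ := Matrix.of fun i j => v j i
  let s : Matrix.GeneralLinearGroup (Fin n) F :=
    Units.map (Matrix.scalar (Fin n) : F →+* Matrix (Fin n) (Fin n) F).toMonoidHom (Units.mk0 l hl)
  let X : Matrix.GeneralLinearGroup (Fin n) F := s⁻¹ * (P⁻¹ * g * P)
  have hsv : ∀ w : Fin n → F, (s : Matrix (Fin n) (Fin n) F) *ᵥ w = l • w := fun w => by
    show Matrix.scalar (Fin n) l *ᵥ w = _
    ext i; simp [Matrix.mulVec_diagonal]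
  have hX : (X : Matrix (Fin n) (Fin n) F) = A.map (fun z : F₀ => (z : F)) := by
    refine Matrix.ext_of_mulVec_single fun j => ?_
    apply Matrix.mulVec_injective_iff_isUnit.2 (Units.isUnit s)
    apply Matrix.mulVec_injective_iff_isUnit.2 (Units.isUnit P)
    conv_lhs => rw [Matrix.mulVec_mulVec, Matrix.mulVec_mulVec, ← Units.val_mul, ← Units.val_mul,
      show P * s * X = g * P by simp [X, mul_assoc], Units.val_mul, ← Matrix.mulVec_mulVec]
    rw [hsv, Matrix.mulVec_smul]
    have e1 : (fun i => ((Pi.single j 1 : Fin n → F₀) i : F)) = Pi.single j 1 := by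
      funext i; by_cases hij : i = j
      · subst hij; simp
      · simp [hij]
    have e2 : A.map (fun z : F₀ => (z : F)) *ᵥ Pi.single j 1 = fun i => (v j i : F) := by
      rw [Matrix.mulVec_single_one]; rfl
    rw [e2, ← e1]
    exact hv j
  have hdet : IsUnit A.det := by
    rw [isUnit_iff_ne_zero]
    intro h0
    have h1 : (X : Matrix (Fin n) (Fin n) F).det = (A.det : F) := by
      rw [hX]; exact (RingHom.map_det F₀.subtype A).symm
    exact (X.isUnit.map Matrix.detMonoidHom).ne_zero (h1.trans (by rw [h0]; rfl))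
  have hXr : X ∈ (Matrix.GeneralLinearGroup.map (F₀.subtype : F₀ →+* F)).range :=
    ⟨Matrix.GeneralLinearGroup.mk'' A hdet, Units.ext hX.symm⟩
  have hs : s ∈ Cfsg.Geo.scalars (Fin n) F := ⟨_, rfl⟩
  refine ⟨s * X, mul_mem (Subgroup.mem_sup_right hs) (Subgroup.mem_sup_left hXr), ?_⟩
  show P * (s * X) * P⁻¹ = g
  simp [X]; group

/-- The subfield subgroup maps the rational structure to a multiple of itself. -/
theorem subfieldSubgroup_map {g : Matrix.GeneralLinearGroup (Fin n) F}
    (hg : g ∈ Cfsg.Geo.subfieldSubgroup F₀ P) :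
    ∃ l : F, ∀ u, ∃ v, (g : Matrix (Fin n) (Fin n) F) *ᵥ ratEmb P F₀ u = l • ratEmb P F₀ v := by
  obtain ⟨y, hy, rfl⟩ := hg
  let T : Submonoid (Matrix.GeneralLinearGroup (Fin n) F) :=
    { carrier := {y | ∃ l : F, ∀ u : Fin n → F₀, ∃ v : Fin n → F₀,
        (y : Matrix (Fin n) (Fin n) F) *ᵥ (fun i => (u i : F)) = l • fun i => (v i : F)}
      one_mem' := ⟨1, fun u => ⟨u, by simp⟩⟩
      mul_mem' := by
        rintro a b ⟨la, ha⟩ ⟨lb, hb⟩
        refine ⟨lb * la, fun u => ?_⟩
        obtain ⟨v, hv⟩ := hb u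
        obtain ⟨w, hw⟩ := ha v
        exact ⟨w, by rw [Units.val_mul, ← Matrix.mulVec_mulVec, hv, Matrix.mulVec_smul, hw, smul_smul]⟩ }
  have hyT : y ∈ T := by
    rw [Subgroup.sup_eq_closure] at hy
    induction hy using Subgroup.closure_induction_left with
    | one => exact T.one_mem
    | mul_left a ha b _ ihb =>
      refine T.mul_mem ?_ ihb
      rcases ha with ⟨A, rfl⟩ | ⟨c, rfl⟩
      · refine ⟨1, fun u => ⟨(A : Matrix (Fin n) (Fin n) F₀) *ᵥ u, ?_⟩⟩
        rw [one_smul]
        funext i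
        exact (RingHom.map_mulVec F₀.subtype _ u i).symm
      · exact ⟨c, fun u => ⟨u, by
          show Matrix.scalar (Fin n) (c : F) *ᵥ _ = _
          ext i; simp [Matrix.mulVec_diagonal]⟩⟩
    | inv_mul_cancel a ha b _ ihb =>
      refine T.mul_mem ?_ ihb
      rcases ha with ⟨A, rfl⟩ | ⟨c, rfl⟩
      · rw [← map_inv]
        refine ⟨1, fun u => ⟨((A⁻¹ : Matrix.GeneralLinearGroup (Fin n) F₀) :
          Matrix (Fin n) (Fin n) F₀) *ᵥ u, ?_⟩⟩
        rw [one_smul]
        funext i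
        exact (RingHom.map_mulVec F₀.subtype _ u i).symm
      · rw [← map_inv]
        exact ⟨((c⁻¹ : Fˣ) : F), fun u => ⟨u, by
          show Matrix.scalar (Fin n) ((c⁻¹ : Fˣ) : F) *ᵥ _ = _
          ext i; simp [Matrix.mulVec_diagonal]⟩⟩
  obtain ⟨l, hl⟩ := hyT
  refine ⟨l, fun u => ?_⟩
  obtain ⟨v, hv⟩ := hl u
  refine ⟨v, ?_⟩
  show ((P * y * P⁻¹ : Matrix.GeneralLinearGroup (Fin n) F) : Matrix (Fin n) (Fin n) F) *ᵥ
    ((P : Matrix (Fin n) (Fin n) F) *ᵥ _) = l • ((P : Matrix (Fin n) (Fin n) F) *ᵥ _)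
  rw [Matrix.mulVec_mulVec, ← Units.val_mul, inv_mul_cancel_right, Units.val_mul,
    ← Matrix.mulVec_mulVec, hv, Matrix.mulVec_smul]

/-- A rational structure on which ζ times the form is an F₀-valued alternating form. -/
structure SympData (q : ℕ) (F₀ : Subfield F) (P : Matrix.GeneralLinearGroup (Fin n) F) (ζ ω : F) : Prop where
  card : Fintype.card F = q ^ 2
  mem : ∀ {x : F}, x ∈ F₀ ↔ x ^ q = x
  rat : ∀ u v : Fin n → F, (∀ i, u i ∈ F₀) → (∀ i, v i ∈ F₀) →
    ζ * Cfsg.hermForm n F q ((P : Matrix (Fin n) (Fin n) F) *ᵥ u) ((P : Matrix (Fin n) (Fin n) F) *ᵥ v) ∈ F₀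
  alt : ∀ u : Fin n → F, (∀ i, u i ∈ F₀) →
    Cfsg.hermForm n F q ((P : Matrix (Fin n) (Fin n) F) *ᵥ u) ((P : Matrix (Fin n) (Fin n) F) *ᵥ u) = 0
  zeta0 : ζ ≠ 0
  zeta : ζ + ζ ^ q = 0
  omega : ω ∉ F₀

namespace SympData

variable {ζ ω : F} (D : SympData q F₀ P ζ ω)
include D

theorem val_pow (c : F₀) : (c : F) ^ q = c := D.mem.1 c.2

theorem coeff_unique {a b : F₀} (h : (a : F) + ω * b = 0) : a = 0 ∧ b = 0 := by
  by_cases hb : b = 0
  · subst hb
    exact ⟨Subtype.ext (by simpa using h), rfl⟩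
  · exfalso
    apply D.omega
    have hb' : (b : F) ≠ 0 := fun h0 => hb (Subtype.ext h0)
    have : ω = ((-a / b : F₀) : F) := by
      push_cast
      field_simp
      linear_combination h
    rw [this]; exact Subtype.mem _

theorem coeff_exists (x : F) : ∃ a b : F₀, x = a + ω * b := by
  have hne : ω - ω ^ q ≠ 0 := fun h => D.omega (D.mem.2 (sub_eq_zero.1 h).symm)
  have hb : ((x - x ^ q) / (ω - ω ^ q)) ^ q = (x - x ^ q) / (ω - ω ^ q) := by
    rw [div_pow, sub_pow_q D.card, sub_pow_q D.card, pow_q_pow_q D.card, pow_q_pow_q D.card,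
      ← neg_sub x, ← neg_sub ω, neg_div_neg_eq]
  refine ⟨⟨x - ω * ((x - x ^ q) / (ω - ω ^ q)), D.mem.2 ?_⟩, ⟨_, D.mem.2 hb⟩, by simp⟩
  rw [sub_pow_q D.card, mul_pow, hb]
  field_simp
  ring

theorem split (v : Fin n → F) : ∃ x y, v = ratEmb P F₀ x + ω • ratEmb P F₀ y := by
  obtain ⟨w, hw⟩ := Matrix.mulVec_surjective_iff_isUnit.2 (Units.isUnit P) v
  choose a b hab using fun i => D.coeff_exists (w i)
  refine ⟨a, b, ?_⟩
  rw [← hw]
  show _ = (P : Matrix (Fin n) (Fin n) F) *ᵥ _ + ω • ((P : Matrix (Fin n) (Fin n) F) *ᵥ _)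
  rw [← Matrix.mulVec_smul, ← Matrix.mulVec_add]
  congr 1
  funext i
  simp [hab i]

theorem split_unique {x y x' y' : Fin n → F₀}
    (h : ratEmb P F₀ x + ω • ratEmb P F₀ y = ratEmb P F₀ x' + ω • ratEmb P F₀ y') :
    x = x' ∧ y = y' := by
  have h' : (fun i => (x i : F) + ω * y i) = fun i => (x' i : F) + ω * y' i := by
    apply Matrix.mulVec_injective_iff_isUnit.2 (Units.isUnit P)
    have e : ∀ a b : Fin n → F₀, (P : Matrix (Fin n) (Fin n) F) *ᵥ (fun i => (a i : F) + ω * b i) =
        ratEmb P F₀ a + ω • ratEmb P F₀ b := fun a b => by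
      show _ = (P : Matrix (Fin n) (Fin n) F) *ᵥ _ + ω • ((P : Matrix (Fin n) (Fin n) F) *ᵥ _)
      rw [← Matrix.mulVec_smul, ← Matrix.mulVec_add]; rfl
    rw [e, e, h]
  have hi := fun i => D.coeff_unique (a := x i - x' i) (b := y i - y' i) (by
    push_cast
    linear_combination congrFun h' i)
  exact ⟨funext fun i => sub_eq_zero.1 (hi i).1, funext fun i => sub_eq_zero.1 (hi i).2⟩

/-- The alternating form on the rational structure. -/
noncomputable def bil : LinearMap.BilinForm F₀ (Fin n → F₀) :=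
  LinearMap.mk₂ F₀
    (fun u v => ⟨ζ * Cfsg.hermForm n F q (ratEmb P F₀ u) (ratEmb P F₀ v),
      D.rat _ _ (fun i => (u i).2) (fun i => (v i).2)⟩)
    (fun u u' v => Subtype.ext (by simp [(hermForm_isHerm D.card n).add_left, mul_add]))
    (fun c u v => Subtype.ext (by
      show ζ * Cfsg.hermForm n F q _ _ = (c : F) * (ζ * Cfsg.hermForm n F q _ _)
      rw [ratEmb_smul, (hermForm_isHerm D.card n).smul_left]; ring))
    (fun u v v' => Subtype.ext (by simp [(hermForm_isHerm D.card n).add_right D.card, mul_add]))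
    (fun c u v => Subtype.ext (by
      show ζ * Cfsg.hermForm n F q _ _ = (c : F) * (ζ * Cfsg.hermForm n F q _ _)
      rw [ratEmb_smul, (hermForm_isHerm D.card n).smul_right, D.val_pow]; ring))

theorem herm_val (u v : Fin n → F₀) :
    Cfsg.hermForm n F q (ratEmb P F₀ u) (ratEmb P F₀ v) = ζ⁻¹ * (D.bil u v : F) := by
  show _ = ζ⁻¹ * (ζ * Cfsg.hermForm n F q (ratEmb P F₀ u) (ratEmb P F₀ v))
  rw [← mul_assoc, inv_mul_cancel₀ D.zeta0, one_mul]

theorem bil_self (u : Fin n → F₀) : D.bil u u = 0 :=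
  Subtype.ext (mul_eq_zero_of_right _ (D.alt _ fun i => (u i).2))

theorem bil_skew (u v : Fin n → F₀) : D.bil u v = - D.bil v u := by
  have h := D.bil_self (u + v)
  simp only [map_add, LinearMap.add_apply, D.bil_self] at h
  linear_combination h

theorem herm_right (u x y : Fin n → F₀) :
    Cfsg.hermForm n F q (ratEmb P F₀ x + ω • ratEmb P F₀ y) (ratEmb P F₀ u) =
      ζ⁻¹ * ((D.bil x u : F) + ω * D.bil y u) := by
  rw [(hermForm_isHerm D.card n).add_left, (hermForm_isHerm D.card n).smul_left, D.herm_val, D.herm_val]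
  ring

theorem herm_left (u x y : Fin n → F₀) :
    Cfsg.hermForm n F q (ratEmb P F₀ u) (ratEmb P F₀ x + ω • ratEmb P F₀ y) =
      ζ⁻¹ * ((D.bil u x : F) + ω ^ q * D.bil u y) := by
  rw [(hermForm_isHerm D.card n).add_right D.card, (hermForm_isHerm D.card n).smul_right, D.herm_val,
    D.herm_val]
  ring

theorem bil_nondeg (u : Fin n → F₀) (h : ∀ v, D.bil u v = 0) : u = 0 := by
  refine ratEmb_injective (P := P) ((hermForm_nondeg D.card n _ fun z => ?_).trans (map_zero _).symm)
  obtain ⟨x, y, rfl⟩ := D.split z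
  rw [D.herm_left, h, h]
  simp

theorem bil_surjective (θ : (Fin n → F₀) →ₗ[F₀] F₀) : ∃ r, ∀ x, D.bil x r = θ x := by
  have hinj : Function.Injective (D.bil.flip) := by
    rw [← LinearMap.ker_eq_bot, LinearMap.ker_eq_bot']
    intro r hr
    refine D.bil_nondeg r fun v => ?_
    rw [D.bil_skew, show D.bil v r = 0 from LinearMap.congr_fun hr v, neg_zero]
  obtain ⟨r, hr⟩ := (LinearMap.injective_iff_surjective_of_finrank_eq_finrank
    (Subspace.dual_finrank_eq (K := F₀) (V := Fin n → F₀)).symm).1 hinj θ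
  exact ⟨r, fun x => LinearMap.congr_fun hr x⟩

theorem iso_iff (x y : Fin n → F₀) :
    Cfsg.hermForm n F q (ratEmb P F₀ x + ω • ratEmb P F₀ y)
        (ratEmb P F₀ x + ω • ratEmb P F₀ y) = 0 ↔ D.bil x y = 0 := by
  have H := hermForm_isHerm D.card n
  have e : Cfsg.hermForm n F q (ratEmb P F₀ x + ω • ratEmb P F₀ y)
        (ratEmb P F₀ x + ω • ratEmb P F₀ y) = (ω ^ q - ω) * (ζ⁻¹ * D.bil x y) := by
    simp only [H.add_left, H.add_right D.card, H.smul_left, H.smul_right, D.herm_val, D.bil_self,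
      D.bil_skew y x]
    push_cast
    ring
  have hne : ω ^ q - ω ≠ 0 := fun h => D.omega (D.mem.2 (sub_eq_zero.1 h))
  rw [e, mul_eq_zero, mul_eq_zero]
  simp [hne, D.zeta0]

theorem skew_of_mem (a : F₀) : ζ * (a : F) + (ζ * (a : F)) ^ q = 0 := by
  rw [mul_pow, D.val_pow, ← add_mul, D.zeta, zero_mul]

theorem exists_of_skew {c : F} (hc : c + c ^ q = 0) : ∃ a : F₀, c = ζ * a := by
  refine ⟨⟨c / ζ, D.mem.2 ?_⟩, ?_⟩
  · rw [div_pow, eq_neg_of_add_eq_zero_right hc, eq_neg_of_add_eq_zero_right D.zeta, neg_div_neg_eq]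
  · show c = ζ * (c / ζ)
    rw [mul_comm, div_mul_cancel₀ _ D.zeta0]

section Overgroup

variable {M : Subgroup (Matrix.GeneralLinearGroup (Fin n) F)}
  (hHM : Cfsg.Geo.subfieldSubgroup F₀ P ⊓ suGL n F q ≤ M) (hn : 4 ≤ n)
include hHM hn

theorem rat_centre (r : Fin n → F₀) : ratEmb P F₀ r ∈ centres q M := by
  have hr : Cfsg.hermForm n F q (ratEmb P F₀ r) (ratEmb P F₀ r) = 0 := D.alt _ fun i => (r i).2
  refine ⟨hr, fun g c hc hg => ?_⟩
  obtain ⟨a, rfl⟩ := D.exists_of_skew hc
  have hgs : g = glTransvection D.card (ratEmb P F₀ r) hr _ hc := Units.ext hg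
  refine hHM ⟨mem_subfieldSubgroup_of_map one_ne_zero fun u => ⟨u + (a * D.bil u r) • r, ?_⟩,
    hgs ▸ suToGU_mem_suGL _⟩
  rw [hg, transvection_mulVec, one_smul, map_add, ratEmb_smul, D.herm_val]
  push_cast
  have := D.zeta0
  congr 2
  field_simp

/-- Rational transvections act diagonally on the two components of a centre. -/
theorem centre_move (r : Fin n → F₀) (a : F₀) {x y : Fin n → F₀}
    (h : ratEmb P F₀ x + ω • ratEmb P F₀ y ∈ centres q M) :
    ratEmb P F₀ (x + (a * D.bil x r) • r) + ω • ratEmb P F₀ (y + (a * D.bil y r) • r) ∈ centres q M := by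
  have := centres_step D.card (D.rat_centre hHM hn r) h (D.skew_of_mem a)
  convert this using 1
  rw [D.herm_right, map_add, map_add, ratEmb_smul, ratEmb_smul]
  push_cast
  have := D.zeta0
  match_scalars <;> field_simp <;> ring

theorem exists_pair_nonorth {x a b : Fin n → F₀} (ha : a ∉ Submodule.span F₀ {x})
    (hb : b ∉ Submodule.span F₀ {x}) : ∃ z, D.bil x z = 0 ∧ D.bil a z ≠ 0 ∧ D.bil b z ≠ 0 := by
  have one : ∀ a, a ∉ Submodule.span F₀ {x} → ∃ z, D.bil x z = 0 ∧ D.bil a z ≠ 0 := fun a ha => by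
    obtain ⟨θ, hθ, hθ0⟩ := Submodule.exists_dual_map_eq_bot_of_notMem ha inferInstance
    obtain ⟨z, hz⟩ := D.bil_surjective θ
    refine ⟨z, ?_, by rw [hz]; exact hθ⟩
    rw [hz]
    have := Submodule.mem_map_of_mem (f := θ) (Submodule.mem_span_singleton_self x)
    rwa [hθ0, Submodule.mem_bot] at this
  obtain ⟨z1, h1, h1'⟩ := one a ha
  obtain ⟨z2, h2, h2'⟩ := one b hb
  by_cases e1 : D.bil b z1 = 0
  · by_cases e2 : D.bil a z2 = 0
    · exact ⟨z1 + z2, by simp [h1, h2], by simpa [e2] using h1', by simpa [e1] using h2'⟩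
    · exact ⟨z2, h2, e2, h2'⟩
  · exact ⟨z1, h1, h1', e1⟩

theorem move_snd {x y y' : Fin n → F₀} (hxy : D.bil x y = 0) (hxy' : D.bil x y' = 0)
    (hy : y ∉ Submodule.span F₀ {x}) (hy' : y' ∉ Submodule.span F₀ {x})
    (h : ratEmb P F₀ x + ω • ratEmb P F₀ y ∈ centres q M) :
    ratEmb P F₀ x + ω • ratEmb P F₀ y' ∈ centres q M := by
  have step : ∀ y y', D.bil x y = 0 → D.bil x y' = 0 → D.bil y y' ≠ 0 →
      ratEmb P F₀ x + ω • ratEmb P F₀ y ∈ centres q M →
      ratEmb P F₀ x + ω • ratEmb P F₀ y' ∈ centres q M := by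
    intro y y' h1 h2 h3 h4
    have := D.centre_move hHM hn (y' - y) (D.bil y y')⁻¹ h4
    rw [map_sub, map_sub, h1, h2, D.bil_self, sub_zero, mul_zero, zero_smul, add_zero, sub_zero,
      inv_mul_cancel₀ h3, one_smul, add_sub_cancel] at this
    exact this
  by_cases h0 : D.bil y y' = 0
  swap
  · exact step y y' hxy hxy' h0 h
  obtain ⟨z, hz, hyz, hy'z⟩ := D.exists_pair_nonorth hHM hn hy hy'
  exact step z y' hz hxy' (by rw [D.bil_skew]; simpa using hy'z) (step y z hxy hz hyz h)

theorem move_fst {x y x' : Fin n → F₀} (hx : x ≠ 0) (hx' : x' ≠ 0) (hxy : D.bil x y = 0)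
    (hy : y ∉ Submodule.span F₀ {x}) (h : ratEmb P F₀ x + ω • ratEmb P F₀ y ∈ centres q M) :
    ∃ y', D.bil x' y' = 0 ∧ y' ∉ Submodule.span F₀ {x'} ∧
      ratEmb P F₀ x' + ω • ratEmb P F₀ y' ∈ centres q M := by
  have step : ∀ x x' y, D.bil x x' ≠ 0 → D.bil x y = 0 → y ∉ Submodule.span F₀ {x} →
      ratEmb P F₀ x + ω • ratEmb P F₀ y ∈ centres q M →
      ∃ y', D.bil x' y' = 0 ∧ y' ∉ Submodule.span F₀ {x'} ∧
        ratEmb P F₀ x' + ω • ratEmb P F₀ y' ∈ centres q M := by
    intro x x' y h3 h1 hy h4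
    set r := x' - x with hr
    set a := (D.bil x x')⁻¹ with ha
    have hxr : D.bil x r = D.bil x x' := by rw [hr, map_sub, D.bil_self, sub_zero]
    have := D.centre_move hHM hn r a h4
    rw [hxr, ha, inv_mul_cancel₀ h3, one_smul, hr, add_sub_cancel, ← hr, ← ha] at this
    refine ⟨_, ?_, fun hm => ?_, this⟩
    · have e : D.bil x' y = D.bil r y := by
        rw [hr, map_sub, LinearMap.sub_apply, h1, sub_zero]
      have e2 : D.bil x' r = D.bil x x' := by
        rw [hr, map_sub, D.bil_self, zero_sub, D.bil_skew x' x, neg_neg]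
      rw [map_add, map_smul, e, e2, smul_eq_mul, D.bil_skew y r, ha]
      field_simp
      ring
    · obtain ⟨k, hk⟩ := Submodule.mem_span_singleton.1 hm
      apply hy
      refine Submodule.mem_span_singleton.2 ⟨k, ?_⟩
      have e : D.bil y r = k * D.bil x x' := by
        have := congrArg (fun v => D.bil v r) hk
        simp only [map_smul, map_add, LinearMap.smul_apply, LinearMap.add_apply, smul_eq_mul, D.bil_self,
          mul_zero, add_zero] at this
        rw [← this, show D.bil x' r = D.bil x x' by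
          rw [hr, map_sub, D.bil_self, zero_sub, D.bil_skew x' x, neg_neg]]
      rw [e, ha, show (D.bil x x')⁻¹ * (k * D.bil x x') = k by field_simp] at hk
      rw [← add_sub_cancel_right y (k • r), ← hk, hr, smul_sub]
      abel
  by_cases h0 : D.bil x x' = 0
  swap
  · exact step x x' y h0 hxy hy h
  have hns : ∀ v : Fin n → F₀, v ≠ 0 → v ∉ Submodule.span F₀ {(0 : Fin n → F₀)} := fun v hv hm => hv (by
    simpa using hm)
  obtain ⟨z, -, hxz, hx'z⟩ := D.exists_pair_nonorth hHM hn (hns x hx) (hns x' hx')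
  obtain ⟨y1, h1, h1', h1c⟩ := step x z y hxz hxy hy h
  exact step z x' y1 (by rw [D.bil_skew]; simpa using hx'z) h1 h1' h1c

theorem le_of_centre {x y : Fin n → F₀} (hx : x ≠ 0) (hxy : D.bil x y = 0)
    (hy : y ∉ Submodule.span F₀ {x}) (h : ratEmb P F₀ x + ω • ratEmb P F₀ y ∈ centres q M) :
    suGL n F q ≤ M := by
  refine le_of_centres D.card (Or.inl (by omega)) fun v hv => ?_
  obtain ⟨x', y', rfl⟩ := D.split v
  rw [D.iso_iff] at hv
  by_cases hx' : x' = 0
  · rw [hx', map_zero, zero_add]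
    exact centres_smul D.card (D.rat_centre hHM hn y') ω
  by_cases hy' : y' ∈ Submodule.span F₀ {x'}
  · obtain ⟨c, rfl⟩ := Submodule.mem_span_singleton.1 hy'
    rw [ratEmb_smul, smul_smul, ← one_smul F (ratEmb P F₀ x'), smul_smul, mul_one, ← add_smul]
    exact centres_smul D.card (D.rat_centre hHM hn x') _
  obtain ⟨y1, h1, h1', h1c⟩ := D.move_fst hHM hn hx hx' hxy hy h
  exact D.move_snd hHM hn h1 hv h1' hy' h1c

theorem exists_centre {g : Matrix.GeneralLinearGroup (Fin n) F} (hgM : g ∈ M)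
    (hg : g ∈ suGL n F q) (hgH : g ∉ Cfsg.Geo.subfieldSubgroup F₀ P) :
    ∃ x y, x ≠ 0 ∧ D.bil x y = 0 ∧ y ∉ Submodule.span F₀ {x} ∧
      ratEmb P F₀ x + ω • ratEmb P F₀ y ∈ centres q M := by
  by_contra hno
  push Not at hno
  -- each rational vector goes to a multiple of a rational one
  have line : ∀ u, ∃ (l : F) (r : Fin n → F₀),
      (g : Matrix (Fin n) (Fin n) F) *ᵥ ratEmb P F₀ u = l • ratEmb P F₀ r := fun u => by
    have hc := centres_conj hgM hg (D.rat_centre hHM hn u)
    obtain ⟨x, y, hxy⟩ := D.split ((g : Matrix (Fin n) (Fin n) F) *ᵥ ratEmb P F₀ u)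
    rw [hxy] at hc ⊢
    by_cases hx : x = 0
    · exact ⟨ω, y, by rw [hx, map_zero, zero_add]⟩
    have hy : y ∈ Submodule.span F₀ {x} := by
      by_contra hy
      exact hno x y hx ((D.iso_iff x y).1 hc.1) hy hc
    obtain ⟨c, rfl⟩ := Submodule.mem_span_singleton.1 hy
    exact ⟨1 + ω * c, x, by rw [ratEmb_smul, smul_smul, add_smul, one_smul]⟩
  choose l r hlr using line
  have hG := Matrix.mulVec_injective_iff_isUnit.2 (Units.isUnit g)
  have hnz : ∀ u, u ≠ 0 → l u ≠ 0 ∧ r u ≠ 0 := fun u hu => by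
    constructor <;> intro h0 <;> apply hu <;> apply ratEmb_injective (P := P) <;> apply hG <;>
      simp [hlr u, h0, Matrix.mulVec_zero]
  -- the ratio is constant up to the subfield
  have ratio : ∀ u u', u ≠ 0 → u' ∉ Submodule.span F₀ {u} → ∃ c : F₀, l u' = c * l u := by
    intro u u' hu hu'
    have hu'0 : u' ≠ 0 := fun h => hu' (h ▸ zero_mem _)
    obtain ⟨hlu, hru⟩ := hnz u hu
    obtain ⟨hlu', hru'⟩ := hnz u' hu'0
    have hs : u + u' ≠ 0 := fun h => hu' (by
      rw [show u' = -u from eq_neg_of_add_eq_zero_right h]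
      exact neg_mem (Submodule.mem_span_singleton_self u))
    obtain ⟨hls, -⟩ := hnz _ hs
    have e := hlr (u + u')
    rw [map_add, Matrix.mulVec_add, hlr, hlr] at e
    obtain ⟨p, p', hp⟩ := D.coeff_exists (l u / l (u + u'))
    obtain ⟨k, k', hk⟩ := D.coeff_exists (l u' / l (u + u'))
    have e1 : ratEmb P F₀ (r (u + u')) + ω • ratEmb P F₀ (0 : Fin n → F₀) =
        ratEmb P F₀ (p • r u + k • r u') + ω • ratEmb P F₀ (p' • r u + k' • r u') := by
      rw [map_zero, smul_zero, add_zero, map_add, map_add, ratEmb_smul, ratEmb_smul, ratEmb_smul,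
        ratEmb_smul, ← inv_smul_smul₀ hls (ratEmb P F₀ (r (u + u'))), ← e, smul_add, smul_smul,
        smul_smul, ← div_eq_inv_mul, ← div_eq_inv_mul, hp, hk]
      module
    obtain ⟨-, h2⟩ := D.split_unique e1
    have hind : ∀ a b : F₀, a • r u + b • r u' = 0 → a = 0 ∧ b = 0 := by
      intro a b hab
      by_cases hb : b = 0
      · subst hb
        rw [zero_smul, add_zero] at hab
        exact ⟨(smul_eq_zero.1 hab).resolve_right hru, rfl⟩
      · exfalso
        have hb' : (b : F) ≠ 0 := fun h0 => hb (Subtype.ext h0)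
        set s := l u' * (-(a : F) / b) / l u with hs'
        have e2 : (g : Matrix (Fin n) (Fin n) F) *ᵥ (ratEmb P F₀ u') =
            s • ((g : Matrix (Fin n) (Fin n) F) *ᵥ ratEmb P F₀ u) := by
          have e3 : ratEmb P F₀ (r u') = (-(a : F) / b) • ratEmb P F₀ (r u) := by
            have := congrArg (ratEmb P F₀) hab
            rw [map_add, ratEmb_smul, ratEmb_smul, map_zero] at this
            rw [← inv_smul_smul₀ hb' (ratEmb P F₀ (r u')), eq_neg_of_add_eq_zero_right this]
            match_scalars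
            field_simp
          rw [hlr, hlr, e3, smul_smul, smul_smul, hs']
          congr 1
          field_simp
        rw [← Matrix.mulVec_smul] at e2
        have e4 := hG e2
        obtain ⟨p, p', hp⟩ := D.coeff_exists s
        have e5 : ratEmb P F₀ u' + ω • ratEmb P F₀ (0 : Fin n → F₀) =
            ratEmb P F₀ (p • u) + ω • ratEmb P F₀ (p' • u) := by
          rw [map_zero, smul_zero, add_zero, e4, hp, ratEmb_smul, ratEmb_smul]
          module
        exact hu' (Submodule.mem_span_singleton.2 ⟨p, (D.split_unique e5).1.symm⟩)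
    obtain ⟨hp0, hk0⟩ := hind p' k' h2.symm
    subst hp0 hk0
    simp only [ZeroMemClass.coe_zero, mul_zero, add_zero] at hp hk
    have hp' : (p : F) ≠ 0 := hp ▸ div_ne_zero hlu hls
    refine ⟨k / p, ?_⟩
    rw [div_eq_iff hls] at hp hk
    push_cast
    rw [hk, hp]
    field_simp
  obtain ⟨u0, hu0⟩ : ∃ u : Fin n → F₀, u ≠ 0 := ⟨Pi.single ⟨0, by omega⟩ 1, by simp⟩
  obtain ⟨u1, hu1⟩ : ∃ u1, u1 ∉ Submodule.span F₀ {u0} := by
    by_contra hc
    push Not at hc
    have := Submodule.finrank_mono (show (⊤ : Submodule F₀ (Fin n → F₀)) ≤ _ from fun x _ => hc x)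
    rw [finrank_top, Module.finrank_fin_fun, finrank_span_singleton hu0] at this
    omega
  apply hgH
  refine mem_subfieldSubgroup_of_map (hnz u0 hu0).1 fun u => ?_
  by_cases hu : u ∈ Submodule.span F₀ {u0}
  · obtain ⟨c, rfl⟩ := Submodule.mem_span_singleton.1 hu
    exact ⟨c • r u0, by rw [ratEmb_smul, Matrix.mulVec_smul, hlr, ratEmb_smul, smul_comm]⟩
  · obtain ⟨c, hc⟩ := ratio u0 u hu0 hu
    exact ⟨c • r u, by rw [hlr, hc, ratEmb_smul, smul_smul, mul_comm]⟩

end Overgroup

end SympData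

/-- The symplectic subfield subgroup is maximal in SU. -/
theorem isMaximalIn_symp_subfield (hF : Fintype.card F = q ^ 2) (hn : 4 ≤ n)
    (hcard : Fintype.card F = Nat.card F₀ ^ 2) {ζ : F} (hζ0 : ζ ≠ 0) (hζ : ζ + ζ ^ q = 0)
    (hP : Cfsg.Geo.IsFormRationalStructure (Cfsg.hermForm n F q) F₀ ζ P)
    (halt : ∀ u : Fin n → F, (∀ i, u i ∈ F₀) → Cfsg.hermForm n F q
      (Matrix.mulVec (P : Matrix (Fin n) (Fin n) F) u) (Matrix.mulVec (P : Matrix (Fin n) (Fin n) F) u) = 0) :
    Cfsg.Geo.IsMaximalIn (suGL n F q) (Cfsg.Geo.subfieldSubgroup F₀ P ⊓ suGL n F q) := by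
  obtain ⟨ω, hω⟩ : ∃ ω : F, ω ∉ F₀ := by
    by_contra hc
    push Not at hc
    have h1 : Nat.card F₀ = Fintype.card F := by
      rw [← Nat.card_eq_fintype_card]
      exact Nat.card_congr (Equiv.subtypeUnivEquiv hc)
    rw [h1] at hcard
    have := Fintype.one_lt_card (α := F)
    nlinarith
  have D : SympData q F₀ P ζ ω :=
    ⟨hF, mem_subfield_iff_pow hF hcard, fun u v hu hv => hP u v hu hv, halt, hζ0, hζ, hω⟩
  refine isMaximalIn_of_forall inf_le_right ?_ fun M hHM hMK g hgM hgH => ?_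
  · -- a transvection with irrational centre
    let u : Fin n → F₀ := Pi.single ⟨0, by omega⟩ 1
    have hu : u ≠ 0 := by simp [u]
    obtain ⟨y, hy, hyu⟩ : ∃ y, D.bil u y = 0 ∧ y ∉ Submodule.span F₀ {u} := by
      by_contra hc
      push Not at hc
      have h1 := Submodule.finrank_mono (show LinearMap.ker (D.bil u) ≤ _ from fun x hx => hc x hx)
      have h3 := LinearMap.finrank_range_add_finrank_ker (D.bil u)
      have h4 := Submodule.finrank_le (LinearMap.range (D.bil u))
      rw [Module.finrank_fin_fun] at h3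
      rw [Module.finrank_self] at h4
      rw [finrank_span_singleton hu] at h1
      omega
    set v := ratEmb P F₀ u + ω • ratEmb P F₀ y with hvdef
    have hv : Cfsg.hermForm n F q v v = 0 := (D.iso_iff u y).2 hy
    have hc := D.skew_of_mem 1
    refine ⟨glTransvection hF v hv _ hc, suToGU_mem_suGL _, fun hmem => ?_⟩
    obtain ⟨l, hl⟩ := subfieldSubgroup_map hmem.1
    have ev : ∀ x, ((glTransvection hF v hv _ hc : Matrix.GeneralLinearGroup (Fin n) F) :
        Matrix (Fin n) (Fin n) F) *ᵥ ratEmb P F₀ x =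
        ratEmb P F₀ x + ((D.bil x u : F) + ω ^ q * D.bil x y) • v := fun x => by
      refine (transvection_mulVec _ _ _).trans ?_
      rw [hvdef, D.herm_left]
      push_cast
      congr 2
      field_simp
    have hu' : D.bil u u = 0 := D.bil_self u
    -- the vector u is fixed
    obtain ⟨w, hw⟩ := hl u
    rw [ev, hu', hy] at hw
    simp only [ZeroMemClass.coe_zero, mul_zero, add_zero, zero_smul] at hw
    obtain ⟨a, b, rfl⟩ := D.coeff_exists l
    have e1 : ratEmb P F₀ u + ω • ratEmb P F₀ (0 : Fin n → F₀) =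
        ratEmb P F₀ (a • w) + ω • ratEmb P F₀ (b • w) := by
      rw [map_zero, smul_zero, add_zero, hw, ratEmb_smul, ratEmb_smul]
      module
    obtain ⟨h3, h4⟩ := D.split_unique e1
    have hb : b = 0 := (smul_eq_zero.1 h4.symm).resolve_right fun h => hu (by rw [h3, h, smul_zero])
    subst hb
    -- a vector moved in an irrational direction
    obtain ⟨z, hz⟩ : ∃ z, D.bil z u ≠ 0 := by
      by_contra hc
      push Not at hc
      exact hu (D.bil_nondeg u fun x => by rw [D.bil_skew, hc x, neg_zero])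
    obtain ⟨w', hw'⟩ := hl z
    rw [ev] at hw'
    obtain ⟨α, β, hαβ⟩ := D.coeff_exists ((D.bil z u : F) + ω ^ q * D.bil z y)
    obtain ⟨c0, c1, hω2⟩ := D.coeff_exists (ω * ω)
    have e2 : ratEmb P F₀ (z + α • u + (β * c0) • y) + ω • ratEmb P F₀ (β • u + (α + β * c1) • y) =
        ratEmb P F₀ (a • w') + ω • ratEmb P F₀ (0 : Fin n → F₀) := by
      simp only [ZeroMemClass.coe_zero, mul_zero, add_zero] at hw'
      rw [map_zero, smul_zero, add_zero, ratEmb_smul, ← hw', hαβ, hvdef]
      simp only [map_add, ratEmb_smul]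
      push_cast
      match_scalars
      · ring
      · ring
      · linear_combination (-(β : F)) * hω2
    obtain ⟨-, h5⟩ := D.split_unique e2
    by_cases hb : α + β * c1 = 0
    · have hβ : β = 0 := by
        rw [hb, zero_smul, add_zero] at h5
        exact (smul_eq_zero.1 h5).resolve_right hu
      subst hβ
      rw [zero_mul, add_zero] at hb
      subst hb
      simp only [ZeroMemClass.coe_zero, mul_zero, add_zero] at hαβ
      have hωq : ω ^ q ∉ F₀ := fun h => hω (D.mem.2 (by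
        have := D.mem.1 h
        rw [pow_q_pow_q hF] at this
        exact this.symm))
      by_cases hzy : D.bil z y = 0
      · rw [hzy] at hαβ
        simp only [ZeroMemClass.coe_zero, mul_zero, add_zero] at hαβ
        exact hz (Subtype.ext hαβ)
      · apply hωq
        have : ω ^ q = ((-(D.bil z u) / D.bil z y : F₀) : F) := by
          have hne : (D.bil z y : F) ≠ 0 := fun h => hzy (Subtype.ext h)
          push_cast
          field_simp
          linear_combination hαβ
        rw [this]; exact Subtype.mem _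
    · apply hyu
      refine Submodule.mem_span_singleton.2 ⟨-β / (α + β * c1), ?_⟩
      rw [← inv_smul_smul₀ hb y, eq_neg_of_add_eq_zero_right h5]
      match_scalars
      field_simp
  · obtain ⟨x, y, hx, hxy, hy, hc⟩ :=
      D.exists_centre hHM hn hgM (hMK hgM) fun h => hgH ⟨h, hMK hgM⟩
    exact D.le_of_centre hHM hn hx hxy hy hc

end Cfsg.Agent.Unitary
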