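import Cfsg.Agent.Lib.Unitary.Group
/-
Unitary transvections: basic identities.
* transvection_mulVec: T v c *ᵥ x = x + (c * h x v) • v
* transvection_isometry_iff, transvection_isUnitary, transvection_det (= 1), transvection_mul (additive in c)
* transvection_zero, transvection_smul, transvection_conj (g T(v,c) g⁻¹ = T(g v, c)), suTransvection
-/
set_option autoImplicit false

namespace Cfsg.Agent.Unitary

open scoped Matrix

variable {F : Type*} [Field F] {q n : ℕ}

theorem transvection_mulVec (v x : Fin n → F) (c : F) :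
    Cfsg.unitaryTransvection n q v c *ᵥ x = x + (c * Cfsg.hermForm n F q x v) • v := by
  have e : (fun j => v j ^ q) ⬝ᵥ x = Cfsg.hermForm n F q x v := by
    simp [dotProduct, Cfsg.hermForm, mul_comm]
  rw [Cfsg.unitaryTransvection, Matrix.add_mulVec, Matrix.one_mulVec, Matrix.smul_mulVec,
    Matrix.vecMulVec_mulVec, e, op_smul_eq_smul, smul_smul]

theorem transvection_zero (v : Fin n → F) : Cfsg.unitaryTransvection n q v 0 = 1 := by
  simp [Cfsg.unitaryTransvection]

theorem transvection_smul (a c : F) (v : Fin n → F) :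
    Cfsg.unitaryTransvection n q (a • v) c = Cfsg.unitaryTransvection n q v (c * a ^ (q + 1)) := by
  ext i j
  simp [Cfsg.unitaryTransvection, Matrix.vecMulVec_apply, pow_succ, mul_pow]
  ring

variable [Fintype F]

theorem skew_iff (hF : Fintype.card F = q ^ 2) (c : F) :
    c + c ^ q = 0 ↔ c = 0 ∨ c ^ (q - 1) = -1 := by
  have hq := two_le_q hF
  have e : c ^ q = c * c ^ (q - 1) := by rw [← pow_succ', Nat.sub_add_cancel (by omega)]
  rw [e, show c + c * c ^ (q - 1) = c * (1 + c ^ (q - 1)) by ring, mul_eq_zero, add_comm,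
    add_eq_zero_iff_eq_neg]

theorem transvection_herm (hF : Fintype.card F = q ^ 2) (v x y : Fin n → F) (c : F)
    (hv0 : Cfsg.hermForm n F q v v = 0) :
    Cfsg.hermForm n F q (Cfsg.unitaryTransvection n q v c *ᵥ x)
        (Cfsg.unitaryTransvection n q v c *ᵥ y) =
      Cfsg.hermForm n F q x y +
        (c + c ^ q) * (Cfsg.hermForm n F q x v * Cfsg.hermForm n F q y v ^ q) := by
  have H := hermForm_isHerm hF n
  rw [transvection_mulVec, transvection_mulVec, H.add_left, H.add_right hF, H.add_right hF,
    H.smul_left, H.smul_left, H.smul_right, H.smul_right, hv0, H.conj_symm y v, mul_pow]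
  ring

theorem transvection_isometry_iff (hF : Fintype.card F = q ^ 2) (v : Fin n → F) (hv : v ≠ 0)
    (hv0 : Cfsg.hermForm n F q v v = 0) (c : F) :
    IsUnitary q (Cfsg.unitaryTransvection n q v c) ↔ c + c ^ q = 0 := by
  constructor
  · intro h
    obtain ⟨i, hi⟩ := Function.ne_iff.1 hv
    have hx : Cfsg.hermForm n F q (Pi.single i 1) v ≠ 0 := by
      rw [hermForm_single_left]
      exact fun e => hi ((pow_q_eq_zero hF).1 e)
    have := h (Pi.single i 1) (Pi.single i 1)
    rw [transvection_herm hF v _ _ c hv0, add_eq_left] at this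
    rcases mul_eq_zero.1 this with h' | h'
    · exact h'
    · exact absurd h' (mul_ne_zero hx (fun e => hx ((pow_q_eq_zero hF).1 e)))
  · intro hc x y
    rw [transvection_herm hF v x y c hv0, hc, zero_mul, add_zero]

theorem transvection_isUnitary (hF : Fintype.card F = q ^ 2) (v : Fin n → F)
    (hv0 : Cfsg.hermForm n F q v v = 0) {c : F} (hc : c + c ^ q = 0) :
    IsUnitary q (Cfsg.unitaryTransvection n q v c) := fun x y => by
  rw [transvection_herm hF v x y c hv0, hc, zero_mul, add_zero]

omit [Fintype F] in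
theorem transvection_mul (v : Fin n → F) (hv0 : Cfsg.hermForm n F q v v = 0) (c d : F) :
    Cfsg.unitaryTransvection n q v c * Cfsg.unitaryTransvection n q v d =
      Cfsg.unitaryTransvection n q v (c + d) := by
  have e : (fun j => v j ^ q) ⬝ᵥ v = 0 := by
    simpa [dotProduct, Cfsg.hermForm, mul_comm] using hv0
  simp only [Cfsg.unitaryTransvection, Matrix.add_mul, Matrix.mul_add, Matrix.one_mul,
    Matrix.mul_one, Matrix.smul_mul, Matrix.mul_smul, Matrix.vecMulVec_mul_vecMulVec, e,
    smul_zero, add_zero, zero_smul, Matrix.vecMulVec_zero, Matrix.zero_vecMulVec, add_smul]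
  abel

omit [Fintype F] in
theorem transvection_det (v : Fin n → F) (hv0 : Cfsg.hermForm n F q v v = 0) (c : F) :
    (Cfsg.unitaryTransvection n q v c).det = 1 := by
  have e : (fun j => v j ^ q) ⬝ᵥ (c • v) = 0 := by
    rw [dotProduct_smul]
    have : (fun j => v j ^ q) ⬝ᵥ v = 0 := by
      simpa [dotProduct, Cfsg.hermForm, mul_comm] using hv0
    rw [this, smul_zero]
  rw [Cfsg.unitaryTransvection, ← Matrix.smul_vecMulVec,
    Matrix.vecMulVec_eq Unit, Matrix.det_one_add_replicateCol_mul_replicateRow, e, add_zero]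

theorem transvection_conj (g : Cfsg.GU n F q) (v : Fin n → F) (c : F) :
    ((g : Matrix.GeneralLinearGroup (Fin n) F) : Matrix (Fin n) (Fin n) F) *
        Cfsg.unitaryTransvection n q v c =
      Cfsg.unitaryTransvection n q
          (((g : Matrix.GeneralLinearGroup (Fin n) F) : Matrix (Fin n) (Fin n) F) *ᵥ v) c *
        ((g : Matrix.GeneralLinearGroup (Fin n) F) : Matrix (Fin n) (Fin n) F) := by
  refine Matrix.ext_iff_mulVec.2 fun x => ?_
  rw [← Matrix.mulVec_mulVec, ← Matrix.mulVec_mulVec, transvection_mulVec, transvection_mulVec,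
    Matrix.mulVec_add, Matrix.mulVec_smul, GU_apply]

/-- The unitary transvection as an element of SU. -/
def suTransvection (hF : Fintype.card F = q ^ 2) (v : Fin n → F)
    (hv0 : Cfsg.hermForm n F q v v = 0) (c : F) (hc : c + c ^ q = 0) : Cfsg.SU n F q :=
  suOfUnitary _ (transvection_isUnitary hF v hv0 hc) (transvection_det v hv0 c)

end Cfsg.Agent.Unitary
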