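import Cfsg.Agent.Lib.Unitary.Witt
/-
Totally isotropic tuples and subspaces of the standard hermitian space.
* IsTI w: independent, pairwise orthogonal isotropic family; card_tiTuple_succ
* card_GU_tiTuple: |GU_n| = q^(k(2n-3k)) |GU_(n-2k)| #(tuples)
* card_tiTuple_eq: #tuples = #subspaces * ∏ (q^2k - q^2i); card_tiStab_GU; exists_gu_scale
* card_tiStab_SU
-/
set_option autoImplicit false

namespace Cfsg.Agent.Unitary

open scoped Matrix BigOperators

variable {F : Type*} [Field F] {q n k m : ℕ}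

/-- An independent family of pairwise orthogonal isotropic vectors. -/
def IsTI (q : ℕ) (w : Fin k → (Fin n → F)) : Prop :=
  LinearIndependent F w ∧ ∀ i j, Cfsg.hermForm n F q (w i) (w j) = 0

/-- A totally isotropic subspace of dimension k. -/
def IsTISubspace (q k : ℕ) (W : Submodule F (Fin n → F)) : Prop :=
  Module.finrank F W = k ∧ ∀ u ∈ W, ∀ v ∈ W, Cfsg.hermForm n F q u v = 0

theorem herm_append3 (x x' y y' : Fin k → F) (z z' : Fin m → F) :
    Cfsg.hermForm (k + (k + m)) F q (Fin.append x (Fin.append y z))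
        (Fin.append x' (Fin.append y' z')) =
      Cfsg.hermForm k F q x x' + (Cfsg.hermForm k F q y y' + Cfsg.hermForm m F q z z') := by
  simp [Cfsg.hermForm, Fin.sum_univ_add]

variable [Fintype F]

/-- The standard totally isotropic k-tuple in dimension k + (k + m). -/
def tiModel (ε : F) (k m : ℕ) (i : Fin k) : Fin (k + (k + m)) → F :=
  Fin.append (Pi.single i 1) (Fin.append (ε • Pi.single i 1) 0)

theorem herm_append3_model (hF : Fintype.card F = q ^ 2) (ε : F) (x y : Fin k → F) (z : Fin m → F)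
    (i : Fin k) :
    Cfsg.hermForm (k + (k + m)) F q (Fin.append x (Fin.append y z)) (tiModel ε k m i) =
      x i + ε ^ q * y i := by
  rw [tiModel, herm_append3, hermForm_single_right hF, (hermForm_isHerm hF k).smul_right,
    hermForm_single_right hF, (hermForm_isHerm hF m).zero_right hF, add_zero]

omit [Fintype F] in
theorem tiModel_sum (ε : F) (c : Fin k → F) :
    ∑ i, c i • tiModel ε k m i = Fin.append c (Fin.append (ε • c) 0) := by
  ext j
  induction j using Fin.addCases with
  | left j => simp [tiModel, Pi.single_apply]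
  | right j =>
    induction j using Fin.addCases with
    | left j => simp [tiModel, Pi.single_apply, mul_comm]
    | right j => simp [tiModel]

theorem tiModel_isTI (hF : Fintype.card F = q ^ 2) {ε : F} (hε : ε ^ (q + 1) = -1) :
    IsTI q (tiModel ε k m) := by
  refine ⟨Fintype.linearIndependent_iff.2 fun c hc i => ?_, fun i j => ?_⟩
  · have := congrFun ((tiModel_sum ε c).symm.trans hc) (Fin.castAdd (k + m) i)
    simpa using this
  · show Cfsg.hermForm _ F q (Fin.append _ _) _ = 0
    rw [herm_append3_model hF]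
    rcases eq_or_ne j i with rfl | h
    · simp only [Pi.smul_apply, Pi.single_eq_same, smul_eq_mul, mul_one]
      linear_combination hε
    · simp [h]

theorem exists_isTI (hF : Fintype.card F = q ^ 2) (hk : 2 * k ≤ n) :
    ∃ w : Fin k → (Fin n → F), IsTI q w := by
  obtain ⟨m, rfl⟩ : ∃ m, n = k + (k + m) := ⟨n - 2 * k, by omega⟩
  obtain ⟨ε, hε⟩ := exists_eps hF
  exact ⟨_, tiModel_isTI hF hε⟩

/-- The next vector of a totally isotropic tuple, counted in the model. -/
theorem card_next_model (hF : Fintype.card F = q ^ 2) {ε : F} (hε : ε ^ (q + 1) = -1) :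
    Nat.card {v : Fin (k + (k + m)) → F // (Cfsg.hermForm _ F q v v = 0 ∧
        ∀ i, Cfsg.hermForm _ F q v (tiModel ε k m i) = 0) ∧
        v ∉ Submodule.span F (Set.range (tiModel ε k m))} =
      (q ^ 2) ^ k * (normCount m q (0 : F) - 1) := by
  classical
  have hεq : ε ^ q * ε = -1 := by rw [← pow_succ, hε]
  let mk : (Fin k → F) → (Fin m → F) → (Fin (k + (k + m)) → F) :=
    fun x z => Fin.append x (Fin.append (ε • x) z)
  have hperp : ∀ x z i, Cfsg.hermForm _ F q (mk x z) (tiModel ε k m i) = 0 := fun x z i => by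
    rw [herm_append3_model hF, Pi.smul_apply, smul_eq_mul]
    linear_combination x i * hεq
  have hnorm : ∀ x z, Cfsg.hermForm _ F q (mk x z) (mk x z) = Cfsg.hermForm m F q z z := by
    intro x z
    have H := hermForm_isHerm hF k
    rw [herm_append3, H.smul_left, H.smul_right, ← mul_assoc, mul_comm ε, hεq]
    ring
  have hspan : ∀ x z, mk x z ∈ Submodule.span F (Set.range (tiModel ε k m)) ↔ z = 0 := by
    intro x z
    rw [Submodule.mem_span_range_iff_exists_fun]
    constructor
    · rintro ⟨c, hc⟩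
      rw [tiModel_sum] at hc
      ext j
      simpa [mk] using (congrFun hc (Fin.natAdd k (Fin.natAdd k j))).symm
    · rintro rfl
      exact ⟨x, tiModel_sum ε x⟩
  have hdecomp : ∀ v, (∀ i, Cfsg.hermForm _ F q v (tiModel ε k m i) = 0) →
      v = mk (fun i => v (Fin.castAdd (k + m) i)) (fun j => v (Fin.natAdd k (Fin.natAdd k j))) := by
    intro v hv
    ext j
    induction j using Fin.addCases with
    | left j => simp [mk]
    | right j =>
      induction j using Fin.addCases with
      | left j =>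
        have := hv j
        rw [← Fin.append_castAdd_natAdd (f := v),
          ← Fin.append_castAdd_natAdd (f := fun i => v (Fin.natAdd k i)),
          herm_append3_model hF] at this
        simp [mk]
        linear_combination v (Fin.natAdd k (Fin.castAdd m j)) * hεq - ε * this
      | right j => simp [mk]
  let f : (Fin k → F) × {z : {z : Fin m → F // Cfsg.hermForm m F q z z = 0} // z.1 ≠ 0} →
      {v : Fin (k + (k + m)) → F // (Cfsg.hermForm _ F q v v = 0 ∧
        ∀ i, Cfsg.hermForm _ F q v (tiModel ε k m i) = 0) ∧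
        v ∉ Submodule.span F (Set.range (tiModel ε k m))} := fun p =>
    ⟨mk p.1 p.2.1.1, ⟨(hnorm _ _).trans p.2.1.2, hperp _ _⟩, fun h => p.2.2 ((hspan _ _).1 h)⟩
  have hf : Function.Bijective f := by
    refine ⟨fun p p' h => ?_, ?_⟩
    · have h' : mk p.1 p.2.1.1 = mk p'.1 p'.2.1.1 := congrArg Subtype.val h
      refine Prod.ext (funext fun i => ?_) (Subtype.ext (Subtype.ext (funext fun j => ?_)))
      · simpa [mk] using congrFun h' (Fin.castAdd (k + m) i)
      · simpa [mk] using congrFun h' (Fin.natAdd k (Fin.natAdd k j))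
    · rintro ⟨v, ⟨hv0, hvp⟩, hvs⟩
      have e := hdecomp v hvp
      exact ⟨(_, ⟨⟨_, (hnorm _ _).symm.trans ((congrArg (fun w => Cfsg.hermForm _ F q w w)
        e.symm).trans hv0)⟩, fun h => hvs (by rw [e]; exact (hspan _ _).2 h)⟩), Subtype.ext e.symm⟩
  calc _ = Nat.card ((Fin k → F) × {z : {z : Fin m → F // Cfsg.hermForm m F q z z = 0} // z.1 ≠ 0}) :=
        (Nat.card_eq_of_bijective f hf).symm
    _ = _ := by
      rw [Nat.card_prod, Nat.card_fun, Nat.card_eq_fintype_card (α := F), hF, Nat.card_fin]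
      congr 1
      have e : {z : {z : Fin m → F // Cfsg.hermForm m F q z z = 0} // z.1 ≠ 0} ≃
          {z : {z : Fin m → F // Cfsg.hermForm m F q z z = 0} //
            z ≠ ⟨0, (hermForm_isHerm hF m).zero_left 0⟩} :=
        Equiv.subtypeEquivRight fun z => by simp [Subtype.ext_iff]
      rw [Nat.card_congr e, Nat.card_eq_fintype_card, Fintype.card_subtype_compl,
        Fintype.card_subtype_eq, ← Nat.card_eq_fintype_card]
      rfl

theorem card_tiTuple_succ (hF : Fintype.card F = q ^ 2) (hk : 2 * k ≤ n) :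
    Nat.card {w : Fin (k + 1) → (Fin n → F) // IsTI q w} =
      Nat.card {w : Fin k → (Fin n → F) // IsTI q w} *
        ((q ^ 2) ^ k * (normCount (n - 2 * k) q (0 : F) - 1)) := by
  classical
  have H := hermForm_isHerm hF n
  have e : Nat.card {w : Fin (k + 1) → (Fin n → F) // IsTI q w} =
      Nat.card (Σ w : {w : Fin k → (Fin n → F) // IsTI q w},
        {v : Fin n → F // (Cfsg.hermForm n F q v v = 0 ∧ ∀ i, Cfsg.hermForm n F q v (w.1 i) = 0) ∧
          v ∉ Submodule.span F (Set.range w.1)}) := by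
    refine Nat.card_congr
      { toFun := fun w => ⟨⟨Fin.init w.1, ?_, fun i j => w.2.2 _ _⟩, w.1 (Fin.last k),
          ⟨w.2.2 _ _, fun i => w.2.2 _ _⟩, ?_⟩
        invFun := fun p => ⟨Fin.snoc p.1.1 p.2.1,
          linearIndependent_finSnoc.2 ⟨p.1.2.1, p.2.2.2⟩, fun i j => ?_⟩
        left_inv := fun w => Subtype.ext (Fin.snoc_init_self w.1)
        right_inv := fun p =>
          Sigma.subtype_ext (Subtype.ext (Fin.init_snoc (α := fun _ => Fin n → F) p.2.1 p.1.1))
            (Fin.snoc_last (α := fun _ => Fin n → F) p.2.1 p.1.1) }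
    · have := linearIndependent_finSnoc.1 ((Fin.snoc_init_self w.1).symm ▸ w.2.1)
      exact this.1
    · have := linearIndependent_finSnoc.1 ((Fin.snoc_init_self w.1).symm ▸ w.2.1)
      exact this.2
    · induction i using Fin.lastCases with
      | last =>
        induction j using Fin.lastCases with
        | last => simpa using p.2.2.1.1
        | cast j => simpa using p.2.2.1.2 j
      | cast i =>
        induction j using Fin.lastCases with
        | last => simpa using (H.eq_zero_symm hF).1 (p.2.2.1.2 i)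
        | cast j => simpa using p.1.2.2 i j
  rw [e, Nat.card_sigma, Finset.sum_congr rfl
      (g := fun _ => (q ^ 2) ^ k * (normCount (n - 2 * k) q (0 : F) - 1)),
    Finset.sum_const, smul_eq_mul, Finset.card_univ, ← Nat.card_eq_fintype_card]
  rintro ⟨w, hw⟩ -
  obtain ⟨m, rfl⟩ : ∃ m, n = k + (k + m) := ⟨n - 2 * k, by omega⟩
  rw [show k + (k + m) - 2 * k = m by omega]
  obtain ⟨ε, hε⟩ := exists_eps hF
  obtain ⟨g, hg⟩ := exists_gu_witt hF (tiModel_isTI (k := k) (m := m) hF hε).1 hw.1
    (fun i j => by rw [hw.2, (tiModel_isTI hF hε).2])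
  refine (Eq.trans ?_ (card_next_model (k := k) (m := m) hF hε))
  let G := ((g : Matrix.GeneralLinearGroup (Fin (k + (k + m))) F) :
    Matrix (Fin (k + (k + m))) (Fin (k + (k + m))) F)
  have hGu : ∀ u v, Cfsg.hermForm _ F q (G *ᵥ u) (G *ᵥ v) = Cfsg.hermForm _ F q u v := GU_apply g
  have hGbij : Function.Bijective (fun v => G *ᵥ v) := by
    refine Finite.injective_iff_bijective.1 ?_
    exact Matrix.mulVec_injective_iff_isUnit.2 (Units.isUnit _)
  have hGw : Submodule.span F (Set.range w) =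
      (Submodule.span F (Set.range (tiModel ε k m))).map (Matrix.mulVecLin G) := by
    rw [Submodule.map_span, ← Set.range_comp]
    congr 2
    funext i
    exact (hg i).symm
  refine Nat.card_congr (Equiv.subtypeEquiv (Equiv.ofBijective _ hGbij) fun v => ?_).symm
  show _ ↔ (Cfsg.hermForm _ F q (G *ᵥ v) (G *ᵥ v) = 0 ∧
    ∀ i, Cfsg.hermForm _ F q (G *ᵥ v) (w i) = 0) ∧ G *ᵥ v ∉ Submodule.span F (Set.range w)
  have hmem : G *ᵥ v ∈ Submodule.span F (Set.range w) ↔
      v ∈ Submodule.span F (Set.range (tiModel ε k m)) := by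
    rw [hGw, Submodule.mem_map]
    exact ⟨fun ⟨u, hu, huv⟩ => by rwa [← hGbij.1 huv], fun hu => ⟨v, hu, rfl⟩⟩
  rw [hmem, hGu]
  simp only [← hg]
  simp only [G, GU_apply]

theorem card_GU_add_two (hF : Fintype.card F = q ^ 2) (m : ℕ) :
    Nat.card (Cfsg.GU (m + 2) F q) =
      q ^ (2 * m + 1) * (normCount (m + 2) q (0 : F) - 1) * Nat.card (Cfsg.GU m F q) := by
  rw [card_GU hF, card_GU hF, Finset.prod_range_succ, Finset.prod_range_succ, isotropic_count hF,
    Nat.add_sub_cancel, ← Finset.sum_range_id, ← Finset.sum_range_id, Finset.sum_range_succ,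
    Finset.sum_range_succ, pow_add, pow_add]
  rcases Nat.even_or_odd m with he | ho
  · have h1 : Even (m + 2) := by simpa [Nat.even_add] using he
    have h2 : ¬ Even (m + 1) := Nat.not_even_iff_odd.2 he.add_one
    simp only [he, h1, h2, if_true, if_false, show m + 2 - 1 = m + 1 by omega]
    ring
  · have h0 : ¬ Even m := Nat.not_even_iff_odd.2 ho
    have h1 : ¬ Even (m + 2) := by simpa [Nat.even_add] using h0
    have h2 : Even (m + 1) := ho.add_one
    simp only [h0, h1, h2, if_true, if_false, show m + 2 - 1 = m + 1 by omega]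
    ring

theorem card_GU_tiTuple (hF : Fintype.card F = q ^ 2) (hk : 2 * k ≤ n) :
    Nat.card (Cfsg.GU n F q) = q ^ (k * (2 * n - 3 * k)) * Nat.card (Cfsg.GU (n - 2 * k) F q) *
      Nat.card {w : Fin k → (Fin n → F) // IsTI q w} := by
  induction k with
  | zero =>
    have : Nat.card {w : Fin 0 → (Fin n → F) // IsTI q w} = 1 := by
      rw [Nat.card_eq_one_iff_exists]
      exact ⟨⟨Fin.elim0, linearIndependent_empty_type, fun i => i.elim0⟩,
        fun b => Subtype.ext (Subsingleton.elim _ _)⟩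
    rw [this]
    simp
  | succ k ih =>
    rw [ih (by omega), card_tiTuple_succ hF (by omega)]
    obtain ⟨m, hm⟩ : ∃ m, n = 2 * (k + 1) + m := ⟨n - 2 * (k + 1), by omega⟩
    rw [show n - 2 * k = m + 2 by omega, show n - 2 * (k + 1) = m by omega, card_GU_add_two hF]
    have e : k * (2 * n - 3 * k) + (2 * m + 1) = (k + 1) * (2 * n - 3 * (k + 1)) + 2 * k := by
      rw [show 2 * n - 3 * k = k + 4 + 2 * m by omega,
        show 2 * n - 3 * (k + 1) = k + 1 + 2 * m by omega]
      ring
    calc _ = q ^ (k * (2 * n - 3 * k) + (2 * m + 1)) * ((normCount (m + 2) q (0 : F) - 1) *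
          Nat.card (Cfsg.GU m F q) * Nat.card {w : Fin k → (Fin n → F) // IsTI q w}) := by
          rw [pow_add]; ring
      _ = _ := by rw [e, pow_add]; ring

/-- Tuples counted by their spans. -/
theorem card_tiTuple_eq (hF : Fintype.card F = q ^ 2) :
    Nat.card {w : Fin k → (Fin n → F) // IsTI q w} =
      Nat.card {W : Submodule F (Fin n → F) // IsTISubspace q k W} *
        ∏ i : Fin k, ((q ^ 2) ^ k - (q ^ 2) ^ (i : ℕ)) := by
  classical
  have H := hermForm_isHerm hF n
  have e : Nat.card {w : Fin k → (Fin n → F) // IsTI q w} =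
      Nat.card (Σ W : {W : Submodule F (Fin n → F) // IsTISubspace q k W},
        {s : Fin k → W.1 // LinearIndependent F s}) := by
    refine (Nat.card_eq_of_bijective
      (fun p => ⟨fun i => (p.2.1 i : Fin n → F), p.2.2.map' _ (Submodule.ker_subtype _),
        fun i j => p.1.2.2 _ (p.2.1 i).2 _ (p.2.1 j).2⟩) ⟨?_, ?_⟩).symm
    · rintro ⟨⟨W, hW⟩, s, hs⟩ ⟨⟨W', hW'⟩, s', hs'⟩ h
      have h' : ∀ i, (s i : Fin n → F) = s' i := fun i => congrFun (congrArg Subtype.val h) i
      have span : ∀ (U : Submodule F (Fin n → F)) (hU : Module.finrank F U = k) (t : Fin k → U),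
          LinearIndependent F t → U = Submodule.span F (Set.range fun i => (t i : Fin n → F)) := by
        intro U hU t ht
        have := congrArg (Submodule.map U.subtype)
          (ht.span_eq_top_of_card_eq_finrank' (by simp [hU]))
        rw [Submodule.map_span, Submodule.map_top, Submodule.range_subtype, ← Set.range_comp] at this
        exact this.symm
      obtain rfl : W = W' := by
        rw [span W hW.1 s hs, span W' hW'.1 s' hs']
        simp only [h']
      obtain rfl : s = s' := funext fun i => Subtype.ext (h' i)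
      rfl
    · rintro ⟨w, hw, hwo⟩
      have hW : IsTISubspace q k (Submodule.span F (Set.range w)) := by
        refine ⟨by rw [finrank_span_eq_card hw, Fintype.card_fin], fun u hu v hv => ?_⟩
        obtain ⟨c, rfl⟩ := (Submodule.mem_span_range_iff_exists_fun F).1 hu
        obtain ⟨d, rfl⟩ := (Submodule.mem_span_range_iff_exists_fun F).1 hv
        simp [H.sum_left, H.sum_right hF, H.smul_left, H.smul_right, hwo]
      exact ⟨⟨⟨_, hW⟩, fun i => ⟨w i, Submodule.subset_span ⟨i, rfl⟩⟩,
        LinearIndependent.of_comp (Submodule.subtype _) (by exact hw)⟩, rfl⟩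
  rw [e, Nat.card_sigma, Finset.sum_congr rfl
      (g := fun _ => ∏ i : Fin k, ((q ^ 2) ^ k - (q ^ 2) ^ (i : ℕ))),
    Finset.sum_const, smul_eq_mul, Finset.card_univ, ← Nat.card_eq_fintype_card]
  rintro ⟨W, hW⟩ -
  rw [card_linearIndependent (le_of_eq hW.1.symm), hW.1, hF]

/-- The stabiliser of a subspace in GU. -/
abbrev tiStab (W : Submodule F (Fin n → F)) (q : ℕ) : Subgroup (Cfsg.GU n F q) :=
  (Cfsg.stabilizing (Cfsg.glToMat (Fin n) F) (W : Set (Fin n → F))).subgroupOf (Cfsg.GU n F q)

theorem tiSubspace_card_mul_stab (hF : Fintype.card F = q ^ 2) {W : Submodule F (Fin n → F)}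
    (hW : IsTISubspace q k W) :
    Nat.card (Cfsg.GU n F q) = Nat.card {U : Submodule F (Fin n → F) // IsTISubspace q k U} *
      Nat.card (tiStab W q) := by
  classical
  let M : Cfsg.GU n F q → Matrix (Fin n) (Fin n) F := fun g =>
    ((g : Matrix.GeneralLinearGroup (Fin n) F) : Matrix (Fin n) (Fin n) F)
  have Mmul : ∀ a b, M (a * b) = M a * M b := fun a b => rfl
  have Minj : ∀ g, Function.Injective (Matrix.mulVecLin (M g)) := fun g =>
    Matrix.mulVec_injective_iff_isUnit.2 (Units.isUnit _)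
  let π : Cfsg.GU n F q → {U : Submodule F (Fin n → F) // IsTISubspace q k U} := fun g =>
    ⟨W.map (Matrix.mulVecLin (M g)), by
      refine ⟨?_, ?_⟩
      · rw [← hW.1]
        exact (Submodule.equivMapOfInjective _ (Minj g) W).finrank_eq.symm
      · rintro _ ⟨u, hu, rfl⟩ _ ⟨v, hv, rfl⟩
        exact (GU_apply g u v).trans (hW.2 u hu v hv)⟩
  have hsurj : Function.Surjective π := by
    rintro ⟨U, hU⟩
    let b := Module.finBasisOfFinrankEq F W hW.1
    let b' := Module.finBasisOfFinrankEq F U hU.1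
    obtain ⟨g, hg⟩ := exists_gu_witt hF (u := fun i => (b i : Fin n → F))
      (w := fun i => (b' i : Fin n → F))
      (b.linearIndependent.map' _ (Submodule.ker_subtype _))
      (b'.linearIndependent.map' _ (Submodule.ker_subtype _))
      (fun i j => by rw [hW.2 _ (b i).2 _ (b j).2, hU.2 _ (b' i).2 _ (b' j).2])
    refine ⟨g, Subtype.ext ?_⟩
    show W.map (Matrix.mulVecLin (M g)) = U
    conv_lhs => rw [← Submodule.map_subtype_top W, ← b.span_eq]
    conv_rhs => rw [← Submodule.map_subtype_top U, ← b'.span_eq]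
    rw [Submodule.map_span, Submodule.map_span, Submodule.map_span, ← Set.range_comp,
      ← Set.range_comp, ← Set.range_comp]
    congr 2
    funext i
    exact hg i
  have hfib : ∀ g₀, Nat.card {g // π g = π g₀} = Nat.card (tiStab W q) := by
    intro g₀
    refine Nat.card_congr (Equiv.subtypeEquiv (Equiv.mulLeft g₀⁻¹) fun g => ?_)
    rw [Equiv.coe_mulLeft, Subgroup.mem_subgroupOf]
    show _ ↔ ∀ v, v ∈ W ↔ M (g₀⁻¹ * g) *ᵥ v ∈ W
    have cancel : ∀ v, M g₀ *ᵥ (M (g₀⁻¹ * g) *ᵥ v) = M g *ᵥ v := fun v => by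
      rw [Matrix.mulVec_mulVec, ← Mmul, mul_inv_cancel_left]
    constructor
    · intro h v
      have h' : W.map (Matrix.mulVecLin (M g)) = W.map (Matrix.mulVecLin (M g₀)) :=
        congrArg Subtype.val h
      constructor
      · intro hv
        obtain ⟨u, hu, e⟩ : M g *ᵥ v ∈ W.map (Matrix.mulVecLin (M g₀)) :=
          h' ▸ Submodule.mem_map_of_mem hv
        rw [← cancel] at e
        rwa [← Minj g₀ e]
      · intro hv
        obtain ⟨u, hu, e⟩ : M g *ᵥ v ∈ W.map (Matrix.mulVecLin (M g)) := by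
          rw [h', ← cancel]; exact Submodule.mem_map_of_mem hv
        rwa [← Minj g e]
    · intro h
      apply Subtype.ext
      apply le_antisymm
      · rintro _ ⟨v, hv, rfl⟩
        exact ⟨_, (h v).1 hv, cancel v⟩
      · rintro _ ⟨v, hv, rfl⟩
        obtain ⟨u, rfl⟩ := Matrix.mulVec_surjective_iff_isUnit.2
          (Units.isUnit ((g₀⁻¹ * g : Cfsg.GU n F q) : Matrix.GeneralLinearGroup (Fin n) F)) v
        exact ⟨u, (h u).2 hv, (cancel u).symm⟩
  rw [← Nat.card_congr (Equiv.sigmaFiberEquiv π), Nat.card_sigma,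
    Finset.sum_congr rfl (g := fun _ => Nat.card (tiStab W q)), Finset.sum_const, smul_eq_mul,
    Finset.card_univ, ← Nat.card_eq_fintype_card]
  intro U _
  obtain ⟨g₀, rfl⟩ := hsurj U
  exact hfib g₀

theorem card_tiStab_GU (hF : Fintype.card F = q ^ 2) (hk : 2 * k ≤ n)
    {W : Submodule F (Fin n → F)} (hW : IsTISubspace q k W) :
    Nat.card (tiStab W q) = q ^ (k * (2 * n - 3 * k)) *
      (∏ i : Fin k, ((q ^ 2) ^ k - (q ^ 2) ^ (i : ℕ))) * Nat.card (Cfsg.GU (n - 2 * k) F q) := by
  have h1 := tiSubspace_card_mul_stab hF hW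
  have h2 := card_GU_tiTuple hF hk
  rw [card_tiTuple_eq hF] at h2
  have : Nonempty {U : Submodule F (Fin n → F) // IsTISubspace q k U} := ⟨⟨W, hW⟩⟩
  apply Nat.eq_of_mul_eq_mul_left
    (Nat.card_pos (α := {U : Submodule F (Fin n → F) // IsTISubspace q k U}))
  rw [← h1, h2]
  ring

theorem exists_quot_eq (hF : Fintype.card F = q ^ 2) {m : F} (hm : m ^ (q + 1) = 1) :
    ∃ l : F, l ≠ 0 ∧ l = m * l ^ q := by
  by_contra hc
  simp only [not_exists, not_and] at hc
  have key : ∀ y : F, y + m * y ^ q = 0 := by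
    intro y
    by_contra hy
    refine hc _ hy ?_
    rw [add_pow_q hF, mul_pow, pow_q_pow_q hF]
    linear_combination -y * hm
  have h1 : m = -1 := by
    have := key 1
    rw [one_pow, mul_one] at this
    linear_combination this
  apply conjHom_ne_id hF
  refine RingHom.ext fun y => ?_
  have := key y
  rw [h1] at this
  show y ^ q = y
  linear_combination -this

/-- Scaling both vectors of a hyperbolic pair inside GU. -/
theorem exists_gu_scale_pair (hF : Fintype.card F = q ^ 2) {r s : Fin n → F}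
    (hr : Cfsg.hermForm n F q r r = 0) (hs : Cfsg.hermForm n F q s s = 0)
    (hrs : Cfsg.hermForm n F q r s = 1) {m : F} (hm : m ^ (q + 1) = 1) :
    ∃ M : Matrix (Fin n) (Fin n) F, IsUnitary q M ∧ M.det = m ∧
      (∀ x, Cfsg.hermForm n F q x r = 0 → Cfsg.hermForm n F q x s = 0 → M *ᵥ x = x) ∧
      (∃ l : F, M *ᵥ r = l • r) ∧ ∃ l : F, M *ᵥ s = l • s := by
  obtain ⟨l, hl0, hl⟩ := exists_quot_eq hF hm
  have H := hermForm_isHerm hF n
  have hsr : Cfsg.hermForm n F q s r = 1 := by rw [H.conj_symm r s, hrs, one_pow]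
  have hlq : l ^ q ≠ 0 := pow_ne_zero _ hl0
  let a := l - 1
  let b := (l ^ q)⁻¹ - 1
  let A : Matrix (Fin n) (Fin n) F := 1 + a • Matrix.vecMulVec r (fun j => s j ^ q)
  let B : Matrix (Fin n) (Fin n) F := 1 + b • Matrix.vecMulVec s (fun j => r j ^ q)
  have dot : ∀ u v : Fin n → F, (fun j => v j ^ q) ⬝ᵥ u = Cfsg.hermForm n F q u v := fun u v => by
    simp [dotProduct, Cfsg.hermForm, mul_comm]
  have hA : ∀ x, A *ᵥ x = x + (a * Cfsg.hermForm n F q x s) • r := fun x => by
    rw [Matrix.add_mulVec, Matrix.one_mulVec, Matrix.smul_mulVec, Matrix.vecMulVec_mulVec, dot,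
      op_smul_eq_smul, smul_smul]
  have hB : ∀ x, B *ᵥ x = x + (b * Cfsg.hermForm n F q x r) • s := fun x => by
    rw [Matrix.add_mulVec, Matrix.one_mulVec, Matrix.smul_mulVec, Matrix.vecMulVec_mulVec, dot,
      op_smul_eq_smul, smul_smul]
  have hAB : ∀ x, (A * B) *ᵥ x = x + (b * Cfsg.hermForm n F q x r) • s +
      (a * Cfsg.hermForm n F q x s) • r := fun x => by
    rw [← Matrix.mulVec_mulVec, hB, hA, H.add_left, H.smul_left, hs, mul_zero, add_zero]
  refine ⟨A * B, fun x y => ?_, ?_, fun x hxr hxs => ?_, ⟨l, ?_⟩, 1 + b, ?_⟩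
  · have h1 : a + b ^ q + a * b ^ q = 0 := by
      simp only [a, b, sub_pow_q hF, one_pow, inv_pow, pow_q_pow_q hF]
      field_simp
      ring
    have h2 : b + a ^ q + b * a ^ q = 0 := by
      simp only [a, b, sub_pow_q hF, one_pow]
      field_simp
      ring
    rw [hAB, hAB]
    simp only [H.add_left, H.add_right hF, H.smul_left, H.smul_right, hr, hs, hrs, hsr, mul_pow]
    rw [H.conj_symm y r, H.conj_symm y s]
    linear_combination (Cfsg.hermForm n F q x s * Cfsg.hermForm n F q y r ^ q) * h1 +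
      (Cfsg.hermForm n F q x r * Cfsg.hermForm n F q y s ^ q) * h2
  · have hdet : ∀ (c : F) (x w : Fin n → F),
        (1 + c • Matrix.vecMulVec x w).det = 1 + c * (w ⬝ᵥ x) := fun c x w => by
      rw [← Matrix.smul_vecMulVec, Matrix.vecMulVec_eq Unit,
        Matrix.det_one_add_replicateCol_mul_replicateRow, dotProduct_smul, smul_eq_mul]
    rw [Matrix.det_mul]
    simp only [A, B, hdet, dot, hrs, hsr, mul_one, a, b, add_sub_cancel]
    rw [mul_inv_eq_iff_eq_mul₀ hlq]
    exact hl
  · rw [hAB, hxr, hxs]; simp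
  · rw [hAB, hr, hrs]
    simp only [a]
    module
  · rw [hAB, hs, hsr]
    module

/-- Scaling a vector of a hyperbolic pair inside GU. -/
theorem exists_gu_scale (hF : Fintype.card F = q ^ 2) {r s : Fin n → F}
    (hr : Cfsg.hermForm n F q r r = 0) (hs : Cfsg.hermForm n F q s s = 0)
    (hrs : Cfsg.hermForm n F q r s = 1) {m : F} (hm : m ^ (q + 1) = 1) :
    ∃ M : Matrix (Fin n) (Fin n) F, IsUnitary q M ∧ M.det = m ∧
      (∀ x, Cfsg.hermForm n F q x r = 0 → Cfsg.hermForm n F q x s = 0 → M *ᵥ x = x) ∧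
      ∃ l : F, M *ᵥ r = l • r := by
  obtain ⟨M, h1, h2, h3, h4, -⟩ := exists_gu_scale_pair hF hr hs hrs hm
  exact ⟨M, h1, h2, h3, h4⟩

theorem tiStab_det_surj (hF : Fintype.card F = q ^ 2) (hn : 1 ≤ n) (hk : 2 * k ≤ n)
    {W : Submodule F (Fin n → F)} (hW : IsTISubspace q k W) {u : Fˣ}
    (hu : u ∈ (powMonoidHom (q + 1) : Fˣ →* Fˣ).ker) :
    ∃ g ∈ tiStab W q, detHom n F q g = u := by
  rcases Nat.eq_zero_or_pos k with rfl | hk0
  · obtain ⟨g, rfl⟩ : u ∈ (detHom n F q).range := by rwa [detHom_range hF hn]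
    have : W = ⊥ := Submodule.finrank_eq_zero.1 hW.1
    subst this
    refine ⟨g, fun v => ?_, rfl⟩
    simp only [Submodule.bot_coe, Set.mem_singleton_iff]
    constructor
    · rintro rfl; exact Matrix.mulVec_zero _
    · intro h
      refine Matrix.mulVec_injective_iff_isUnit.2
        (Units.isUnit (g : Matrix.GeneralLinearGroup (Fin n) F)) ?_
      exact h.trans (Matrix.mulVec_zero _).symm
  obtain ⟨j, rfl⟩ : ∃ j, k = j + 1 := ⟨k - 1, by omega⟩
  obtain ⟨d, rfl⟩ : ∃ d, n = (j + 1) + ((j + 1) + d) := ⟨n - 2 * (j + 1), by omega⟩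
  obtain ⟨ε, hε⟩ := exists_eps hF
  obtain ⟨l, hl⟩ := exists_trace_eq hF (c := (-1 : F)) (by rw [neg_pow_q hF, one_pow])
  have hmod := tiModel_isTI (k := j + 1) (m := d) hF hε
  let bW := Module.finBasisOfFinrankEq F W hW.1
  obtain ⟨g, hg⟩ := exists_gu_witt hF hmod.1 (bW.linearIndependent.map' _ (Submodule.ker_subtype _))
    (fun i i' => by
      simp only [Function.comp_apply, Submodule.subtype_apply]
      rw [hW.2 _ (bW i).2 _ (bW i').2, hmod.2])
  have H := hermForm_isHerm hF ((j + 1) + ((j + 1) + d))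
  let e₁ : Fin ((j + 1) + ((j + 1) + d)) → F :=
    Fin.append (Pi.single 0 1) (Fin.append 0 0)
  let r := tiModel ε (j + 1) d 0
  let s := e₁ + l • r
  have her : ∀ i, Cfsg.hermForm _ F q e₁ (tiModel ε (j + 1) d i) =
      if i = 0 then 1 else 0 := fun i => by
    rw [herm_append3_model hF]; simp [Pi.single_apply]
  have hre : Cfsg.hermForm _ F q r e₁ = 1 := by rw [H.conj_symm e₁, her 0, if_pos rfl, one_pow]
  have hee : Cfsg.hermForm _ F q e₁ e₁ = 1 := by
    rw [herm_append3, hermForm_single_right hF, Pi.single_eq_same,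
      (hermForm_isHerm hF (j + 1)).zero_left, (hermForm_isHerm hF d).zero_left, add_zero, add_zero]
  have hs : Cfsg.hermForm _ F q s s = 0 := by
    simp only [s, H.add_left, H.add_right hF, H.smul_left, H.smul_right, hmod.2 0 0, hre, hee,
      show Cfsg.hermForm _ F q e₁ r = 1 from (her 0).trans (if_pos rfl), r]
    linear_combination hl
  have hrs : Cfsg.hermForm _ F q r s = 1 := by
    simp [s, H.add_right hF, H.smul_right, r, hmod.2 0 0]
    exact hre
  have hm : (u : F) ^ (q + 1) = 1 := by simpa using congrArg Units.val hu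
  obtain ⟨M, hM, hMd, hMf, lam, hMr⟩ := exists_gu_scale hF (hmod.2 0 0) hs hrs hm
  refine ⟨g * guOfUnitary hF M hM * g⁻¹, ?_, ?_⟩
  · let G : Cfsg.GU ((j + 1) + ((j + 1) + d)) F q →
        Matrix (Fin ((j + 1) + ((j + 1) + d))) (Fin ((j + 1) + ((j + 1) + d))) F := fun a =>
      ((a : Matrix.GeneralLinearGroup (Fin ((j + 1) + ((j + 1) + d))) F) : Matrix _ _ F)
    have Gmul : ∀ a b, G (a * b) = G a * G b := fun a b => rfl
    let a := g * guOfUnitary hF M hM * g⁻¹
    have hai : ∀ i, G a *ᵥ (bW i : Fin _ → F) ∈ W := by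
      intro i
      have e : G a *ᵥ (bW i : Fin _ → F) = G g *ᵥ (M *ᵥ tiModel ε (j + 1) d i) := by
        have hgi : G g *ᵥ tiModel ε (j + 1) d i = (bW i : Fin _ → F) := hg i
        conv_lhs => rw [← hgi, Matrix.mulVec_mulVec, ← Gmul]
        rw [show a * g = g * guOfUnitary hF M hM by simp [a, mul_assoc], Gmul,
          ← Matrix.mulVec_mulVec]
        rfl
      rw [e]
      rcases eq_or_ne i 0 with rfl | hi
      · rw [hMr, Matrix.mulVec_smul]
        refine Submodule.smul_mem _ _ ?_
        rw [show G g *ᵥ tiModel ε (j + 1) d 0 = _ from hg 0]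
        exact (bW 0).2
      · rw [hMf _ (hmod.2 i 0), show G g *ᵥ tiModel ε (j + 1) d i = _ from hg i]
        · exact (bW i).2
        · simp only [s, H.add_right hF, H.smul_right, r, hmod.2 i 0, mul_zero, add_zero]
          exact (H.eq_zero_symm hF).1 ((her i).trans (if_neg hi))
    have hfwd : ∀ v ∈ W, G a *ᵥ v ∈ W := by
      intro v hv
      have := congrArg (fun x : W => (x : Fin ((j + 1) + ((j + 1) + d)) → F)) (bW.sum_repr ⟨v, hv⟩)
      simp only [Submodule.coe_sum, Submodule.coe_smul] at this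
      rw [← this, Matrix.mulVec_sum]
      exact Submodule.sum_mem _ fun i _ => by
        rw [Matrix.mulVec_smul]; exact Submodule.smul_mem _ _ (hai i)
    intro v
    refine ⟨hfwd v, fun hv => ?_⟩
    have hinj : Function.Injective (fun x => G a *ᵥ x) :=
      Matrix.mulVec_injective_iff_isUnit.2 (Units.isUnit _)
    obtain ⟨⟨w, hw⟩, hwe⟩ := (Finite.injective_iff_bijective.1
      (fun x y hxy => Subtype.ext (hinj (congrArg Subtype.val hxy)) :
        Function.Injective (fun x : W => (⟨G a *ᵥ (x : Fin ((j + 1) + ((j + 1) + d)) → F), hfwd x x.2⟩ : W)))).2 ⟨_, hv⟩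
    have h2 : v = w := hinj (congrArg Subtype.val hwe).symm
    rw [h2]
    exact hw
  · rw [map_mul, map_mul, map_inv, mul_comm (detHom _ F q g), mul_inv_cancel_right]
    exact Units.ext (by simpa [detHom] using hMd)

theorem card_tiStab_SU (hF : Fintype.card F = q ^ 2) (hn : 1 ≤ n) (hk : 2 * k ≤ n)
    {W : Submodule F (Fin n → F)} (hW : IsTISubspace q k W) :
    (q + 1) * Nat.card ↥((Cfsg.stabilizing (Cfsg.slToMat n F) (W : Set (Fin n → F))).subgroupOf
      (Cfsg.SU n F q)) = Nat.card (tiStab W q) := by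
  let d := (detHom n F q).comp (tiStab W q).subtype
  have hr : d.range = (powMonoidHom (q + 1) : Fˣ →* Fˣ).ker := by
    apply le_antisymm
    · rintro _ ⟨g, rfl⟩
      rw [← detHom_range hF hn]; exact ⟨_, rfl⟩
    · intro u hu
      obtain ⟨g, hg, rfl⟩ := tiStab_det_surj hF hn hk hW hu
      exact ⟨⟨g, hg⟩, rfl⟩
  rw [← Subgroup.card_mul_index d.ker, Subgroup.index_ker, hr, IsCyclic.card_powMonoidHom_ker,
    card_units hF, Nat.gcd_eq_right (q_succ_dvd q), mul_comm]
  congr 1
  refine (Nat.card_eq_of_bijective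
    (fun g => (⟨⟨suToGU n F q g.1, g.2⟩,
      Units.ext (g.1 : Matrix.SpecialLinearGroup (Fin n) F).2⟩ : d.ker)) ⟨fun a b h => ?_, ?_⟩)
  · exact Subtype.ext (suToGU_injective (congrArg (fun x : d.ker => x.1.1) h))
  · rintro ⟨⟨g, hg⟩, hgd⟩
    obtain ⟨a, rfl⟩ : g ∈ (suToGU n F q).range := by rw [range_suToGU]; exact hgd
    exact ⟨⟨a, hg⟩, rfl⟩

end Cfsg.Agent.Unitary
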