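import Cfsg.Agent.Lib.Unitary.Field
/-
Hermitian forms over F (|F| = q^2) as functions `h : V → V → F`.
Main results:
* IsHerm: linear in the first variable, `h y x = (h x y)^q`; derived rules; IsHerm.comap
* hermForm_isHerm, hermForm_nondeg, hermForm_single_left/right, hermForm_self
* Orthonormal; Orthonormal.linearIndependent; eq_sum_of_spans; span_eq_top
* exists_orthonormal_extend: any orthonormal family extends to any size ≤ finrank (form nondegenerate)
* exists_norm_one, exists_orthonormalBasis
-/
set_option autoImplicit false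

namespace Cfsg.Agent.Unitary

open scoped BigOperators

variable {F : Type*} [Field F] [Fintype F] {q : ℕ} {V : Type*} [AddCommGroup V] [Module F V]

/-- A hermitian form: linear in the first variable, `h y x = (h x y) ^ q`. -/
structure IsHerm (q : ℕ) (h : V → V → F) : Prop where
  add_left : ∀ x y z, h (x + y) z = h x z + h y z
  smul_left : ∀ (c : F) x z, h (c • x) z = c * h x z
  conj_symm : ∀ x y, h y x = (h x y) ^ q

/-- No nonzero vector is orthogonal to everything. -/
def Nondeg (h : V → V → F) : Prop := ∀ x, (∀ y, h x y = 0) → x = 0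

namespace IsHerm

variable {h : V → V → F} (H : IsHerm q h)
include H

omit [Fintype F] in
theorem zero_left (z : V) : h 0 z = 0 := by simpa using H.smul_left 0 0 z

omit [Fintype F] in
theorem neg_left (x z : V) : h (-x) z = -h x z := by simpa using H.smul_left (-1) x z

omit [Fintype F] in
theorem sub_left (x y z : V) : h (x - y) z = h x z - h y z := by
  rw [sub_eq_add_neg, H.add_left, H.neg_left, sub_eq_add_neg]

omit [Fintype F] in
theorem sum_left {ι : Type*} (s : Finset ι) (f : ι → V) (z : V) :
    h (∑ i ∈ s, f i) z = ∑ i ∈ s, h (f i) z :=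
  map_sum ({ toFun := fun x => h x z, map_zero' := H.zero_left z,
             map_add' := fun x y => H.add_left x y z } : V →+ F) f s

variable (hF : Fintype.card F = q ^ 2)
include hF

theorem add_right (x y z : V) : h x (y + z) = h x y + h x z := by
  rw [H.conj_symm (y + z) x, H.add_left, add_pow_q hF, ← H.conj_symm, ← H.conj_symm]

theorem zero_right (x : V) : h x 0 = 0 := by
  rw [H.conj_symm 0 x, H.zero_left, zero_pow_q hF]

theorem neg_right (x y : V) : h x (-y) = -h x y := by
  rw [H.conj_symm (-y) x, H.neg_left, neg_pow_q hF, ← H.conj_symm]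

theorem sub_right (x y z : V) : h x (y - z) = h x y - h x z := by
  rw [sub_eq_add_neg, H.add_right hF, H.neg_right hF, sub_eq_add_neg]

omit hF in
omit [Fintype F] in
theorem smul_right (c : F) (x y : V) : h x (c • y) = c ^ q * h x y := by
  rw [H.conj_symm (c • y) x, H.smul_left, mul_pow, ← H.conj_symm]

theorem sum_right {ι : Type*} (x : V) (s : Finset ι) (f : ι → V) :
    h x (∑ i ∈ s, f i) = ∑ i ∈ s, h x (f i) :=
  map_sum ({ toFun := fun y => h x y, map_zero' := H.zero_right hF x,
             map_add' := fun y z => H.add_right hF x y z } : V →+ F) f s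

omit hF in
omit [Fintype F] in
theorem self_fixed (x : V) : (h x x) ^ q = h x x := (H.conj_symm x x).symm

theorem eq_zero_symm {x y : V} : h x y = 0 ↔ h y x = 0 := by
  rw [H.conj_symm x y, pow_q_eq_zero hF]

/-- If every value `h x x` vanishes then the form vanishes. -/
theorem eq_zero_of_isotropic (hiso : ∀ x, h x x = 0) (x y : V) : h x y = 0 := by
  by_contra hxy
  obtain ⟨t, ht⟩ : ∃ t : F, t + t ^ q = 1 := exists_trace_eq hF (one_pow q)
  have key := hiso ((t / h x y) • x + y)
  rw [H.add_left, H.add_right hF, H.add_right hF, H.smul_left, H.smul_left, H.smul_right,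
    H.smul_right, hiso x, hiso y, H.conj_symm x y] at key
  rw [← mul_pow, div_mul_cancel₀ t hxy] at key
  simp only [mul_zero, zero_add, add_zero] at key
  exact one_ne_zero (by rw [← ht]; exact key)

omit hF

omit [Fintype F] in
theorem comap {W : Type*} [AddCommGroup W] [Module F W] (f : W →ₗ[F] V) :
    IsHerm q (fun x y => h (f x) (f y)) :=
  ⟨fun x y z => by simp [H.add_left], fun c x z => by simp [H.smul_left],
    fun x y => H.conj_symm (f x) (f y)⟩

end IsHerm

/-- An orthonormal family for `h`. -/
def Orthonormal {ι : Type*} (h : V → V → F) (b : ι → V) : Prop :=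
  (∀ i, h (b i) (b i) = 1) ∧ Pairwise fun i j => h (b i) (b j) = 0

section Ortho

variable {h : V → V → F} {ι : Type*} {b : ι → V}

omit [Fintype F] in
theorem Orthonormal.apply [DecidableEq ι] (hb : Orthonormal h b) (i j : ι) :
    h (b i) (b j) = if i = j then 1 else 0 := by
  rcases eq_or_ne i j with rfl | hij
  · simp [hb.1 i]
  · simp [hij, hb.2 hij]

omit [Fintype F] in
theorem Orthonormal.comp {κ : Type*} (hb : Orthonormal h b) (f : κ → ι) (hf : Function.Injective f) :
    Orthonormal h (b ∘ f) :=
  ⟨fun i => hb.1 _, fun _ _ hij => hb.2 (hf.ne hij)⟩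

omit [Fintype F] in
theorem Orthonormal.coeff [Fintype ι] (H : IsHerm q h) (hb : Orthonormal h b) (c : ι → F) (j : ι) :
    h (∑ i, c i • b i) (b j) = c j := by
  classical
  simp [H.sum_left, H.smul_left, hb.apply]

omit [Fintype F] in
theorem Orthonormal.linearIndependent [Fintype ι] (H : IsHerm q h) (hb : Orthonormal h b) :
    LinearIndependent F b := by
  rw [Fintype.linearIndependent_iff]
  intro g hg i
  have := Orthonormal.coeff H hb g i
  rw [hg, H.zero_left] at this
  exact this.symm

omit [Fintype F] in
theorem Orthonormal.eq_sum_of_card [Fintype ι] [Module.Finite F V] (H : IsHerm q h)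
    (hb : Orthonormal h b) (hcard : Fintype.card ι = Module.finrank F V) (x : V) :
    x = ∑ i, h x (b i) • b i := by
  have hmem : x ∈ Submodule.span F (Set.range b) := by
    rw [(hb.linearIndependent H).span_eq_top_of_card_eq_finrank' hcard]; trivial
  obtain ⟨c, rfl⟩ := Submodule.mem_span_range_iff_exists_fun F |>.1 hmem
  simp [Orthonormal.coeff H hb]

theorem Orthonormal.inner_sum [Fintype ι] (hF : Fintype.card F = q ^ 2) (H : IsHerm q h)
    (hb : Orthonormal h b) (c d : ι → F) :
    h (∑ i, c i • b i) (∑ i, d i • b i) = ∑ i, c i * d i ^ q := by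
  classical
  rw [H.sum_right hF]
  refine Finset.sum_congr rfl fun i _ => ?_
  rw [H.smul_right, Orthonormal.coeff H hb, mul_comm]

end Ortho

section Extend

variable [Module.Finite F V] {h : V → V → F}

/-- Given an orthonormal family shorter than the dimension, there is a further norm-one vector orthogonal to it. -/
theorem exists_orthonormal_step (hF : Fintype.card F = q ^ 2) (H : IsHerm q h) (hnd : Nondeg h)
    {k : ℕ} {b : Fin k → V} (hb : Orthonormal h b) (hk : k < Module.finrank F V) :
    ∃ v, h v v = 1 ∧ ∀ i, h (b i) v = 0 := by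
  classical
  obtain ⟨w, hw, hworth⟩ : ∃ w, h w w ≠ 0 ∧ ∀ i, h (b i) w = 0 := by
    by_contra hcon
    simp only [not_exists, not_and] at hcon
    let W : Submodule F V :=
      { carrier := {x | ∀ i, h x (b i) = 0}
        add_mem' := fun {x y} hx hy i => by simp [H.add_left, hx i, hy i]
        zero_mem' := fun i => H.zero_left _
        smul_mem' := fun c x hx i => by simp [H.smul_left, hx i] }
    have hiso : ∀ x : W, h (x : V) (x : V) = 0 := by
      intro x
      by_contra hx
      exact hcon x hx fun i => (H.eq_zero_symm hF).1 (x.2 i)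
    have hzero : ∀ x : W, (x : V) = 0 := by
      intro x
      apply hnd
      intro y
      have hy : y - ∑ i, h y (b i) • b i ∈ W := by
        intro i
        rw [H.sub_left, Orthonormal.coeff H hb, sub_self]
      have hsum : h (x : V) (∑ i, h y (b i) • b i) = 0 := by
        rw [H.sum_right hF]
        refine Finset.sum_eq_zero fun i _ => ?_
        rw [H.smul_right, x.2 i, mul_zero]
      have h0 : h (x : V) (y - ∑ i, h y (b i) • b i) = 0 :=
        (H.comap W.subtype).eq_zero_of_isotropic hF hiso x ⟨_, hy⟩
      rwa [H.sub_right hF, hsum, sub_zero] at h0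
    have hspan : Submodule.span F (Set.range b) = ⊤ := by
      refine eq_top_iff.2 fun x _ => ?_
      have hx : x - ∑ i, h x (b i) • b i ∈ W := by
        intro i
        rw [H.sub_left, Orthonormal.coeff H hb, sub_self]
      rw [sub_eq_zero.1 (hzero ⟨_, hx⟩)]
      exact Submodule.sum_mem _ fun i _ => Submodule.smul_mem _ _ (Submodule.subset_span ⟨i, rfl⟩)
    have := finrank_range_le_card (R := F) b
    rw [Set.finrank, hspan, finrank_top, Fintype.card_fin] at this
    omega
  obtain ⟨s, hs⟩ := exists_norm_eq hF (c := h w w) (H.self_fixed w)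
  have hs0 : s ≠ 0 := fun h0 => hw (by rw [← hs, h0, zero_pow (Nat.succ_ne_zero q)])
  refine ⟨s⁻¹ • w, ?_, fun i => by rw [H.smul_right, hworth i, mul_zero]⟩
  rw [H.smul_left, H.smul_right, ← mul_assoc, ← pow_succ', inv_pow, hs, inv_mul_cancel₀ hw]

theorem exists_orthonormal_extend (hF : Fintype.card F = q ^ 2) (H : IsHerm q h) (hnd : Nondeg h)
    {k : ℕ} {b : Fin k → V} (hb : Orthonormal h b) {n : ℕ} (hkn : k ≤ n)
    (hn : n ≤ Module.finrank F V) :
    ∃ c : Fin n → V, Orthonormal h c ∧ ∀ i : Fin k, c (Fin.castLE hkn i) = b i := by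
  induction n with
  | zero =>
    obtain rfl : k = 0 := by omega
    exact ⟨b, hb, fun i => rfl⟩
  | succ n ih =>
    rcases Nat.eq_or_lt_of_le hkn with rfl | hlt
    · exact ⟨b, hb, fun i => rfl⟩
    · obtain ⟨c, hc, hcb⟩ := ih (by omega) (by omega)
      obtain ⟨v, hv, hvc⟩ := exists_orthonormal_step hF H hnd hc (by omega)
      refine ⟨Fin.snoc c v, ⟨fun i => ?_, fun i j hij => ?_⟩, fun i => ?_⟩
      · induction i using Fin.lastCases with
        | last => simpa using hv
        | cast i => simpa using hc.1 i
      · induction i using Fin.lastCases with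
        | last =>
          induction j using Fin.lastCases with
          | last => exact absurd rfl hij
          | cast j => simpa using (H.eq_zero_symm hF).1 (hvc j)
        | cast i =>
          induction j using Fin.lastCases with
          | last => simpa using hvc i
          | cast j => simpa using hc.2 (fun e => hij (congrArg Fin.castSucc e))
      · have e : Fin.castLE hkn i = Fin.castSucc (Fin.castLE (Nat.le_of_lt_succ hlt) i) := Fin.ext rfl
        rw [e, Fin.snoc_castSucc]
        exact hcb i

theorem exists_orthonormalBasis (hF : Fintype.card F = q ^ 2) (H : IsHerm q h) (hnd : Nondeg h) :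
    ∃ c : Fin (Module.finrank F V) → V, Orthonormal h c := by
  obtain ⟨c, hc, -⟩ := exists_orthonormal_extend hF H hnd (k := 0) (b := Fin.elim0)
    ⟨fun i => i.elim0, fun i => i.elim0⟩ (Nat.zero_le _) le_rfl
  exact ⟨c, hc⟩

end Extend

section Std

variable {n : ℕ}

theorem hermForm_isHerm (hF : Fintype.card F = q ^ 2) (n : ℕ) :
    IsHerm q (Cfsg.hermForm n F q) where
  add_left x y z := by simp [Cfsg.hermForm, add_mul, Finset.sum_add_distrib]
  smul_left c x z := by simp [Cfsg.hermForm, Finset.mul_sum, mul_assoc]
  conj_symm x y := by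
    simp [Cfsg.hermForm, sum_pow_q hF, mul_pow, pow_q_pow_q hF, mul_comm]

omit [Fintype F] in
theorem hermForm_self (n : ℕ) (x : Fin n → F) :
    Cfsg.hermForm n F q x x = ∑ i, x i ^ (q + 1) := by
  simp [Cfsg.hermForm, pow_succ']

theorem hermForm_single_right (hF : Fintype.card F = q ^ 2) (x : Fin n → F) (i : Fin n) :
    Cfsg.hermForm n F q x (Pi.single i 1) = x i := by
  simp [Cfsg.hermForm, Pi.single_apply, apply_ite (fun y : F => y ^ q), zero_pow_q hF]

theorem hermForm_single_left (x : Fin n → F) (i : Fin n) :
    Cfsg.hermForm n F q (Pi.single i 1) x = x i ^ q := by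
  simp [Cfsg.hermForm, Pi.single_apply]

theorem hermForm_nondeg (hF : Fintype.card F = q ^ 2) (n : ℕ) : Nondeg (Cfsg.hermForm n F q) :=
  fun x hx => funext fun i => by rw [← hermForm_single_right hF x i, hx]; rfl

theorem single_orthonormal (hF : Fintype.card F = q ^ 2) (n : ℕ) :
    Orthonormal (Cfsg.hermForm n F q) (fun i => (Pi.single i 1 : Fin n → F)) :=
  ⟨fun i => by simp [hermForm_single_right hF],
    fun i j hij => by simp [hermForm_single_right hF, Ne.symm hij]⟩

end Std

end Cfsg.Agent.Unitary
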