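import Cfsg.Agent.Lib.Unitary.Generation
import Cfsg.Agent.Lib.Unitary.Subspaces
import Cfsg.Agent.Lib.Unitary.Simple
/-
Overgroups in the special unitary group through isotropic transvection centres.
* centres, centres_smul/_conj/_step, le_of_centres, transvection_mem_stabilizer
* isMaximalIn_totallyIsotropic_stabilizer (any n), isMaximalIn_nondegenerate_stabilizer (n - dim W ≥ 4)
-/
set_option autoImplicit false

namespace Cfsg.Agent.Unitary

open scoped Matrix

variable {F : Type*} [Field F] [Fintype F] {q n : ℕ}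

/-- The special unitary group inside GL. -/
abbrev suGL (n : ℕ) (F : Type*) [Field F] (q : ℕ) : Subgroup (Matrix.GeneralLinearGroup (Fin n) F) :=
  Cfsg.GU n F q ⊓ Cfsg.Geo.specialLinear (Fin n) F

/-- Isotropic vectors all of whose transvections lie in M. -/
def centres (q : ℕ) (M : Subgroup (Matrix.GeneralLinearGroup (Fin n) F)) : Set (Fin n → F) :=
  {v | Cfsg.hermForm n F q v v = 0 ∧ ∀ (g : Matrix.GeneralLinearGroup (Fin n) F) (c : F),
    c + c ^ q = 0 → (g : Matrix (Fin n) (Fin n) F) = Cfsg.unitaryTransvection n q v c → g ∈ M}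

theorem suToGU_mem_suGL (s : Cfsg.SU n F q) :
    ((suToGU n F q s : Cfsg.GU n F q) : Matrix.GeneralLinearGroup (Fin n) F) ∈ suGL n F q :=
  ⟨(suToGU n F q s).2, Units.ext (s : Matrix.SpecialLinearGroup (Fin n) F).2⟩

theorem exists_su_of_mem {g : Matrix.GeneralLinearGroup (Fin n) F} (hg : g ∈ suGL n F q) :
    ∃ s : Cfsg.SU n F q, ((suToGU n F q s : Cfsg.GU n F q) : Matrix.GeneralLinearGroup (Fin n) F) = g :=
  ⟨suOfUnitary (g : Matrix (Fin n) (Fin n) F) hg.1 (congrArg Units.val (MonoidHom.mem_ker.1 hg.2)),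
    Units.ext rfl⟩

theorem mem_suGL_herm {g : Matrix.GeneralLinearGroup (Fin n) F} (hg : g ∈ suGL n F q)
    (x y : Fin n → F) : Cfsg.hermForm n F q ((g : Matrix (Fin n) (Fin n) F) *ᵥ x)
      ((g : Matrix (Fin n) (Fin n) F) *ᵥ y) = Cfsg.hermForm n F q x y := hg.1 x y

/-- A subgroup containing the transvections at every isotropic vector contains SU. -/
theorem le_of_centres (hF : Fintype.card F = q ^ 2) (hn : 4 ≤ n ∨ (n = 3 ∧ 3 ≤ q) ∨ n ≤ 2)
    {M : Subgroup (Matrix.GeneralLinearGroup (Fin n) F)}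
    (hM : ∀ v, Cfsg.hermForm n F q v v = 0 → v ∈ centres q M) : suGL n F q ≤ M := by
  let f := (Cfsg.GU n F q).subtype.comp (suToGU n F q)
  have h : transvectionGroup n F q ≤ M.comap f := by
    rw [transvectionGroup, Subgroup.closure_le]
    rintro A ⟨v, c, hv0, hA⟩
    by_cases hv : v = 0
    · have : A = 1 := Subtype.ext (Subtype.ext (by simp [hA, hv, Cfsg.unitaryTransvection]))
      rw [this]; exact one_mem _
    · exact (hM v hv0).2 _ c
        ((transvection_isometry_iff hF v hv hv0 c).1 (hA ▸ (A.2 : IsUnitary q _))) hA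
  intro g hg
  obtain ⟨s, rfl⟩ := exists_su_of_mem hg
  exact h (by rw [transvectionGroup_eq_top hF hn]; trivial)

theorem centres_smul (hF : Fintype.card F = q ^ 2) {M : Subgroup (Matrix.GeneralLinearGroup (Fin n) F)}
    {v : Fin n → F} (hv : v ∈ centres q M) (a : F) : a • v ∈ centres q M := by
  have H := hermForm_isHerm hF n
  refine ⟨by rw [H.smul_left, H.smul_right, hv.1, mul_zero, mul_zero], fun g c hc hg => ?_⟩
  rw [transvection_smul] at hg
  refine hv.2 g _ ?_ hg
  rw [mul_pow, pow_q_succ_fixed hF]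
  linear_combination a ^ (q + 1) * hc

theorem centres_conj {M : Subgroup (Matrix.GeneralLinearGroup (Fin n) F)}
    {g : Matrix.GeneralLinearGroup (Fin n) F} (hgM : g ∈ M) (hg : g ∈ suGL n F q) {v : Fin n → F}
    (hv : v ∈ centres q M) : (g : Matrix (Fin n) (Fin n) F) *ᵥ v ∈ centres q M := by
  refine ⟨(mem_suGL_herm hg v v).trans hv.1, fun t c hc ht => ?_⟩
  have key : g⁻¹ * t * g ∈ M := by
    refine hv.2 _ c hc ?_
    have e := transvection_conj (⟨g, hg.1⟩ : Cfsg.GU n F q) v c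
    simp only at e
    rw [Units.val_mul, Units.val_mul, ht, mul_assoc, ← e, ← mul_assoc, ← Units.val_mul,
      inv_mul_cancel, Units.val_one, one_mul]
  simpa [mul_assoc] using mul_mem (mul_mem hgM key) (inv_mem hgM)

/-- A transvection in GL. -/
def glTransvection (hF : Fintype.card F = q ^ 2) (v : Fin n → F)
    (hv0 : Cfsg.hermForm n F q v v = 0) (c : F) (hc : c + c ^ q = 0) :
    Matrix.GeneralLinearGroup (Fin n) F :=
  ((suToGU n F q (suTransvection hF v hv0 c hc) : Cfsg.GU n F q) :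
    Matrix.GeneralLinearGroup (Fin n) F)

theorem centres_step (hF : Fintype.card F = q ^ 2) {M : Subgroup (Matrix.GeneralLinearGroup (Fin n) F)}
    {u v : Fin n → F} (hu : u ∈ centres q M) (hv : v ∈ centres q M) {c : F} (hc : c + c ^ q = 0) :
    v + (c * Cfsg.hermForm n F q v u) • u ∈ centres q M := by
  rw [← transvection_mulVec]
  exact centres_conj (g := glTransvection hF u hu.1 c hc) (hu.2 _ c hc rfl)
    (suToGU_mem_suGL _) hv

/-- The stabiliser of a subspace: it is enough to map it into itself. -/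
theorem mem_subspaceStabilizer_of_le {g : Matrix.GeneralLinearGroup (Fin n) F}
    {W : Submodule F (Fin n → F)} (h : ∀ x ∈ W, (g : Matrix (Fin n) (Fin n) F) *ᵥ x ∈ W) :
    g ∈ Cfsg.Geo.subspaceStabilizer W := by
  intro v
  refine ⟨h v, fun hv => ?_⟩
  have hinj : Function.Injective (fun x => (g : Matrix (Fin n) (Fin n) F) *ᵥ x) :=
    Matrix.mulVec_injective_iff_isUnit.2 (Units.isUnit g)
  obtain ⟨⟨w, hw⟩, e⟩ := (Finite.injective_iff_bijective.1
    (fun x y hxy => Subtype.ext (hinj (congrArg Subtype.val hxy)) :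
      Function.Injective (fun x : W => (⟨(g : Matrix (Fin n) (Fin n) F) *ᵥ (x : Fin n → F),
        h x x.2⟩ : W)))).2 ⟨_, hv⟩
  have e2 : v = w := hinj (congrArg Subtype.val e).symm
  exact e2 ▸ hw

/-- An isotropic v orthogonal to W, or in W, is a centre of the stabiliser of W. -/
theorem centres_of_stabilizer (hF : Fintype.card F = q ^ 2) {W : Submodule F (Fin n → F)}
    {M : Subgroup (Matrix.GeneralLinearGroup (Fin n) F)}
    (hM : Cfsg.Geo.subspaceStabilizer W ⊓ suGL n F q ≤ M) {v : Fin n → F}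
    (hv0 : Cfsg.hermForm n F q v v = 0)
    (hv : v ∈ W ∨ ∀ x ∈ W, Cfsg.hermForm n F q x v = 0) : v ∈ centres q M := by
  refine ⟨hv0, fun g c hc hg => hM ⟨mem_subspaceStabilizer_of_le fun x hx => ?_, ?_⟩⟩
  · rw [hg, transvection_mulVec]
    rcases hv with hv | hv
    · exact W.add_mem hx (W.smul_mem _ hv)
    · rw [hv x hx, mul_zero, zero_smul, add_zero]; exact hx
  · refine ⟨?_, ?_⟩
    · show g ∈ Cfsg.GU n F q
      rw [mem_GU_iff, hg]; exact transvection_isUnitary hF v hv0 hc
    · refine MonoidHom.mem_ker.2 (Units.ext ?_)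
      simpa [hg] using transvection_det (q := q) v hv0 c

theorem isMaximalIn_of_forall {G : Type*} [Group G] {K H : Subgroup G} (hle : H ≤ K)
    (hne : ∃ g ∈ K, g ∉ H) (h : ∀ M, H ≤ M → M ≤ K → ∀ g ∈ M, g ∉ H → K ≤ M) :
    Cfsg.Geo.IsMaximalIn K H := by
  refine ⟨lt_of_le_of_ne hle fun e => ?_, fun M hHM hMK => ?_⟩
  · obtain ⟨g, hgK, hgH⟩ := hne
    exact hgH (e ▸ hgK)
  · by_cases hM : M = H
    · exact Or.inl hM
    · obtain ⟨g, hgM, hgH⟩ := SetLike.exists_of_lt (lt_of_le_of_ne hHM (Ne.symm hM))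
      exact Or.inr (le_antisymm hMK (h M hHM hMK g hgM hgH))

section TotallyIsotropic

/-- A basis of a t.i. W adapted to a vector v not orthogonal to it, followed by v. -/
theorem exists_adapted (hF : Fintype.card F = q ^ 2) {W : Submodule F (Fin n → F)} {j : ℕ}
    (hWj : Module.finrank F W = j + 1) (hW : ∀ u ∈ W, ∀ v ∈ W, Cfsg.hermForm n F q u v = 0)
    {v : Fin n → F} (hv : ∃ w ∈ W, Cfsg.hermForm n F q w v ≠ 0) :
    ∃ b : Fin (j + 1) → (Fin n → F), (∀ i, b i ∈ W) ∧ Submodule.span F (Set.range b) = W ∧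
      (∀ i, Cfsg.hermForm n F q (b i) v = if i = 0 then 1 else 0) ∧
      LinearIndependent F (Fin.snoc b v : Fin (j + 2) → (Fin n → F)) := by
  have H := hermForm_isHerm hF n
  let φ : W →ₗ[F] F :=
    { toFun := fun x => Cfsg.hermForm n F q x v
      map_add' := fun x y => H.add_left _ _ _
      map_smul' := fun c x => H.smul_left _ _ _ }
  obtain ⟨w, hwW, hw⟩ := hv
  have hsurj : Function.Surjective φ := fun c => ⟨(c / φ ⟨w, hwW⟩) • ⟨w, hwW⟩, by
    rw [map_smul, smul_eq_mul, div_mul_cancel₀ c (show φ ⟨w, hwW⟩ ≠ 0 from hw)]⟩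
  obtain ⟨x, hx⟩ := hsurj 1
  have hker : Module.finrank F (LinearMap.ker φ) = j := by
    have := LinearMap.finrank_range_add_finrank_ker φ
    rw [LinearMap.range_eq_top.2 hsurj, finrank_top, Module.finrank_self, hWj] at this
    omega
  have : Module.Free F (LinearMap.ker φ) := @Module.Free.of_divisionRing F (LinearMap.ker φ) _ (Submodule.addCommGroup _) (Submodule.module _)
  let B := Module.finBasisOfFinrankEq F (LinearMap.ker φ) hker
  let b₀ : Fin (j + 1) → W := Fin.cons x (fun i => (B i : W))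
  have hb₀ : LinearIndependent F b₀ := by
    refine linearIndependent_finCons.2 ⟨B.linearIndependent.map' _ (Submodule.ker_subtype _), ?_⟩
    intro hmem
    have hle : Submodule.span F (Set.range fun i => (B i : W)) ≤ LinearMap.ker φ :=
      Submodule.span_le.2 (by rintro _ ⟨i, rfl⟩; exact (B i).2)
    have := LinearMap.mem_ker.1 (hle hmem)
    rw [hx] at this
    exact one_ne_zero this
  have hval : ∀ i, φ (b₀ i) = if i = 0 then 1 else 0 := by
    intro i
    induction i using Fin.cases with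
    | zero => simpa [b₀] using hx
    | succ i => simpa [b₀, Fin.succ_ne_zero] using LinearMap.mem_ker.1 (B i).2
  let b : Fin (j + 1) → (Fin n → F) := fun i => (b₀ i : Fin n → F)
  have hb : LinearIndependent F b := hb₀.map' _ (Submodule.ker_subtype _)
  have hspan : Submodule.span F (Set.range b) = W := by
    have := congrArg (Submodule.map W.subtype) (hb₀.span_eq_top_of_card_eq_finrank' (by simp [hWj]))
    rwa [Submodule.map_span, Submodule.map_top, Submodule.range_subtype, ← Set.range_comp] at this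
  refine ⟨b, fun i => (b₀ i).2, hspan, hval, linearIndependent_finSnoc.2 ⟨hb, ?_⟩⟩
  rw [hspan]
  intro hvW
  exact hw (hW w hwW v hvW)

/-- Stabiliser elements are transitive, up to scalars, on isotropic vectors not orthogonal to W. -/
theorem exists_stab_map (hF : Fintype.card F = q ^ 2) {W : Submodule F (Fin n → F)} (hW0 : W ≠ ⊥)
    (hW : ∀ u ∈ W, ∀ v ∈ W, Cfsg.hermForm n F q u v = 0) {u v : Fin n → F}
    (hu0 : Cfsg.hermForm n F q u u = 0) (hv0 : Cfsg.hermForm n F q v v = 0)
    (hu : ∃ w ∈ W, Cfsg.hermForm n F q w u ≠ 0) (hv : ∃ w ∈ W, Cfsg.hermForm n F q w v ≠ 0) :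
    ∃ (g : Matrix.GeneralLinearGroup (Fin n) F) (a : F),
      g ∈ Cfsg.Geo.subspaceStabilizer W ⊓ suGL n F q ∧
      a • ((g : Matrix (Fin n) (Fin n) F) *ᵥ v) = u := by
  have H := hermForm_isHerm hF n
  obtain ⟨j, hj⟩ : ∃ j, Module.finrank F W = j + 1 := by
    refine ⟨Module.finrank F W - 1, ?_⟩
    have : Module.finrank F W ≠ 0 := fun h => hW0 (Submodule.finrank_eq_zero.1 h)
    omega
  obtain ⟨b, hbW, hbs, hbv, hbl⟩ := exists_adapted hF hj hW hv
  obtain ⟨b', hb'W, hb's, hb'u, hb'l⟩ := exists_adapted hF hj hW hu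
  obtain ⟨g, hg⟩ := exists_gu_witt hF hbl hb'l (fun i i' => by
    induction i using Fin.lastCases with
    | last =>
      induction i' using Fin.lastCases with
      | last => simp [hu0, hv0]
      | cast i' =>
        simp only [Fin.snoc_last, Fin.snoc_castSucc]
        rw [H.conj_symm (b' i') u, H.conj_symm (b i') v, hb'u, hbv]
    | cast i =>
      induction i' using Fin.lastCases with
      | last => simp [hb'u, hbv]
      | cast i' =>
        simp only [Fin.snoc_castSucc]
        rw [hW _ (hb'W i) _ (hb'W i'), hW _ (hbW i) _ (hbW i')])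
  have hgb : ∀ i, ((g : Matrix.GeneralLinearGroup (Fin n) F) : Matrix (Fin n) (Fin n) F) *ᵥ b i =
      b' i := fun i => by simpa using hg (Fin.castSucc i)
  have hgv : ((g : Matrix.GeneralLinearGroup (Fin n) F) : Matrix (Fin n) (Fin n) F) *ᵥ v = u := by
    simpa using hg (Fin.last (j + 1))
  have hd : ((g : Matrix.GeneralLinearGroup (Fin n) F) : Matrix (Fin n) (Fin n) F).det ^ (q + 1) = 1 :=
    IsUnitary.det_norm hF (g.2 : IsUnitary q _)
  have hd0 : ((g : Matrix.GeneralLinearGroup (Fin n) F) : Matrix (Fin n) (Fin n) F).det ≠ 0 :=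
    fun h => by simp [h] at hd
  -- adjust the determinant, scaling on the hyperbolic pair (b' 0, u)
  have hru : Cfsg.hermForm n F q (b' 0) u = 1 := (hb'u 0).trans (if_pos rfl)
  have hur : Cfsg.hermForm n F q u (b' 0) = 1 := by rw [H.conj_symm (b' 0) u, hru, one_pow]
  obtain ⟨M, hM, hMd, hMf, ⟨l, hMr⟩, l', hMs⟩ := exists_gu_scale_pair hF (r := u) (s := b' 0) hu0
    (hW _ (hb'W 0) _ (hb'W 0)) hur (inv_pow_succ _ hd)
  have hl : l ≠ 0 := by
    rintro rfl
    have h1 : M *ᵥ u = M *ᵥ 0 := by rw [hMr, zero_smul, Matrix.mulVec_zero]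
    have h2 := Matrix.mulVec_injective_iff_isUnit.2 (hM.isUnit hF) h1
    exact one_ne_zero (hur.symm.trans (by rw [h2, H.zero_left]))
  let A : Cfsg.GU n F q := guOfUnitary hF M hM * g
  refine ⟨A, l⁻¹, ⟨mem_subspaceStabilizer_of_le fun x hx => ?_, ?_⟩, ?_⟩
  · rw [← hbs, Submodule.mem_span_range_iff_exists_fun] at hx
    obtain ⟨c, rfl⟩ := hx
    rw [Matrix.mulVec_sum]
    refine Submodule.sum_mem _ fun i _ => ?_
    rw [Matrix.mulVec_smul]
    refine Submodule.smul_mem _ _ ?_
    show (M * _) *ᵥ b i ∈ W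
    rw [← Matrix.mulVec_mulVec, hgb]
    rcases eq_or_ne i 0 with rfl | hi
    · rw [hMs]; exact W.smul_mem _ (hb'W 0)
    · rw [hMf _ ((hb'u i).trans (if_neg hi)) (hW _ (hb'W i) _ (hb'W 0))]
      exact hb'W i
  · refine ⟨A.2, MonoidHom.mem_ker.2 (Units.ext ?_)⟩
    show (M * _).det = 1
    rw [Matrix.det_mul, hMd, inv_mul_cancel₀ hd0]
  · show l⁻¹ • ((M * _) *ᵥ v) = u
    rw [← Matrix.mulVec_mulVec, hgv, hMr, inv_smul_smul₀ hl]

theorem isMaximalIn_totallyIsotropic_stabilizer (hF : Fintype.card F = q ^ 2)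
    (hn : 4 ≤ n ∨ (n = 3 ∧ 3 ≤ q) ∨ n ≤ 2) (W : Submodule F (Fin n → F)) (hW0 : W ≠ ⊥)
    (hW : ∀ u ∈ W, ∀ v ∈ W, Cfsg.hermForm n F q u v = 0) :
    Cfsg.Geo.IsMaximalIn (suGL n F q) (Cfsg.Geo.subspaceStabilizer W ⊓ suGL n F q) := by
  have H := hermForm_isHerm hF n
  obtain ⟨w0, hw0W, hw0⟩ := Submodule.exists_mem_ne_zero_of_ne_bot hW0
  obtain ⟨δ, hδ0, hδ⟩ := exists_skew hF
  have hδ' : δ + δ ^ q = 0 := by rw [hδ, add_neg_cancel]
  refine isMaximalIn_of_forall inf_le_right ?_ ?_
  · obtain ⟨v, hv0, hv⟩ := exists_iso_partner hF hw0 (hW _ hw0W _ hw0W)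
    refine ⟨glTransvection hF v hv0 δ hδ', suToGU_mem_suGL _, fun h => ?_⟩
    have h2 := (h.1 w0).1 hw0W
    change Cfsg.unitaryTransvection n q v δ *ᵥ w0 ∈ W at h2
    rw [transvection_mulVec, hv, mul_one, Submodule.add_mem_iff_right W hw0W,
      Submodule.smul_mem_iff W hδ0] at h2
    exact one_ne_zero (hv.symm.trans (hW w0 hw0W v h2))
  · intro M hHM hMK g hgM hgH
    obtain ⟨w, hwW, hgw⟩ : ∃ w ∈ W, (g : Matrix (Fin n) (Fin n) F) *ᵥ w ∉ W := by
      by_contra h
      push Not at h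
      exact hgH ⟨mem_subspaceStabilizer_of_le h, hMK hgM⟩
    obtain ⟨v, hvC, hv⟩ : ∃ v ∈ centres q M, ∃ x ∈ W, Cfsg.hermForm n F q x v ≠ 0 := by
      by_cases hP : ∀ x ∈ W, Cfsg.hermForm n F q x ((g : Matrix (Fin n) (Fin n) F) *ᵥ w) = 0
      swap
      · simp only [not_forall] at hP
        obtain ⟨x, hx, hx'⟩ := hP
        exact ⟨_, centres_conj hgM (hMK hgM)
          (centres_of_stabilizer hF hHM (hW w hwW w hwW) (Or.inl hwW)), x, hx, hx'⟩
      set y := (g : Matrix (Fin n) (Fin n) F) *ᵥ w with hy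
      have hyy : Cfsg.hermForm n F q y y = 0 := (mem_suGL_herm (hMK hgM) w w).trans (hW w hwW w hwW)
      have : RingHomSurjective (conjHom hF) := ⟨(conjHom_bijective hF).2⟩
      obtain ⟨z, hzW, hzy⟩ := Cfsg.Agent.Forms.exists_dual_vector (hermSesq hF n)
        (fun y hy => hermForm_nondeg hF n y fun x => hy x) W y hgw 1
      change Cfsg.hermForm n F q y z = 1 at hzy
      have hzy' : Cfsg.hermForm n F q z y = 1 := by rw [H.conj_symm y z, hzy, one_pow]
      obtain ⟨l, hl⟩ := exists_trace_eq hF (c := -Cfsg.hermForm n F q z z)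
        (by rw [neg_pow_q hF, H.self_fixed])
      have hz0 : Cfsg.hermForm n F q (z + l • y) (z + l • y) = 0 := by
        simp only [H.add_left, H.add_right hF, H.smul_left, H.smul_right, hyy, hzy, hzy']
        linear_combination hl
      have hzC := centres_conj (inv_mem hgM) (hMK (inv_mem hgM))
        (centres_of_stabilizer hF hHM hz0 (Or.inr fun x hx => by
          rw [H.add_right hF, H.smul_right, hP x hx,
            show Cfsg.hermForm n F q x z = 0 from hzW x hx]; ring))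
      refine ⟨_, hzC, w, hwW, ?_⟩
      rw [← mem_suGL_herm (hMK hgM), Matrix.mulVec_mulVec, ← Units.val_mul, mul_inv_cancel,
        Units.val_one, Matrix.one_mulVec, ← hy, H.add_right hF, H.smul_right, hyy, hzy]
      simp
    refine le_of_centres hF hn fun u hu0 => ?_
    by_cases hu : ∀ x ∈ W, Cfsg.hermForm n F q x u = 0
    · exact centres_of_stabilizer hF hHM hu0 (Or.inr hu)
    simp only [not_forall] at hu
    obtain ⟨x, hx, hx'⟩ := hu
    obtain ⟨t, a, ht, rfl⟩ := exists_stab_map hF hW0 hW hu0 hvC.1 ⟨x, hx, hx'⟩ hv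
    exact centres_smul hF (centres_conj (hHM ht) ht.2 hvC) a

end TotallyIsotropic

end Cfsg.Agent.Unitary
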