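import Cfsg.Agent.EqLemmas
import Mathlib.GroupTheory.GroupAction.Quotient
/-
A counting lemma for groups acting with at most two fixed points (projective line).
* exists_smul_eq_of_two_fixed : a point with stabiliser of order ≥ 4, equal to that of a second
  point, is fixed by the group or can be moved to the second point
-/
set_option autoImplicit false

namespace Cfsg.Agent.Unitary

open Finset

theorem exists_smul_eq_of_two_fixed {G Ω : Type*} [Group G] [Finite G] [MulAction G Ω] [Finite Ω]
    (h1 : ∀ h : G, h ≠ 1 → ∃ a : Ω, h • a = a)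
    (h2 : ∀ h : G, h ≠ 1 → ∀ a b c : Ω, h • a = a → h • b = b → h • c = c → a = b ∨ a = c ∨ b = c)
    {k k' : Ω} (hne : k ≠ k') (hst : ∀ g : G, g • k = k ↔ g • k' = k')
    (h4 : 4 ≤ Nat.card (MulAction.stabilizer G k)) :
    (∀ g : G, g • k = k) ∨ ∃ g : G, g • k = k' := by
  classical
  have : Fintype G := Fintype.ofFinite G
  have : Fintype Ω := Fintype.ofFinite Ω
  by_contra! hc
  obtain ⟨hmove, hno⟩ := hc
  obtain ⟨g₀, hg₀⟩ := hmove
  set E : Finset G := univ.erase 1 with hE
  -- the pairs (element, fixed point) over one orbit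
  have count : ∀ a : Ω, ∑ h ∈ E, ((MulAction.orbit G a).toFinset.filter fun b => h • b = b).card +
      (MulAction.orbit G a).toFinset.card = Fintype.card G ∧
      (MulAction.orbit G a).toFinset.card * Nat.card (MulAction.stabilizer G a) = Fintype.card G := by
    intro a
    have key : ∀ b ∈ (MulAction.orbit G a).toFinset,
        (univ.filter fun h : G => h • b = b).card = Nat.card (MulAction.stabilizer G a) := by
      intro b hb
      obtain ⟨g, rfl⟩ := Set.mem_toFinset.1 hb
      rw [Nat.card_congr (MulAction.stabilizerEquivStabilizer (g := g) (a := a) rfl).toEquiv,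
        Nat.card_eq_fintype_card, ← Fintype.card_subtype]
      exact Fintype.card_congr (Equiv.subtypeEquivRight fun h => MulAction.mem_stabilizer_iff.symm)
    have hos : (MulAction.orbit G a).toFinset.card * Nat.card (MulAction.stabilizer G a) =
        Fintype.card G := by
      rw [Set.toFinset_card, Nat.card_eq_fintype_card]
      exact MulAction.card_orbit_mul_card_stabilizer_eq_card_group G a
    refine ⟨?_, hos⟩
    calc _ = ∑ h : G, ((MulAction.orbit G a).toFinset.filter fun b => h • b = b).card := by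
          rw [← sum_erase_add univ _ (mem_univ (1 : G)), ← hE]
          congr 1
          rw [filter_true_of_mem fun b _ => one_smul G b]
      _ = ∑ b ∈ (MulAction.orbit G a).toFinset, (univ.filter fun h : G => h • b = b).card := by
          simp only [card_filter]
          exact sum_comm
      _ = Fintype.card G := by rw [sum_congr rfl key, sum_const, smul_eq_mul, hos]
  -- fixed points come in pairs over the orbits of k and k'
  have pair : ∀ (h : G) (b : Ω), b ∈ MulAction.orbit G k → h • b = b →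
      ∃ b' : Ω, b' ∈ MulAction.orbit G k' ∧ h • b' = b' := by
    rintro h _ ⟨g, rfl⟩ hb
    refine ⟨g • k', ⟨g, rfl⟩, ?_⟩
    have := (hst (g⁻¹ * h * g)).1 (by rw [mul_smul, mul_smul, hb, inv_smul_smul])
    rwa [mul_smul, mul_smul, inv_smul_eq_iff] at this
  have disj : ∀ b, b ∈ MulAction.orbit G k → b ∈ MulAction.orbit G k' → False := by
    rintro _ ⟨g, rfl⟩ ⟨g', hg'⟩
    exact hno (g'⁻¹ * g) (by rw [mul_smul, inv_smul_eq_iff]; exact hg'.symm)
  set O := (MulAction.orbit G k).toFinset with hO
  have one_le : ∀ h ∈ E, (O.filter fun b => h • b = b).card ≤ 1 := by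
    intro h hh
    refine card_le_one.2 fun a ha b hb => ?_
    rw [mem_filter, hO, Set.mem_toFinset] at ha hb
    obtain ⟨b', hb', hfix⟩ := pair h a ha.1 ha.2
    rcases h2 h (ne_of_mem_erase hh) a b b' ha.2 hb.2 hfix with e | e | e
    · exact e
    · exact (disj a ha.1 (e ▸ hb')).elim
    · exact (disj b hb.1 (e ▸ hb')).elim
  set A := E.filter fun h => ∃ b ∈ O, h • b = b with hA
  have hAsum : ∑ h ∈ E, (O.filter fun b => h • b = b).card = A.card := by
    rw [hA, card_filter]
    refine sum_congr rfl fun h hh => ?_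
    split_ifs with hb
    · exact le_antisymm (one_le h hh) (card_pos.2 (by
        obtain ⟨b, hb, hfix⟩ := hb; exact ⟨b, mem_filter.2 ⟨hb, hfix⟩⟩))
    · rw [card_eq_zero, filter_eq_empty_iff]
      exact fun b hb' hfix => hb ⟨b, hb', hfix⟩
  obtain ⟨c1, c2⟩ := count k
  rw [← hO, hAsum] at c1
  rw [← hO] at c2
  set R := E.filter fun h => ¬ ∃ b ∈ O, h • b = b with hR
  have hAR : A.card + R.card + 1 = Fintype.card G := by
    rw [hA, hR, card_filter_add_card_filter_not, hE, card_erase_of_mem (mem_univ _), card_univ]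
    have := Fintype.card_pos (α := G)
    omega
  have hO1 : 2 ≤ O.card := one_lt_card.2 ⟨k, by simp [hO], g₀ • k, by simp [hO], hg₀.symm⟩
  obtain ⟨h, hh⟩ : R.Nonempty := card_pos.1 (by omega)
  obtain ⟨hhE, hhO⟩ := mem_filter.1 hh
  obtain ⟨ω, hω⟩ := h1 h (ne_of_mem_erase hhE)
  set O' := (MulAction.orbit G ω).toFinset with hO'
  have hω1 : ω ∉ MulAction.orbit G k := fun hm => hhO ⟨ω, Set.mem_toFinset.2 hm, hω⟩
  have hω2 : ω ∉ MulAction.orbit G k' := by
    rintro ⟨g, rfl⟩
    refine hhO ⟨g • k, Set.mem_toFinset.2 ⟨g, rfl⟩, ?_⟩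
    have := (hst (g⁻¹ * h * g)).2 (by rw [mul_smul, mul_smul, hω, inv_smul_smul])
    rwa [mul_smul, mul_smul, inv_smul_eq_iff] at this
  -- every element fixing a point of the new orbit is in R
  have hsupp : ∀ x ∈ E, x ∉ R → (O'.filter fun b => x • b = b).card = 0 := by
    intro x hx hxR
    rw [card_eq_zero, filter_eq_empty_iff]
    intro b hb hxb
    obtain ⟨a, ha, hxa⟩ : ∃ a ∈ O, x • a = a := by
      by_contra hne'
      exact hxR (mem_filter.2 ⟨hx, hne'⟩)
    rw [hO, Set.mem_toFinset] at ha
    rw [hO', Set.mem_toFinset] at hb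
    obtain ⟨a', ha', hxa'⟩ := pair x a ha hxa
    rcases h2 x (ne_of_mem_erase hx) a a' b hxa hxa' hxb with e | e | e
    · exact disj a ha (e ▸ ha')
    · exact hω1 (MulAction.orbit_eq_iff.1 ((MulAction.orbit_eq_iff.2 hb).symm.trans
        (MulAction.orbit_eq_iff.2 (e ▸ ha))))
    · exact hω2 (MulAction.orbit_eq_iff.1 ((MulAction.orbit_eq_iff.2 hb).symm.trans
        (MulAction.orbit_eq_iff.2 (e ▸ ha'))))
  have two_le : ∀ x ∈ R, (O'.filter fun b => x • b = b).card ≤ 2 := by
    intro x hx
    by_contra h3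
    obtain ⟨a, ha, b, hb, c, hc, hab, hac, hbc⟩ := two_lt_card.1 (Nat.lt_of_not_le h3)
    rw [mem_filter] at ha hb hc
    rcases h2 x (ne_of_mem_erase (mem_filter.1 hx).1) a b c ha.2 hb.2 hc.2 with e | e | e
    exacts [hab e, hac e, hbc e]
  obtain ⟨d1, d2⟩ := count ω
  rw [← hO'] at d1 d2
  have hle : ∑ x ∈ E, (O'.filter fun b => x • b = b).card ≤ R.card * 2 := by
    rw [← sum_subset (show R ⊆ E from filter_subset _ _) hsupp]
    exact (sum_le_card_nsmul _ _ _ two_le).trans (by rw [smul_eq_mul])
  have ha2 : 2 ≤ Nat.card (MulAction.stabilizer G ω) := by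
    rw [Nat.succ_le_iff, Finite.one_lt_card_iff_nontrivial]
    exact ⟨⟨h, hω⟩, 1, fun e => ne_of_mem_erase hhE (congrArg Subtype.val e)⟩
  have e1 := Nat.mul_le_mul_left O.card h4
  have e2 := Nat.mul_le_mul_left O'.card ha2
  omega

end Cfsg.Agent.Unitary
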