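import Cfsg.Agent.Lib.Unitary.MonoBase
import Cfsg.Agent.Lib.Unitary.PlaneOrbit
import Mathlib.LinearAlgebra.Projectivization.Action
/-
Groups of isometries preserving a non-degenerate plane.
* exists_root_of_fixed, exists_sqrt_norm_one
* exists_swap_in_plane : at least four different eigenvalue ratios fixing a line give an element
  moving that line to its perpendicular
-/
set_option autoImplicit false

namespace Cfsg.Agent.Unitary

open scoped Matrix LinearAlgebra.Projectivization

variable {F : Type*} [Field F] [Fintype F] {q n : ℕ}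

/-- A quadratic with fixed coefficients has a root. -/
theorem exists_root_of_fixed (hF : Fintype.card F = q ^ 2) {c : F} (hc : c ^ q = c) :
    ∃ y : F, y * y - y + c = 0 := by
  classical
  set K := Finset.univ.filter (fun v : F => v ^ q = v) with hK
  set T := Finset.univ.filter (fun v : F => v + v ^ q = 1) with hT
  have hKc : K.card = q := by
    have := card_fixed hF
    rwa [Nat.card_eq_fintype_card, Fintype.card_subtype] at this
  have hTc : q ≤ T.card := by
    obtain ⟨t, ht⟩ := exists_trace_eq hF (one_pow q : (1 : F) ^ q = 1)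
    have h0 := card_trace_zero hF
    rw [Nat.card_eq_fintype_card, Fintype.card_subtype] at h0
    refine h0.ge.trans (Finset.card_le_card_of_injOn (fun v => v + t) (fun v hv => ?_)
      fun v _ w _ e => add_right_cancel e)
    simp only [Finset.coe_filter, Finset.mem_univ, true_and, Set.mem_setOf_eq, hT] at hv ⊢
    rw [add_pow_q hF]
    linear_combination hv + ht
  have hinter : (K ∩ T).card ≤ 1 := Finset.card_le_one.2 fun a ha b hb => by
    simp only [hK, hT, Finset.mem_inter, Finset.mem_filter, Finset.mem_univ, true_and] at ha hb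
    rw [ha.1] at ha
    rw [hb.1] at hb
    by_cases h2 : (2 : F) = 0
    · exact absurd (show (1 : F) = 0 by linear_combination a * h2 - ha.2) one_ne_zero
    · exact mul_left_cancel₀ h2 (by linear_combination ha.2 - hb.2)
  set S := (K ∪ T).image fun y => -(y * y - y) with hS
  have hSK : S ⊆ K := by
    intro v hv
    obtain ⟨y, hy, rfl⟩ := Finset.mem_image.1 hv
    simp only [hK, hT, Finset.mem_union, Finset.mem_filter, Finset.mem_univ, true_and] at hy ⊢
    rw [neg_pow_q hF, sub_pow_q hF, mul_pow]
    rcases hy with h | h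
    · rw [h]
    · rw [show y ^ q = 1 - y by linear_combination h]; ring
  have hfib : (K ∪ T).card ≤ 2 * S.card := Finset.card_le_mul_card_image _ 2 fun v _ =>
    card_roots_quad_le (a := (1 : F)) (b := -1) (c := v) one_ne_zero _ fun x hx => by
      linear_combination -(Finset.mem_filter.1 hx).2
  have h1 := Finset.card_union_add_card_inter K T
  have hSeq : S = K := Finset.eq_of_subset_of_card_le hSK (by omega)
  obtain ⟨y, -, hy⟩ := Finset.mem_image.1 (hSeq.symm ▸ (by simp [hK, hc] : c ∈ K) : c ∈ S)
  exact ⟨y, by linear_combination -hy⟩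

/-- Elements of norm one are squares. -/
theorem exists_sqrt_norm_one (hF : Fintype.card F = q ^ 2) {c : F} (hc : c ^ (q + 1) = 1) :
    ∃ y : F, y * y = c := by
  have hc0 : c ≠ 0 := fun h => by simp [h] at hc
  by_cases h2 : ringChar F = 2
  · obtain ⟨y, hy⟩ := FiniteField.isSquare_of_char_two h2 c
    exact ⟨y, hy.symm⟩
  · have hodd : q % 2 = 1 := by
      have h := FiniteField.odd_card_of_char_ne_two h2
      rw [hF, Nat.pow_mod] at h
      rcases Nat.mod_two_eq_zero_or_one q with h' | h'
      · simp [h'] at h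
      · exact h'
    obtain ⟨k, rfl⟩ : ∃ k, q = 2 * k + 1 := ⟨q / 2, by omega⟩
    obtain ⟨y, hy⟩ := (FiniteField.isSquare_iff h2 hc0).2 (by
      rw [hF, show (2 * k + 1) ^ 2 / 2 = (2 * k + 1 + 1) * k by
        rw [show (2 * k + 1) ^ 2 = 2 * ((2 * k + 1 + 1) * k) + 1 by ring]; omega,
        pow_mul, hc, one_pow])
    exact ⟨y, hy.symm⟩

/-- An isometry of an anisotropically split plane has an eigenvector. -/
theorem exists_plane_eigen (hF : Fintype.card F = q ^ 2) {A B p r s t : F} (hA : A ≠ 0) (hB : B ≠ 0)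
    (h11 : p * p ^ q * A + r * r ^ q * B = A) (h22 : s * s ^ q * A + t * t ^ q * B = B)
    (h12 : p * s ^ q * A + r * t ^ q * B = 0) (h21 : s * p ^ q * A + t * r ^ q * B = 0) :
    ∃ x y l : F, (x ≠ 0 ∨ y ≠ 0) ∧ x * p + y * s = l * x ∧ x * r + y * t = l * y := by
  by_cases hr : r = 0
  · exact ⟨1, 0, p, Or.inl one_ne_zero, by ring, by rw [hr]; ring⟩
  have hd : ∀ x : F, x * A * B = 0 → x = 0 := fun x h => by
    simpa [hA, hB] using h
  set δ := p * t - r * s with hδ
  have e1 : t ^ q * δ = p := mul_left_cancel₀ hB (by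
    rw [hδ]; linear_combination p * h22 - s * h12)
  have e2 : p ^ q * δ = t := mul_left_cancel₀ hA (by
    rw [hδ]; linear_combination t * h11 - r * h21)
  have e3 : δ * r ^ q * B = -(s * A) := by
    rw [hδ]; linear_combination p * h21 - s * h11
  have e4 : δ * δ ^ q = 1 := by
    have hq : δ ^ q = p ^ q * t ^ q - r ^ q * s ^ q := by rw [hδ, sub_pow_q hF, mul_pow, mul_pow]
    refine mul_left_cancel₀ hB ?_
    rw [hq]
    linear_combination B * t ^ q * e2 - s ^ q * e3 + h22
  suffices ∃ l, l * l - (p + t) * l + δ = 0 by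
    obtain ⟨l, hl⟩ := this
    exact ⟨l - t, r, l, Or.inr hr, by rw [hδ] at hl; linear_combination -hl, by ring⟩
  by_cases hτ : p + t = 0
  · obtain ⟨l, hl⟩ := exists_sqrt_norm_one hF (c := -δ) (by
      rw [pow_succ, neg_pow_q hF]; linear_combination e4)
    exact ⟨l, by rw [hτ]; linear_combination hl⟩
  · have e5 : (p + t) ^ q * δ = p + t := by
      rw [add_pow_q hF]; linear_combination e1 + e2
    have hδ0 : δ ≠ 0 := fun h => by simp [h] at e4
    obtain ⟨y, hy⟩ := exists_root_of_fixed hF (c := δ / (p + t) ^ 2) (by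
      rw [div_pow, ← pow_mul, mul_comm 2 q, pow_mul]
      rw [div_eq_div_iff (pow_ne_zero _ fun h => hτ (by rw [← e5, h, zero_mul])) (pow_ne_zero _ hτ)]
      refine mul_left_cancel₀ hδ0 ?_
      linear_combination (p + t) ^ 2 * e4 - ((p + t) ^ q * δ + (p + t)) * e5)
    refine ⟨(p + t) * y, ?_⟩
    field_simp at hy
    linear_combination hy

/-- An element moving a line with many stabilising eigenvalue ratios to its perpendicular. -/
theorem exists_swap_in_plane (hF : Fintype.card F = q ^ 2)
    {G : Subgroup (Matrix.GeneralLinearGroup (Fin n) F)} {a b : Fin n → F}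
    (haa : Cfsg.hermForm n F q a a ≠ 0) (hbb : Cfsg.hermForm n F q b b ≠ 0)
    (hab : Cfsg.hermForm n F q a b = 0)
    (hGU : G ≤ Cfsg.GU n F q)
    (hGP : ∀ g ∈ G, ∀ v ∈ Submodule.span F ({a, b} : Set (Fin n → F)),
      (g : Matrix (Fin n) (Fin n) F) *ᵥ v ∈ Submodule.span F ({a, b} : Set (Fin n → F)))
    (T : Fin 4 → Matrix.GeneralLinearGroup (Fin n) F) (hT : ∀ i, T i ∈ G) (α β : Fin 4 → F)
    (hTa : ∀ i, (T i : Matrix (Fin n) (Fin n) F) *ᵥ a = α i • a)
    (hTb : ∀ i, (T i : Matrix (Fin n) (Fin n) F) *ᵥ b = β i • b)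
    (hαβ : ∀ i j, α i * β j = α j * β i → i = j)
    {X : Matrix.GeneralLinearGroup (Fin n) F} (hX : X ∈ G)
    (hXa : ∀ c : F, (X : Matrix (Fin n) (Fin n) F) *ᵥ a ≠ c • a) :
    ∃ g ∈ G, ∃ c : F, (g : Matrix (Fin n) (Fin n) F) *ᵥ a = c • b := by
  classical
  have H := hermForm_isHerm hF n
  have hba : Cfsg.hermForm n F q b a = 0 := (H.eq_zero_symm hF).1 hab
  set P := Submodule.span F ({a, b} : Set (Fin n → F)) with hP
  have haP : a ∈ P := Submodule.subset_span (Set.mem_insert _ _)
  have hbP : b ∈ P := Submodule.subset_span (Set.mem_insert_of_mem _ rfl)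
  have coord : ∀ v ∈ P, ∃ x y : F, x • a + y • b = v := fun v hv => by
    rwa [hP, Submodule.mem_span_pair] at hv
  have coord_inj : ∀ x y : F, x • a + y • b = 0 → x = 0 ∧ y = 0 := by
    intro x y h
    have h1 := congrArg (fun v => Cfsg.hermForm n F q v a) h
    have h2 := congrArg (fun v => Cfsg.hermForm n F q v b) h
    simp only [H.add_left, H.smul_left, hab, hba, H.zero_left, mul_zero, add_zero, zero_add] at h1 h2
    exact ⟨(mul_eq_zero.1 h1).resolve_right haa, (mul_eq_zero.1 h2).resolve_right hbb⟩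
  let act : DistribMulAction G P :=
    { smul := fun g v => ⟨((g : Matrix.GeneralLinearGroup (Fin n) F) : Matrix (Fin n) (Fin n) F) *ᵥ
        (v : Fin n → F), hGP g g.2 v v.2⟩
      one_smul := fun v => Subtype.ext (Matrix.one_mulVec _)
      mul_smul := fun g g' v => Subtype.ext (show (((g : Matrix.GeneralLinearGroup (Fin n) F) *
          g' : Matrix.GeneralLinearGroup (Fin n) F) : Matrix (Fin n) (Fin n) F) *ᵥ (v : Fin n → F) =
          ((g : Matrix.GeneralLinearGroup (Fin n) F) : Matrix (Fin n) (Fin n) F) *ᵥ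
          (((g' : Matrix.GeneralLinearGroup (Fin n) F) : Matrix (Fin n) (Fin n) F) *ᵥ (v : Fin n → F)) by
          rw [Units.val_mul, Matrix.mulVec_mulVec])
      smul_zero := fun g => Subtype.ext (show ((g : Matrix.GeneralLinearGroup (Fin n) F) :
          Matrix (Fin n) (Fin n) F) *ᵥ (0 : Fin n → F) = 0 from Matrix.mulVec_zero _)
      smul_add := fun g v w => Subtype.ext (Matrix.mulVec_add _ (v : Fin n → F) (w : Fin n → F)) }
  have hsmul : ∀ (g : G) (v : P), ((g • v : P) : Fin n → F) =
      ((g : Matrix.GeneralLinearGroup (Fin n) F) : Matrix (Fin n) (Fin n) F) *ᵥ (v : Fin n → F) :=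
    fun _ _ => rfl
  have : SMulCommClass G F P := ⟨fun g c v => Subtype.ext (by
    rw [hsmul, Submodule.coe_smul, Matrix.mulVec_smul, ← hsmul, Submodule.coe_smul])⟩
  have : Finite (ℙ F P) := Finite.of_surjective (fun v : {v : P // v ≠ 0} => Projectivization.mk F v.1 v.2)
    fun x => ⟨⟨x.rep, x.rep_nonzero⟩, x.mk_rep⟩
  have fix_iff : ∀ (g : G) (v : P) (hv : v ≠ 0), g • Projectivization.mk F v hv = Projectivization.mk F v hv ↔
      ∃ c : F, ((g : Matrix.GeneralLinearGroup (Fin n) F) : Matrix (Fin n) (Fin n) F) *ᵥ (v : Fin n → F) =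
        c • (v : Fin n → F) := by
    intro g v hv
    rw [Projectivization.smul_mk, Projectivization.mk_eq_mk_iff']
    refine exists_congr fun c => ⟨fun h => ?_, fun h => Subtype.ext ?_⟩
    · rw [← hsmul, ← h, Submodule.coe_smul]
    · rw [Submodule.coe_smul, hsmul, h]
  have iso : ∀ (g : G) (v w : Fin n → F),
      Cfsg.hermForm n F q (((g : Matrix.GeneralLinearGroup (Fin n) F) : Matrix (Fin n) (Fin n) F) *ᵥ v)
        (((g : Matrix.GeneralLinearGroup (Fin n) F) : Matrix (Fin n) (Fin n) F) *ᵥ w) =
      Cfsg.hermForm n F q v w := fun g v w => hGU g.2 v w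
  let ka : ℙ F P := Projectivization.mk F ⟨a, haP⟩ fun h => haa (by
    rw [show a = 0 from congrArg Subtype.val h, H.zero_left])
  let kb : ℙ F P := Projectivization.mk F ⟨b, hbP⟩ fun h => hbb (by
    rw [show b = 0 from congrArg Subtype.val h, H.zero_left])
  -- perpendicular lines are fixed together
  have perp : ∀ (u w : Fin n → F) (g : G), u ∈ P → w ∈ P → Cfsg.hermForm n F q u u ≠ 0 →
      Cfsg.hermForm n F q w w ≠ 0 → Cfsg.hermForm n F q u w = 0 →
      (∃ c : F, ((g : Matrix.GeneralLinearGroup (Fin n) F) : Matrix (Fin n) (Fin n) F) *ᵥ u = c • u) →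
      ∀ x y : F, x • u + y • w = ((g : Matrix.GeneralLinearGroup (Fin n) F) : Matrix (Fin n) (Fin n) F) *ᵥ w →
      x = 0 := by
    rintro u w g - - huu hww huw ⟨c, hc⟩ x y hxy
    have h0 := iso g w u
    rw [hc, H.smul_right, (H.eq_zero_symm hF).1 huw, ← hxy, H.add_left, H.smul_left, H.smul_left,
      (H.eq_zero_symm hF).1 huw, mul_zero, add_zero] at h0
    have hc0 : c ≠ 0 := fun h => huu (by
      have := iso g u u
      rw [hc, h, zero_smul, H.zero_left] at this
      exact this.symm)
    simpa [huu, hc0] using h0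
  let π := MulAction.toPermHom G (ℙ F P)
  have hπ : ∀ (g : G) (x : ℙ F P), π.rangeRestrict g • x = g • x := fun _ _ => rfl
  have hTi : Function.Injective fun i : Fin 4 => π.rangeRestrict ⟨T i, hT i⟩ := by
    intro i j e
    have hab0 : (⟨a, haP⟩ + ⟨b, hbP⟩ : P) ≠ 0 := fun h => one_ne_zero (coord_inj 1 1 (by
      simpa using congrArg Subtype.val h)).1
    have e' : (⟨T i, hT i⟩ : G) • Projectivization.mk F _ hab0 =
        (⟨T j, hT j⟩ : G) • Projectivization.mk F _ hab0 := by
      rw [← hπ, ← hπ]; exact congrArg (fun z => z • Projectivization.mk F _ hab0) e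
    rw [Projectivization.smul_mk, Projectivization.smul_mk, Projectivization.mk_eq_mk_iff'] at e'
    obtain ⟨c, hc⟩ := e'
    have h := congrArg Subtype.val hc
    rw [Submodule.coe_smul, hsmul, hsmul] at h
    simp only [Submodule.coe_add, Matrix.mulVec_add, hTa, hTb, smul_add, smul_smul] at h
    obtain ⟨h1, h2⟩ := coord_inj (c * α j - α i) (c * β j - β i) (by
      rw [sub_smul, sub_smul]; linear_combination (norm := module) h)
    exact hαβ i j (by linear_combination β i * h1 * 0 + α j * h2 - β j * h1)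
  obtain hfix | ⟨σ, hσ⟩ := exists_smul_eq_of_two_fixed (G := π.range) (Ω := ℙ F P) (k := ka) (k' := kb)
    (fun σ _ => by
      obtain ⟨g, rfl⟩ := π.rangeRestrict_surjective σ
      obtain ⟨p, r, hpr⟩ := coord _ (hGP g g.2 a haP)
      obtain ⟨s, t, hst⟩ := coord _ (hGP g g.2 b hbP)
      have h11 := iso g a a
      have h22 := iso g b b
      have h12 := iso g a b
      have h21 := iso g b a
      simp only [← hpr, ← hst, H.add_left, H.add_right hF, H.smul_left, H.smul_right, hab, hba,
        mul_zero, add_zero, zero_add] at h11 h22 h12 h21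
      obtain ⟨x, y, l, hxy, hx, hy⟩ := exists_plane_eigen hF haa hbb (p := p) (r := r) (s := s) (t := t)
        (by linear_combination h11) (by linear_combination h22) (by linear_combination h12)
        (by linear_combination h21)
      have hv : (⟨x • a + y • b, P.add_mem (P.smul_mem x haP) (P.smul_mem y hbP)⟩ : P) ≠ 0 := fun h => by
        obtain ⟨e1, e2⟩ := coord_inj x y (congrArg Subtype.val h)
        rcases hxy with h' | h'
        exacts [h' e1, h' e2]
      refine ⟨Projectivization.mk F _ hv, ?_⟩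
      rw [hπ, fix_iff]
      refine ⟨l, ?_⟩
      simp only [Matrix.mulVec_add, Matrix.mulVec_smul, ← hpr, ← hst]
      linear_combination (norm := module) congrArg (· • a) hx + congrArg (· • b) hy)
    (fun σ hσ1 x₁ x₂ x₃ h₁ h₂ h₃ => by
      obtain ⟨g, rfl⟩ := π.rangeRestrict_surjective σ
      by_contra! hne
      obtain ⟨h12, h13, h23⟩ := hne
      refine hσ1 (Subtype.ext (Equiv.ext fun x => ?_))
      show g • x = x
      rw [hπ, ← x₁.mk_rep, fix_iff] at h₁
      rw [hπ, ← x₂.mk_rep, fix_iff] at h₂
      rw [hπ, ← x₃.mk_rep, fix_iff] at h₃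
      obtain ⟨c1, hc1⟩ := h₁
      obtain ⟨c2, hc2⟩ := h₂
      obtain ⟨c3, hc3⟩ := h₃
      have hli : LinearIndependent F ![x₁.rep, x₂.rep] := by
        rw [LinearIndependent.pair_iff' x₁.rep_nonzero]
        intro c hc
        refine h12 ?_
        rw [← x₁.mk_rep, ← x₂.mk_rep, eq_comm, Projectivization.mk_eq_mk_iff']
        exact ⟨c, hc⟩
      have hsp : ∀ v : P, ∃ e f : F, e • x₁.rep + f • x₂.rep = v := by
        intro v
        have h2 : Module.finrank F P ≤ 2 := by
          refine (finrank_span_le_card (R := F) ({a, b} : Set (Fin n → F))).trans ?_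
          simp only [Set.toFinset_insert, Set.toFinset_singleton]
          exact le_trans (Finset.card_insert_le _ _) (by simp)
        have hcard : Fintype.card (Fin 2) = Module.finrank F P :=
          le_antisymm (by simpa using hli.fintype_card_le_finrank) (by simpa using h2)
        have hv : v ∈ Submodule.span F (Set.range ![x₁.rep, x₂.rep]) := by
          rw [hli.span_eq_top_of_card_eq_finrank hcard]; trivial
        rw [Matrix.range_cons, Matrix.range_cons, Matrix.range_empty, Set.union_empty,
          Set.singleton_union, Submodule.mem_span_pair] at hv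
        exact hv
      obtain ⟨e, f, hef⟩ := hsp x₃.rep
      have he : e ≠ 0 := by
        rintro rfl
        refine h23 ?_
        rw [← x₂.mk_rep, ← x₃.mk_rep, eq_comm, Projectivization.mk_eq_mk_iff']
        exact ⟨f, by rw [← hef]; simp⟩
      have hf : f ≠ 0 := by
        rintro rfl
        refine h13 ?_
        rw [← x₁.mk_rep, ← x₃.mk_rep, eq_comm, Projectivization.mk_eq_mk_iff']
        exact ⟨e, by rw [← hef]; simp⟩
      have hli' := LinearIndependent.pair_iff.1 hli
      obtain ⟨u1, u2⟩ := hli' (e * c1 - c3 * e) (f * c2 - c3 * f) (Subtype.ext (by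
        have h3 := hc3
        rw [← hef] at h3
        simp only [Submodule.coe_add, Submodule.coe_smul, Matrix.mulVec_add, Matrix.mulVec_smul, hc1,
          hc2] at h3 ⊢
        simp only [ZeroMemClass.coe_zero]
        linear_combination (norm := module) h3))
      have e13 : c1 = c3 := mul_left_cancel₀ he (by linear_combination u1)
      have e23 : c2 = c3 := mul_left_cancel₀ hf (by linear_combination u2)
      rw [← x.mk_rep, fix_iff]
      obtain ⟨e', f', hef'⟩ := hsp x.rep
      refine ⟨c3, ?_⟩
      rw [← hef']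
      simp only [Submodule.coe_add, Submodule.coe_smul, Matrix.mulVec_add, Matrix.mulVec_smul, hc1,
        hc2, e13, e23]
      module)
    (fun h => one_ne_zero (show (1 : F) = 0 by
      obtain ⟨c, hc⟩ := (Projectivization.mk_eq_mk_iff' _ _ _ _ _).1 h
      have h' : c • b = a := congrArg Subtype.val hc
      exact absurd (by nth_rewrite 1 [← h']; rw [H.smul_left, hba, mul_zero]) haa))
    (fun σ => by
      obtain ⟨g, rfl⟩ := π.rangeRestrict_surjective σ
      rw [hπ, hπ, fix_iff, fix_iff]
      constructor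
      · intro h
        obtain ⟨x, y, hxy⟩ := coord _ (hGP g g.2 b hbP)
        have := perp a b g haP hbP haa hbb hab h x y hxy
        exact ⟨y, by rw [← hxy, this, zero_smul, zero_add]⟩
      · intro h
        obtain ⟨x, y, hxy⟩ := coord _ (hGP g g.2 a haP)
        have := perp b a g hbP haP hbb haa hba h y x (by rw [← hxy, add_comm])
        exact ⟨x, by rw [← hxy, this, zero_smul, add_zero]⟩)
    (by
      refine le_of_eq_of_le (by simp : (4 : ℕ) = Nat.card (Fin 4)) (Nat.card_le_card_of_injective
        (fun i => (⟨π.rangeRestrict ⟨T i, hT i⟩, ?_⟩ : MulAction.stabilizer π.range ka)) ?_)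
      · rw [MulAction.mem_stabilizer_iff, hπ, fix_iff]; exact ⟨α i, hTa i⟩
      · exact fun i j e => hTi (congrArg Subtype.val e))
  · have h := hfix (π.rangeRestrict ⟨X, hX⟩)
    rw [hπ, fix_iff] at h
    obtain ⟨c, hc⟩ := h
    exact absurd hc (hXa c)
  · obtain ⟨g, rfl⟩ := π.rangeRestrict_surjective σ
    rw [hπ] at hσ
    simp only [ka, kb, Projectivization.smul_mk, Projectivization.mk_eq_mk_iff'] at hσ
    obtain ⟨c, hc⟩ := hσ
    exact ⟨g, g.2, c, (congrArg Subtype.val hc).symm⟩

end Cfsg.Agent.Unitary
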