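import Cfsg.Agent.Lib.Unitary.Maximal
/-
Maximality of the stabiliser of a nondegenerate subspace W in SU, when dim W + 4 ≤ n and 2 dim W < n.
* wPart, pPart (orthogonal decomposition along an orthonormal family), exists_more, exists_perp_pair
* mixed_centre_of_same_class, mixed_centre_change, isMaximalIn_nondegenerate_stabilizer
-/
set_option autoImplicit false

namespace Cfsg.Agent.Unitary

open scoped Matrix

variable {F : Type*} [Field F] [Fintype F] {q n k : ℕ} {b : Fin k → (Fin n → F)}

/-- The component in the span of an orthonormal family. -/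
def wPart (q : ℕ) (b : Fin k → (Fin n → F)) (x : Fin n → F) : Fin n → F :=
  ∑ i, Cfsg.hermForm n F q x (b i) • b i

/-- The component orthogonal to an orthonormal family. -/
def pPart (q : ℕ) (b : Fin k → (Fin n → F)) (x : Fin n → F) : Fin n → F := x - wPart q b x

theorem wPart_add_pPart (x : Fin n → F) : wPart q b x + pPart q b x = x := add_sub_cancel _ _

theorem wPart_mem (x : Fin n → F) : wPart q b x ∈ Submodule.span F (Set.range b) :=
  Submodule.sum_mem _ fun i _ => Submodule.smul_mem _ _ (Submodule.subset_span ⟨i, rfl⟩)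

theorem pPart_perp (hF : Fintype.card F = q ^ 2) (hb : Orthonormal (Cfsg.hermForm n F q) b)
    (x : Fin n → F) (i : Fin k) : Cfsg.hermForm n F q (pPart q b x) (b i) = 0 := by
  rw [pPart, (hermForm_isHerm hF n).sub_left, wPart, Orthonormal.coeff (hermForm_isHerm hF n) hb,
    sub_self]

theorem perp_span (hF : Fintype.card F = q ^ 2) {y : Fin n → F}
    (hy : ∀ i, Cfsg.hermForm n F q y (b i) = 0) {x : Fin n → F}
    (hx : x ∈ Submodule.span F (Set.range b)) : Cfsg.hermForm n F q x y = 0 := by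
  have H := hermForm_isHerm hF n
  obtain ⟨c, rfl⟩ := (Submodule.mem_span_range_iff_exists_fun F).1 hx
  simp [H.sum_left, H.smul_left, (H.eq_zero_symm hF).1 (hy _)]

theorem eq_zero_of_mem_perp (hF : Fintype.card F = q ^ 2) (hb : Orthonormal (Cfsg.hermForm n F q) b)
    {x : Fin n → F} (hx : x ∈ Submodule.span F (Set.range b))
    (hx' : ∀ i, Cfsg.hermForm n F q x (b i) = 0) : x = 0 := by
  obtain ⟨c, rfl⟩ := (Submodule.mem_span_range_iff_exists_fun F).1 hx
  simp only [Orthonormal.coeff (hermForm_isHerm hF n) hb] at hx'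
  simp [hx']

/-- A nonzero vector of given norm orthogonal to an orthonormal family, two dimensions to spare. -/
theorem exists_more (hF : Fintype.card F = q ^ 2) {m : ℕ} {d : Fin m → (Fin n → F)}
    (hd : Orthonormal (Cfsg.hermForm n F q) d) (hm : m + 2 ≤ n) {κ : F} (hκ : κ ^ q = κ) :
    ∃ r e, Cfsg.hermForm n F q r r = κ ∧ (∀ i, Cfsg.hermForm n F q r (d i) = 0) ∧
      (∀ i, Cfsg.hermForm n F q (d i) e = 0) ∧ Cfsg.hermForm n F q r e ≠ 0 := by
  have H := hermForm_isHerm hF n
  obtain ⟨e, he, hed⟩ := exists_orthonormal_step hF H (hermForm_nondeg hF n) hd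
    (by rw [Module.finrank_fin_fun]; omega)
  obtain ⟨f, hf, hfd⟩ := exists_orthonormal_step hF H (hermForm_nondeg hF n) (hd.snoc hF he hed)
    (by rw [Module.finrank_fin_fun]; omega)
  have hef : Cfsg.hermForm n F q e f = 0 := by simpa using hfd (Fin.last m)
  have hfd' : ∀ i, Cfsg.hermForm n F q (d i) f = 0 := fun i => by
    simpa using hfd (Fin.castSucc i)
  by_cases hκ0 : κ = 0
  · obtain ⟨ε, hε⟩ := exists_eps hF
    refine ⟨e + ε • f, e, ?_, fun i => ?_, hed, ?_⟩
    · simp only [H.add_left, H.add_right hF, H.smul_left, H.smul_right, he, hf, hef,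
        (H.eq_zero_symm hF).1 hef, hκ0]
      linear_combination hε
    · simp [H.add_left, H.smul_left, (H.eq_zero_symm hF).1 (hed i),
        (H.eq_zero_symm hF).1 (hfd' i)]
    · simp [H.add_left, H.smul_left, he, (H.eq_zero_symm hF).1 hef]
  · obtain ⟨γ, hγ⟩ := exists_norm_eq hF hκ
    have hγ0 : γ ≠ 0 := fun h => hκ0 (by rw [← hγ, h, zero_pow (Nat.succ_ne_zero q)])
    refine ⟨γ • e, e, ?_, fun i => ?_, hed, ?_⟩
    · rw [H.smul_left, H.smul_right, he, mul_one, ← pow_succ', hγ]
    · simp [H.smul_left, (H.eq_zero_symm hF).1 (hed i)]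
    · simp [H.smul_left, he, hγ0]

/-- For a nonzero c ⊥ b: a dual vector x and a vector r of any norm, all orthogonal to b. -/
theorem exists_perp_pair (hF : Fintype.card F = q ^ 2) (hb : Orthonormal (Cfsg.hermForm n F q) b)
    (hn : k + 4 ≤ n) {c : Fin n → F} (hc0 : c ≠ 0) (hc : ∀ i, Cfsg.hermForm n F q c (b i) = 0) :
    ∃ x, (∀ i, Cfsg.hermForm n F q x (b i) = 0) ∧ Cfsg.hermForm n F q c x = 1 ∧
      ∀ κ : F, κ ^ q = κ → ∃ r, (∀ i, Cfsg.hermForm n F q r (b i) = 0) ∧
        Cfsg.hermForm n F q c r = 0 ∧ Cfsg.hermForm n F q x r = 0 ∧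
        Cfsg.hermForm n F q r r = κ ∧ ∀ α β : F, α • c + β • x + r ≠ 0 := by
  have H := hermForm_isHerm hF n
  by_cases hcc : Cfsg.hermForm n F q c c = 0
  · obtain ⟨ε, hε⟩ := exists_eps hF
    obtain ⟨a, a', hA, rfl⟩ := isotropic_split hF hb hc0 hcc hc hε
    have ha : Cfsg.hermForm n F q a a = 1 := by
      simpa only [Fin.snoc_castSucc, Fin.snoc_last] using hA.1 (Fin.castSucc (Fin.last k))
    have ha'a : Cfsg.hermForm n F q a' a = 0 := by
      simpa only [Fin.snoc_castSucc, Fin.snoc_last] using hA.2 (Fin.castSucc_lt_last (Fin.last k)).ne'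
    refine ⟨a, fun i => ?_, by rw [H.add_left, H.smul_left, ha, ha'a, mul_zero, add_zero],
      fun κ hκ => ?_⟩
    · simpa only [Fin.snoc_castSucc, Fin.snoc_last] using
        hA.2 (show Fin.castSucc (Fin.last k) ≠ Fin.castSucc (Fin.castSucc i) from fun h =>
          (Fin.castSucc_lt_last i).ne' (Fin.castSucc_injective _ h))
    obtain ⟨r, e, hr, hrd, hde, hre⟩ := exists_more hF hA (by omega) hκ
    have hra : Cfsg.hermForm n F q r a = 0 := by
      simpa only [Fin.snoc_castSucc, Fin.snoc_last] using hrd (Fin.castSucc (Fin.last k))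
    have hra' : Cfsg.hermForm n F q r a' = 0 := by
      simpa only [Fin.snoc_castSucc, Fin.snoc_last] using hrd (Fin.last (k + 1))
    have hea : Cfsg.hermForm n F q a e = 0 := by
      simpa only [Fin.snoc_castSucc, Fin.snoc_last] using hde (Fin.castSucc (Fin.last k))
    have hea' : Cfsg.hermForm n F q a' e = 0 := by
      simpa only [Fin.snoc_castSucc, Fin.snoc_last] using hde (Fin.last (k + 1))
    refine ⟨r, fun i => ?_, ?_, (H.eq_zero_symm hF).1 hra, hr, fun α β h => hre ?_⟩
    · simpa only [Fin.snoc_castSucc, Fin.snoc_last] using hrd (Fin.castSucc (Fin.castSucc i))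
    · rw [(H.eq_zero_symm hF), H.add_right hF, H.smul_right, hra, hra']; ring
    · have := congrArg (fun v => Cfsg.hermForm n F q v e) h
      simpa [H.add_left, H.smul_left, H.zero_left, hea, hea'] using this
  · obtain ⟨γ, hγ⟩ := exists_norm_eq hF (H.self_fixed c)
    have hγ0 : γ ≠ 0 := fun h => hcc (by rw [← hγ, h, zero_pow (Nat.succ_ne_zero q)])
    have h1 : Cfsg.hermForm n F q (γ⁻¹ • c) (γ⁻¹ • c) = 1 := by
      rw [H.smul_left, H.smul_right, ← mul_assoc, ← pow_succ', inv_pow, hγ, inv_mul_cancel₀ hcc]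
    have hd := hb.snoc hF h1 (fun i => by rw [H.smul_right, (H.eq_zero_symm hF).1 (hc i), mul_zero])
    refine ⟨(Cfsg.hermForm n F q c c)⁻¹ • c, fun i => by rw [H.smul_left, hc i, mul_zero],
      by rw [H.smul_right, inv_pow, H.self_fixed, inv_mul_cancel₀ hcc], fun κ hκ => ?_⟩
    obtain ⟨r, e, hr, hrd, hde, hre⟩ := exists_more hF hd (by omega) hκ
    have hrc : Cfsg.hermForm n F q r c = 0 := by
      have := hrd (Fin.last k)
      rw [Fin.snoc_last, H.smul_right] at this
      exact (mul_eq_zero.1 this).resolve_left (pow_ne_zero _ (inv_ne_zero hγ0))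
    have hce : Cfsg.hermForm n F q c e = 0 := by
      have := hde (Fin.last k)
      rw [Fin.snoc_last, H.smul_left] at this
      exact (mul_eq_zero.1 this).resolve_left (inv_ne_zero hγ0)
    refine ⟨r, fun i => ?_, (H.eq_zero_symm hF).1 hrc, ?_, hr, fun α β h => hre ?_⟩
    · simpa only [Fin.snoc_castSucc, Fin.snoc_last] using hrd (Fin.castSucc i)
    · rw [H.smul_left, (H.eq_zero_symm hF).1 hrc, mul_zero]
    · have := congrArg (fun v => Cfsg.hermForm n F q v e) h
      simpa [H.add_left, H.smul_left, H.zero_left, hce] using this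

section Move

variable {M : Subgroup (Matrix.GeneralLinearGroup (Fin n) F)}

/-- Stabiliser elements are transitive on pairs of components of given norm. -/
theorem exists_stab_map_nondeg (hF : Fintype.card F = q ^ 2)
    (hb : Orthonormal (Cfsg.hermForm n F q) b) (hn : k + 4 ≤ n) {a a' c c' : Fin n → F}
    (ha : a ∈ Submodule.span F (Set.range b)) (ha' : a' ∈ Submodule.span F (Set.range b))
    (ha0 : a ≠ 0) (ha0' : a' ≠ 0)
    (hna : Cfsg.hermForm n F q a' a' = Cfsg.hermForm n F q a a)
    (hc : ∀ i, Cfsg.hermForm n F q c (b i) = 0) (hc' : ∀ i, Cfsg.hermForm n F q c' (b i) = 0)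
    (hc0 : c ≠ 0) (hc0' : c' ≠ 0)
    (hnc : Cfsg.hermForm n F q c' c' = Cfsg.hermForm n F q c c) :
    ∃ g ∈ Cfsg.Geo.subspaceStabilizer (Submodule.span F (Set.range b)) ⊓ suGL n F q,
      (g : Matrix (Fin n) (Fin n) F) *ᵥ (a + c) = a' + c' := by
  have H := hermForm_isHerm hF n
  obtain ⟨α, rfl⟩ := (Submodule.mem_span_range_iff_exists_fun F).1 ha
  obtain ⟨α', rfl⟩ := (Submodule.mem_span_range_iff_exists_fun F).1 ha'
  rw [Orthonormal.inner_sum hF H hb, Orthonormal.inner_sum hF H hb] at hna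
  obtain ⟨G, hG⟩ := exists_gu_witt hF (u := fun _ : Fin 1 => α) (w := fun _ => α')
    (linearIndependent_unique_iff.2 fun h => ha0 (by simp [show α = 0 from h]))
    (linearIndependent_unique_iff.2 fun h => ha0' (by simp [show α' = 0 from h]))
    (fun _ _ => hna)
  let Gm := ((G : Matrix.GeneralLinearGroup (Fin k) F) : Matrix (Fin k) (Fin k) F)
  let b' : Fin k → (Fin n → F) := fun i => ∑ j, Gm j i • b j
  have hb' : Orthonormal (Cfsg.hermForm n F q) b' := by
    have hcol := (isUnitary_iff_orthonormal hF Gm).1 G.2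
    refine ⟨fun i => ?_, fun i j hij => ?_⟩
    · exact (Orthonormal.inner_sum hF H hb _ _).trans (hcol.1 i)
    · exact (Orthonormal.inner_sum hF H hb _ _).trans (hcol.2 hij)
  have hb'W : ∀ i, b' i ∈ Submodule.span F (Set.range b) := fun i =>
    Submodule.sum_mem _ fun j _ => Submodule.smul_mem _ _ (Submodule.subset_span ⟨j, rfl⟩)
  have hc'b' : ∀ i, Cfsg.hermForm n F q c' (b' i) = 0 := fun i =>
    (H.eq_zero_symm hF).1 (perp_span hF hc' (hb'W i))
  have li : ∀ {d : Fin k → (Fin n → F)}, Orthonormal (Cfsg.hermForm n F q) d →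
      ∀ {v : Fin n → F}, v ≠ 0 → (∀ i, Cfsg.hermForm n F q v (d i) = 0) →
      LinearIndependent F (Fin.snoc d v : Fin (k + 1) → (Fin n → F)) := fun {d} hd {v} hv hvd =>
    linearIndependent_finSnoc.2 ⟨hd.linearIndependent H, fun h => hv (eq_zero_of_mem_perp hF hd h hvd)⟩
  obtain ⟨g, hg⟩ := exists_gu_witt hF (li hb hc0 hc) (li hb' hc0' hc'b') (fun i j => by
    induction i using Fin.lastCases with
    | last =>
      induction j using Fin.lastCases with
      | last => simp [hnc]
      | cast j => simp [hc'b' j, hc j]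
    | cast i =>
      induction j using Fin.lastCases with
      | last => simp [(H.eq_zero_symm hF).1 (hc'b' i), (H.eq_zero_symm hF).1 (hc i)]
      | cast j => simp [hb.apply, hb'.apply])
  have hgb : ∀ i, ((g : Matrix.GeneralLinearGroup (Fin n) F) : Matrix (Fin n) (Fin n) F) *ᵥ b i =
      b' i := fun i => by simpa using hg (Fin.castSucc i)
  have hgc : ((g : Matrix.GeneralLinearGroup (Fin n) F) : Matrix (Fin n) (Fin n) F) *ᵥ c = c' := by
    simpa using hg (Fin.last k)
  obtain ⟨x, hxb, -, hr⟩ := exists_perp_pair hF hb hn hc0' hc'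
  obtain ⟨e, heb, hce, -, hee, -⟩ := hr 1 (one_pow q)
  have hd : ((g : Matrix.GeneralLinearGroup (Fin n) F) : Matrix (Fin n) (Fin n) F).det ^ (q + 1) = 1 :=
    IsUnitary.det_norm hF (g.2 : IsUnitary q _)
  have hd0 : ((g : Matrix.GeneralLinearGroup (Fin n) F) : Matrix (Fin n) (Fin n) F).det ≠ 0 :=
    fun h => by simp [h] at hd
  obtain ⟨D, hD, hDd, hDf⟩ := exists_gu_det hF hee (inv_pow_succ _ hd)
  let A : Cfsg.GU n F q := guOfUnitary hF D hD * g
  have hAb : ∀ i, D *ᵥ b' i = b' i := fun i => hDf _ (perp_span hF heb (hb'W i))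
  refine ⟨A, ⟨mem_subspaceStabilizer_of_le fun y hy => ?_, A.2, MonoidHom.mem_ker.2 (Units.ext ?_)⟩, ?_⟩
  · obtain ⟨β, rfl⟩ := (Submodule.mem_span_range_iff_exists_fun F).1 hy
    rw [Matrix.mulVec_sum]
    refine Submodule.sum_mem _ fun i _ => ?_
    rw [Matrix.mulVec_smul]
    refine Submodule.smul_mem _ _ ?_
    show (D * _) *ᵥ b i ∈ _
    rw [← Matrix.mulVec_mulVec, hgb, hAb]
    exact hb'W i
  · show (D * _).det = 1
    rw [Matrix.det_mul, hDd, inv_mul_cancel₀ hd0]
  · show (D * _) *ᵥ _ = _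
    rw [← Matrix.mulVec_mulVec, Matrix.mulVec_add, hgc, Matrix.mulVec_add, hDf c' hce,
      Matrix.mulVec_sum]
    simp only [Matrix.mulVec_smul, hgb, Matrix.mulVec_sum]
    rw [show ∑ i, α i • D *ᵥ b' i = ∑ i, α i • b' i from Finset.sum_congr rfl fun i _ => by rw [hAb]]
    congr 1
    have e2 : Gm *ᵥ α = α' := hG 0
    simp only [b', Finset.smul_sum, smul_smul]
    rw [Finset.sum_comm]
    refine Finset.sum_congr rfl fun j _ => ?_
    rw [← Finset.sum_smul, ← e2]
    congr 1
    simp [Matrix.mulVec, dotProduct, mul_comm]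

variable (hF : Fintype.card F = q ^ 2) (hb : Orthonormal (Cfsg.hermForm n F q) b) (hn : k + 4 ≤ n)
  (hHM : Cfsg.Geo.subspaceStabilizer (Submodule.span F (Set.range b)) ⊓ suGL n F q ≤ M)
include hF hb hn hHM

/-- Mixed centres in the same class (component norm zero or not). -/
theorem mixed_centre_of_same_class {a a' c c' : Fin n → F}
    (ha : a ∈ Submodule.span F (Set.range b)) (ha' : a' ∈ Submodule.span F (Set.range b))
    (ha0 : a ≠ 0) (ha0' : a' ≠ 0) (hc : ∀ i, Cfsg.hermForm n F q c (b i) = 0)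
    (hc' : ∀ i, Cfsg.hermForm n F q c' (b i) = 0) (hc0 : c ≠ 0) (hc0' : c' ≠ 0)
    (hv : a + c ∈ centres q M) (hu : Cfsg.hermForm n F q (a' + c') (a' + c') = 0)
    (hcl : Cfsg.hermForm n F q a a = 0 ↔ Cfsg.hermForm n F q a' a' = 0) :
    a' + c' ∈ centres q M := by
  have H := hermForm_isHerm hF n
  have split : ∀ {x y}, x ∈ Submodule.span F (Set.range b) →
      (∀ i, Cfsg.hermForm n F q y (b i) = 0) →
      Cfsg.hermForm n F q (x + y) (x + y) =
        Cfsg.hermForm n F q x x + Cfsg.hermForm n F q y y := fun {x y} hx hy => by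
    rw [H.add_left, H.add_right hF, H.add_right hF, perp_span hF hy hx,
      (H.eq_zero_symm hF).1 (perp_span hF hy hx)]
    ring
  obtain ⟨l, hl0, hl⟩ : ∃ l : F, l ≠ 0 ∧
      l ^ (q + 1) * Cfsg.hermForm n F q a a = Cfsg.hermForm n F q a' a' := by
    by_cases h0 : Cfsg.hermForm n F q a a = 0
    · exact ⟨1, one_ne_zero, by rw [h0, mul_zero, hcl.1 h0]⟩
    · obtain ⟨l, hl⟩ := exists_norm_eq hF
        (c := Cfsg.hermForm n F q a' a' / Cfsg.hermForm n F q a a)
        (by rw [div_pow, H.self_fixed, H.self_fixed])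
      refine ⟨l, fun h => h0 (hcl.2 ?_), by rw [hl, div_mul_cancel₀ _ h0]⟩
      rw [h, zero_pow (Nat.succ_ne_zero q), eq_comm, div_eq_zero_iff] at hl
      exact hl.resolve_right h0
  have h1 := centres_smul hF hv l
  rw [smul_add] at h1
  have e : ∀ x, Cfsg.hermForm n F q (l • x) (l • x) = l ^ (q + 1) * Cfsg.hermForm n F q x x :=
    fun x => by rw [H.smul_left, H.smul_right, pow_succ]; ring
  have hla : l • a ∈ Submodule.span F (Set.range b) := Submodule.smul_mem _ _ ha
  have hlc : ∀ i, Cfsg.hermForm n F q (l • c) (b i) = 0 := fun i => by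
    rw [H.smul_left, hc i, mul_zero]
  have h2 := h1.1
  rw [split hla hlc] at h2
  rw [split ha' hc'] at hu
  obtain ⟨g, hg, hgv⟩ := exists_stab_map_nondeg hF hb hn hla ha' (smul_ne_zero hl0 ha0) ha0'
    (by rw [e, hl]) hlc hc' (smul_ne_zero hl0 hc0) hc0'
    (by rw [e] at h2; linear_combination hu - h2 + hl)
  rw [← hgv]
  exact centres_conj (hHM hg) hg.2 h1

/-- Changing the W-component of a mixed centre. -/
theorem mixed_centre_change {a a'' c : Fin n → F}
    (ha : a ∈ Submodule.span F (Set.range b)) (ha'' : a'' ∈ Submodule.span F (Set.range b))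
    (ha0 : a ≠ 0) (hne : a'' - a ≠ 0) (hc : ∀ i, Cfsg.hermForm n F q c (b i) = 0) (hc0 : c ≠ 0)
    (hv : a + c ∈ centres q M)
    (hcl : Cfsg.hermForm n F q a a = 0 ↔ Cfsg.hermForm n F q (a'' - a) (a'' - a) = 0) :
    ∃ c'', (∀ i, Cfsg.hermForm n F q c'' (b i) = 0) ∧ c'' ≠ 0 ∧ a'' + c'' ∈ centres q M := by
  have H := hermForm_isHerm hF n
  obtain ⟨δ, hδ0, hδ⟩ := exists_skew hF
  obtain ⟨x, hxb, hcx, hr⟩ := exists_perp_pair hF hb hn hc0 hc
  set a' := a'' - a with ha'def
  let σ := (δ⁻¹ - Cfsg.hermForm n F q a a') ^ q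
  have hσ : σ ^ q = δ⁻¹ - Cfsg.hermForm n F q a a' := pow_q_pow_q hF _
  obtain ⟨r, hrb, hcr, hxr, hrr, hne'⟩ := hr
    (-Cfsg.hermForm n F q a' a' - σ ^ (q + 1) * Cfsg.hermForm n F q x x)
    (by rw [sub_pow_q hF, neg_pow_q hF, mul_pow, pow_q_succ_fixed hF, H.self_fixed, H.self_fixed])
  let c' := σ • x + r
  have hc'b : ∀ i, Cfsg.hermForm n F q c' (b i) = 0 := fun i => by
    simp [c', H.add_left, H.smul_left, hxb i, hrb i]
  have hc'0 : c' ≠ 0 := by simpa [c'] using hne' 0 σ
  have hcc' : Cfsg.hermForm n F q c c' = σ ^ q := by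
    simp [c', H.add_right hF, H.smul_right, hcx, hcr]
  have hc'n : Cfsg.hermForm n F q c' c' = -Cfsg.hermForm n F q a' a' := by
    simp only [c', H.add_left, H.add_right hF, H.smul_left, H.smul_right, hxr,
      (H.eq_zero_symm hF).1 hxr, hrr]
    ring
  have hsum0 : c + c' ≠ 0 := by simpa [c', add_assoc] using hne' 1 σ
  clear_value c'
  have ha' : a' ∈ Submodule.span F (Set.range b) := Submodule.sub_mem _ ha'' ha
  have h0 : ∀ {u w}, u ∈ Submodule.span F (Set.range b) →
      (∀ i, Cfsg.hermForm n F q w (b i) = 0) → Cfsg.hermForm n F q u w = 0 :=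
    fun hu hw => perp_span hF hw hu
  have hu : Cfsg.hermForm n F q (a' + c') (a' + c') = 0 := by
    rw [H.add_left, H.add_right hF, H.add_right hF, h0 ha' hc'b,
      (H.eq_zero_symm hF).1 (h0 ha' hc'b), hc'n]
    ring
  have huC := mixed_centre_of_same_class hF hb hn hHM ha ha' ha0 hne hc hc'b hc0 hc'0 hv hu hcl
  have hprod : Cfsg.hermForm n F q (a + c) (a' + c') = δ⁻¹ := by
    rw [H.add_left, H.add_right hF, H.add_right hF, h0 ha hc'b,
      (H.eq_zero_symm hF).1 (h0 ha' hc), hcc', hσ]
    ring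
  have := centres_step hF huC hv (c := δ) (by rw [hδ, add_neg_cancel])
  rw [hprod, mul_inv_cancel₀ hδ0, one_smul] at this
  refine ⟨c + c', fun i => by rw [H.add_left, hc i, hc'b i, add_zero],
    hsum0, ?_⟩
  rwa [show a'' + (c + c') = a + c + (a' + c') by rw [ha'def]; abel]

end Move

theorem span_isotropic_perp (hF : Fintype.card F = q ^ 2) (hb : Orthonormal (Cfsg.hermForm n F q) b)
    (hk : k + 2 ≤ n) (S : Submodule F (Fin n → F))
    (hS : ∀ z, Cfsg.hermForm n F q z z = 0 → (∀ i, Cfsg.hermForm n F q z (b i) = 0) → z ∈ S)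
    {x : Fin n → F} (hx : ∀ i, Cfsg.hermForm n F q x (b i) = 0) : x ∈ S := by
  have H := hermForm_isHerm hF n
  obtain ⟨c, hc, hcb⟩ := exists_orthonormal_extend hF H (hermForm_nondeg hF n) hb
    (show k ≤ n by omega) (le_of_eq (Module.finrank_fin_fun F).symm)
  have hcS : ∀ i : Fin n, k ≤ i.val → c i ∈ S := by
    intro i hi
    obtain ⟨j, hj, hji⟩ : ∃ j : Fin n, k ≤ j.val ∧ j ≠ i := by
      by_cases h : i.val = k
      · exact ⟨⟨k + 1, by omega⟩, by simp, fun e => by simp [Fin.ext_iff] at e; omega⟩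
      · exact ⟨⟨k, by omega⟩, le_rfl, fun e => h (by simp [Fin.ext_iff] at e; omega)⟩
    obtain ⟨ε, hε⟩ := exists_eps hF
    obtain ⟨ζ, hζ, hord⟩ := exists_norm_one_gen hF
    have hq := two_le_q hF
    have hε0 : ε ≠ 0 := fun h => by simp [h] at hε
    have hne : ε - ζ * ε ≠ 0 := by
      rw [show ε - ζ * ε = (1 - ζ) * ε by ring]
      refine mul_ne_zero (sub_ne_zero.2 fun h => ?_) hε0
      rw [← h, orderOf_one] at hord
      omega
    have hbP : ∀ (l : Fin n), k ≤ l.val → ∀ i', Cfsg.hermForm n F q (c l) (b i') = 0 := by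
      intro l hl i'
      rw [← hcb i']
      exact hc.2 fun e => by simp [Fin.ext_iff] at e; omega
    have iso : ∀ e : F, e ^ (q + 1) = -1 → c i + e • c j ∈ S := fun e he => by
      refine hS _ ?_ fun i' => by simp [H.add_left, H.smul_left, hbP i hi, hbP j hj]
      simp only [H.add_left, H.add_right hF, H.smul_left, H.smul_right, hc.1, hc.2 hji,
        hc.2 hji.symm]
      linear_combination he
    have h1 := iso ε hε
    have h2 := iso (ζ * ε) (by rw [mul_pow, hζ, hε, one_mul])
    have h3 : c j ∈ S := by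
      rw [← Submodule.smul_mem_iff S hne]
      have h4 := S.sub_mem h1 h2
      rwa [show c i + ε • c j - (c i + (ζ * ε) • c j) = (ε - ζ * ε) • c j by module] at h4
    simpa using S.sub_mem h1 (S.smul_mem ε h3)
  rw [hc.eq_sum_of_card H (by simp) x]
  refine Submodule.sum_mem _ fun i _ => ?_
  by_cases hi : k ≤ i.val
  · exact S.smul_mem _ (hcS i hi)
  · rw [show c i = b ⟨i.val, by omega⟩ from hcb ⟨i.val, by omega⟩, hx, zero_smul]
    exact S.zero_mem

theorem exists_mixed_centre (hF : Fintype.card F = q ^ 2) (hb : Orthonormal (Cfsg.hermForm n F q) b)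
    (hn : k + 4 ≤ n) (h2 : 2 * k < n) {M : Subgroup (Matrix.GeneralLinearGroup (Fin n) F)}
    (hHM : Cfsg.Geo.subspaceStabilizer (Submodule.span F (Set.range b)) ⊓ suGL n F q ≤ M)
    (hMK : M ≤ suGL n F q) {g : Matrix.GeneralLinearGroup (Fin n) F} (hgM : g ∈ M)
    (hgH : g ∉ Cfsg.Geo.subspaceStabilizer (Submodule.span F (Set.range b)) ⊓ suGL n F q) :
    ∃ v ∈ centres q M, wPart q b v ≠ 0 ∧ pPart q b v ≠ 0 := by
  have H := hermForm_isHerm hF n
  by_contra hcon
  simp only [not_exists, not_and, not_not] at hcon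
  let W := Submodule.span F (Set.range b)
  let G := (g : Matrix (Fin n) (Fin n) F)
  have hG := mem_suGL_herm (hMK hgM)
  let P : Submodule F (Fin n → F) :=
    { carrier := {x | ∀ i, Cfsg.hermForm n F q x (b i) = 0}
      add_mem' := fun {x y} hx hy i => by simp [H.add_left, hx i, hy i]
      zero_mem' := fun i => H.zero_left _
      smul_mem' := fun c x hx i => by simp [H.smul_left, hx i] }
  have hdi : ∀ z, Cfsg.hermForm n F q z z = 0 → z ∈ P → G *ᵥ z ∈ W ∨ G *ᵥ z ∈ P := by
    intro z hz hzP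
    have hzC := centres_conj hgM (hMK hgM)
      (centres_of_stabilizer hF hHM hz (Or.inr fun x hx => perp_span hF hzP hx))
    by_cases hw : wPart q b (G *ᵥ z) = 0
    · right
      have := wPart_add_pPart (q := q) (b := b) (G *ᵥ z)
      rw [hw, zero_add] at this
      exact fun i => this ▸ pPart_perp hF hb (G *ᵥ z) i
    · left
      have := wPart_add_pPart (q := q) (b := b) (G *ᵥ z)
      rw [hcon _ hzC hw, add_zero] at this
      exact this ▸ wPart_mem _
  obtain ⟨x, hx0, hxP, hgx⟩ : ∃ x, Cfsg.hermForm n F q x x = 0 ∧ x ∈ P ∧ G *ᵥ x ∉ P := by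
    by_contra hc
    simp only [not_exists, not_and, not_not] at hc
    apply hgH
    refine ⟨mem_subspaceStabilizer_of_le fun y hy => ?_, hMK hgM⟩
    have hPP : ∀ z ∈ P, G *ᵥ z ∈ P := fun z hz =>
      span_isotropic_perp hF hb (by omega) (P.comap (Matrix.mulVecLin G))
        (fun z hz hzb => hc z hz hzb) hz
    have hinj : Function.Injective (fun x => G *ᵥ x) :=
      Matrix.mulVec_injective_iff_isUnit.2 (Units.isUnit g)
    have horth : ∀ z ∈ P, Cfsg.hermForm n F q (G *ᵥ y) z = 0 := by
      intro z hz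
      obtain ⟨⟨z', hz'⟩, e⟩ := (Finite.injective_iff_bijective.1
        (fun x y hxy => Subtype.ext (hinj (congrArg Subtype.val hxy)) :
          Function.Injective (fun x : P => (⟨G *ᵥ (x : Fin n → F), hPP x x.2⟩ : P)))).2 ⟨z, hz⟩
      rw [← show G *ᵥ z' = z from congrArg Subtype.val e, hG]
      exact perp_span hF hz' hy
    have hp : pPart q b (G *ᵥ y) = 0 := by
      refine hermForm_nondeg hF n _ fun w => ?_
      rw [← wPart_add_pPart (q := q) (b := b) w, H.add_right hF,
        (H.eq_zero_symm hF).1 (perp_span hF (pPart_perp hF hb _) (wPart_mem w)), zero_add]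
      have e2 := horth _ (pPart_perp hF hb w)
      rw [← wPart_add_pPart (q := q) (b := b) (G *ᵥ y), H.add_left,
        perp_span hF (pPart_perp hF hb w) (wPart_mem _), zero_add] at e2
      exact e2
    have e3 := wPart_add_pPart (q := q) (b := b) (G *ᵥ y)
    rw [hp, add_zero] at e3
    exact e3 ▸ wPart_mem _
  obtain ⟨y, hy0, hyP, hgy⟩ : ∃ y, Cfsg.hermForm n F q y y = 0 ∧ y ∈ P ∧ G *ᵥ y ∉ W := by
    by_contra hc
    simp only [not_exists, not_and, not_not] at hc
    obtain ⟨c, hcc, hcb⟩ := exists_orthonormal_extend hF H (hermForm_nondeg hF n) hb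
      (show k ≤ n by omega) (le_of_eq (Module.finrank_fin_fun F).symm)
    let d : Fin (n - k) → W := fun i => ⟨G *ᵥ c ⟨k + i.val, by omega⟩,
      span_isotropic_perp hF hb (by omega) (W.comap (Matrix.mulVecLin G))
        (fun z hz hzb => hc z hz hzb) (fun i' => by
          rw [← hcb i']
          exact hcc.2 fun e => by simp [Fin.ext_iff] at e; omega)⟩
    have hd : Orthonormal (fun u v : W => Cfsg.hermForm n F q u v) d := by
      refine ⟨fun i => (hG _ _).trans (hcc.1 _), fun i j hij => (hG _ _).trans (hcc.2 fun e => hij ?_)⟩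
      simp [Fin.ext_iff] at e
      exact Fin.ext e
    have h3 := (hd.linearIndependent (H.comap W.subtype)).fintype_card_le_finrank
    have h4 : Module.finrank F W = k := by
      rw [finrank_span_eq_card (hb.linearIndependent H), Fintype.card_fin]
    rw [h4, Fintype.card_fin] at h3
    omega
  have hgxW := (hdi x hx0 hxP).resolve_right hgx
  have hgyP := (hdi y hy0 hyP).resolve_left hgy
  have hxy : Cfsg.hermForm n F q x y = 0 := by rw [← hG]; exact perp_span hF hgyP hgxW
  have hx : x ≠ 0 := fun h => hgx (by rw [h, Matrix.mulVec_zero]; exact P.zero_mem)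
  have hind : ∀ c : F, c • x ≠ y := fun c hc => hgy (by
    rw [← hc, Matrix.mulVec_smul]; exact W.smul_mem c hgxW)
  obtain ⟨z, -, hyz, hxz⟩ := exists_iso_pairing hF hx hy0 hxy hind 1
  have hpair : ∀ w ∈ P, Cfsg.hermForm n F q w (pPart q b z) = Cfsg.hermForm n F q w z := by
    intro w hw
    rw [pPart, H.sub_right hF, (H.eq_zero_symm hF).1 (perp_span hF hw (wPart_mem z)), sub_zero]
  obtain ⟨l, hl⟩ := exists_trace_eq hF
    (c := -Cfsg.hermForm n F q (pPart q b z) (pPart q b z)) (by rw [neg_pow_q hF, H.self_fixed])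
  let z' := pPart q b z + l • y
  have hz'P : z' ∈ P := P.add_mem (pPart_perp hF hb z) (P.smul_mem _ hyP)
  have hyp : Cfsg.hermForm n F q y (pPart q b z) = 1 := (hpair y hyP).trans hyz
  have hpy : Cfsg.hermForm n F q (pPart q b z) y = 1 := by
    rw [H.conj_symm y, hyp, one_pow]
  have hz'0 : Cfsg.hermForm n F q z' z' = 0 := by
    simp only [z', H.add_left, H.add_right hF, H.smul_left, H.smul_right, hyp, hpy, hy0]
    linear_combination hl
  rcases hdi z' hz'0 hz'P with h | h
  · have := (H.eq_zero_symm hF).1 (perp_span hF hgyP h)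
    rw [hG] at this
    simp [z', H.add_right hF, H.smul_right, hyp, hy0] at this
  · have := perp_span hF h hgxW
    rw [hG] at this
    simp [z', H.add_right hF, H.smul_right, hpair x hxP, hxz, hxy] at this

theorem isMaximalIn_nondegenerate_stabilizer (hF : Fintype.card F = q ^ 2)
    (W : Submodule F (Fin n → F)) (hW0 : W ≠ ⊥)
    (hW : ∀ u ∈ W, (∀ v ∈ W, Cfsg.hermForm n F q u v = 0) → u = 0)
    (hn : Module.finrank F W + 4 ≤ n) (h2 : 2 * Module.finrank F W < n) :
    Cfsg.Geo.IsMaximalIn (suGL n F q) (Cfsg.Geo.subspaceStabilizer W ⊓ suGL n F q) := by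
  have H := hermForm_isHerm hF n
  obtain ⟨b, hb, hbW⟩ := subspace_orthonormalBasis hF W hW
  have hk0 : 0 < Module.finrank F W := Nat.pos_of_ne_zero fun h => hW0 (Submodule.finrank_eq_zero.1 h)
  generalize Module.finrank F W = k at hn h2 hk0 b hb hbW
  subst hbW
  obtain ⟨δ, hδ0, hδ⟩ := exists_skew hF
  refine isMaximalIn_of_forall inf_le_right ?_ ?_
  · obtain ⟨r, e, hr, hrb, -, hre⟩ := exists_more hF hb (show k + 2 ≤ n by omega) (κ := (-1 : F))
      (by rw [neg_pow_q hF, one_pow])
    let b₀ := b ⟨0, hk0⟩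
    have hb₀r : Cfsg.hermForm n F q b₀ r = 0 := (H.eq_zero_symm hF).1 (hrb _)
    have hv0 : Cfsg.hermForm n F q (b₀ + r) (b₀ + r) = 0 := by
      simp [H.add_left, H.add_right hF, hr, hb₀r, (H.eq_zero_symm hF).1 hb₀r, b₀, hb.1]
    refine ⟨glTransvection hF (b₀ + r) hv0 δ (by rw [hδ, add_neg_cancel]), suToGU_mem_suGL _,
      fun h => ?_⟩
    have hb₀W : b₀ ∈ Submodule.span F (Set.range b) := Submodule.subset_span ⟨_, rfl⟩
    have h2 := (h.1 b₀).1 hb₀W
    change Cfsg.unitaryTransvection n q (b₀ + r) δ *ᵥ b₀ ∈ Submodule.span F (Set.range b) at h2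
    rw [transvection_mulVec, show Cfsg.hermForm n F q b₀ (b₀ + r) = 1 by
      rw [H.add_right hF, hb₀r, add_zero]; exact hb.1 _, mul_one,
      Submodule.add_mem_iff_right _ hb₀W, Submodule.smul_mem_iff _ hδ0,
      Submodule.add_mem_iff_right _ hb₀W] at h2
    have := eq_zero_of_mem_perp hF hb h2 hrb
    rw [this, H.zero_left] at hre
    exact hre rfl
  · intro M hHM hMK g hgM hgH
    obtain ⟨v, hvC, hva, hvc⟩ := exists_mixed_centre hF hb hn h2 hHM hMK hgM hgH
    set a := wPart q b v
    set c := pPart q b v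
    have haW := wPart_mem (q := q) (b := b) v
    have hcP := pPart_perp hF hb v
    have hv' : a + c ∈ centres q M := by rw [wPart_add_pPart]; exact hvC
    refine le_of_centres hF (by omega) fun u hu0 => ?_
    by_cases hua : wPart q b u = 0
    · refine centres_of_stabilizer hF hHM hu0 (Or.inr fun x hx => perp_span hF (fun i => ?_) hx)
      have := wPart_add_pPart (q := q) (b := b) u
      rw [hua, zero_add] at this
      exact this ▸ pPart_perp hF hb u i
    by_cases huc : pPart q b u = 0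
    · refine centres_of_stabilizer hF hHM hu0 (Or.inl ?_)
      have := wPart_add_pPart (q := q) (b := b) u
      rw [huc, add_zero] at this
      exact this ▸ wPart_mem u
    have hu' : Cfsg.hermForm n F q (wPart q b u + pPart q b u) (wPart q b u + pPart q b u) = 0 := by
      rw [wPart_add_pPart]; exact hu0
    rw [← wPart_add_pPart (q := q) (b := b) u]
    by_cases hclass : Cfsg.hermForm n F q a a = 0 ↔
        Cfsg.hermForm n F q (wPart q b u) (wPart q b u) = 0
    · exact mixed_centre_of_same_class hF hb hn hHM haW (wPart_mem u) hva hua hcP (pPart_perp hF hb u)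
        hvc huc hv' hu' hclass
    obtain ⟨a'', ha''W, ha''ne, hdiff, hsame, hclass''⟩ : ∃ a'' ∈ Submodule.span F (Set.range b),
        a'' ≠ 0 ∧ a'' - a ≠ 0 ∧
        (Cfsg.hermForm n F q a a = 0 ↔ Cfsg.hermForm n F q (a'' - a) (a'' - a) = 0) ∧
        (Cfsg.hermForm n F q a'' a'' = 0 ↔
          Cfsg.hermForm n F q (wPart q b u) (wPart q b u) = 0) := by
      by_cases ha : Cfsg.hermForm n F q a a = 0
      · have huW : Cfsg.hermForm n F q (wPart q b u) (wPart q b u) ≠ 0 :=
          fun h => hclass (iff_of_true ha h)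
        obtain ⟨α, hα⟩ := (Submodule.mem_span_range_iff_exists_fun F).1 haW
        rw [show a = ∑ i, α i • b i from hα.symm] at ha hva ⊢
        have hα0 : α ≠ 0 := fun h => hva (by simp [h])
        rw [Orthonormal.inner_sum hF H hb] at ha
        obtain ⟨s, hs, hαs⟩ := exists_iso_partner hF hα0 ha
        obtain ⟨c1, hc1⟩ := exists_trace_eq hF (c := (1 : F)) (one_pow q)
        let S := ∑ i, s i • b i
        have hSS : Cfsg.hermForm n F q S S = 0 := (Orthonormal.inner_sum hF H hb s s).trans hs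
        have hαS : Cfsg.hermForm n F q (∑ i, α i • b i) S = 1 :=
          (Orthonormal.inner_sum hF H hb α s).trans hαs
        have hSα : Cfsg.hermForm n F q S (∑ i, α i • b i) = 1 := by
          rw [H.conj_symm _ S, hαS, one_pow]
        have hn1 : Cfsg.hermForm n F q ((∑ i, α i • b i) + c1 • S) ((∑ i, α i • b i) + c1 • S) = 1 := by
          simp only [H.add_left, H.add_right hF, H.smul_left, H.smul_right, hSS, hαS, hSα,
            (Orthonormal.inner_sum hF H hb α α).trans ha]
          linear_combination hc1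
        refine ⟨_, Submodule.add_mem _ (Submodule.sum_mem _ fun i _ =>
            Submodule.smul_mem _ _ (Submodule.subset_span ⟨i, rfl⟩)) (Submodule.smul_mem _ c1
            (Submodule.sum_mem _ fun i _ => Submodule.smul_mem _ _ (Submodule.subset_span ⟨i, rfl⟩))),
          fun h => by rw [h, H.zero_left] at hn1; exact zero_ne_one hn1, ?_, ?_, ?_⟩
        · rw [add_sub_cancel_left]
          refine smul_ne_zero (fun h => by simp [h, zero_pow_q hF] at hc1) fun h => ?_
          simp [S, h, H.zero_right hF] at hαS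
        · rw [add_sub_cancel_left, H.smul_left, H.smul_right, hSS, mul_zero, mul_zero]
          exact iff_of_true ((Orthonormal.inner_sum hF H hb α α).trans ha) rfl
        · rw [hn1]
          exact iff_of_false one_ne_zero huW
      · have huW : Cfsg.hermForm n F q (wPart q b u) (wPart q b u) = 0 := by
          by_contra h; exact hclass (iff_of_false ha h)
        obtain ⟨l, hl0, hl⟩ : ∃ l : F, l ≠ 0 ∧ l * Cfsg.hermForm n F q (wPart q b u) a +
            (l * Cfsg.hermForm n F q (wPart q b u) a) ^ q = 0 := by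
          by_cases h : Cfsg.hermForm n F q (wPart q b u) a = 0
          · exact ⟨1, one_ne_zero, by simp [h, zero_pow_q hF]⟩
          · exact ⟨δ / Cfsg.hermForm n F q (wPart q b u) a, div_ne_zero hδ0 h,
              by rw [div_mul_cancel₀ _ h, hδ, add_neg_cancel]⟩
        have hn2 : Cfsg.hermForm n F q (l • wPart q b u - a) (l • wPart q b u - a) =
            Cfsg.hermForm n F q a a := by
          simp only [H.sub_left, H.sub_right hF, H.smul_left, H.smul_right, huW,
            H.conj_symm (wPart q b u) a]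
          linear_combination -hl
        refine ⟨l • wPart q b u, Submodule.smul_mem _ _ (wPart_mem u), smul_ne_zero hl0 hua,
          fun h => ha (by rw [← hn2, h, H.zero_left]), by rw [hn2], ?_⟩
        rw [H.smul_left, H.smul_right, huW, mul_zero, mul_zero]
    obtain ⟨c'', hc''P, hc''0, hc''C⟩ := mixed_centre_change hF hb hn hHM haW ha''W hva hdiff hcP hvc
      hv' hsame
    exact mixed_centre_of_same_class hF hb hn hHM ha''W (wPart_mem u) ha''ne hua hc''P
      (pPart_perp hF hb u) hc''0 huc hc''C hu' hclass''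

end Cfsg.Agent.Unitary
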