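import Cfsg.Agent.Lib.Unitary.Decomp
import Cfsg.Agent.Lib.Unitary.MaximalNondeg
/-
Overgroups of a nondegenerate decomposition stabiliser in SU, blocks of dimension at least two.
* coordinate lemmas in a block; `decomp_overgroup` (M = SU); `exists_outside_decomp` (properness)
-/
set_option autoImplicit false

namespace Cfsg.Agent.Unitary

open scoped Matrix

variable {F : Type*} [Field F] [Fintype F] {q n t k : ℕ}

section Block

variable (hF : Fintype.card F = q ^ 2)
include hF

local notation "𝔥" => Cfsg.hermForm k F q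

theorem exists_block_partner {a : Fin k → F} (ha0 : a ≠ 0) (ha : 𝔥 a a = 0) :
    ∃ f, 𝔥 f f = 0 ∧ 𝔥 a f = 1 ∧ 𝔥 f a = 1 := by
  have H := hermForm_isHerm hF k
  obtain ⟨w, hw⟩ : ∃ w, 𝔥 a w ≠ 0 := by
    by_contra hc
    simp only [not_exists, not_not] at hc
    exact ha0 (hermForm_nondeg hF k a hc)
  obtain ⟨s, hs⟩ : ∃ s, s = ((𝔥 a w)⁻¹ ^ q) • w := ⟨_, rfl⟩
  have h1 : 𝔥 a s = 1 := by rw [hs, H.smul_right, pow_q_pow_q hF, inv_mul_cancel₀ hw]
  have h2 : 𝔥 s a = 1 := by rw [H.conj_symm a s, h1, one_pow]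
  obtain ⟨r, hr⟩ := exists_trace_eq hF (c := -𝔥 s s) (by rw [neg_pow_q hF, H.self_fixed])
  refine ⟨s + r • a, ?_, ?_, ?_⟩
  · rw [H.add_left, H.add_right hF, H.add_right hF, H.smul_left, H.smul_left, H.smul_right,
      H.smul_right, h1, h2, ha]
    linear_combination hr
  · rw [H.add_right hF, H.smul_right, h1, ha, mul_zero, add_zero]
  · rw [H.add_left, H.smul_left, h2, ha, mul_zero, add_zero]

theorem unit_family {a : Fin k → F} (ha : 𝔥 a a ≠ 0) :
    ∃ d : Fin 1 → (Fin k → F), Orthonormal 𝔥 d ∧ ∃ γ : F, γ ≠ 0 ∧ d 0 = γ • a := by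
  have H := hermForm_isHerm hF k
  obtain ⟨γ, hγ⟩ := exists_norm_eq hF (c := (𝔥 a a)⁻¹) (by rw [inv_pow, H.self_fixed])
  refine ⟨fun _ => γ • a, ⟨fun _ => ?_, fun i j h => absurd (Subsingleton.elim i j) h⟩, γ,
    fun h0 => ha ?_, rfl⟩
  · rw [H.smul_left, H.smul_right, ← mul_assoc, ← pow_succ', hγ, inv_mul_cancel₀ ha]
  · rw [h0, zero_pow (Nat.succ_ne_zero q), eq_comm, inv_eq_zero] at hγ; exact hγ

theorem exists_perp_norm (hk : 2 ≤ k) {a : Fin k → F} (ha : 𝔥 a a ≠ 0) {κ : F} (hκ : κ ^ q = κ) :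
    ∃ z, 𝔥 a z = 0 ∧ 𝔥 z a = 0 ∧ 𝔥 z z = κ := by
  have H := hermForm_isHerm hF k
  obtain ⟨d, hd, γ, hγ, hd0⟩ := unit_family hF ha
  obtain ⟨e, he, hde⟩ := exists_orthonormal_step hF H (hermForm_nondeg hF k) hd
    (by rw [Module.finrank_fin_fun]; omega)
  have hae : 𝔥 a e = 0 := by
    have := hde 0
    rw [hd0, H.smul_left] at this
    exact (mul_eq_zero.1 this).resolve_left hγ
  obtain ⟨c, hc⟩ := exists_norm_eq hF hκ
  refine ⟨c • e, by rw [H.smul_right, hae, mul_zero],
    by rw [H.smul_left, (H.eq_zero_symm hF).1 hae, mul_zero],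
    by rw [H.smul_left, H.smul_right, he, mul_one, ← pow_succ', hc]⟩

theorem exists_unit_perp (hk : 3 ≤ k) {a : Fin k → F} (ha0 : a ≠ 0) :
    ∃ e, 𝔥 a e = 0 ∧ 𝔥 e a = 0 ∧ 𝔥 e e = 1 := by
  have H := hermForm_isHerm hF k
  by_cases ha : 𝔥 a a = 0
  · obtain ⟨ε, hε⟩ := exists_eps hF
    obtain ⟨a₁, a₂, hA, rfl⟩ := isotropic_split hF (b := (Fin.elim0 : Fin 0 → (Fin k → F)))
      ⟨fun i => i.elim0, fun i => i.elim0⟩ ha0 ha (fun i => i.elim0) hε
    obtain ⟨e, he, hde⟩ := exists_orthonormal_step hF H (hermForm_nondeg hF k) hA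
      (by rw [Module.finrank_fin_fun]; omega)
    have h1 : 𝔥 a₁ e = 0 := hde (Fin.castSucc (Fin.last 0))
    have h2 : 𝔥 a₂ e = 0 := by simpa only [Fin.snoc_last] using hde (Fin.last 1)
    have h : 𝔥 (a₁ + ε • a₂) e = 0 := by rw [H.add_left, H.smul_left, h1, h2, mul_zero, add_zero]
    exact ⟨e, h, (H.eq_zero_symm hF).1 h, he⟩
  · exact exists_perp_norm hF (by omega) ha (one_pow q)

theorem exists_iso_perp (hk : 3 ≤ k) {a : Fin k → F} (ha : 𝔥 a a ≠ 0) :
    ∃ z, z ≠ 0 ∧ 𝔥 a z = 0 ∧ 𝔥 z a = 0 ∧ 𝔥 z z = 0 := by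
  have H := hermForm_isHerm hF k
  obtain ⟨d, hd, γ, hγ, hd0⟩ := unit_family hF ha
  obtain ⟨e, he, hde⟩ := exists_orthonormal_step hF H (hermForm_nondeg hF k) hd
    (by rw [Module.finrank_fin_fun]; omega)
  obtain ⟨f, hf, hdf⟩ := exists_orthonormal_step hF H (hermForm_nondeg hF k) (hd.snoc hF he hde)
    (by rw [Module.finrank_fin_fun]; omega)
  have hae : 𝔥 a e = 0 := by
    have := hde 0
    rw [hd0, H.smul_left] at this
    exact (mul_eq_zero.1 this).resolve_left hγ
  have haf : 𝔥 a f = 0 := by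
    have := hdf (Fin.castSucc 0)
    rw [Fin.snoc_castSucc, hd0, H.smul_left] at this
    exact (mul_eq_zero.1 this).resolve_left hγ
  have hef : 𝔥 e f = 0 := by simpa only [Fin.snoc_last] using hdf (Fin.last 1)
  obtain ⟨ε, hε⟩ := exists_eps hF
  have hz : 𝔥 a (e + ε • f) = 0 := by rw [H.add_right hF, H.smul_right, hae, haf, mul_zero, add_zero]
  refine ⟨e + ε • f, fun h0 => ?_, hz, (H.eq_zero_symm hF).1 hz, ?_⟩
  · have := congrArg (fun v => 𝔥 v e) h0
    simp only [H.add_left, H.smul_left, he, (H.eq_zero_symm hF).1 hef, mul_zero, add_zero, H.zero_left] at this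
    exact one_ne_zero this
  · simp only [H.add_left, H.add_right hF, H.smul_left, H.smul_right, he, hf, hef,
      (H.eq_zero_symm hF).1 hef]
    linear_combination hε

/-- A vector of the same norm with prescribed product. -/
theorem exists_same_norm (hk : 2 ≤ k) {a : Fin k → F} (ha0 : a ≠ 0) {x : F} (hx : x ≠ 0) :
    ∃ a', a' ≠ 0 ∧ a' ≠ a ∧ 𝔥 a' a' = 𝔥 a a ∧ 𝔥 a a' = 𝔥 a a + x := by
  have H := hermForm_isHerm hF k
  by_cases ha : 𝔥 a a = 0
  · obtain ⟨f, hf, haf, -⟩ := exists_block_partner hF ha0 ha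
    have h1 : 𝔥 a (x ^ q • f) = x := by rw [H.smul_right, pow_q_pow_q hF, haf, mul_one]
    refine ⟨x ^ q • f, fun e => hx ?_, fun e => hx ?_, ?_, by rw [h1, ha, zero_add]⟩
    · rw [← h1, e, H.zero_right hF]
    · rw [← h1, e, ha]
    · rw [H.smul_left, H.smul_right, hf, ha]; ring
  · obtain ⟨β, hβ⟩ : ∃ β, β = (1 + x / 𝔥 a a) ^ q := ⟨_, rfl⟩
    obtain ⟨z, haz, hza, hzz⟩ := exists_perp_norm hF hk ha
      (κ := 𝔥 a a * (1 - β ^ (q + 1)))
      (by rw [mul_pow, sub_pow_q hF, one_pow, H.self_fixed, pow_q_succ_fixed hF])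
    have h1 : 𝔥 a (β • a + z) = 𝔥 a a + x := by
      rw [H.add_right hF, H.smul_right, haz, hβ, pow_q_pow_q hF]
      field_simp
      ring
    have h2 : 𝔥 (β • a + z) (β • a + z) = 𝔥 a a := by
      simp only [H.add_left, H.add_right hF, H.smul_left, H.smul_right, haz, hza, hzz]
      ring
    refine ⟨β • a + z, fun e => ha ?_, fun e => hx ?_, h2, h1⟩
    · rw [← h2, e, H.zero_left]
    · rw [e] at h1
      linear_combination -h1

/-- An anisotropic a and β of trace 2: a vector a' of the same norm with a - a' isotropic. -/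
theorem exists_iso_diff (hk : 2 ≤ k) {a : Fin k → F} (ha : 𝔥 a a ≠ 0) {β : F}
    (hβ : β + β ^ q = 2) (hor : β ≠ 1 ∨ 3 ≤ k) :
    ∃ a', a' ≠ 0 ∧ a - a' ≠ 0 ∧ 𝔥 a' a' = 𝔥 a a ∧ 𝔥 (a - a') (a - a') = 0 ∧
      𝔥 a a' = β ^ q * 𝔥 a a := by
  have H := hermForm_isHerm hF k
  obtain ⟨z, haz, hza, hzz, hz⟩ : ∃ z, 𝔥 a z = 0 ∧ 𝔥 z a = 0 ∧
      𝔥 z z = 𝔥 a a * (1 - β ^ (q + 1)) ∧ (β = 1 → z ≠ 0) := by
    by_cases hb : β = 1
    · obtain ⟨z, hz0, h1, h2, h3⟩ := exists_iso_perp hF (hor.resolve_left (not_not.2 hb)) ha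
      exact ⟨z, h1, h2, by rw [h3, hb, one_pow, sub_self, mul_zero], fun _ => hz0⟩
    · obtain ⟨z, h1, h2, h3⟩ := exists_perp_norm hF hk ha (κ := 𝔥 a a * (1 - β ^ (q + 1)))
        (by rw [mul_pow, sub_pow_q hF, one_pow, H.self_fixed, pow_q_succ_fixed hF])
      exact ⟨z, h1, h2, h3, fun h => absurd h hb⟩
  have h2 : 𝔥 (β • a + z) (β • a + z) = 𝔥 a a := by
    simp only [H.add_left, H.add_right hF, H.smul_left, H.smul_right, haz, hza, hzz]
    ring
  refine ⟨β • a + z, fun e => ha (by rw [← h2, e, H.zero_left]), fun e => ?_, h2, ?_, ?_⟩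
  · have h3 : 𝔥 (a - (β • a + z)) a = (1 - β) * 𝔥 a a := by
      simp only [H.sub_left, H.add_left, H.smul_left, hza]; ring
    rw [e, H.zero_left, eq_comm, mul_eq_zero, sub_eq_zero] at h3
    have hb := (h3.resolve_right ha).symm
    refine hz hb ?_
    rw [hb, one_smul] at e
    simpa using e
  · simp only [H.sub_left, H.sub_right hF, H.add_left, H.add_right hF, H.smul_left, H.smul_right,
      haz, hza, hzz]
    linear_combination (-(𝔥 a a)) * hβ
  · rw [H.add_right hF, H.smul_right, haz, add_zero]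

theorem span_isotropic_block (hk : 2 ≤ k) (S : Submodule F (Fin k → F))
    (hS : ∀ z, 𝔥 z z = 0 → z ∈ S) (x : Fin k → F) : x ∈ S :=
  span_isotropic_perp (b := (Fin.elim0 : Fin 0 → (Fin k → F))) hF
    ⟨fun i => i.elim0, fun i => i.elim0⟩ (by omega) S (fun z hz _ => hS z hz) (fun i => i.elim0)

end Block

section Overgroup

variable {b : Fin t × Fin k → (Fin n → F)} {M : Subgroup (Matrix.GeneralLinearGroup (Fin n) F)}
  (hF : Fintype.card F = q ^ 2) (hb : IsFrame q b)
  (hHM : ∀ g ∈ suGL n F q, InStab b g → g ∈ M) (hk : 2 ≤ k) (hkt : 3 ≤ k ∨ 3 ≤ t)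
  (hkq : 3 ≤ k ∨ 3 ≤ q)
include hF hb hHM hk hkt hkq

local notation "𝔥" => Cfsg.hermForm k F q

theorem single_centre (i : Fin t) {x : Fin k → F} (hx : 𝔥 x x = 0) :
    frameVec b (Pi.single i x) ∈ centres q M := by
  have _ := hk
  have _ := hkt
  have _ := hkq
  have H := hermForm_isHerm hF n
  have h0 : Cfsg.hermForm n F q (frameVec b (Pi.single i x)) (frameVec b (Pi.single i x)) = 0 := by
    rw [hb.inner_single hF, Pi.single_eq_same, hx]
  refine ⟨h0, fun g c hc hg => hHM g ⟨?_, ?_⟩ ⟨1, fun j y => ?_⟩⟩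
  · show g ∈ Cfsg.GU n F q
    rw [mem_GU_iff, hg]; exact transvection_isUnitary hF _ h0 hc
  · refine MonoidHom.mem_ker.2 (Units.ext ?_)
    simpa [hg] using transvection_det (q := q) _ h0 c
  rw [hg, transvection_mulVec, hb.inner_single hF]
  rcases eq_or_ne i j with rfl | hij
  · refine ⟨y + (c * 𝔥 y x) • x, ?_⟩
    rw [Equiv.Perm.one_apply, Pi.single_eq_same, ← map_smul, ← map_add, ← Pi.single_smul, ← Pi.single_add]
  · exact ⟨y, by rw [Pi.single_eq_of_ne hij, (hermForm_isHerm hF k).zero_left, mul_zero, zero_smul,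
      add_zero, Equiv.Perm.one_apply]⟩

/-- Elements of the stabiliser with prescribed blocks, the determinant repaired in block l. -/
theorem exists_stab_elt (π : Equiv.Perm (Fin t)) (U : Fin t → Matrix (Fin k) (Fin k) F)
    (hU : ∀ i, IsUnitary q (U i)) (l : Fin t) {e : Fin k → F} (he : 𝔥 e e = 1) :
    ∃ g ∈ M, g ∈ suGL n F q ∧ ∃ s : F, s ≠ -1 ∧ ∀ c, (g : Matrix (Fin n) (Fin n) F) *ᵥ frameVec b c =
      frameVec b ((fun j => U (π.symm j) *ᵥ c (π.symm j)) +
        Pi.single l ((s * 𝔥 (U (π.symm l) *ᵥ c (π.symm l)) e) • e)) := by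
  obtain ⟨g, hg, hgc⟩ := hb.exists_block_perm hF π U hU
  have hd : (g : Matrix (Fin n) (Fin n) F).det ^ (q + 1) = 1 :=
    IsUnitary.det_norm hF (hg : IsUnitary q _)
  have hd0 : (g : Matrix (Fin n) (Fin n) F).det ≠ 0 := fun h => by simp [h] at hd
  obtain ⟨r, hr, hrd, hrx⟩ := exists_refl hF (e := frameVec b (Pi.single l e))
    (by rw [hb.inner_single hF, Pi.single_eq_same, he]) (inv_pow_succ _ hd)
  have key : ∀ c, ((r * g : Matrix.GeneralLinearGroup (Fin n) F) : Matrix (Fin n) (Fin n) F) *ᵥ frameVec b c =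
      frameVec b ((fun j => U (π.symm j) *ᵥ c (π.symm j)) +
        Pi.single l ((((g : Matrix (Fin n) (Fin n) F).det⁻¹ - 1) * 𝔥 (U (π.symm l) *ᵥ c (π.symm l)) e) • e)) := by
    intro c
    rw [Units.val_mul, ← Matrix.mulVec_mulVec, hgc, hrx, hb.inner_single hF, map_add, Pi.single_smul,
      map_smul]
  have hsu : r * g ∈ suGL n F q := by
    refine ⟨mul_mem hr hg, MonoidHom.mem_ker.2 (Units.ext ?_)⟩
    show ((r : Matrix (Fin n) (Fin n) F) * _).det = 1
    rw [Matrix.det_mul, hrd, inv_mul_cancel₀ hd0]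
  refine ⟨r * g, hHM _ hsu ⟨π, fun i y => ?_⟩, hsu, _, fun h => ?_, key⟩
  · refine ⟨U i *ᵥ y + if π i = l then
      (((g : Matrix (Fin n) (Fin n) F).det⁻¹ - 1) * 𝔥 (U i *ᵥ y) e) • e else 0, ?_⟩
    rw [key]
    congr 1
    funext j
    rcases eq_or_ne j (π i) with rfl | hj
    · simp only [Pi.add_apply, Equiv.symm_apply_apply, Pi.single_eq_same]
      split_ifs with h
      · subst h; simp
      · simp [Pi.single_eq_of_ne h]
    · have hj' : π.symm j ≠ i := fun h => hj (by rw [← h, Equiv.apply_symm_apply])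
      simp only [Pi.add_apply, Pi.single_eq_of_ne hj, Pi.single_eq_of_ne hj', Matrix.mulVec_zero, zero_add]
      rcases eq_or_ne j l with rfl | hjl
      · simp [Pi.single_eq_of_ne hj', (hermForm_isHerm hF k).zero_left]
      · simp [Pi.single_eq_of_ne hjl]
  · exact inv_ne_zero hd0 (by linear_combination h)

/-- Changing one component of a centre inside its norm class. -/
theorem move_component {c : Fin t → Fin k → F} (hc : frameVec b c ∈ centres q M) {i : Fin t}
    {a' : Fin k → F} (hi : c i ≠ 0) (ha' : a' ≠ 0) (hN : 𝔥 a' a' = 𝔥 (c i) (c i))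
    (hor : 3 ≤ k ∨ ∃ l, l ≠ i ∧ c l = 0) :
    frameVec b (Function.update c i a') ∈ centres q M := by
  classical
  have H := hermForm_isHerm hF k
  obtain ⟨G, hG⟩ := exists_gu_witt hF (u := fun _ : Fin 1 => c i) (w := fun _ => a')
    (linearIndependent_unique_iff.2 hi) (linearIndependent_unique_iff.2 ha') (fun _ _ => hN)
  let U : Fin t → Matrix (Fin k) (Fin k) F :=
    Function.update (fun _ => 1) i ((G : Matrix.GeneralLinearGroup (Fin k) F) : Matrix (Fin k) (Fin k) F)
  have hU : ∀ j, IsUnitary q (U j) := fun j => by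
    by_cases h : j = i
    · subst h; simp only [U, Function.update_self]; exact G.2
    · simp only [U, Function.update_of_ne h]; exact fun x y => by simp
  obtain ⟨l, e, he, hel⟩ : ∃ l e, 𝔥 e e = 1 ∧ 𝔥 (Function.update c i a' l) e = 0 := by
    rcases hor with h3 | ⟨l, hli, hl⟩
    · obtain ⟨e, h1, -, h2⟩ := exists_unit_perp hF h3 ha'
      exact ⟨i, e, h2, by rw [Function.update_self]; exact h1⟩
    · exact ⟨l, Pi.single ⟨0, by omega⟩ 1, (single_orthonormal hF k).1 _,
        by rw [Function.update_of_ne hli, hl, H.zero_left]⟩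
  obtain ⟨g, hgM, hg, s, -, hgc⟩ := exists_stab_elt hF hb hHM hk hkt hkq 1 U hU l he
  have hUc : (fun j => U j *ᵥ c j) = Function.update c i a' := by
    funext j
    by_cases h : j = i
    · subst h; simp only [U, Function.update_self]; exact hG 0
    · simp [U, Function.update_of_ne h]
  have := centres_conj hgM hg hc
  rw [hgc] at this
  have e2 : ((fun j => U ((1 : Equiv.Perm (Fin t)).symm j) *ᵥ c ((1 : Equiv.Perm (Fin t)).symm j)) +
      Pi.single l ((s * 𝔥 (U ((1 : Equiv.Perm (Fin t)).symm l) *ᵥ c ((1 : Equiv.Perm (Fin t)).symm l)) e) • e)) =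
      Function.update c i a' := by
    have e1 : ∀ j, (1 : Equiv.Perm (Fin t)).symm j = j := fun j => rfl
    simp only [e1]
    rw [show U l *ᵥ c l = Function.update c i a' l from congrFun hUc l, hel, mul_zero, zero_smul,
      Pi.single_zero, add_zero, hUc]
  rwa [e2] at this

/-- Difference of two centres with skew product. -/
theorem sub_centre {c c' : Fin t → Fin k → F} (hc : frameVec b c ∈ centres q M)
    (hc' : frameVec b c' ∈ centres q M) (hη0 : ∑ i, 𝔥 (c i) (c' i) ≠ 0)
    (hη : (∑ i, 𝔥 (c i) (c' i)) + (∑ i, 𝔥 (c i) (c' i)) ^ q = 0) :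
    frameVec b (c - c') ∈ centres q M := by
  have _ := hk
  have _ := hkt
  have _ := hkq
  have h := centres_step hF hc' hc (c := -(∑ i, 𝔥 (c i) (c' i))⁻¹) (by
    rw [neg_pow_q hF, inv_pow, eq_neg_of_add_eq_zero_right hη, inv_neg]; ring)
  rw [hb.inner hF, neg_mul, inv_mul_cancel₀ hη0, neg_one_smul, ← sub_eq_add_neg, ← map_sub] at h
  exact h

/-- From a mixed centre, a centre supported on two given blocks of its support. -/
theorem exists_pair_of_centre {c : Fin t → Fin k → F} (hc : frameVec b c ∈ centres q M) {i j : Fin t}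
    (hij : i ≠ j) (hi : c i ≠ 0) (hj : c j ≠ 0) :
    ∃ d, frameVec b d ∈ centres q M ∧ d i ≠ 0 ∧ d j ≠ 0 ∧ ∀ l, l ≠ i → l ≠ j → d l = 0 := by
  classical
  have H := hermForm_isHerm hF k
  obtain ⟨δ, hδ0, hδ⟩ := exists_skew hF
  have h0 : ∑ l, 𝔥 (c l) (c l) = 0 := by rw [← hb.inner hF]; exact hc.1
  obtain ⟨a', b', ha', hb', hsum, hC⟩ : ∃ a' b', a' ≠ c i ∧ b' ≠ c j ∧
      (∃ η : F, η ≠ 0 ∧ η + η ^ q = 0 ∧
        (𝔥 (c i) a' - 𝔥 (c i) (c i)) + (𝔥 (c j) b' - 𝔥 (c j) (c j)) = η) ∧
      frameVec b (Function.update (Function.update c i a') j b') ∈ centres q M := by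
    rcases id hkq with h3 | hq
    · obtain ⟨y, hy0, hyδ⟩ : ∃ y : F, y ≠ 0 ∧ y ≠ δ := by
        by_contra hc'
        simp only [not_exists, not_and, not_not] at hc'
        have : Fintype.card F ≤ 2 := by
          refine le_trans ?_ (Finset.card_le_two (a := (0 : F)) (b := δ))
          rw [← Finset.card_univ]
          refine Finset.card_le_card fun y _ => ?_
          by_cases h : y = 0
          · simp [h]
          · simp [hc' y h]
        have := two_le_q hF
        nlinarith
      obtain ⟨a', ha0, hai, haN, hah⟩ := exists_same_norm hF hk hi (sub_ne_zero.2 (Ne.symm hyδ))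
      obtain ⟨b', hb0, hbj, hbN, hbh⟩ := exists_same_norm hF hk hj hy0
      refine ⟨a', b', hai, hbj, ⟨δ, hδ0, by rw [hδ, add_neg_cancel], by rw [hah, hbh]; ring⟩, ?_⟩
      have h1 := move_component hF hb hHM hk hkt hkq hc hi ha0 haN (Or.inl h3)
      refine move_component hF hb hHM hk hkt hkq h1 ?_ hb0 ?_ (Or.inl h3)
      · rwa [Function.update_of_ne hij.symm]
      · rwa [Function.update_of_ne hij.symm]
    · have move : ∀ {c : Fin t → Fin k → F} {i : Fin t}, frameVec b c ∈ centres q M → c i ≠ 0 →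
          ∀ {η : F}, η ≠ 0 → η + η ^ q = 0 → ∃ a', a' ≠ c i ∧ 𝔥 (c i) a' - 𝔥 (c i) (c i) = η ∧
            frameVec b (Function.update c i a') ∈ centres q M := by
        intro c i hc hi η hη0 hη
        obtain ⟨x, hx, hax⟩ : ∃ x, 𝔥 x x = 0 ∧ 𝔥 (c i) x ≠ 0 := by
          by_cases ha : 𝔥 (c i) (c i) = 0
          · obtain ⟨f, h1, h2, -⟩ := exists_block_partner hF hi ha
            exact ⟨f, h1, by rw [h2]; exact one_ne_zero⟩
          · obtain ⟨z, h1, h2, h3⟩ := exists_perp_norm hF hk ha (κ := -𝔥 (c i) (c i))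
              (by rw [neg_pow_q hF, H.self_fixed])
            refine ⟨c i + z, ?_, ?_⟩
            · simp only [H.add_left, H.add_right hF, h1, h2, h3]; ring
            · rwa [H.add_right hF, h1, add_zero]
        have hxx : x ≠ 0 := fun h => hax (by rw [h, H.zero_right hF])
        obtain ⟨e, he⟩ : ∃ e, e = (η / 𝔥 (c i) x ^ (q + 1)) ^ q := ⟨_, rfl⟩
        have hee : e + e ^ q = 0 := by
          rw [he, pow_q_pow_q hF, div_pow, pow_q_succ_fixed hF, eq_neg_of_add_eq_zero_right hη]
          ring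
        have h := centres_step hF (single_centre hF hb hHM hk hkt hkq i hx) hc hee
        rw [hb.inner_single hF, ← map_smul, ← map_add] at h
        refine ⟨c i + (e * 𝔥 (c i) x) • x, fun h' => ?_, ?_, ?_⟩
        · rw [add_eq_left, smul_eq_zero] at h'
          refine (mul_ne_zero ?_ hax) (h'.resolve_right hxx)
          rw [he]
          exact pow_ne_zero _ (div_ne_zero hη0 (pow_ne_zero _ hax))
        · rw [H.add_right hF, H.smul_right, mul_pow, he, pow_q_pow_q hF, pow_succ]
          field_simp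
          ring
        · convert h using 2
          funext l
          rcases eq_or_ne l i with rfl | hl
          · simp
          · simp [Pi.single_eq_of_ne hl, Function.update_of_ne hl]
      obtain ⟨x, hx0, hxs, hxδ⟩ : ∃ x : F, x ≠ 0 ∧ x + x ^ q = 0 ∧ δ + x ≠ 0 := by
        by_contra hc'
        simp only [not_exists, not_and, not_not] at hc'
        have hs : (Finset.univ.filter fun x : F => x + x ^ q = 0) ⊆ {0, -δ} := by
          intro x hx
          by_cases h : x = 0
          · simp [h]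
          · simp [eq_neg_of_add_eq_zero_right (hc' x h (Finset.mem_filter.1 hx).2)]
        have h1 := (Finset.card_le_card hs).trans Finset.card_le_two
        have h2 := card_trace_zero hF
        rw [Nat.card_eq_fintype_card, Fintype.card_subtype] at h2
        omega
      obtain ⟨a', hai, hah, h1⟩ := move hc hi hx0 hxs
      have hj' : Function.update c i a' j ≠ 0 := by rwa [Function.update_of_ne hij.symm]
      obtain ⟨b', hbj, hbh, h2⟩ := move h1 hj' hδ0 (by rw [hδ, add_neg_cancel])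
      rw [Function.update_of_ne hij.symm] at hbj hbh
      refine ⟨a', b', hai, hbj, ⟨δ + x, hxδ, ?_, by rw [hah, hbh]; ring⟩, h2⟩
      rw [add_pow_q hF]
      linear_combination hxs + hδ
  obtain ⟨η, hη0, hη, hsum⟩ := hsum
  have hsum2 : ∑ l, 𝔥 (c l) (Function.update (Function.update c i a') j b' l) = η := by
    rw [← hsum, ← sub_zero (∑ l, 𝔥 (c l) (Function.update (Function.update c i a') j b' l)), ← h0,
      ← Finset.sum_sub_distrib, Finset.sum_eq_add i j hij]
    · simp [Function.update_of_ne hij]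
    · intro l _ hl
      rw [Function.update_of_ne hl.2, Function.update_of_ne hl.1, sub_self]
    · intro h; exact absurd (Finset.mem_univ i) h
    · intro h; exact absurd (Finset.mem_univ j) h
  refine ⟨_, sub_centre hF hb hHM hk hkt hkq hc hC (by rw [hsum2]; exact hη0) (by rw [hsum2]; exact hη),
    ?_, ?_, fun l h1 h2 => ?_⟩
  · simp [Function.update_of_ne hij, sub_eq_zero, Ne.symm ha']
  · simp [sub_eq_zero, Ne.symm hb']
  · simp [Function.update_of_ne h1, Function.update_of_ne h2]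

/-- One mixed centre on a pair of blocks gives all of them. -/
theorem pair_all {c : Fin t → Fin k → F} (hc : frameVec b c ∈ centres q M) {i j : Fin t}
    (hij : i ≠ j) (hi : c i ≠ 0) (hj : c j ≠ 0) (hc0 : ∀ l, l ≠ i → l ≠ j → c l = 0)
    {d : Fin t → Fin k → F} (hd0 : ∀ l, l ≠ i → l ≠ j → d l = 0)
    (hd : 𝔥 (d i) (d i) + 𝔥 (d j) (d j) = 0) : frameVec b d ∈ centres q M := by
  classical
  have H := hermForm_isHerm hF k
  obtain ⟨δ, hδ0, hδ⟩ := exists_skew hF
  have hsum : ∀ (u w : Fin t → Fin k → F), (∀ l, l ≠ i → l ≠ j → u l = 0) →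
      ∑ l, 𝔥 (u l) (w l) = 𝔥 (u i) (w i) + 𝔥 (u j) (w j) := fun u w hu => by
    refine Finset.sum_eq_add i j hij (fun l _ hl => ?_) (fun h => absurd (Finset.mem_univ i) h)
      (fun h => absurd (Finset.mem_univ j) h)
    rw [hu l hl.1 hl.2, H.zero_left]
  have third : 3 ≤ k ∨ ∃ l, l ≠ i ∧ l ≠ j := by
    rcases hkt with h | h
    · exact Or.inl h
    · refine Or.inr ?_
      by_contra hc'
      simp only [not_exists, not_and, not_not] at hc'
      have h1 : (Finset.univ : Finset (Fin t)) ⊆ {i, j} := fun l _ => by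
        by_cases hl : l = i
        · simp [hl]
        · simp [hc' l hl]
      have h2 := (Finset.card_le_card h1).trans Finset.card_le_two
      rw [Finset.card_univ, Fintype.card_fin] at h2
      omega
  -- same class
  have same : ∀ (c d : Fin t → Fin k → F), frameVec b c ∈ centres q M → c i ≠ 0 → c j ≠ 0 →
      (∀ l, l ≠ i → l ≠ j → c l = 0) → d i ≠ 0 → d j ≠ 0 → (∀ l, l ≠ i → l ≠ j → d l = 0) →
      (𝔥 (c i) (c i) = 0 ↔ 𝔥 (d i) (d i) = 0) → 𝔥 (d i) (d i) + 𝔥 (d j) (d j) = 0 →
      frameVec b d ∈ centres q M := by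
    intro c d hc hi hj hc0 hdi hdj hd0 hcl hd
    obtain ⟨l, hl0, hl⟩ : ∃ l : F, l ≠ 0 ∧ l ^ (q + 1) * 𝔥 (c i) (c i) = 𝔥 (d i) (d i) := by
      by_cases h0 : 𝔥 (c i) (c i) = 0
      · exact ⟨1, one_ne_zero, by rw [h0, mul_zero, hcl.1 h0]⟩
      · obtain ⟨l, hl⟩ := exists_norm_eq hF (c := 𝔥 (d i) (d i) / 𝔥 (c i) (c i))
          (by rw [div_pow, H.self_fixed, H.self_fixed])
        refine ⟨l, fun h => h0 (hcl.2 ?_), by rw [hl, div_mul_cancel₀ _ h0]⟩
        rw [h, zero_pow (Nat.succ_ne_zero q), eq_comm, div_eq_zero_iff] at hl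
        exact hl.resolve_right h0
    have h1 := centres_smul hF hc l
    rw [← map_smul] at h1
    have e : ∀ x, 𝔥 (l • x) (l • x) = l ^ (q + 1) * 𝔥 x x := fun x => by
      rw [H.smul_left, H.smul_right, pow_succ]; ring
    have hci : 𝔥 (c i) (c i) + 𝔥 (c j) (c j) = 0 := by
      rw [← hsum c c hc0, ← hb.inner hF]; exact hc.1
    have h2 := move_component hF hb hHM hk hkt hkq h1 (i := i) (a' := d i) (smul_ne_zero hl0 hi) hdi
      (by rw [Pi.smul_apply, e, hl])
      (third.imp id fun ⟨p, hp1, hp2⟩ => ⟨p, hp1, by rw [Pi.smul_apply, hc0 p hp1 hp2, smul_zero]⟩)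
    have h3 := move_component hF hb hHM hk hkt hkq h2 (i := j) (a' := d j)
      (by rw [Function.update_of_ne hij.symm]; exact smul_ne_zero hl0 hj) hdj
      (by rw [Function.update_of_ne hij.symm, Pi.smul_apply, e]
          linear_combination hd - (l ^ (q + 1)) * hci + hl)
      (third.imp id fun ⟨p, hp1, hp2⟩ => ⟨p, hp2, by
        rw [Function.update_of_ne hp1, Pi.smul_apply, hc0 p hp1 hp2, smul_zero]⟩)
    convert h3 using 2
    funext p
    rcases eq_or_ne p j with rfl | hpj
    · simp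
    rcases eq_or_ne p i with rfl | hpi
    · simp [Function.update_of_ne hpj]
    · simp [Function.update_of_ne hpj, Function.update_of_ne hpi, hd0 p hpi hpj, hc0 p hpi hpj]
  -- degenerate targets
  by_cases hdi : d i = 0
  · rw [hdi, H.zero_left, zero_add] at hd
    rw [show d = Pi.single j (d j) by
      funext l
      rcases eq_or_ne l j with rfl | hlj
      · simp
      rw [Pi.single_eq_of_ne hlj]
      rcases eq_or_ne l i with rfl | hli
      · exact hdi
      · exact hd0 l hli hlj]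
    exact single_centre hF hb hHM hk hkt hkq j hd
  by_cases hdj : d j = 0
  · rw [hdj, H.zero_left, add_zero] at hd
    rw [show d = Pi.single i (d i) by
      funext l
      rcases eq_or_ne l i with rfl | hli
      · simp
      rw [Pi.single_eq_of_ne hli]
      rcases eq_or_ne l j with rfl | hlj
      · exact hdj
      · exact hd0 l hli hlj]
    exact single_centre hF hb hHM hk hkt hkq i hd
  by_cases hcl : (𝔥 (c i) (c i) = 0 ↔ 𝔥 (d i) (d i) = 0)
  · exact same c d hc hi hj hc0 hdi hdj hd0 hcl hd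
  -- switch the class
  have hci : 𝔥 (c i) (c i) + 𝔥 (c j) (c j) = 0 := by
    rw [← hsum c c hc0, ← hb.inner hF]; exact hc.1
  suffices ∃ a' b', a' ≠ 0 ∧ b' ≠ 0 ∧ 𝔥 a' a' = 𝔥 (c i) (c i) ∧ 𝔥 b' b' = 𝔥 (c j) (c j) ∧
      c i - a' ≠ 0 ∧ c j - b' ≠ 0 ∧ ¬ (𝔥 (c i) (c i) = 0 ↔ 𝔥 (c i - a') (c i - a') = 0) ∧
      ∃ η : F, η ≠ 0 ∧ η + η ^ q = 0 ∧ 𝔥 (c i) a' + 𝔥 (c j) b' = η by
    obtain ⟨a', b', ha0, hb0, haN, hbN, hai, hbj, hne, η, hη0, hη, hs⟩ := this
    let c' : Fin t → Fin k → F := Pi.single i a' + Pi.single j b'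
    have e1 : c' i = a' := by simp [c', Pi.single_eq_of_ne hij]
    have e2 : c' j = b' := by simp [c', Pi.single_eq_of_ne hij.symm]
    have e3 : ∀ l, l ≠ i → l ≠ j → c' l = 0 := fun l h1 h2 => by
      simp [c', Pi.single_eq_of_ne h1, Pi.single_eq_of_ne h2]
    have hc' : frameVec b c' ∈ centres q M := same c c' hc hi hj hc0 (by rwa [e1]) (by rwa [e2]) e3
      (by rw [e1, haN]) (by rw [e1, e2, haN, hbN, hci])
    have hsw := sub_centre hF hb hHM hk hkt hkq hc hc' (by rw [hsum c c' hc0, e1, e2, hs]; exact hη0)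
      (by rw [hsum c c' hc0, e1, e2, hs]; exact hη)
    refine same (c - c') d hsw ?_ ?_ (fun l h1 h2 => by simp [hc0 l h1 h2, e3 l h1 h2]) hdi hdj hd0 ?_ hd
    · simpa [e1] using hai
    · simpa [e2] using hbj
    · rw [Pi.sub_apply, e1]; tauto
  by_cases hκ : 𝔥 (c i) (c i) = 0
  · -- from isotropic components to anisotropic ones
    have hκj : 𝔥 (c j) (c j) = 0 := by rw [hκ, zero_add] at hci; exact hci
    obtain ⟨x, hx⟩ := exists_trace_eq hF (c := (1 : F)) (one_pow q)
    have hx0 : x ≠ 0 := fun h => by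
      rw [h, zero_pow_q hF, add_zero] at hx; exact zero_ne_one hx
    have hy0 : δ - x ≠ 0 := fun h => by
      rw [← sub_eq_zero.1 h, hδ, add_neg_cancel] at hx; exact zero_ne_one hx
    obtain ⟨a', ha0, hai, haN, hah⟩ := exists_same_norm hF hk hi hx0
    obtain ⟨b', hb0, hbj, hbN, hbh⟩ := exists_same_norm hF hk hj hy0
    refine ⟨a', b', ha0, hb0, haN, hbN, sub_ne_zero.2 hai.symm, sub_ne_zero.2 hbj.symm,
      fun h => ?_, δ, hδ0, by rw [hδ, add_neg_cancel], by rw [hah, hbh, hκ, hκj]; ring⟩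
    have h' := h.1 hκ
    rw [H.sub_left, H.sub_right hF, H.sub_right hF, haN, hah, H.conj_symm (c i) a', hah, hκ,
      zero_add] at h'
    exact one_ne_zero (by linear_combination -h' - hx)
  · obtain ⟨s1, s2, h1, h2, h12, hor1, hor2⟩ : ∃ s1 s2 : F, s1 + s1 ^ q = 0 ∧ s2 + s2 ^ q = 0 ∧
        s1 ≠ s2 ∧ ((1 + s1 ≠ 1) ∨ 3 ≤ k) ∧ ((1 + s2 ≠ 1) ∨ 3 ≤ k) := by
      rcases id hkq with h3 | hq
      · exact ⟨δ, 0, by rw [hδ, add_neg_cancel], by rw [zero_pow_q hF, add_zero], hδ0, Or.inr h3,
          Or.inr h3⟩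
      · obtain ⟨x, hx0, hxs, hxδ⟩ : ∃ x : F, x ≠ 0 ∧ x + x ^ q = 0 ∧ x ≠ δ := by
          by_contra hc'
          simp only [not_exists, not_and, not_not] at hc'
          have hs : (Finset.univ.filter fun x : F => x + x ^ q = 0) ⊆ {0, δ} := by
            intro x hx
            by_cases h : x = 0
            · simp [h]
            · simp [hc' x h (Finset.mem_filter.1 hx).2]
          have h1 := (Finset.card_le_card hs).trans Finset.card_le_two
          have h2 := card_trace_zero hF
          rw [Nat.card_eq_fintype_card, Fintype.card_subtype] at h2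
          omega
        exact ⟨x, δ, hxs, by rw [hδ, add_neg_cancel], hxδ, Or.inl (by simpa using hx0),
          Or.inl (by simpa using hδ0)⟩
    have tr : ∀ {s : F}, s + s ^ q = 0 → (1 + s) + (1 + s) ^ q = 2 := fun hs => by
      rw [add_pow_q hF, one_pow]; linear_combination hs
    have hκj : 𝔥 (c j) (c j) ≠ 0 := fun h => hκ (by rw [h, add_zero] at hci; exact hci)
    obtain ⟨a', ha0, hai, haN, haI, hah⟩ := exists_iso_diff hF hk hκ (tr h1) hor1
    obtain ⟨b', hb0, hbj, hbN, -, hbh⟩ := exists_iso_diff hF hk hκj (tr h2) hor2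
    refine ⟨a', b', ha0, hb0, haN, hbN, hai, hbj, fun h => hκ (h.2 haI),
      (s2 - s1) * 𝔥 (c i) (c i), mul_ne_zero (sub_ne_zero.2 h12.symm) hκ, ?_, ?_⟩
    · rw [mul_pow, sub_pow_q hF, H.self_fixed, eq_neg_of_add_eq_zero_right h1,
        eq_neg_of_add_eq_zero_right h2]
      ring
    · rw [hah, hbh, add_pow_q hF, add_pow_q hF, one_pow, eq_neg_of_add_eq_zero_right h1,
        eq_neg_of_add_eq_zero_right h2]
      linear_combination (1 - s2) * hci

/-- Mixed centre on every pair. -/
theorem all_pairs {c : Fin t → Fin k → F} (hc : frameVec b c ∈ centres q M) {i j : Fin t}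
    (hij : i ≠ j) (hi : c i ≠ 0) (hj : c j ≠ 0) {d : Fin t → Fin k → F} {i' j' : Fin t}
    (hij' : i' ≠ j') (hd0 : ∀ l, l ≠ i' → l ≠ j' → d l = 0)
    (hd : 𝔥 (d i') (d i') + 𝔥 (d j') (d j') = 0) : frameVec b d ∈ centres q M := by
  classical
  have H := hermForm_isHerm hF k
  obtain ⟨p, hpC, hpi, hpj, hp0⟩ := exists_pair_of_centre hF hb hHM hk hkt hkq hc hij hi hj
  let π : Equiv.Perm (Fin t) := (Equiv.swap i i').trans (Equiv.swap (Equiv.swap i i' j) j')
  have hπi : π i = i' := by
    simp only [π, Equiv.trans_apply, Equiv.swap_apply_left]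
    refine Equiv.swap_apply_of_ne_of_ne ?_ hij'
    intro h
    exact hij ((Equiv.swap i i').injective (by rw [Equiv.swap_apply_left]; exact h))
  have hπj : π j = j' := by simp [π]
  obtain ⟨g, hgM, hg, s, hs, hgc⟩ := exists_stab_elt hF hb hHM hk hkt hkq π (fun _ => 1)
    (fun _ x y => by simp) i' (e := Pi.single ⟨0, by omega⟩ 1) ((single_orthonormal hF k).1 _)
  have h := centres_conj hgM hg hpC
  rw [hgc] at h
  refine pair_all hF hb hHM hk hkt hkq h hij' ?_ ?_ (fun l h1 h2 => ?_) hd0 hd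
  · intro e0
    simp only [Pi.add_apply, Pi.single_eq_same, Matrix.one_mulVec,
      show π.symm i' = i by rw [← hπi, Equiv.symm_apply_apply]] at e0
    have e1 := congrArg (fun v => 𝔥 v (Pi.single ⟨0, by omega⟩ 1)) e0
    simp only [H.add_left, H.smul_left, H.zero_left, (single_orthonormal hF k).1] at e1
    have : 𝔥 (p i) (Pi.single ⟨0, by omega⟩ 1) = 0 := by
      have e2 : (1 + s) * 𝔥 (p i) (Pi.single ⟨0, by omega⟩ 1) = 0 := by linear_combination e1
      exact (mul_eq_zero.1 e2).resolve_left fun h0 => hs (by linear_combination h0)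
    rw [this, mul_zero, zero_smul, add_zero] at e0
    exact hpi e0
  · simp only [Pi.add_apply, Pi.single_eq_of_ne hij'.symm, add_zero, Matrix.one_mulVec,
      show π.symm j' = j by rw [← hπj, Equiv.symm_apply_apply]]
    exact hpj
  · have hz : p (π.symm l) = 0 := hp0 _ (fun h => h1 (by rw [← hπi, ← h, Equiv.apply_symm_apply]))
      (fun h => h2 (by rw [← hπj, ← h, Equiv.apply_symm_apply]))
    simp [hz, Pi.single_eq_of_ne h1]

/-- An overgroup with a mixed centre contains SU. -/
theorem le_of_mixed {c : Fin t → Fin k → F} (hc : frameVec b c ∈ centres q M) {i₀ j₀ : Fin t}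
    (hij₀ : i₀ ≠ j₀) (hi₀ : c i₀ ≠ 0) (hj₀ : c j₀ ≠ 0) (hn : 4 ≤ n) : suGL n F q ≤ M := by
  classical
  have H := hermForm_isHerm hF k
  obtain ⟨δ, hδ0, hδ⟩ := exists_skew hF
  suffices ∀ (m : ℕ) (v : Fin t → Fin k → F), (Finset.univ.filter fun l => v l ≠ 0).card = m →
      ∑ l, 𝔥 (v l) (v l) = 0 → frameVec b v ∈ centres q M by
    refine le_of_centres hF (Or.inl hn) fun x hx => ?_
    obtain ⟨v, rfl⟩ := hb.exists_coord hF x
    exact this _ v rfl (by rw [← hb.inner hF]; exact hx)
  intro m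
  induction m using Nat.strong_induction_on with
  | _ m ih =>
    intro v hm hv
    by_cases h3 : ∃ i j, i ≠ j ∧ v i ≠ 0 ∧ v j ≠ 0 ∧ ∃ l, l ≠ i ∧ l ≠ j ∧ v l ≠ 0
    · obtain ⟨i, j, hij, hvi, hvj, -⟩ := h3
      -- a pair centre killing the component j
      obtain ⟨y, η, hη0, hη, hy, hsη⟩ : ∃ y η, η ≠ 0 ∧ η + η ^ q = 0 ∧ 𝔥 y y = -𝔥 (v j) (v j) ∧
          𝔥 (v i) y + 𝔥 (v j) (v j) = η := by
        by_cases ha : 𝔥 (v i) (v i) = 0
        · obtain ⟨f, hf, haf, hfa⟩ := exists_block_partner hF hvi ha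
          have mk : ∀ η : F, η - 𝔥 (v j) (v j) ≠ 0 → ∃ y, 𝔥 y y = -𝔥 (v j) (v j) ∧
              𝔥 (v i) y + 𝔥 (v j) (v j) = η := by
            intro η hs0
            obtain ⟨r, hr⟩ := exists_trace_eq hF (c := -𝔥 (v j) (v j))
              (by rw [neg_pow_q hF, H.self_fixed])
            obtain ⟨s, hs⟩ : ∃ s, s = η - 𝔥 (v j) (v j) := ⟨_, rfl⟩
            rw [← hs] at hs0
            refine ⟨s ^ q • f + (r / s) • v i, ?_, ?_⟩
            · simp only [H.add_left, H.add_right hF, H.smul_left, H.smul_right, hf, haf, hfa, ha,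
                pow_q_pow_q hF]
              have e : s ^ q * (r / s) ^ q = r ^ q := by rw [← mul_pow, mul_div_cancel₀ _ hs0]
              have e' : r / s * s = r := div_mul_cancel₀ _ hs0
              linear_combination hr + e + e'
            · simp only [H.add_right hF, H.smul_right, haf, ha, pow_q_pow_q hF, hs]
              ring
          by_cases hne : δ - 𝔥 (v j) (v j) ≠ 0
          · obtain ⟨y, h1, h2⟩ := mk δ hne
            exact ⟨y, δ, hδ0, by rw [hδ, add_neg_cancel], h1, h2⟩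
          · have hjδ : 𝔥 (v j) (v j) = δ := (sub_eq_zero.1 (not_not.1 hne)).symm
            rcases id hkq with h3' | hq
            · obtain ⟨e, he1, -, he3⟩ := exists_unit_perp hF h3' hvi
              obtain ⟨γ, hγ⟩ := exists_norm_eq hF (c := -𝔥 (v j) (v j))
                (by rw [neg_pow_q hF, H.self_fixed])
              exact ⟨γ • e, δ, hδ0, by rw [hδ, add_neg_cancel],
                by rw [H.smul_left, H.smul_right, he3, mul_one, ← pow_succ', hγ],
                by rw [H.smul_right, he1, mul_zero, zero_add, hjδ]⟩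
            · obtain ⟨x, hx0, hxs, hxδ⟩ : ∃ x : F, x ≠ 0 ∧ x + x ^ q = 0 ∧ x ≠ δ := by
                by_contra hc'
                simp only [not_exists, not_and, not_not] at hc'
                have hs : (Finset.univ.filter fun x : F => x + x ^ q = 0) ⊆ {0, δ} := by
                  intro x hx
                  by_cases h : x = 0
                  · simp [h]
                  · simp [hc' x h (Finset.mem_filter.1 hx).2]
                have h1 := (Finset.card_le_card hs).trans Finset.card_le_two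
                have h2 := card_trace_zero hF
                rw [Nat.card_eq_fintype_card, Fintype.card_subtype] at h2
                omega
              obtain ⟨y, h1, h2⟩ := mk x (by rw [hjδ]; exact sub_ne_zero.2 hxδ)
              exact ⟨y, x, hx0, hxs, h1, h2⟩
        · obtain ⟨β, hβ⟩ : ∃ β, β = ((δ - 𝔥 (v j) (v j)) / 𝔥 (v i) (v i)) ^ q := ⟨_, rfl⟩
          obtain ⟨z, haz, hza, hzz⟩ := exists_perp_norm hF hk ha
            (κ := -𝔥 (v j) (v j) - β ^ (q + 1) * 𝔥 (v i) (v i))
            (by rw [sub_pow_q hF, neg_pow_q hF, mul_pow, H.self_fixed, H.self_fixed, pow_q_succ_fixed hF])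
          refine ⟨β • v i + z, δ, hδ0, by rw [hδ, add_neg_cancel], ?_, ?_⟩
          · simp only [H.add_left, H.add_right hF, H.smul_left, H.smul_right, haz, hza, hzz]
            ring
          · rw [H.add_right hF, H.smul_right, haz, hβ, pow_q_pow_q hF]
            field_simp
            ring
      let x : Fin t → Fin k → F := Pi.single i y + Pi.single j (v j)
      have e1 : x i = y := by simp [x, Pi.single_eq_of_ne hij]
      have e2 : x j = v j := by simp [x, Pi.single_eq_of_ne hij.symm]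
      have e3 : ∀ l, l ≠ i → l ≠ j → x l = 0 := fun l h1 h2 => by
        simp [x, Pi.single_eq_of_ne h1, Pi.single_eq_of_ne h2]
      have hxC : frameVec b x ∈ centres q M := all_pairs hF hb hHM hk hkt hkq hc hij₀ hi₀ hj₀ hij e3
        (by rw [e1, e2, hy]; ring)
      have hpair : ∀ u : Fin t → Fin k → F, ∑ l, 𝔥 (u l) (x l) = 𝔥 (u i) y + 𝔥 (u j) (v j) := by
        intro u
        rw [Finset.sum_eq_add i j hij (fun l _ hl => by rw [e3 l hl.1 hl.2, H.zero_right hF])
          (fun h => absurd (Finset.mem_univ i) h) (fun h => absurd (Finset.mem_univ j) h), e1, e2]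
      have hxx : ∑ l, 𝔥 (x l) (x l) = 0 := by rw [hpair, e1, e2, hy]; ring
      have hv' : ∑ l, 𝔥 ((v - x) l) ((v - x) l) = 0 := by
        have : ∀ l, 𝔥 ((v - x) l) ((v - x) l) =
            𝔥 (v l) (v l) - 𝔥 (v l) (x l) - (𝔥 (v l) (x l)) ^ q + 𝔥 (x l) (x l) := fun l => by
          rw [Pi.sub_apply, H.sub_left, H.sub_right hF, H.sub_right hF, H.conj_symm (v l) (x l)]
          ring
        simp only [this]
        rw [Finset.sum_add_distrib, Finset.sum_sub_distrib, Finset.sum_sub_distrib, hv, hxx,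
          ← sum_pow_q hF, hpair, hsη]
        linear_combination -hη
      have hlt : (Finset.univ.filter fun l => (v - x) l ≠ 0).card < m := by
        rw [← hm]
        refine Finset.card_lt_card ((Finset.ssubset_iff_of_subset ?_).2 ⟨j, by simp [hvj], by simp [e2]⟩)
        intro l hl
        simp only [Finset.mem_filter, Finset.mem_univ, true_and, Pi.sub_apply] at hl ⊢
        intro h0
        rcases eq_or_ne l i with rfl | hli
        · exact hvi h0
        rcases eq_or_ne l j with rfl | hlj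
        · exact hvj h0
        · rw [h0, e3 l hli hlj, sub_zero] at hl
          exact hl rfl
      have hC := ih _ hlt (v - x) rfl hv'
      have hst := centres_step hF hxC hC (c := η⁻¹) (by
        rw [inv_pow, eq_neg_of_add_eq_zero_right hη, inv_neg, add_neg_cancel])
      have hh : Cfsg.hermForm n F q (frameVec b (v - x)) (frameVec b x) = η := by
        rw [hb.inner hF, hpair]
        simp only [Pi.sub_apply, e1, e2, H.sub_left, hy]
        linear_combination hsη
      rw [hh, inv_mul_cancel₀ hη0, one_smul, ← map_add, sub_add_cancel] at hst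
      exact hst
    · -- support at most two
      simp only [not_exists, not_and, not_not] at h3
      by_cases h2 : ∃ i j, i ≠ j ∧ v i ≠ 0 ∧ v j ≠ 0
      · obtain ⟨i, j, hij, hvi, hvj⟩ := h2
        refine all_pairs hF hb hHM hk hkt hkq hc hij₀ hi₀ hj₀ hij (h3 i j hij hvi hvj) ?_
        rwa [Finset.sum_eq_add i j hij (fun l _ hl => by rw [h3 i j hij hvi hvj l hl.1 hl.2, H.zero_left])
          (fun h => absurd (Finset.mem_univ i) h) (fun h => absurd (Finset.mem_univ j) h)] at hv
      · simp only [not_exists, not_and, not_not] at h2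
        by_cases h1 : ∃ i, v i ≠ 0
        · obtain ⟨i, hvi⟩ := h1
          have e : v = Pi.single i (v i) := funext fun l => by
            rcases eq_or_ne l i with rfl | hl
            · simp
            · rw [Pi.single_eq_of_ne hl, h2 i l hl.symm hvi]
          rw [e]
          refine single_centre hF hb hHM hk hkt hkq i ?_
          rwa [Finset.sum_eq_single i (fun l _ hl => by rw [h2 i l hl.symm hvi, H.zero_left])
            (fun h => absurd (Finset.mem_univ i) h)] at hv
        · simp only [not_exists, not_not] at h1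
          rw [show v = Pi.single i₀ 0 by funext l; simp [h1 l]]
          exact single_centre hF hb hHM hk hkt hkq i₀ (H.zero_left _)

/-- An overgroup with an element outside the stabiliser contains SU. -/
theorem decomp_overgroup (hn : 4 ≤ n) {g : Matrix.GeneralLinearGroup (Fin n) F} (hgM : g ∈ M)
    (hg : g ∈ suGL n F q) (hgH : ¬ InStab b g) : suGL n F q ≤ M := by
  classical
  have H := hermForm_isHerm hF k
  let G := (g : Matrix (Fin n) (Fin n) F)
  have hG := mem_suGL_herm hg
  have hinj : Function.Injective (fun w => G *ᵥ w) :=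
    Matrix.mulVec_injective_iff_isUnit.2 (Units.isUnit g)
  by_contra hno
  have one : ∀ i x, 𝔥 x x = 0 → ∃ j y, G *ᵥ frameVec b (Pi.single i x) = frameVec b (Pi.single j y) := by
    intro i x hx
    obtain ⟨c, hc⟩ := hb.exists_coord hF (G *ᵥ frameVec b (Pi.single i x))
    have hcC : frameVec b c ∈ centres q M :=
      hc ▸ centres_conj hgM hg (single_centre hF hb hHM hk hkt hkq i hx)
    by_cases h1 : ∃ j, c j ≠ 0
    · obtain ⟨j, hj⟩ := h1
      refine ⟨j, c j, ?_⟩
      rw [← hc]
      congr 1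
      funext l
      rcases eq_or_ne l j with rfl | hl
      · simp
      · rw [Pi.single_eq_of_ne hl]
        by_contra hl0
        exact hno (le_of_mixed hF hb hHM hk hkt hkq hcC hl hl0 hj hn)
    · simp only [not_exists, not_not] at h1
      refine ⟨i, 0, ?_⟩
      rw [← hc]; congr 1; funext l; simp [h1 l]
  have block : ∀ i, ∃ j, ∀ x, ∃ y, G *ᵥ frameVec b (Pi.single i x) = frameVec b (Pi.single j y) := by
    intro i
    obtain ⟨x₀, hx₀, hx₀'⟩ : ∃ x, 𝔥 x x = 0 ∧ x ≠ 0 := by
      by_contra hc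
      simp only [not_exists, not_and, not_not] at hc
      have h0 := span_isotropic_block hF hk ⊥ (fun z hz => (Submodule.mem_bot F).2 (hc z hz))
        (Pi.single ⟨0, by omega⟩ 1)
      exact one_ne_zero (α := F) (by simpa using congrFun ((Submodule.mem_bot F).1 h0) ⟨0, by omega⟩)
    obtain ⟨j, y₀, hy₀⟩ := one i x₀ hx₀
    have hy₀0 : y₀ ≠ 0 := by
      rintro rfl
      rw [Pi.single_zero, map_zero] at hy₀
      have := hb.inj hF ((hinj (hy₀.trans (Matrix.mulVec_zero G).symm)).trans (map_zero _).symm)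
      exact hx₀' (by simpa using congrFun this i)
    refine ⟨j, ?_⟩
    let S : Submodule F (Fin k → F) :=
      { carrier := {x | ∃ y, G *ᵥ frameVec b (Pi.single i x) = frameVec b (Pi.single j y)}
        zero_mem' := ⟨0, by simp⟩
        add_mem' := by
          rintro x x' ⟨y, hy⟩ ⟨y', hy'⟩
          exact ⟨y + y', by rw [Pi.single_add, map_add, Matrix.mulVec_add, hy, hy', ← map_add, ← Pi.single_add]⟩
        smul_mem' := by
          rintro a x ⟨y, hy⟩
          exact ⟨a • y, by rw [Pi.single_smul, map_smul, Matrix.mulVec_smul, hy, ← map_smul, ← Pi.single_smul]⟩ }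
    intro x
    show x ∈ S
    refine span_isotropic_block hF hk S (fun z hz => ?_) x
    show ∃ y, _
    obtain ⟨j', y', hy'⟩ := one i z hz
    rcases eq_or_ne j' j with rfl | hne
    · exact ⟨y', hy'⟩
    rcases eq_or_ne y' 0 with rfl | hy'0
    · exact ⟨0, by rw [hy', Pi.single_zero, Pi.single_zero]⟩
    exfalso
    have h0 : 𝔥 x₀ z = 0 := by
      have := hG (frameVec b (Pi.single i x₀)) (frameVec b (Pi.single i z))
      rw [show (g : Matrix (Fin n) (Fin n) F) = G from rfl, hy₀, hy', hb.inner_single hF,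
        hb.inner_single hF, Pi.single_eq_of_ne hne, Pi.single_eq_same, H.zero_left] at this
      exact this.symm
    obtain ⟨j'', y'', hy''⟩ := one i (x₀ + z) (by
      rw [H.add_left, H.add_right hF, H.add_right hF, hx₀, hz, h0, (H.eq_zero_symm hF).1 h0]; ring)
    rw [Pi.single_add, map_add, Matrix.mulVec_add, hy₀, hy', ← map_add] at hy''
    have e := hb.inj hF hy''
    have e1 := congrFun e j
    have e2 := congrFun e j'
    rw [Pi.add_apply, Pi.single_eq_same, Pi.single_eq_of_ne hne.symm, add_zero] at e1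
    rw [Pi.add_apply, Pi.single_eq_same, Pi.single_eq_of_ne hne, zero_add] at e2
    rcases eq_or_ne j j'' with rfl | hj
    · rw [Pi.single_eq_of_ne hne] at e2; exact hy'0 e2
    · rw [Pi.single_eq_of_ne hj] at e1; exact hy₀0 e1
  choose π hπ using block
  have hπi : Function.Injective π := by
    intro i i' he
    by_contra hne
    choose φ hφ using hπ i
    have hφi : Function.Injective φ := fun x x' e => by
      have := hb.inj hF (hinj ((hφ x).trans (e ▸ (hφ x').symm)))
      simpa using congrFun this i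
    let x1 : Fin k → F := Pi.single ⟨0, by omega⟩ 1
    obtain ⟨y, hy⟩ := hπ i' x1
    obtain ⟨x, hx⟩ := (Finite.injective_iff_bijective.1 hφi).2 y
    have := hb.inj hF (hinj ((hφ x).trans (by rw [hx, he]; exact hy.symm)))
    have h1 := congrFun this i'
    rw [Pi.single_eq_of_ne (Ne.symm hne), Pi.single_eq_same] at h1
    exact one_ne_zero (α := F) (by simpa [x1] using (congrFun h1 ⟨0, by omega⟩).symm)
  exact hgH ⟨Equiv.ofBijective π (Finite.injective_iff_bijective.1 hπi), hπ⟩

omit hHM hkt hkq in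
/-- The stabiliser is proper. -/
theorem exists_outside_decomp (ht : 2 ≤ t) : ∃ g ∈ suGL n F q, ¬ InStab b g := by
  classical
  have H := hermForm_isHerm hF k
  obtain ⟨δ, hδ0, hδ⟩ := exists_skew hF
  obtain ⟨ε, hε⟩ := exists_eps hF
  let i0 : Fin t := ⟨0, by omega⟩
  let i1 : Fin t := ⟨1, by omega⟩
  have h01 : i0 ≠ i1 := by simp [i0, i1]
  let l0 : Fin k := ⟨0, by omega⟩
  let l1 : Fin k := ⟨1, by omega⟩
  have hl : l0 ≠ l1 := by simp [l0, l1]
  let a : Fin k → F := Pi.single l0 1 + ε • Pi.single l1 1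
  have o := single_orthonormal hF k
  have ha : 𝔥 a a = 0 := by
    simp only [a, H.add_left, H.add_right hF, H.smul_left, H.smul_right, o.1, o.2 hl, o.2 hl.symm]
    linear_combination hε
  have hal : 𝔥 (Pi.single l0 1) a = 1 := by
    simp only [a, H.add_right hF, H.smul_right, o.1, o.2 hl]; ring
  let v := frameVec b (Pi.single i0 a + Pi.single i1 a)
  have hv : Cfsg.hermForm n F q v v = 0 := by
    simp only [v, map_add, (hermForm_isHerm hF n).add_left, (hermForm_isHerm hF n).add_right hF,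
      hb.inner_single hF, Pi.single_eq_same, Pi.single_eq_of_ne h01, Pi.single_eq_of_ne h01.symm,
      ha, H.zero_left]
    ring
  refine ⟨glTransvection hF v hv δ (by rw [hδ, add_neg_cancel]), suToGU_mem_suGL _, ?_⟩
  rintro ⟨π, hπ⟩
  obtain ⟨y, hy⟩ := hπ i0 (Pi.single l0 1)
  have e : ((glTransvection hF v hv δ (by rw [hδ, add_neg_cancel]) : Matrix.GeneralLinearGroup (Fin n) F) :
      Matrix (Fin n) (Fin n) F) *ᵥ frameVec b (Pi.single i0 (Pi.single l0 1)) =
      frameVec b (Pi.single i0 (Pi.single l0 1 + δ • a) + Pi.single i1 (δ • a)) := by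
    refine (transvection_mulVec _ _ _).trans ?_
    have h1 : Cfsg.hermForm n F q (frameVec b (Pi.single i0 (Pi.single l0 1))) v = 1 := by
      simp only [v, map_add, (hermForm_isHerm hF n).add_right hF, hb.inner_single hF, Pi.single_eq_same,
        Pi.single_eq_of_ne h01.symm, hal, H.zero_left, add_zero]
    rw [h1, mul_one]
    simp only [v, map_add, smul_add, Pi.single_add, ← map_smul, ← Pi.single_smul]
    abel
  rw [e] at hy
  have e1 := congrFun (hb.inj hF hy) i1
  have e0 := congrFun (hb.inj hF hy) i0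
  simp only [Pi.add_apply, Pi.single_eq_same, Pi.single_eq_of_ne h01, Pi.single_eq_of_ne h01.symm,
    zero_add, add_zero] at e0 e1
  rcases eq_or_ne i1 (π i0) with h | h
  · rw [← h, Pi.single_eq_of_ne h01] at e0
    have := congrFun e0 l1
    simp [a, hl, hl.symm] at this
    rcases this with h' | h'
    · exact hδ0 h'
    · simp [h'] at hε
  · rw [Pi.single_eq_of_ne h] at e1
    have := congrFun e1 l0
    simp [a, hl, hl.symm] at this
    exact hδ0 this

end Overgroup

end Cfsg.Agent.Unitary
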