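import Cfsg.Agent.Lib.Unitary.DecompTypes
/-
Orthonormal frames in SU, dimension nine, all q.
* exists_kill_diag_nine, nine_kill, mono_le_nine, isMaximalIn_frame_stabilizer_nine
-/
set_option autoImplicit false

namespace Cfsg.Agent.Unitary

open scoped Matrix

variable {F : Type*} [Field F] [Fintype F] {q : ℕ}

/-- Four of nine non-zero norms have a non-zero sum. -/
theorem exists_four_sum_ne {N : Fin 9 → F} (hN : ∀ j, N j ≠ 0)
    (h : (2 : F) ≠ 0 ∨ ∑ j, N j = 0) :
    ∃ G : Finset (Fin 9), G.card = 4 ∧ ∑ j ∈ G, N j ≠ 0 := by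
  classical
  by_contra! hc
  have key : ∀ a b : Fin 9, N a = N b := by
    intro a b
    rcases eq_or_ne a b with rfl | hab
    · rfl
    obtain ⟨S, hS, hSc⟩ := Finset.exists_subset_card_eq
      (s := ((Finset.univ : Finset (Fin 9)).erase a).erase b) (n := 3)
      (by rw [Finset.card_erase_of_mem (Finset.mem_erase.2 ⟨hab.symm, Finset.mem_univ _⟩),
        Finset.card_erase_of_mem (Finset.mem_univ _), Finset.card_univ, Fintype.card_fin]; norm_num)
    have ha : a ∉ S := fun h => (Finset.mem_erase.1 (Finset.mem_erase.1 (hS h)).2).1 rfl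
    have hb : b ∉ S := fun h => (Finset.mem_erase.1 (hS h)).1 rfl
    have e1 := hc (insert a S) (by rw [Finset.card_insert_of_notMem ha, hSc])
    have e2 := hc (insert b S) (by rw [Finset.card_insert_of_notMem hb, hSc])
    rw [Finset.sum_insert ha] at e1
    rw [Finset.sum_insert hb] at e2
    linear_combination e1 - e2
  have h4 := hc {0, 1, 2, 3} (by decide)
  rw [Finset.sum_congr rfl (fun j _ => key j 0), Finset.sum_const,
    show ({0, 1, 2, 3} : Finset (Fin 9)).card = 4 by decide, nsmul_eq_mul, Nat.cast_ofNat] at h4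
  rcases h with h2 | hs
  · exact hN 0 ((mul_eq_zero.1 h4).resolve_left fun h => mul_ne_zero h2 h2 (by linear_combination h))
  · rw [Finset.sum_congr rfl (fun j _ => key j 0), Finset.sum_const, Finset.card_univ,
      Fintype.card_fin, nsmul_eq_mul, Nat.cast_ofNat] at hs
    exact hN 0 (by linear_combination hs - 2 * h4)

/-- The eigenvalues of a diagonal element killing one of nine coordinates and keeping three. -/
theorem exists_kill_diag_nine [DecidableEq F] (hF : Fintype.card F = q ^ 2) (hq : 3 ≤ q) {x : Fin 9 → F}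
    (hx : ∀ j, x j ≠ 0) {κ : F} (hκ : κ ≠ 0)
    (h : (2 : F) ≠ 0 ∨ Cfsg.hermForm 9 F q x x = 0) :
    ∃ (L : Fin 9 → F) (ρ : F) (t : Fin 9), (∀ j, L j ^ (q + 1) = 1) ∧ ρ ^ (q + 1) = 1 ∧ L t = 1 ∧
      ∑ j, x j * x j ^ q * L j = (-κ⁻¹) ^ q ∧ ∏ j, ρ * L j = 1 ∧
      3 ≤ (Finset.univ.filter fun j => L j ≠ 1).card := by
  classical
  set N : Fin 9 → F := fun j => x j * x j ^ q with hNdef
  have hN0 : ∀ j, N j ≠ 0 := fun j => mul_ne_zero (hx j) (pow_ne_zero _ (hx j))
  set T := (-κ⁻¹) ^ q with hT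
  obtain ⟨G, hGc, hGs⟩ := exists_four_sum_ne hN0 (h.imp_right fun e => e)
  obtain ⟨t, ht⟩ := exists_notMem_of_card_lt (S := G) (by omega)
  obtain ⟨a, ha⟩ := exists_notMem_of_card_lt (S := insert t G)
    (by rw [Finset.card_insert_of_notMem ht]; omega)
  rw [Finset.mem_insert, not_or] at ha
  obtain ⟨hat, haG⟩ := ha
  obtain ⟨J, hJ⟩ : ∃ J, J = (insert a (insert t G))ᶜ := ⟨_, rfl⟩
  have haB : a ∉ insert t G := by simp [hat, haG]
  have hJc : J.card = 3 := by
    rw [hJ, Finset.card_compl, Finset.card_insert_of_notMem haB, Finset.card_insert_of_notMem ht,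
      Fintype.card_fin, hGc]
  obtain ⟨ζ, hζ, hord, hζ1⟩ := exists_gen_ne_one hF
  have hζ0 : ζ ≠ 0 := fun h => by simp [h] at hζ
  have hU : ∀ e : ℕ, (ζ ^ e) ^ (q + 1) = 1 := fun e => by
    rw [← pow_mul, mul_comm, pow_mul, hζ, one_pow]
  obtain ⟨ξ, hξ, hξ1, hz, hz'⟩ : ∃ ξ : F, ξ ^ (q + 1) = 1 ∧ ξ ≠ 1 ∧ T - N t - ξ * N a ≠ 0 ∧
      T - N t - ξ * N a ≠ ∑ j ∈ J, N j := by
    by_contra! hc
    have hne : ∀ i j : ℕ, i < j → j < q + 1 → ζ ^ i ≠ ζ ^ j := fun i j hij hj h => by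
      have := Nat.le_of_dvd (by omega) (hord ▸ orderOf_dvd_of_pow_eq_one (x := ζ) (n := j - i)
        (mul_left_cancel₀ (pow_ne_zero i hζ0)
          (by rw [← pow_add, mul_one, Nat.add_sub_cancel' hij.le, h])))
      omega
    have key : ∀ e, 0 < e → e < q + 1 → ζ ^ e = (T - N t) / N a ∨
        ζ ^ e = (T - N t - ∑ j ∈ J, N j) / N a := by
      intro e h0 h1
      by_cases hz : T - N t - ζ ^ e * N a = 0
      · exact Or.inl ((eq_div_iff (hN0 a)).2 (by linear_combination -hz))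
      · refine Or.inr ((eq_div_iff (hN0 a)).2 ?_)
        have := hc _ (hU e) (fun he => hne 0 e h0 h1 (by rw [pow_zero, he])) hz
        linear_combination -this
    rcases key 1 (by norm_num) (by omega) with e1 | e1 <;>
      rcases key 2 (by norm_num) (by omega) with e2 | e2 <;>
        rcases key 3 (by norm_num) (by omega) with e3 | e3
    all_goals first
      | exact hne 1 2 (by norm_num) (by omega) (e1.trans e2.symm)
      | exact hne 1 3 (by norm_num) (by omega) (e1.trans e3.symm)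
      | exact hne 2 3 (by norm_num) (by omega) (e2.trans e3.symm)
  obtain ⟨l, hl, hls⟩ := exists_sum_three hF hJc N (fun i _ => hN0 i) (Or.inl hz)
  obtain ⟨m, hm, hms⟩ := exists_sum_big hF hGc.ge N (fun i _ => hN0 i) 0
  have hl0 : ∀ j, l j ≠ 0 := fun j h => by simpa [h] using hl j
  have hm0 : ∀ j, m j ≠ 0 := fun j h => by simpa [h] using hm j
  have hξ0 : ξ ≠ 0 := fun h => by simp [h] at hξ
  obtain ⟨P, hP⟩ : ∃ P, P = ξ * (∏ j ∈ J, l j) * ∏ j ∈ G, m j := ⟨_, rfl⟩
  have hP1 : P⁻¹ ^ (q + 1) = 1 := inv_pow_succ _ (by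
    rw [hP, mul_pow, mul_pow, hξ, ← Finset.prod_pow, ← Finset.prod_pow,
      Finset.prod_eq_one fun j _ => hl j, Finset.prod_eq_one fun j _ => hm j, one_mul, one_mul])
  have hP0 : P ≠ 0 := by
    rw [hP]
    exact mul_ne_zero (mul_ne_zero hξ0 (Finset.prod_ne_zero_iff.2 fun j _ => hl0 j))
      (Finset.prod_ne_zero_iff.2 fun j _ => hm0 j)
  have hco : Nat.Coprime 4 (Nat.gcd 9 (q + 1)) :=
    Nat.Coprime.coprime_dvd_right (Nat.gcd_dvd_left 9 (q + 1)) (by decide)
  obtain ⟨s, r, hs, hr, hsr⟩ := exists_pow_bezout_gcd hco hP1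
  let L : Fin 9 → F := fun j => if j ∈ G then s * m j else if j = t then 1 else if j = a then ξ else l j
  have hLG : ∀ j ∈ G, L j = s * m j := fun j hj => if_pos hj
  have hLJ : ∀ j ∈ J, L j = l j := fun j hj => by
    rw [hJ, Finset.mem_compl, Finset.mem_insert, Finset.mem_insert] at hj
    simp only [not_or] at hj
    simp [L, hj.1, hj.2.1, hj.2.2]
  have hLt : L t = 1 := by simp [L, ht]
  have hLa : L a = ξ := by simp [L, hat, haG]
  refine ⟨L, r, t, fun j => ?_, hr, hLt, ?_, ?_, ?_⟩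
  · simp only [L]
    split_ifs
    exacts [by rw [mul_pow, hs, hm, one_mul], one_pow _, hξ, hl j]
  · rw [← Finset.sum_add_sum_compl (insert a (insert t G)), ← hJ, Finset.sum_insert haB,
      Finset.sum_insert ht, hLa, hLt,
      Finset.sum_congr rfl (s₁ := G) (g := fun j => s * (N j * m j))
        (fun j hj => by rw [hLG j hj, mul_left_comm]),
      ← Finset.mul_sum, hms,
      Finset.sum_congr rfl (s₁ := J) (g := fun j => N j * l j) (fun j hj => by rw [hLJ j hj]), hls]
    simp only [hNdef]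
    ring
  · rw [Finset.prod_mul_distrib, Finset.prod_const, Finset.card_univ, Fintype.card_fin,
      ← Finset.prod_mul_prod_compl (insert a (insert t G)), ← hJ, Finset.prod_insert haB,
      Finset.prod_insert ht, hLa, hLt,
      Finset.prod_congr rfl (s₁ := G) (g := fun j => s * m j) hLG, Finset.prod_mul_distrib,
      Finset.prod_const, hGc, Finset.prod_congr rfl (s₁ := J) (g := l) hLJ]
    calc _ = (s ^ 4 * r ^ 9) * (ξ * (∏ j ∈ J, l j) * ∏ j ∈ G, m j) := by ring
      _ = 1 := by rw [hsr, ← hP, inv_mul_cancel₀ hP0]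
  · obtain ⟨c, hc, hcL⟩ : ∃ c ∈ J, L c ≠ 1 := by
      by_contra! hI
      refine hz' ?_
      rw [← hls]
      exact Finset.sum_congr rfl fun j hj => by
        rw [show l j = 1 by rw [← hLJ j hj, hI j hj], mul_one]
    obtain ⟨d, hd, hdL⟩ : ∃ d ∈ G, L d ≠ 1 := by
      by_contra! hI
      refine hGs ?_
      have e : ∑ j ∈ G, N j = s * ∑ j ∈ G, N j * m j := by
        rw [Finset.mul_sum]
        exact Finset.sum_congr rfl fun j hj => by
          rw [mul_left_comm, ← hLG j hj, hI j hj, mul_one]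
      rw [e, hms, mul_zero]
    rw [hJ, Finset.mem_compl, Finset.mem_insert, Finset.mem_insert] at hc
    simp only [not_or] at hc
    refine le_trans (le_of_eq ?_) (Finset.card_le_card (show ({a, c, d} : Finset (Fin 9)) ⊆ _ from
      fun j hj => Finset.mem_filter.2 ⟨Finset.mem_univ _, ?_⟩))
    · rw [Finset.card_insert_of_notMem, Finset.card_pair (fun e => hc.2.2 (by rw [e]; exact hd))]
      simp only [Finset.mem_insert, Finset.mem_singleton, not_or]
      exact ⟨fun e => hc.1 e.symm, fun e => haG (by rw [e]; exact hd)⟩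
    · simp only [Finset.mem_insert, Finset.mem_singleton] at hj
      rcases hj with rfl | rfl | rfl
      exacts [by rw [hLa]; exact hξ1, hcL, hdL]

section Nine

variable {M : Subgroup (Matrix.GeneralLinearGroup (Fin 9) F)} (hF : Fintype.card F = q ^ 2)
  (hHM : ∀ g ∈ suGL 9 F q, IsMon g → g ∈ M)
include hF hHM

/-- Killing a coordinate in characteristic two. -/
theorem nine_kill_even (h2 : (2 : F) = 0) (v : Fin 9 → F) (hall : ∀ r, v r ≠ 0)
    (hv : Cfsg.hermForm 9 F q v v = 0) : ∃ h ∈ M, h ∈ suGL 9 F q ∧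
      3 ≤ (supp (v + Cfsg.hermForm 9 F q v ((h : Matrix (Fin 9) (Fin 9) F) *ᵥ v) •
        ((h : Matrix (Fin 9) (Fin 9) F) *ᵥ v))).card ∧
      (supp (v + Cfsg.hermForm 9 F q v ((h : Matrix (Fin 9) (Fin 9) F) *ᵥ v) •
        ((h : Matrix (Fin 9) (Fin 9) F) *ᵥ v))).card < 9 := by
  classical
  rcases Nat.lt_or_ge q 3 with hq | hq
  · exfalso
    have hq2 : q = 2 := by have := two_le_q hF; omega
    rw [herm_self_card hF hq2, show supp v = Finset.univ from
      Finset.eq_univ_iff_forall.2 fun r => mem_supp.2 (hall r), Finset.card_univ, Fintype.card_fin] at hv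
    push_cast at hv
    exact one_ne_zero (α := F) (by linear_combination hv - 4 * h2)
  · obtain ⟨h, hhM, hh, -, h3', hlt'⟩ := exists_kill_of_diag hF (by norm_num) hHM hall
      (one_ne_zero (α := F)) (exists_kill_diag_nine hF hq hall one_ne_zero (Or.inr hv))
    rw [one_mul] at h3' hlt'
    exact ⟨h, hhM, hh, h3', hlt'⟩

/-- An overgroup of the monomial group in dimension nine. -/
theorem mono_le_nine (hMK : M ≤ suGL 9 F q) {g : Matrix.GeneralLinearGroup (Fin 9) F}
    (hgM : g ∈ M) (hgm : ¬ IsMon g) : suGL 9 F q ≤ M := by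
  classical
  by_cases h2 : (2 : F) = 0
  · rcases Nat.lt_or_ge q 3 with hq | hq
    · exact mono_le_two hF (by norm_num) hHM (by have := two_le_q hF; omega) h2
        (nine_kill_even hF hHM h2) hgM (hMK hgM) hgm
    · exact mono_le_even_big hF (by norm_num) hHM hq h2 (nine_kill_even hF hHM h2) hgM (hMK hgM) hgm
  have hcast : ((q ^ 2 : ℕ) : F) = 0 := hF ▸ FiniteField.cast_card_eq_zero F
  have hodd : ¬ 2 ∣ q := by
    rintro ⟨k, rfl⟩
    push_cast at hcast
    have hk : (k : F) = 0 := (pow_eq_zero_iff two_ne_zero).1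
      ((mul_eq_zero.1 (show (4 : F) * (k : F) ^ 2 = 0 by linear_combination hcast)).resolve_left
        fun h4 => mul_ne_zero h2 h2 (by linear_combination h4))
    obtain ⟨p, hp⟩ := CharP.exists F
    obtain ⟨e, hpp, he⟩ := FiniteField.card F p
    rw [hF] at he
    have hd : 2 ∣ p ^ (e : ℕ) := he ▸ dvd_pow (dvd_mul_right 2 k) two_ne_zero
    have hp2 := (Nat.prime_dvd_prime_iff_eq Nat.prime_two hpp).1 (Nat.prime_two.dvd_of_dvd_pow hd)
    exact h2 (by exact_mod_cast (CharP.cast_eq_zero_iff F p 2).2 (by rw [← hp2]))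
  have hq : 3 ≤ q := by
    have := two_le_q hF
    rcases Nat.lt_or_ge q 3 with h | h
    · exact absurd (show 2 ∣ q by rw [show q = 2 by omega]) hodd
    · exact h
  have hdvd : ¬ q + 1 ∣ 9 := fun h => by
    have : 2 ∣ q + 1 := by omega
    have := this.trans h
    omega
  obtain ⟨ζ, m, hζ, -, hm, hm1, -, hall'⟩ := exists_scalar_cols hF (by norm_num) hHM hMK hdvd
  have hcols : ∀ g ∈ M, ∀ i, Linked q M m ((g : Matrix (Fin 9) (Fin 9) F) *ᵥ Pi.single i 1) :=
    fun g hgM i => (hall' g hgM i).1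
  obtain ⟨x, hx, hxm, hor⟩ := exists_good hF (by norm_num) hHM hm hm1 hgM (hMK hgM) hgm (hcols g hgM)
  by_cases hfull : (supp x).card < 9
  · exact mono_le_of_linked hF (by norm_num) hHM hq hm hx hxm hfull
  obtain ⟨i, hi⟩ := hor.resolve_right hfull
  have hall : ∀ j, x j ≠ 0 := fun j hj => hfull (lt_of_lt_of_eq (Finset.card_lt_card
    ((Finset.ssubset_iff_of_subset (Finset.subset_univ _)).2
      ⟨j, Finset.mem_univ _, fun h => mem_supp.1 h hj⟩)) (by rw [Finset.card_univ, Fintype.card_fin]))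
  obtain ⟨h, hhM, hh, -, h3, hlt⟩ := exists_kill_of_diag hF (by norm_num) hHM hall (sub_ne_zero.2 hm1)
    (exists_kill_diag_nine hF hq hall (sub_ne_zero.2 hm1) (Or.inl h2))
  obtain ⟨X, hXM, hX⟩ := (hall' (h * g) (mul_mem hhM hgM) i).2
  rw [Units.val_mul, ← Matrix.mulVec_mulVec, ← hi] at hX
  have hy1 : Cfsg.hermForm 9 F q ((h : Matrix (Fin 9) (Fin 9) F) *ᵥ x)
      ((h : Matrix (Fin 9) (Fin 9) F) *ᵥ x) = 1 := (hh.1 _ _).trans hx.1
  have hL := (hcols _ (mul_mem hXM hgM) i).smul hF hm (r := ζ⁻¹) (inv_pow_succ _ hζ)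
  rw [Units.val_mul, ← Matrix.mulVec_mulVec, ← hi, hX,
    inv_smul_smul₀ (fun h => by simp [h] at hζ), glRefl_apply hF hy1 hm] at hL
  exact mono_le_of_linked hF (by norm_num) hHM hq hm hL (not_mon_of_three hF hL.1 hm hm1 h3) hlt

end Nine

/-- The frame stabiliser is maximal in SU_9, all q. -/
theorem isMaximalIn_frame_stabilizer_nine (hF : Fintype.card F = q ^ 2) {t : ℕ}
    (D : Fin t → Submodule F (Fin 9 → F))
    (hD : Cfsg.Geo.IsNondegenerateMDecomposition (Cfsg.hermForm 9 F q) 1 D) :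
    Cfsg.Geo.IsMaximalIn (Cfsg.GU 9 F q ⊓ Cfsg.Geo.specialLinear (Fin 9) F)
      (Cfsg.Geo.decompositionStabilizer D ⊓ (Cfsg.GU 9 F q ⊓ Cfsg.Geo.specialLinear (Fin 9) F)) := by
  classical
  obtain ⟨b, hb, hmem⟩ := exists_frame_of_decomposition hF hD
  have hdim : ∀ i, Module.finrank F (D i) = 1 := hD.1.finrank_eq
  have iff : ∀ g : Matrix.GeneralLinearGroup (Fin 9) F,
      g ∈ Cfsg.Geo.decompositionStabilizer D ↔ InStab b g := fun g =>
    mem_decompositionStabilizer_iff hF hmem hdim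
  refine isMaximalIn_of_forall inf_le_right ?_ fun M hHM hMK g hgM hgH => ?_
  · obtain ⟨g, hg, hgH⟩ := exists_outside_mono hF (by norm_num) hb
    exact ⟨g, hg, fun h => hgH ((iff g).1 h.1)⟩
  obtain ⟨c, hc, hiff⟩ := exists_frame_conj hF (by norm_num) hb
  let M' := M.comap (MulAut.conj c).toMonoidHom
  have hmem' : ∀ h, h ∈ M' ↔ c * h * c⁻¹ ∈ M := fun h => Iff.rfl
  have hMK' : M' ≤ suGL 9 F q := fun h hh => by
    rw [show h = c⁻¹ * (c * h * c⁻¹) * c by group]
    exact mul_mem (mul_mem (inv_mem hc) (hMK ((hmem' h).1 hh))) hc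
  have hg' : c * (c⁻¹ * g * c) * c⁻¹ = g := by group
  have hHM' : ∀ h ∈ suGL 9 F q, IsMon h → h ∈ M' := fun h hh hm => by
    have hK : c * h * c⁻¹ ∈ suGL 9 F q := mul_mem (mul_mem hc hh) (inv_mem hc)
    exact (hmem' h).2 (hHM ⟨(iff _).2 ((hiff h).1 hm), hK⟩)
  have hgm : ¬ IsMon (c⁻¹ * g * c) := fun hm => hgH
    ⟨(iff g).2 (by have := (hiff _).1 hm; rwa [hg'] at this), hMK hgM⟩
  have hle := mono_le_nine hF hHM' hMK' ((hmem' _).2 (by rw [hg']; exact hgM)) hgm
  intro x hx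
  have := (hmem' _).1 (hle (mul_mem (mul_mem (inv_mem hc) hx) hc))
  rwa [show c * (c⁻¹ * x * c) * c⁻¹ = x by group] at this

end Cfsg.Agent.Unitary
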