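import Cfsg.Agent.Lib.Unitary.MonoMax
/-
Overgroups of the monomial subgroup of SU in dimension four (q = 2 or q ≥ 4).
* four_fix, four_linked, four_block, four_scalar_cols (4 ≤ n), four_point, four_pair,
  mono_le_four_two, mono_le_four_big, isMaximalIn_frame_stabilizer_four
-/
set_option autoImplicit false

namespace Cfsg.Agent.Unitary

open scoped Matrix

variable {F : Type*} [Field F] [Fintype F] {q : ℕ}

section FourLow

variable {n : ℕ} {M : Subgroup (Matrix.GeneralLinearGroup (Fin n) F)} (hF : Fintype.card F = q ^ 2)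
  (hn : 4 ≤ n) (hHM : ∀ g ∈ suGL n F q, IsMon g → g ∈ M)
include hF hn hHM

/-- An element fixing a coordinate line, not monomial, gives SU. -/
theorem four_fix (hq : 3 ≤ q) {z : Matrix.GeneralLinearGroup (Fin n) F} (hzM : z ∈ M)
    (hz : z ∈ suGL n F q) (hzm : ¬ IsMon z) {i : Fin n} {a : F}
    (hzi : (z : Matrix (Fin n) (Fin n) F) *ᵥ Pi.single i 1 = a • Pi.single i 1) : suGL n F q ≤ M := by
  classical
  have H := hermForm_isHerm hF n
  have o := single_orthonormal hF n
  obtain ⟨ζ, hζ, hord, hζ1⟩ := exists_gen_ne_one hF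
  have ha : a ^ (q + 1) = 1 := by
    have h : Cfsg.hermForm n F q ((z : Matrix (Fin n) (Fin n) F) *ᵥ Pi.single i 1)
      ((z : Matrix (Fin n) (Fin n) F) *ᵥ Pi.single i 1) = 1 := (hz.1 _ _).trans (o.1 i)
    rwa [hzi, H.smul_left, H.smul_right, o.1, mul_one, ← pow_succ'] at h
  have hcols := cols_linked hF hHM hζ hzM hz.1 (linked_single hF hHM hζ i)
    (hzi ▸ (linked_single hF hHM hζ i).smul hF hζ ha)
  obtain ⟨r, j, l, hjl, hj, hl⟩ := exists_col_of_not_mon hzm
  have h2 : 2 ≤ (supp ((z : Matrix (Fin n) (Fin n) F) *ᵥ Pi.single r 1)).card :=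
    Finset.one_lt_card.2 ⟨j, mem_supp.2 hj, l, mem_supp.2 hl, hjl⟩
  refine mono_le_of_linked_gen hF hn hHM hζ hord hq (hcols r) h2 ?_
  have hri : r ≠ i := by
    rintro rfl
    rw [hzi, Pi.smul_apply] at hj hl
    refine hjl ?_
    rw [show j = r from Classical.byContradiction fun h => hj (by rw [Pi.single_eq_of_ne h, smul_zero]),
      show l = r from Classical.byContradiction fun h => hl (by rw [Pi.single_eq_of_ne h, smul_zero])]
  refine lt_of_lt_of_eq (Finset.card_lt_card ((Finset.ssubset_iff_of_subset (Finset.subset_univ _)).2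
      ⟨i, Finset.mem_univ _, fun h => mem_supp.1 h ?_⟩)) (by rw [Finset.card_univ, Fintype.card_fin])
  have h0 : Cfsg.hermForm n F q ((z : Matrix (Fin n) (Fin n) F) *ᵥ Pi.single r 1)
      ((z : Matrix (Fin n) (Fin n) F) *ᵥ Pi.single i 1) = 0 := (hz.1 _ _).trans (o.2 hri)
  rw [hzi, H.smul_right, hermForm_single_right hF] at h0
  exact (mul_eq_zero.1 h0).resolve_left (pow_ne_zero _ fun h => by simp [h] at ha)

/-- A linked vector of weight below n with a non-monomial reflection gives SU. -/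
theorem four_linked (hq : 3 ≤ q) {m : F} (hm : m ^ (q + 1) = 1)
    {x : Fin n → F} (hx : Linked q M m x) (hxm : ¬ IsMon (glRefl q x m)) (hxn : (supp x).card < n) :
    suGL n F q ≤ M := by
  have o := single_orthonormal hF n
  obtain ⟨p, hp⟩ := exists_notMem_of_card_lt (S := supp x) hxn
  obtain ⟨k, hk⟩ := Finset.card_pos.1
    (show 0 < (supp x).card from lt_of_lt_of_le Nat.zero_lt_two (supp_of_not_mon hF hx.1 hm hxm).1)
  refine four_fix hF hn hHM hq (hx.2 k) (refl_pair_mem_suGL hF hx.1 (o.1 k) hm) (fun h => hxm ?_)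
    (i := p) (a := 1) ?_
  · have := h.mul (glRefl_single_mon hF k hm)
    rwa [inv_mul_cancel_right] at this
  · have hpk : p ≠ k := fun h => hp (h ▸ hk)
    have e : (glRefl q (Pi.single k 1 : Fin n → F) m : Matrix (Fin n) (Fin n) F) *ᵥ Pi.single p 1 =
        Pi.single p 1 := glRefl_fix hF (o.1 k) hm (o.2 hpk)
    conv_lhs => arg 2; rw [← e]
    rw [Matrix.mulVec_mulVec, ← Units.val_mul, inv_mul_cancel_right, one_smul]
    refine glRefl_fix hF hx.1 hm ?_
    rw [hermForm_single_left, eq_zero_of_notMem_supp hp, zero_pow_q hF]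

/-- Two coordinates forming a block: an element fixing all others and not monomial. -/
theorem four_block (hq : 4 ≤ q) (hMK : M ≤ suGL n F q) {x : Fin n → F} {k l : Fin n}
    (hkl : k ≠ l) (hxk : x k ≠ 0) (hxl : x l ≠ 0) (hN0 : x k * x k ^ q + x l * x l ^ q ≠ 0)
    (hN1 : x k * x k ^ q + x l * x l ^ q ≠ 1) (hx : Cfsg.hermForm n F q x x = 1)
    {g : Matrix.GeneralLinearGroup (Fin n) F} (hgM : g ∈ M) {cA cB d d' : F}
    (hgu : (g : Matrix (Fin n) (Fin n) F) *ᵥ restr {k, l} x = d • restr ({k, l} : Finset (Fin n))ᶜ x)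
    (hgb : (g : Matrix (Fin n) (Fin n) F) *ᵥ restr ({k, l} : Finset (Fin n))ᶜ x = d' • restr {k, l} x)
    (hgA : ∀ v, (∀ j ∉ ({k, l} : Finset (Fin n)), v j = 0) → Cfsg.hermForm n F q v x = 0 →
      (g : Matrix (Fin n) (Fin n) F) *ᵥ v = cA • v)
    (hgB : ∀ v, (∀ j ∈ ({k, l} : Finset (Fin n)), v j = 0) → Cfsg.hermForm n F q v x = 0 →
      (g : Matrix (Fin n) (Fin n) F) *ᵥ v = cB • v)
    {ν ρ : F} (hν : ν ^ (q + 1) = 1) (hν2 : ν ^ 2 ≠ 1) (hρ0 : ρ ≠ 0)
    {T : Matrix.GeneralLinearGroup (Fin n) F} (hTM : T ∈ M) (hT : ∀ v j,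
      ((T : Matrix (Fin n) (Fin n) F) *ᵥ v) j = ρ * (if j ∈ ({k, l} : Finset (Fin n)) then ν else 1) * v j) :
    suGL n F q ≤ M := by
  classical
  have H := hermForm_isHerm hF n
  have o := single_orthonormal hF n
  set A : Finset (Fin n) := {k, l} with hA
  set u := restr A x with hu
  set b := restr Aᶜ x with hb
  have hν0 : ν ≠ 0 := fun h => by simp [h] at hν
  have hν1 : ν ≠ 1 := fun h => hν2 (by rw [h, one_pow])
  have hinj : Function.Injective (fun w => (g : Matrix (Fin n) (Fin n) F) *ᵥ w) :=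
    Matrix.mulVec_injective_iff_isUnit.2 (Units.isUnit g)
  have hkA : k ∈ A := by simp [hA]
  have hlA : l ∈ A := by simp [hA]
  set Y := g * T * g⁻¹ with hY
  have hYg : ∀ w, (Y : Matrix (Fin n) (Fin n) F) *ᵥ ((g : Matrix (Fin n) (Fin n) F) *ᵥ w) =
      (g : Matrix (Fin n) (Fin n) F) *ᵥ ((T : Matrix (Fin n) (Fin n) F) *ᵥ w) := fun w => by
    rw [Matrix.mulVec_mulVec, Matrix.mulVec_mulVec, ← Units.val_mul, ← Units.val_mul]
    congr 2
    rw [hY, inv_mul_cancel_right]
  have hne : ∀ (v : Fin n → F) (j : Fin n), v j ≠ 0 → v ≠ 0 := fun v j h e => h (by rw [e]; rfl)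
  obtain ⟨j₀, hj₀⟩ : ∃ j, b j ≠ 0 := by
    by_contra! hall
    refine hN1 ?_
    rw [← hx]
    show _ = ∑ j, x j * x j ^ q
    rw [← Finset.sum_subset (Finset.subset_univ A) fun j _ hj => by
      have := hall j
      rw [hb, restr_mem (Finset.mem_compl.2 hj)] at this
      rw [this, zero_mul], hA, Finset.sum_pair hkl]
  have hd : d ≠ 0 := fun h => hne u k (by rw [hu, restr_mem hkA]; exact hxk) (hinj (by
    show (g : Matrix (Fin n) (Fin n) F) *ᵥ u = (g : Matrix (Fin n) (Fin n) F) *ᵥ 0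
    rw [hgu, h, zero_smul, Matrix.mulVec_zero]))
  have hd' : d' ≠ 0 := fun h => hne b j₀ hj₀ (hinj (by
    show (g : Matrix (Fin n) (Fin n) F) *ᵥ b = (g : Matrix (Fin n) (Fin n) F) *ᵥ 0
    rw [hgb, h, zero_smul, Matrix.mulVec_zero]))
  have hTb : (T : Matrix (Fin n) (Fin n) F) *ᵥ b = ρ • b := funext fun j => by
    rw [hT, Pi.smul_apply, smul_eq_mul]
    by_cases hj : j ∈ A <;> simp [hb, restr, hj]
  have hTu : (T : Matrix (Fin n) (Fin n) F) *ᵥ u = (ρ * ν) • u := funext fun j => by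
    rw [hT, Pi.smul_apply, smul_eq_mul]
    by_cases hj : j ∈ A <;> simp [hu, restr, hj]
  have hYu : (Y : Matrix (Fin n) (Fin n) F) *ᵥ u = ρ • u := by
    conv_lhs => rw [← inv_smul_smul₀ hd' u, Matrix.mulVec_smul, ← hgb, hYg, hTb, Matrix.mulVec_smul, hgb,
      smul_smul, smul_smul]
    congr 1
    field_simp
  have hYb : (Y : Matrix (Fin n) (Fin n) F) *ᵥ b = (ρ * ν) • b := by
    conv_lhs => rw [← inv_smul_smul₀ hd b, Matrix.mulVec_smul, ← hgu, hYg, hTu, Matrix.mulVec_smul, hgu,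
      smul_smul, smul_smul]
    congr 1
    field_simp
  have hYA : ∀ v, (∀ j ∉ A, v j = 0) → Cfsg.hermForm n F q v x = 0 →
      (Y : Matrix (Fin n) (Fin n) F) *ᵥ v = (ρ * ν) • v := by
    intro v hv h
    rcases eq_or_ne v 0 with rfl | hv0
    · simp
    have hc : cA ≠ 0 := fun hc => hv0 (hinj (by
      show (g : Matrix (Fin n) (Fin n) F) *ᵥ v = (g : Matrix (Fin n) (Fin n) F) *ᵥ 0
      rw [hgA v hv h, hc, zero_smul, Matrix.mulVec_zero]))
    have hTv : (T : Matrix (Fin n) (Fin n) F) *ᵥ v = (ρ * ν) • v := funext fun j => by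
      rw [hT, Pi.smul_apply, smul_eq_mul]
      by_cases hj : j ∈ A
      · rw [if_pos hj]
      · rw [hv j hj, mul_zero, mul_zero]
    conv_lhs => rw [← inv_smul_smul₀ hc v, Matrix.mulVec_smul, ← hgA v hv h, hYg, hTv,
      Matrix.mulVec_smul, hgA v hv h, smul_smul, smul_smul]
    congr 1
    field_simp
  have hYB : ∀ v, (∀ j ∈ A, v j = 0) → Cfsg.hermForm n F q v x = 0 →
      (Y : Matrix (Fin n) (Fin n) F) *ᵥ v = ρ • v := by
    intro v hv h
    rcases eq_or_ne v 0 with rfl | hv0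
    · simp
    have hc : cB ≠ 0 := fun hc => hv0 (hinj (by
      show (g : Matrix (Fin n) (Fin n) F) *ᵥ v = (g : Matrix (Fin n) (Fin n) F) *ᵥ 0
      rw [hgB v hv h, hc, zero_smul, Matrix.mulVec_zero]))
    have hTv : (T : Matrix (Fin n) (Fin n) F) *ᵥ v = ρ • v := funext fun j => by
      rw [hT, Pi.smul_apply, smul_eq_mul]
      by_cases hj : j ∈ A
      · rw [hv j hj, mul_zero, mul_zero]
      · rw [if_neg hj, mul_one]
    conv_lhs => rw [← inv_smul_smul₀ hc v, Matrix.mulVec_smul, ← hgB v hv h, hYg, hTv,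
      Matrix.mulVec_smul, hgB v hv h, smul_smul, smul_smul]
    congr 1
    field_simp
  -- conjugating a diagonal element of the block
  obtain ⟨lam, hlam, hord, -⟩ := exists_gen_ne_one hF
  have hlam4 : lam ^ 4 ≠ 1 := fun h => by
    have := Nat.le_of_dvd (by norm_num) (hord ▸ orderOf_dvd_of_pow_eq_one h)
    omega
  have hlam0 : lam ≠ 0 := fun h => by simp [h] at hlam
  obtain ⟨D, hDM, hD, hDm, hDx⟩ := exists_diagM hF hHM
    (fun j => if j = k then lam else if j = l then lam⁻¹ else 1)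
    (fun j => by
      split_ifs
      exacts [hlam, inv_pow_succ _ hlam, one_pow _])
    (by
      rw [← Finset.prod_subset (Finset.subset_univ A) fun j _ hj => by
        simp only [hA, Finset.mem_insert, Finset.mem_singleton, not_or] at hj
        simp [hj.1, hj.2], hA, Finset.prod_pair hkl]
      simp [hkl.symm, hlam0])
  have hDB : ∀ v, (∀ j ∈ A, v j = 0) → (D : Matrix (Fin n) (Fin n) F) *ᵥ v = v := fun v hv =>
    funext fun j => by
      rw [hDx]
      by_cases hj : j ∈ A
      · rw [hv j hj, mul_zero]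
      · simp only [hA, Finset.mem_insert, Finset.mem_singleton, not_or] at hj
        simp [hj.1, hj.2]
  have hYM : Y ∈ M := M.mul_mem (M.mul_mem hgM hTM) (M.inv_mem hgM)
  set E := Y * D * Y⁻¹ with hE
  have hEY : ∀ w, (E : Matrix (Fin n) (Fin n) F) *ᵥ ((Y : Matrix (Fin n) (Fin n) F) *ᵥ w) =
      (Y : Matrix (Fin n) (Fin n) F) *ᵥ ((D : Matrix (Fin n) (Fin n) F) *ᵥ w) := fun w => by
    rw [Matrix.mulVec_mulVec, Matrix.mulVec_mulVec, ← Units.val_mul, ← Units.val_mul]
    congr 2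
    rw [hE, inv_mul_cancel_right]
  have hbb : Cfsg.hermForm n F q b x = 1 - (x k * x k ^ q + x l * x l ^ q) := by
    have e : Cfsg.hermForm n F q u x = x k * x k ^ q + x l * x l ^ q := by
      show ∑ j, u j * x j ^ q = _
      rw [← Finset.sum_subset (Finset.subset_univ A) fun j _ hj => by
        rw [hu, restr_notMem hj, zero_mul], hA, Finset.sum_pair hkl, hu, restr_mem hkA, restr_mem hlA]
    have h := H.add_left u b x
    rw [hu, hb, restr_add_compl, hx, ← hu, ← hb, e] at h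
    linear_combination -h
  have hEfix : ∀ j, j ∉ A → (E : Matrix (Fin n) (Fin n) F) *ᵥ Pi.single j 1 = Pi.single j 1 := by
    intro j hj
    set α := x j ^ q / (1 - (x k * x k ^ q + x l * x l ^ q)) with hα
    set v := Pi.single j 1 - α • b with hv
    have hvA : ∀ r ∈ A, v r = 0 := fun r hr => by
      have hrj : r ≠ j := fun h => hj (h ▸ hr)
      simp [hv, hb, restr, hr, hrj]
    have hvx : Cfsg.hermForm n F q v x = 0 := by
      rw [hv, H.sub_left, H.smul_left, hbb, hermForm_single_left, hα,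
        div_mul_cancel₀ _ (sub_ne_zero.2 (Ne.symm hN1)), sub_self]
    set w := (α / (ρ * ν)) • b + ρ⁻¹ • v with hw
    have hwA : ∀ r ∈ A, w r = 0 := fun r hr => by
      simp [hw, hvA r hr, hb, restr, hr]
    have hYw : (Y : Matrix (Fin n) (Fin n) F) *ᵥ w = Pi.single j 1 := by
      rw [hw, Matrix.mulVec_add, Matrix.mulVec_smul, Matrix.mulVec_smul, hYb, hYB v hvA hvx, smul_smul,
        smul_smul, div_mul_cancel₀ _ (mul_ne_zero hρ0 hν0), inv_mul_cancel₀ hρ0, one_smul, hv]
      module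
    rw [← hYw, hEY, hDB w hwA]
  set z := E * D⁻¹ with hz
  have hzM : z ∈ M :=
    M.mul_mem (M.mul_mem (M.mul_mem hYM hDM) (M.inv_mem hYM)) (M.inv_mem hDM)
  obtain ⟨i, hi⟩ : ∃ i, i ∉ A := exists_notMem_of_card_lt (lt_of_le_of_lt Finset.card_le_two (by omega))
  have hzi : (z : Matrix (Fin n) (Fin n) F) *ᵥ Pi.single i 1 = (1 : F) • Pi.single i 1 := by
    have hDi := hDB (Pi.single i (1 : F)) fun r hr => Pi.single_eq_of_ne (by rintro rfl; exact hi hr) _
    rw [one_smul, hz, Units.val_mul, ← Matrix.mulVec_mulVec]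
    conv_lhs => arg 2; rw [← hDi, Matrix.mulVec_mulVec, ← Units.val_mul, inv_mul_cancel, Units.val_one,
      Matrix.one_mulVec]
    exact hEfix i hi
  refine four_fix hF hn hHM (by omega) hzM (hMK hzM) (fun hzm => ?_) hzi
  have hEm : IsMon E := by
    have := hzm.mul hDm
    rwa [hz, inv_mul_cancel_right] at this
  obtain ⟨π, hπ⟩ := hEm
  have hEinj : Function.Injective (fun w => (E : Matrix (Fin n) (Fin n) F) *ᵥ w) :=
    Matrix.mulVec_injective_iff_isUnit.2 (Units.isUnit E)
  have hπA : ∀ p ∈ A, π p ∈ A := by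
    intro p hp
    by_contra hpA
    obtain ⟨a, ha⟩ := hπ p
    rw [← hEfix _ hpA, ← Matrix.mulVec_smul] at ha
    have := congrFun (hEinj ha) p
    have hne' : p ≠ π p := fun h => hpA (h ▸ hp)
    simp [Pi.single_eq_of_ne hne'] at this
  -- eigenvectors of E in the block
  obtain ⟨r, hr⟩ : ∃ r, r = (Y : Matrix (Fin n) (Fin n) F) *ᵥ Pi.single k 1 := ⟨_, rfl⟩
  obtain ⟨s, hs⟩ : ∃ s, s = (Y : Matrix (Fin n) (Fin n) F) *ᵥ Pi.single l 1 := ⟨_, rfl⟩
  set N := x k * x k ^ q + x l * x l ^ q with hN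
  have col : ∀ p q' : Fin n, p ∈ A → A = {p, q'} → p ≠ q' → ∀ t,
      ((Y : Matrix (Fin n) (Fin n) F) *ᵥ Pi.single p 1) t =
        ρ * ν * (if t = p then 1 else 0) + ρ * (1 - ν) * (x p ^ q / N) * u t := by
    intro p q' hp hAp hpq t
    set v := Pi.single p 1 - (x p ^ q / N) • u with hv
    have hvA : ∀ j ∉ A, v j = 0 := fun j hj => by
      have hjp : j ≠ p := fun h => hj (h ▸ hp)
      simp [hv, hu, restr, hj, hjp]
    have hux : Cfsg.hermForm n F q u x = N := by
      show ∑ j, u j * x j ^ q = _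
      rw [← Finset.sum_subset (Finset.subset_univ A) fun j _ hj => by
        rw [hu, restr_notMem hj, zero_mul], hA, Finset.sum_pair hkl, hu, restr_mem hkA, restr_mem hlA]
    have hvx : Cfsg.hermForm n F q v x = 0 := by
      rw [hv, H.sub_left, H.smul_left, hux, hermForm_single_left, div_mul_cancel₀ _ hN0, sub_self]
    have e : Pi.single p (1 : F) = v + (x p ^ q / N) • u := by rw [hv]; module
    rw [e, Matrix.mulVec_add, Matrix.mulVec_smul, hYA v hvA hvx, hYu, hv]
    simp only [Pi.add_apply, Pi.smul_apply, Pi.sub_apply, smul_eq_mul, Pi.single_apply]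
    ring
  have key : ∀ (p q' : Fin n), x p ≠ 0 → x q' ≠ 0 → x p * x p ^ q + x q' * x q' ^ q = N →
      ν + (1 - ν) * (x p ^ q / N) * x p ≠ 0 := by
    intro p q' hp hq' hsum h
    have h' : (1 - ν) * (x q' * x q' ^ q) = N := by
      field_simp at h
      linear_combination -h + (1 - ν) * hsum
    have hfix : ∀ a : F, (a * a ^ q) ^ q = a * a ^ q := fun a => by
      rw [mul_pow, pow_q_pow_q hF, mul_comm]
    have hν' : (1 - ν) ^ q = 1 - ν := by
      refine mul_right_cancel₀ (mul_ne_zero hq' (pow_ne_zero q hq')) ?_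
      conv_lhs => rw [← hfix, ← mul_pow, h']
      rw [h', hN, add_pow_q hF, hfix, hfix]
    rw [sub_pow_q hF, one_pow] at hν'
    refine hν2 ?_
    rw [pow_succ, show ν ^ q = ν by linear_combination -hν'] at hν
    rw [sq, hν]
  have hrk : r k ≠ 0 := by
    rw [hr, col k l hkA hA hkl, hu, restr_mem hkA, if_pos rfl, mul_one,
      show ρ * ν + ρ * (1 - ν) * (x k ^ q / N) * x k = ρ * (ν + (1 - ν) * (x k ^ q / N) * x k) by ring]
    exact mul_ne_zero hρ0 (key k l hxk hxl hN.symm)
  have hsl : s l ≠ 0 := by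
    rw [hs, col l k hlA (by rw [hA, Finset.pair_comm]) hkl.symm, hu, restr_mem hlA, if_pos rfl, mul_one,
      show ρ * ν + ρ * (1 - ν) * (x l ^ q / N) * x l = ρ * (ν + (1 - ν) * (x l ^ q / N) * x l) by ring]
    exact mul_ne_zero hρ0 (key l k hxl hxk (by rw [hN, add_comm]))
  have hrl : r l ≠ 0 := by
    rw [hr, col k l hkA hA hkl, hu, restr_mem hlA, if_neg hkl.symm, mul_zero, zero_add]
    exact mul_ne_zero (mul_ne_zero (mul_ne_zero hρ0 (sub_ne_zero.2 hν1.symm))
      (div_ne_zero (pow_ne_zero _ hxk) hN0)) hxl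
  have hsk : s k ≠ 0 := by
    rw [hs, col l k hlA (by rw [hA, Finset.pair_comm]) hkl.symm, hu, restr_mem hkA, if_neg hkl, mul_zero,
      zero_add]
    exact mul_ne_zero (mul_ne_zero (mul_ne_zero hρ0 (sub_ne_zero.2 hν1.symm))
      (div_ne_zero (pow_ne_zero _ hxl) hN0)) hxk
  have supp2 : ∀ p q' : Fin n, p ∈ A → A = {p, q'} → p ≠ q' → ∀ w : Fin n → F,
      w = (Y : Matrix (Fin n) (Fin n) F) *ᵥ Pi.single p 1 →
      w = w k • Pi.single k 1 + w l • Pi.single l 1 := by
    intro p q' hp hAp hpq w hw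
    funext t
    rcases eq_or_ne t k with rfl | htk
    · simp [hkl]
    rcases eq_or_ne t l with rfl | htl
    · simp [htk]
    have htA : t ∉ A := by simp [hA, htk, htl]
    rw [hw, col p q' hp hAp hpq, hu, restr_notMem htA, mul_zero, add_zero,
      if_neg (show ¬ t = p from fun h => htA (by rw [h]; exact hp)), mul_zero]
    simp [htk, htl]
  have er : (E : Matrix (Fin n) (Fin n) F) *ᵥ r = lam • r := by
    rw [hr, hEY, ← Matrix.mulVec_smul]
    congr 1
    funext j
    rw [hDx, Pi.smul_apply, smul_eq_mul]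
    rcases eq_or_ne j k with rfl | hj <;> simp [*]
  have es : (E : Matrix (Fin n) (Fin n) F) *ᵥ s = lam⁻¹ • s := by
    rw [hs, hEY, ← Matrix.mulVec_smul]
    congr 1
    funext j
    rw [hDx, Pi.smul_apply, smul_eq_mul]
    rcases eq_or_ne j l with rfl | hj <;> simp [*, hkl.symm]
  rw [supp2 k l hkA hA hkl r hr, Matrix.mulVec_add, Matrix.mulVec_smul, Matrix.mulVec_smul] at er
  rw [supp2 l k hlA (by rw [hA, Finset.pair_comm]) hkl.symm s hs, Matrix.mulVec_add, Matrix.mulVec_smul,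
    Matrix.mulVec_smul] at es
  obtain ⟨a, ha⟩ := hπ k
  obtain ⟨a', ha'⟩ := hπ l
  rw [ha, ha'] at er es
  have hk' : π k = k ∨ π k = l := by simpa [hA] using hπA k hkA
  have hl' : π l = k ∨ π l = l := by simpa [hA] using hπA l hlA
  have hππ : π k ≠ π l := π.injective.ne hkl
  rcases hk' with e1 | e1
  · have e2 : π l = l := hl'.resolve_left fun h => hππ (e1.trans h.symm)
    rw [e1, e2] at er es
    have h1 := congrFun er k
    have h2 := congrFun es k
    simp [hkl] at h1 h2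
    have h1' : a = lam := mul_left_cancel₀ hrk (by linear_combination h1)
    have h2' : a = lam⁻¹ := mul_left_cancel₀ hsk (by linear_combination h2)
    refine hlam4 ?_
    rw [show lam ^ 4 = (lam * lam) ^ 2 by ring]
    nth_rewrite 2 [h1'.symm.trans h2']
    rw [mul_inv_cancel₀ hlam0, one_pow]
  · have e2 : π l = k := hl'.resolve_right fun h => hππ (e1.trans h.symm)
    rw [e1, e2] at er es
    have h1 := congrFun er k
    have h2 := congrFun er l
    have h3 := congrFun es k
    have h4 := congrFun es l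
    simp [hkl, hkl.symm] at h1 h2 h3 h4
    have h5 : a * a' = lam * lam :=
      mul_left_cancel₀ (mul_ne_zero hrk hrl) (by
        linear_combination (r l * a') * h2 + lam * r l * h1)
    have h6 : a * a' = lam⁻¹ * lam⁻¹ :=
      mul_left_cancel₀ (mul_ne_zero hsk hsl) (by
        linear_combination (s l * a') * h4 + lam⁻¹ * s l * h3)
    refine hlam4 ?_
    have h7 := h5.symm.trans h6
    field_simp at h7
    linear_combination h7

/-- For q + 1 ∤ n all columns of M are linked, by scalar times reflection. -/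
theorem four_scalar_cols (hMK : M ≤ suGL n F q) (hdvd : ¬ q + 1 ∣ n) :
    ∃ ζ m : F, ζ ^ (q + 1) = 1 ∧ orderOf ζ = q + 1 ∧ m ^ (q + 1) = 1 ∧ m ≠ 1 ∧ m = (ζ ^ n)⁻¹ ∧
      ∀ g ∈ M, ∀ i : Fin n, Linked q M m ((g : Matrix (Fin n) (Fin n) F) *ᵥ Pi.single i 1) ∧
        ∃ X ∈ M, ∀ v, (X : Matrix (Fin n) (Fin n) F) *ᵥ v = ζ •
          ((glRefl q ((g : Matrix (Fin n) (Fin n) F) *ᵥ Pi.single i 1) m : Matrix (Fin n) (Fin n) F) *ᵥ v) := by
  have _ := hn
  classical
  have H := hermForm_isHerm hF n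
  have o := single_orthonormal hF n
  obtain ⟨ζ, hζ, hord, hζ1⟩ := exists_gen_ne_one hF
  obtain ⟨m, hmdef⟩ : ∃ m, m = (ζ ^ n)⁻¹ := ⟨_, rfl⟩
  have hζn : ζ ^ n ≠ 1 := fun h => hdvd (hord ▸ orderOf_dvd_of_pow_eq_one h)
  have hm : m ^ (q + 1) = 1 := hmdef ▸ inv_pow_succ _ (by rw [← pow_mul, mul_comm, pow_mul, hζ, one_pow])
  have hm1 : m ≠ 1 := fun h => hζn (inv_eq_one.1 (hmdef ▸ h))
  obtain ⟨z, hz, hzm, hzx⟩ := exists_mono hF 1 (fun _ : Fin n => ζ) (fun _ => hζ)
  have hzv : ∀ v, (z : Matrix (Fin n) (Fin n) F) *ᵥ v = ζ • v := fun v => funext fun j => by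
    rw [hzx, Pi.smul_apply]; rfl
  have hzc : ∀ A : Matrix.GeneralLinearGroup (Fin n) F, z * A = A * z := fun A =>
    gl_ext_mulVec fun v => by
      rw [Units.val_mul, Units.val_mul, ← Matrix.mulVec_mulVec, ← Matrix.mulVec_mulVec, hzv, hzv,
        Matrix.mulVec_smul]
  have hzk : ∀ k : Fin n, z * glRefl q (Pi.single k 1) m ∈ M := by
    intro k
    obtain ⟨d, hdM, -, -, hdx⟩ := exists_diagM hF hHM (fun j => if j = k then ζ * m else ζ)
      (fun j => by split_ifs <;> simp [mul_pow, hζ, hm]) (by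
        rw [← Finset.mul_prod_erase _ _ (Finset.mem_univ k), if_pos rfl,
          Finset.prod_congr rfl (g := fun _ => ζ) (fun j hj => if_neg (Finset.mem_erase.1 hj).1),
          Finset.prod_const, Finset.card_erase_of_mem (Finset.mem_univ k), Finset.card_univ,
          Fintype.card_fin]
        calc ζ * m * ζ ^ (n - 1) = m * ζ ^ (n - 1 + 1) := by ring
          _ = 1 := by
            rw [show n - 1 + 1 = n by omega, hmdef, inv_mul_cancel₀]
            intro h
            have h' := congrArg (fun w : F => w ^ (q + 1)) h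
            simp only [← pow_mul, mul_comm n (q + 1), pow_mul ζ, hζ, one_pow,
              zero_pow (Nat.succ_ne_zero q)] at h'
            exact one_ne_zero h')
    have : z * glRefl q (Pi.single k 1) m = d := gl_ext_mulVec fun v => funext fun j => by
      rw [Units.val_mul, ← Matrix.mulVec_mulVec, hzv, glRefl_apply hF (o.1 k) hm, herm_single hF,
        hdx, Pi.smul_apply, Pi.add_apply, Pi.smul_apply, smul_eq_mul, smul_eq_mul]
      rcases eq_or_ne j k with rfl | hj
      · simp; ring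
      · simp [hj]
    rw [this]; exact hdM
  have hcolM : ∀ g ∈ M, ∀ i : Fin n,
      z * glRefl q ((g : Matrix (Fin n) (Fin n) F) *ᵥ Pi.single i 1) m ∈ M := by
    intro g hgM i
    rw [← glRefl_conj hF (hMK hgM).1 (o.1 i) hm, ← mul_assoc, ← mul_assoc, hzc g, mul_assoc g]
    exact mul_mem (mul_mem hgM (hzk i)) (inv_mem hgM)
  have hcols : ∀ g ∈ M, ∀ i, Linked q M m ((g : Matrix (Fin n) (Fin n) F) *ᵥ Pi.single i 1) := by
    intro g hgM i
    refine ⟨((hMK hgM).1 _ _).trans (o.1 i), fun k => ?_⟩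
    have := mul_mem (hcolM g hgM i) (inv_mem (hzk k))
    rwa [mul_inv_rev, ← mul_assoc, mul_assoc z, hzc, mul_inv_cancel_right] at this
  exact ⟨ζ, m, hζ, hord, hm, hm1, hmdef, fun g hgM i => ⟨hcols g hgM i, _, hcolM g hgM i,
    fun v => by rw [Units.val_mul, ← Matrix.mulVec_mulVec, hzv]⟩⟩

end FourLow

/-- Four norms of sum one whose pairs all sum to 0 or 1 are halves up to sign. -/
theorem four_pattern (h2 : (2 : F) ≠ 0) {N : Fin 4 → F} (hN : ∀ j, N j ≠ 0) (hs : ∑ j, N j = 1)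
    (hor : ∀ k l, k ≠ l → N k + N l = 0 ∨ N k + N l = 1) :
    (∀ j, (2 * N j) ^ 2 = 1) ∧ ∃ i, 2 * N i = 1 := by
  rw [Fin.sum_univ_four] at hs
  obtain ⟨A, hA, eA⟩ : ∃ A : F, (A = 0 ∨ A = 1) ∧ N 0 + N 1 = A := ⟨_, hor 0 1 (by decide), rfl⟩
  obtain ⟨B, hB, eB⟩ : ∃ B : F, (B = 0 ∨ B = 1) ∧ N 0 + N 2 = B := ⟨_, hor 0 2 (by decide), rfl⟩
  obtain ⟨C, hC, eC⟩ : ∃ C : F, (C = 0 ∨ C = 1) ∧ N 0 + N 3 = C := ⟨_, hor 0 3 (by decide), rfl⟩
  have e0 : 2 * N 0 = A + B + C - 1 := by linear_combination eA + eB + eC - hs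
  have e1 : 2 * N 1 = A - B - C + 1 := by linear_combination eA - eB - eC + hs
  have e2 : 2 * N 2 = B - A - C + 1 := by linear_combination eB - eA - eC + hs
  have e3 : 2 * N 3 = C - A - B + 1 := by linear_combination eC - eA - eB + hs
  have nz : ∀ j, 2 * N j ≠ 0 := fun j => mul_ne_zero h2 (hN j)
  have n0 := nz 0; have n1 := nz 1; have n2 := nz 2; have n3 := nz 3
  refine ⟨fun j => ?_, ?_⟩
  · rcases hA with rfl | rfl <;> rcases hB with rfl | rfl <;> rcases hC with rfl | rfl <;>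
      norm_num at e0 e1 e2 e3 <;> fin_cases j <;> simp_all
  · rcases hA with rfl | rfl <;> rcases hB with rfl | rfl <;> rcases hC with rfl | rfl <;>
      norm_num at e0 e1 e2 e3 <;>
        first
          | exact ⟨0, e0⟩
          | exact ⟨1, e1⟩
          | exact ⟨2, e2⟩
          | simp_all

section Four

variable {M : Subgroup (Matrix.GeneralLinearGroup (Fin 4) F)} (hF : Fintype.card F = q ^ 2)
  (hHM : ∀ g ∈ suGL 4 F q, IsMon g → g ∈ M)
include hF hHM

/-- One coordinate as a block. -/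
theorem four_point (hq : 3 ≤ q) (hMK : M ≤ suGL 4 F q) {ζ m : F} (hζ : ζ ^ (q + 1) = 1)
    (hd : ∀ d : ℕ, 1 ≤ d → d ≤ 3 → ζ ^ (4 * d) ≠ 1) (hm : m ^ (q + 1) = 1) (hm1 : m ≠ 1)
    (hcols : ∀ g ∈ M, ∀ i : Fin 4, Linked q M m ((g : Matrix (Fin 4) (Fin 4) F) *ᵥ Pi.single i 1))
    {x : Fin 4 → F} (hx : Cfsg.hermForm 4 F q x x = 1) (hall : ∀ j, x j ≠ 0)
    {X : Matrix.GeneralLinearGroup (Fin 4) F} (hXM : X ∈ M)
    (hX : ∀ v, (X : Matrix (Fin 4) (Fin 4) F) *ᵥ v = ζ • ((glRefl q x m : Matrix (Fin 4) (Fin 4) F) *ᵥ v))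
    {k : Fin 4} (hk : x k * x k ^ q ≠ 1) : suGL 4 F q ≤ M := by
  classical
  have hζ0 : ζ ≠ 0 := fun h => by simp [h] at hζ
  have hζe : ∀ e : ℕ, (ζ ^ e) ^ (q + 1) = 1 := fun e => by rw [← pow_mul, mul_comm, pow_mul, hζ, one_pow]
  choose T hTM _hTU _hTm hTx using fun e : Fin 4 => exists_diagM hF hHM
    (fun j => ζ ^ (e : ℕ) * if j ∈ ({k} : Finset (Fin 4)) then (ζ ^ (4 * (e : ℕ)))⁻¹ else 1)
    (fun j => by
      rw [mul_pow, hζe, one_mul]
      split_ifs
      exacts [inv_pow_succ _ (hζe _), one_pow _])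
    (by
      rw [Finset.prod_mul_distrib, Finset.prod_ite_mem, Finset.univ_inter, Finset.prod_singleton,
        Finset.prod_const, Finset.card_univ, Fintype.card_fin, ← pow_mul, mul_comm (e : ℕ) 4,
        mul_inv_cancel₀ (pow_ne_zero _ hζ0)])
  have hν : Function.Injective fun e : Fin 4 => (ζ ^ (4 * (e : ℕ)))⁻¹ := by
    intro a b h
    by_contra hne
    wlog hlt : (a : ℕ) < (b : ℕ) generalizing a b
    · exact this h.symm (Ne.symm hne) (lt_of_le_of_ne (not_lt.1 hlt) fun e => hne (Fin.ext e.symm))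
    refine hd ((b : ℕ) - (a : ℕ)) (by omega) (by omega)
      (mul_left_cancel₀ (pow_ne_zero (4 * (a : ℕ)) hζ0) ?_)
    rw [← pow_add, mul_one, ← mul_add, Nat.add_sub_cancel' hlt.le]
    exact (inv_injective h).symm
  have hsum : ∑ j ∈ ({k} : Finset (Fin 4)), x j * x j ^ q = x k * x k ^ q := Finset.sum_singleton _ _
  obtain ⟨g, hgM, cA, cB, d, d', h1, -, -, -⟩ := exists_restr_swap hF hMK hx {k}
    (by rw [hsum]; exact mul_ne_zero (hall k) (pow_ne_zero _ (hall k))) (by rw [hsum]; exact hk) hm hm1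
    hXM hX T (fun e => (ζ ^ (4 * (e : ℕ)))⁻¹) hν hTM
    (fun e => ⟨ζ ^ (e : ℕ), pow_ne_zero _ hζ0, fun v j => hTx e v j⟩)
  have e : restr ({k} : Finset (Fin 4)) x = x k • Pi.single k 1 := funext fun j => by
    rcases eq_or_ne j k with rfl | hj
    · simp [restr]
    · simp [restr, hj]
  rw [e, Matrix.mulVec_smul] at h1
  have hsupp : supp ((g : Matrix (Fin 4) (Fin 4) F) *ᵥ Pi.single k 1) = ({k} : Finset (Fin 4))ᶜ := by
    have hd : d ≠ 0 := by
      rintro rfl
      rw [zero_smul, smul_eq_zero] at h1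
      have h2 := Matrix.mulVec_injective_iff_isUnit.2 (Units.isUnit g)
        ((h1.resolve_left (hall k)).trans (Matrix.mulVec_zero _).symm)
      simpa using congrFun h2 k
    ext j
    have e1 := congrFun h1 j
    rw [Pi.smul_apply, Pi.smul_apply, smul_eq_mul, smul_eq_mul] at e1
    rw [mem_supp]
    constructor
    · intro hj
      by_contra hjk
      rw [restr_notMem hjk, mul_zero] at e1
      exact mul_ne_zero (hall k) hj e1
    · intro hj h0
      rw [restr_mem hj, h0, mul_zero] at e1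
      exact mul_ne_zero hd (hall j) e1.symm
  have hc : (supp ((g : Matrix (Fin 4) (Fin 4) F) *ᵥ Pi.single k 1)).card = 4 - 1 := by
    rw [hsupp, Finset.card_compl, Fintype.card_fin, Finset.card_singleton]
  exact four_linked hF le_rfl hHM hq hm (hcols g hgM k)
    (not_mon_of_three hF (hcols g hgM k).1 hm hm1 (by omega)) (by omega)

/-- Two coordinates as a block. -/
theorem four_pair (hq : 4 ≤ q) (hMK : M ≤ suGL 4 F q) {ζ m c ν : F} (hc : c ^ (q + 1) = 1)
    (hν : ν ^ (q + 1) = 1) (hcν : c ^ 4 * (ν * ν) = 1) (hd : ∀ d : ℕ, 1 ≤ d → d ≤ 3 → ν ^ d ≠ 1)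
    (hm : m ^ (q + 1) = 1) (hm1 : m ≠ 1)
    {x : Fin 4 → F} (hx : Cfsg.hermForm 4 F q x x = 1) (hall : ∀ j, x j ≠ 0) {k l : Fin 4} (hkl : k ≠ l)
    (hN0 : x k * x k ^ q + x l * x l ^ q ≠ 0) (hN1 : x k * x k ^ q + x l * x l ^ q ≠ 1)
    {X : Matrix.GeneralLinearGroup (Fin 4) F} (hXM : X ∈ M)
    (hX : ∀ v, (X : Matrix (Fin 4) (Fin 4) F) *ᵥ v = ζ • ((glRefl q x m : Matrix (Fin 4) (Fin 4) F) *ᵥ v)) :
    suGL 4 F q ≤ M := by
  classical
  have hc0 : c ≠ 0 := fun h => by simp [h] at hc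
  have hν0 : ν ≠ 0 := fun h => by simp [h] at hν
  choose T hTM _hTU _hTm hTx using fun e : Fin 4 => exists_diagM hF hHM
    (fun j => c ^ (e : ℕ) * if j ∈ ({k, l} : Finset (Fin 4)) then ν ^ (e : ℕ) else 1)
    (fun j => by
      rw [mul_pow, ← pow_mul, mul_comm (e : ℕ), pow_mul, hc, one_pow, one_mul]
      split_ifs
      · rw [← pow_mul, mul_comm, pow_mul, hν, one_pow]
      · exact one_pow _)
    (by
      rw [Finset.prod_mul_distrib, Finset.prod_ite_mem, Finset.univ_inter, Finset.prod_pair hkl,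
        Finset.prod_const, Finset.card_univ, Fintype.card_fin, ← pow_mul, mul_comm (e : ℕ) 4, pow_mul,
        ← mul_pow, ← mul_pow, hcν, one_pow])
  have hinj : Function.Injective fun e : Fin 4 => ν ^ (e : ℕ) := by
    intro a b h
    by_contra hne
    wlog hlt : (a : ℕ) < (b : ℕ) generalizing a b
    · exact this h.symm (Ne.symm hne) (lt_of_le_of_ne (not_lt.1 hlt) fun e => hne (Fin.ext e.symm))
    refine hd ((b : ℕ) - (a : ℕ)) (by omega) (by omega)
      (mul_left_cancel₀ (pow_ne_zero (a : ℕ) hν0) ?_)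
    rw [← pow_add, mul_one, Nat.add_sub_cancel' hlt.le]
    exact h.symm
  have hsum : ∑ j ∈ ({k, l} : Finset (Fin 4)), x j * x j ^ q = x k * x k ^ q + x l * x l ^ q :=
    Finset.sum_pair hkl
  obtain ⟨σ, hσM, cA, cB, d, d', h1, h2', h3', h4⟩ := exists_restr_swap hF hMK hx {k, l}
    (by rw [hsum]; exact hN0) (by rw [hsum]; exact hN1) hm hm1 hXM hX
    T (fun e => ν ^ (e : ℕ)) hinj hTM (fun e => ⟨c ^ (e : ℕ), pow_ne_zero _ hc0, fun v j => hTx e v j⟩)
  exact four_block hF le_rfl hHM hq hMK hkl (hall k) (hall l) hN0 hN1 hx hσM h1 h2' h3' h4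
    hν (hd 2 (by norm_num) (by norm_num)) hc0 (hTM 1) (fun v j => by simpa using hTx 1 v j)

/-- The monomial subgroup of SU in dimension four, q ≥ 4. -/
theorem mono_le_four_big (hq : 4 ≤ q) (hMK : M ≤ suGL 4 F q)
    {g : Matrix.GeneralLinearGroup (Fin 4) F} (hgM : g ∈ M) (hgm : ¬ IsMon g) : suGL 4 F q ≤ M := by
  classical
  have H := hermForm_isHerm hF 4
  have o := single_orthonormal hF 4
  have hq3 : 3 ≤ q := by omega
  have hdvd : ¬ q + 1 ∣ 4 := fun h => by have := Nat.le_of_dvd (by norm_num) h; omega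
  obtain ⟨ζ, m, hζ, hord, hm, hm1, hmdef, hall'⟩ := four_scalar_cols hF le_rfl hHM hMK hdvd
  have hζ0 : ζ ≠ 0 := fun h => by simp [h] at hζ
  have hpow : ∀ e : ℕ, (q + 1 ∣ e) ↔ ζ ^ e = 1 := fun e => hord ▸ orderOf_dvd_iff_pow_eq_one
  have hcols : ∀ g ∈ M, ∀ i, Linked q M m ((g : Matrix (Fin 4) (Fin 4) F) *ᵥ Pi.single i 1) :=
    fun g hgM i => (hall' g hgM i).1
  have lt4 : ∀ {x : Fin 4 → F} (j : Fin 4), x j = 0 → (supp x).card < 4 := fun {x} j hj =>
    lt_of_lt_of_eq (Finset.card_lt_card ((Finset.ssubset_iff_of_subset (Finset.subset_univ _)).2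
      ⟨j, Finset.mem_univ _, fun h => mem_supp.1 h hj⟩)) (by rw [Finset.card_univ, Fintype.card_fin])
  -- a column of weight three
  have three : ∀ g ∈ M, ∀ i, ((supp ((g : Matrix (Fin 4) (Fin 4) F) *ᵥ Pi.single i 1)).card = 3) →
      suGL 4 F q ≤ M := fun g hgM i h =>
    four_linked hF le_rfl hHM hq3 hm (hcols g hgM i)
      (not_mon_of_three hF (hcols g hgM i).1 hm hm1 (by omega)) (by omega)
  -- a column with a good pair
  have pair : 5 ≤ q → ∀ g ∈ M, ∀ i (x : Fin 4 → F),
      x = (g : Matrix (Fin 4) (Fin 4) F) *ᵥ Pi.single i 1 → (∀ j, x j ≠ 0) → ∀ k l, k ≠ l →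
      x k * x k ^ q + x l * x l ^ q ≠ 0 → x k * x k ^ q + x l * x l ^ q ≠ 1 → suGL 4 F q ≤ M := by
    intro hq5 g hgM i x hxd hxall k l hkl h0 h1
    obtain ⟨X, hXM, hX⟩ := (hall' g hgM i).2
    rw [← hxd] at hX
    by_cases h5 : q = 5
    · refine four_pair hF hHM hq hMK hζ hζ ?_ (fun d h1 h3 h => ?_) hm hm1 (hxd ▸ (hcols g hgM i).1)
        hxall hkl h0 h1 hXM hX
      · rw [← sq, ← pow_add]; exact (hpow _).1 (by rw [h5])
      · have := Nat.le_of_dvd (by omega) ((hpow d).2 h); omega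
    · refine four_pair hF hHM hq hMK hζ (inv_pow_succ _ (show (ζ ^ 2) ^ (q + 1) = 1 by
          rw [← pow_mul, mul_comm, pow_mul, hζ, one_pow])) ?_ (fun d h1 h3 h => ?_) hm hm1
        (hxd ▸ (hcols g hgM i).1) hxall hkl h0 h1 hXM hX
      · field_simp
      · rw [inv_pow, inv_eq_one, ← pow_mul] at h
        have := Nat.le_of_dvd (by omega) ((hpow (2 * d)).2 h); omega
  -- a column of full weight
  have full : ∀ g ∈ M, ∀ i, (∀ j, ((g : Matrix (Fin 4) (Fin 4) F) *ᵥ Pi.single i 1) j ≠ 0) →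
      suGL 4 F q ≤ M := by
    intro g hgM i hxall
    obtain ⟨x, hxd⟩ : ∃ x, x = (g : Matrix (Fin 4) (Fin 4) F) *ᵥ Pi.single i 1 := ⟨_, rfl⟩
    rw [← hxd] at hxall
    have hx : Cfsg.hermForm 4 F q x x = 1 := hxd ▸ (hcols g hgM i).1
    obtain ⟨X, hXM, hX⟩ := (hall' g hgM i).2
    rw [← hxd] at hX
    have hs : ∑ j, x j * x j ^ q = 1 := hx
    by_cases hbad : q = 5 ∨ q = 7 ∨ q = 11
    swap
    · have hd : ∀ d : ℕ, 1 ≤ d → d ≤ 3 → ζ ^ (4 * d) ≠ 1 := fun d h1 h3 h => by
        have hd := (hpow _).2 h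
        have := Nat.le_of_dvd (by omega) hd
        interval_cases d <;> (have : q ≤ 11 := by omega) <;> interval_cases q <;> omega
      by_cases hone : ∀ k, x k * x k ^ q = 1
      · rw [Fin.sum_univ_four, hone, hone, hone, hone] at hs
        have h3 : (3 : F) = 0 := by linear_combination hs
        have hq4 : q ≠ 4 := fun h => by
          have h2 : ((q ^ 2 : ℕ) : F) = 0 := hF ▸ FiniteField.cast_card_eq_zero F
          subst h
          push_cast at h2
          exact one_ne_zero (show (1 : F) = 0 by linear_combination h2 - 5 * h3)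
        refine pair (by omega) g hgM i x hxd hxall 0 1 (by decide) ?_ ?_
        · rw [hone, hone]; exact fun h => one_ne_zero (show (1 : F) = 0 by linear_combination h3 - h)
        · rw [hone, hone]; exact fun h => one_ne_zero (show (1 : F) = 0 by linear_combination h)
      simp only [not_forall] at hone
      obtain ⟨k, hk⟩ := hone
      exact four_point hF hHM hq3 hMK hζ hd hm hm1 hcols hx hxall hXM hX hk
    by_cases hgood : ∃ k l, k ≠ l ∧ x k * x k ^ q + x l * x l ^ q ≠ 0 ∧ x k * x k ^ q + x l * x l ^ q ≠ 1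
    · obtain ⟨k, l, hkl, h0, h1⟩ := hgood
      exact pair (by omega) g hgM i x hxd hxall k l hkl h0 h1
    have hor : ∀ k l, k ≠ l → x k * x k ^ q + x l * x l ^ q = 0 ∨ x k * x k ^ q + x l * x l ^ q = 1 :=
      fun k l hkl => Classical.or_iff_not_imp_left.2 fun h0 =>
        Classical.byContradiction fun h1 => hgood ⟨k, l, hkl, h0, h1⟩
    have h2 : (2 : F) ≠ 0 := fun h => by
      have hc : ((q ^ 2 : ℕ) : F) = 0 := hF ▸ FiniteField.cast_card_eq_zero F
      rcases hbad with rfl | rfl | rfl <;> push_cast at hc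
      · exact one_ne_zero (show (1 : F) = 0 by linear_combination hc - 12 * h)
      · exact one_ne_zero (show (1 : F) = 0 by linear_combination hc - 24 * h)
      · exact one_ne_zero (show (1 : F) = 0 by linear_combination hc - 60 * h)
    obtain ⟨hsq, k, hk⟩ := four_pattern h2 (fun j => norm_fix_ne_zero hxall j) hs hor
    -- the new column
    obtain ⟨y, hy⟩ : ∃ y, y = (X : Matrix (Fin 4) (Fin 4) F) *ᵥ Pi.single k 1 := ⟨_, rfl⟩
    have hyv : ∀ j, y j = ζ * ((Pi.single k (1 : F) : Fin 4 → F) j + (m - 1) * x k ^ q * x j) := fun j => by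
      rw [hy, hX, refl_col hF hx hm]; rfl
    have hynz : ∀ j, j ≠ k → y j ≠ 0 := fun j hj => by
      rw [hyv, Pi.single_eq_of_ne hj, zero_add]
      exact mul_ne_zero hζ0 (mul_ne_zero (mul_ne_zero (sub_ne_zero.2 hm1)
        (pow_ne_zero _ (hxall k))) (hxall j))
    have hyk : 2 * y k = ζ * (1 + m) := by
      rw [hyv, Pi.single_eq_same]; linear_combination ζ * (m - 1) * hk
    by_cases h7 : q = 7
    · have hm2 : m ^ 2 = 1 := by
        rw [hmdef, inv_pow, ← pow_mul, inv_eq_one]; exact (hpow _).1 (by rw [h7])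
      have hmn : 1 + m = 0 := by
        have : (m - 1) * (1 + m) = 0 := by linear_combination hm2
        exact (mul_eq_zero.1 this).resolve_left (sub_ne_zero.2 hm1)
      have hy0 : y k = 0 := by
        rw [hmn, mul_zero] at hyk
        exact (mul_eq_zero.1 hyk).resolve_left h2
      refine three X hXM k ?_
      rw [← hy, show supp y = ({k} : Finset (Fin 4))ᶜ by
        ext j
        rw [mem_supp, Finset.mem_compl, Finset.mem_singleton]
        exact ⟨fun h e => h (e ▸ hy0), hynz j⟩, Finset.card_compl, Finset.card_singleton, Fintype.card_fin]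
    have hm3 : m ^ 3 = 1 := by
      rw [hmdef, inv_pow, ← pow_mul, inv_eq_one]; refine (hpow _).1 ?_
      rcases hbad with rfl | rfl | rfl
      · norm_num
      · exact absurd rfl h7
      · norm_num
    have ht : m + m ^ q = -1 := by
      have hqm : m ^ q = m ^ 2 := by
        obtain ⟨e, he⟩ : ∃ e, q = 3 * e + 2 := ⟨q / 3, by omega⟩
        rw [he, pow_add, pow_mul, hm3, one_pow, one_mul]
      have : (m - 1) * (m ^ 2 + m + 1) = 0 := by linear_combination hm3
      rw [hqm]
      linear_combination (mul_eq_zero.1 this).resolve_left (sub_ne_zero.2 hm1)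
    have hNy : 4 * (y k * y k ^ q) = 1 := by
      have h := congrArg (fun z : F => z * z ^ q) hyk
      simp only [mul_pow, add_pow_q hF, one_pow] at h
      have h2q : (2 : F) ^ q = 2 := by rw [show (2 : F) = 1 + 1 by norm_num, add_pow_q hF, one_pow]
      have hmm : m * m ^ q = 1 := by rw [← pow_succ']; exact hm
      have hzz : ζ * ζ ^ q = 1 := by rw [← pow_succ']; exact hζ
      rw [h2q] at h
      linear_combination h + (1 + m) * (1 + m ^ q) * hzz + ht + hmm
    have hyall : ∀ j, y j ≠ 0 := fun j => by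
      rcases eq_or_ne j k with rfl | hj
      · intro h; rw [h, zero_mul, mul_zero] at hNy; exact zero_ne_one hNy
      · exact hynz j hj
    have hys : ∑ j, y j * y j ^ q = 1 := by rw [hy]; exact (hcols X hXM k).1
    by_cases hgood' : ∃ a b, a ≠ b ∧ y a * y a ^ q + y b * y b ^ q ≠ 0 ∧ y a * y a ^ q + y b * y b ^ q ≠ 1
    · obtain ⟨a, b, hab, h0, h1⟩ := hgood'
      exact pair (by omega) X hXM k y hy hyall a b hab h0 h1
    obtain ⟨hsq', -⟩ := four_pattern h2 (fun j => norm_fix_ne_zero hyall j) hys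
      (fun a b hab => Classical.or_iff_not_imp_left.2 fun h0 =>
        Classical.byContradiction fun h1 => hgood' ⟨a, b, hab, h0, h1⟩)
    exfalso
    have h3 : (3 : F) = 0 := by
      linear_combination (4 * (y k * y k ^ q) + 1) * hNy - 4 * hsq' k
    have hc : ((q ^ 2 : ℕ) : F) = 0 := hF ▸ FiniteField.cast_card_eq_zero F
    rcases hbad with rfl | rfl | rfl
    · push_cast at hc; exact one_ne_zero (show (1 : F) = 0 by linear_combination hc - 8 * h3)
    · exact h7 rfl
    · push_cast at hc; exact one_ne_zero (show (1 : F) = 0 by linear_combination hc - 40 * h3)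
  obtain ⟨i, p, s, hps, hp, hs⟩ := exists_col_of_not_mon hgm
  obtain ⟨a, ha⟩ : ∃ a, a = (g : Matrix (Fin 4) (Fin 4) F) *ᵥ Pi.single i 1 := ⟨_, rfl⟩
  rw [← ha] at hp hs
  -- weights three and four are done
  by_cases hbig : ∃ i, 3 ≤ (supp ((g : Matrix (Fin 4) (Fin 4) F) *ᵥ Pi.single i 1)).card
  · obtain ⟨i, hi⟩ := hbig
    by_cases h4 : ∃ j, ((g : Matrix (Fin 4) (Fin 4) F) *ᵥ Pi.single i 1) j = 0
    · obtain ⟨j, hj⟩ := h4
      have := lt4 j hj
      exact three g hgM i (by omega)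
    · exact full g hgM i fun j hj => h4 ⟨j, hj⟩
  simp only [not_exists, not_le] at hbig
  have sp : ∀ (v : Fin 4 → F), (supp v).card < 3 → ∀ {a b : Fin 4}, a ≠ b → v a ≠ 0 → v b ≠ 0 →
      ∀ c, c ≠ a → c ≠ b → v c = 0 := by
    intro v hv a b hab ha hb c hca hcb
    by_contra hc
    have : ({c, a, b} : Finset (Fin 4)) ⊆ supp v := by
      intro x hx
      simp only [Finset.mem_insert, Finset.mem_singleton] at hx
      rcases hx with rfl | rfl | rfl <;> exact mem_supp.2 ‹_›
    have := Finset.card_le_card this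
    simp [hca, hcb, hab] at this
    omega
  have haoth := sp a (ha ▸ hbig i) hps hp hs
  have haL : Linked q M m a := ha ▸ hcols g hgM i
  by_cases hma : IsMon (glRefl q a m)
  swap
  · obtain ⟨t, htp, hts⟩ := exists_third (i := p) (j := s) (show 3 ≤ 4 by norm_num)
    exact four_linked hF le_rfl hHM hq3 hm haL hma (lt4 t (haoth t htp hts))
  -- the diagonal of a monomial reflection vanishes
  have dg : ∀ (v : Fin 4 → F), Cfsg.hermForm 4 F q v v = 1 → IsMon (glRefl q v m) →
      ∀ r r', r ≠ r' → v r ≠ 0 → v r' ≠ 0 → 1 + (m - 1) * (v r * v r ^ q) = 0 := by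
    intro v hv hmv r r' hrr hr hr'
    by_contra h0
    refine hrr (hmv.col r ?_ ?_)
    · rw [refl_col hF hv hm, Pi.add_apply, Pi.smul_apply, Pi.single_eq_same, smul_eq_mul]
      intro e; exact h0 (by linear_combination e)
    · rw [refl_col hF hv hm, Pi.add_apply, Pi.smul_apply, Pi.single_eq_of_ne hrr.symm, zero_add,
        smul_eq_mul]
      exact mul_ne_zero (mul_ne_zero (sub_ne_zero.2 hm1) (pow_ne_zero _ hr)) hr'
  have dp := dg a haL.1 hma p s hps hp hs
  have ds := dg a haL.1 hma s p hps.symm hs hp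
  have hsum : a p * a p ^ q + a s * a s ^ q = 1 := by
    rw [← haL.1]
    show _ = ∑ r, a r * a r ^ q
    rw [Finset.sum_eq_add p s hps (fun r _ hr => by rw [haoth r hr.1 hr.2, zero_mul])
      (fun h => absurd (Finset.mem_univ p) h) (fun h => absurd (Finset.mem_univ s) h)]
  have hmneg : m = -1 := by linear_combination dp + ds - (m - 1) * hsum
  have h2 : (2 : F) ≠ 0 := fun h => hm1 (by linear_combination hmneg - h)
  have hap : 2 * (a p * a p ^ q) = 1 := by linear_combination -dp + (a p * a p ^ q) * hmneg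
  -- a column outside the pair
  obtain ⟨t, htp, hts⟩ := exists_third (i := p) (j := s) (show 3 ≤ 4 by norm_num)
  obtain ⟨j, hj⟩ : ∃ j, ((g : Matrix (Fin 4) (Fin 4) F) *ᵥ Pi.single j 1) t ≠ 0 := by
    by_contra hc
    simp only [not_exists, not_not] at hc
    obtain ⟨x, hx⟩ := Matrix.mulVec_surjective_iff_isUnit.2 (Units.isUnit g) (Pi.single t 1)
    have := congrFun hx t
    rw [mulVec_eq_sum_cols, Finset.sum_apply, Pi.single_eq_same,
      Finset.sum_eq_zero (fun r _ => by rw [Pi.smul_apply, hc r, smul_zero])] at this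
    exact zero_ne_one this
  have hij : i ≠ j := by
    rintro rfl
    rw [← ha] at hj
    exact hj (haoth t htp hts)
  obtain ⟨b, hb⟩ : ∃ b, b = (g : Matrix (Fin 4) (Fin 4) F) *ᵥ Pi.single j 1 := ⟨_, rfl⟩
  rw [← hb] at hj
  have hbp : b p = 0 := by
    by_contra hbp
    have hbs : b s = 0 := sp b (hb ▸ hbig j) htp hj hbp s hts.symm hps.symm
    have e : Cfsg.hermForm 4 F q a b = 0 := by rw [ha, hb]; exact ((hMK hgM).1 _ _).trans (o.2 hij)
    rw [show Cfsg.hermForm 4 F q a b = ∑ r, a r * b r ^ q from rfl,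
      Finset.sum_eq_add p s hps (fun r _ hr => by rw [haoth r hr.1 hr.2, zero_mul])
        (fun h => absurd (Finset.mem_univ p) h) (fun h => absurd (Finset.mem_univ s) h),
      hbs, zero_pow_q hF, mul_zero, add_zero] at e
    exact mul_ne_zero hp (pow_ne_zero _ hbp) e
  -- conjugating a diagonal element
  obtain ⟨D, hDM, hD, -, hDx⟩ := exists_diagM hF hHM
    (fun r => if r = i then ζ else if r = j then ζ⁻¹ else 1)
    (fun r => by split_ifs; exacts [hζ, inv_pow_succ _ hζ, one_pow _])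
    (by
      rw [← Finset.prod_subset (Finset.subset_univ ({i, j} : Finset (Fin 4))) fun r _ hr => by
        simp only [Finset.mem_insert, Finset.mem_singleton, not_or] at hr
        simp [hr.1, hr.2], Finset.prod_pair hij]
      simp [hij.symm, hζ0])
  have hzM : g * D * g⁻¹ ∈ M := mul_mem (mul_mem hgM hDM) (inv_mem hgM)
  obtain ⟨w, hw⟩ : ∃ w, w = ((g⁻¹ : Matrix.GeneralLinearGroup (Fin 4) F) : Matrix (Fin 4) (Fin 4) F) *ᵥ
      Pi.single p 1 := ⟨_, rfl⟩
  have hgw : (g : Matrix (Fin 4) (Fin 4) F) *ᵥ w = Pi.single p 1 := by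
    rw [hw, Matrix.mulVec_mulVec, ← Units.val_mul, mul_inv_cancel, Units.val_one, Matrix.one_mulVec]
  have hwr : ∀ r, w r = (((g : Matrix (Fin 4) (Fin 4) F) *ᵥ Pi.single r 1) p) ^ q := by
    intro r
    have e : Cfsg.hermForm 4 F q ((g : Matrix (Fin 4) (Fin 4) F) *ᵥ w)
        ((g : Matrix (Fin 4) (Fin 4) F) *ᵥ Pi.single r 1) = Cfsg.hermForm 4 F q w (Pi.single r 1) :=
      (hMK hgM).1 _ _
    rw [hgw, herm_single hF, hermForm_single_left] at e
    exact e.symm
  have hDw : (D : Matrix (Fin 4) (Fin 4) F) *ᵥ w = w + ((ζ - 1) * a p ^ q) • Pi.single i 1 := by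
    funext r
    rw [hDx, Pi.add_apply, Pi.smul_apply, smul_eq_mul]
    rcases eq_or_ne r i with rfl | hri
    · rw [if_pos rfl, Pi.single_eq_same, hwr, ← ha]; ring
    rcases eq_or_ne r j with rfl | hrj
    · rw [Pi.single_eq_of_ne hri, hwr, ← hb, hbp, zero_pow_q hF]; ring
    · rw [if_neg hri, if_neg hrj, Pi.single_eq_of_ne hri]; ring
  obtain ⟨y, hy⟩ : ∃ y, y = Pi.single p 1 + ((ζ - 1) * a p ^ q) • a := ⟨_, rfl⟩
  have hzy : ((g * D * g⁻¹ : Matrix.GeneralLinearGroup (Fin 4) F) : Matrix (Fin 4) (Fin 4) F) *ᵥ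
      Pi.single p 1 = y := by
    rw [Units.val_mul, Units.val_mul, ← Matrix.mulVec_mulVec, ← Matrix.mulVec_mulVec, ← hw, hDw,
      Matrix.mulVec_add, Matrix.mulVec_smul, hgw, ← ha, hy]
  have hyL : Linked q M m y := hzy ▸ hcols _ hzM p
  have hys' : y s ≠ 0 := by
    rw [hy, Pi.add_apply, Pi.smul_apply, Pi.single_eq_of_ne hps.symm, zero_add, smul_eq_mul]
    refine mul_ne_zero (mul_ne_zero (sub_ne_zero.2 fun h => ?_) (pow_ne_zero _ hp)) hs
    have := Nat.le_of_dvd (by norm_num) ((hpow 1).2 (by rw [pow_one]; exact h))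
    omega
  have hyp : 2 * y p = 1 + ζ := by
    rw [hy, Pi.add_apply, Pi.smul_apply, Pi.single_eq_same, smul_eq_mul]
    linear_combination (ζ - 1) * hap
  have hyp0 : y p ≠ 0 := fun h => by
    rw [h, mul_zero] at hyp
    have := Nat.le_of_dvd (by norm_num) ((hpow 2).2 (by linear_combination (1 - ζ) * hyp))
    omega
  refine four_linked hF le_rfl hHM hq3 hm hyL (fun hmy => ?_) (lt4 t ?_)
  · have hz2 : ζ ^ 4 = 1 := by
      have e := dg y hyL.1 hmy p s hps hyp0 hys'
      have h := congrArg (fun z : F => z * z ^ q) hyp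
      have h2q : (2 : F) ^ q = 2 := by rw [show (2 : F) = 1 + 1 by norm_num, add_pow_q hF, one_pow]
      simp only [mul_pow, add_pow_q hF, one_pow, h2q] at h
      have hzz : ζ * ζ ^ q = 1 := by rw [← pow_succ']; exact hζ
      have h5 : ζ + ζ ^ q = 0 := by
        linear_combination -h + (-2) * e - hzz + 2 * (y p * y p ^ q) * hmneg
      have h6 : ζ ^ 2 = -1 := by linear_combination ζ * h5 - hzz
      rw [show ζ ^ 4 = (ζ ^ 2) ^ 2 by ring, h6]; ring
    have := Nat.le_of_dvd (by norm_num) ((hpow 4).2 hz2)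
    omega
  · rw [hy, Pi.add_apply, Pi.smul_apply, Pi.single_eq_of_ne htp, haoth t htp hts, smul_zero, add_zero]

/-- The monomial subgroup of SU in dimension four, q = 2. -/
theorem mono_le_four_two (hq2 : q = 2) (hMK : M ≤ suGL 4 F q)
    {g : Matrix.GeneralLinearGroup (Fin 4) F} (hgM : g ∈ M) (hgm : ¬ IsMon g) : suGL 4 F q ≤ M := by
  classical
  have H := hermForm_isHerm hF 4
  have o := single_orthonormal hF 4
  subst hq2
  have h2 : (2 : F) = 0 := by
    have h : ((2 ^ 2 : ℕ) : F) = 0 := hF ▸ FiniteField.cast_card_eq_zero F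
    exact (pow_eq_zero_iff (n := 2) (by norm_num)).1 (by push_cast at h ⊢; linear_combination h)
  have cube : ∀ {a : F}, a ≠ 0 → a ^ 3 = 1 := fun {a} ha => cube_one hF rfl ha
  have nrm : ∀ {a : F}, a ≠ 0 → a * a ^ 2 = 1 := fun {a} ha => by rw [← pow_succ']; exact cube ha
  -- weight two
  have two : ∀ (i j : Fin 4) (α : F), i ≠ j → α ≠ 0 → pairVec i j 1 α ∈ centres 2 M := by
    intro i j α hij hα
    have hv : Cfsg.hermForm 4 F 2 (pairVec i j 1 α) (pairVec i j 1 α) = 0 := by
      rw [herm_pairVec hF le_rfl hHM hij, pairVec_left hij, pairVec_right hij, one_pow, nrm hα]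
      linear_combination h2
    refine OneCentre.centre h2 rfl ⟨hv, fun t ht => hHM t ?_ ⟨Equiv.swap i j, fun r => ?_⟩⟩
    · rw [show t = glTransvection hF _ hv 1 (one_skew h2) from Units.ext ht]
      exact suToGU_mem_suGL _
    rw [ht, transvection_mulVec, hermForm_single_left, one_mul]
    rcases eq_or_ne r i with rfl | hri
    · refine ⟨α, funext fun l => ?_⟩
      rw [Equiv.swap_apply_left, pairVec_left hij]
      rcases eq_or_ne l r with rfl | hlr
      · simp [pairVec_left hij, hij]; linear_combination h2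
      rcases eq_or_ne l j with rfl | hlj
      · simp [pairVec_right hij, hlr]
      · simp [pairVec_other hlr hlj, hlr, hlj]
    rcases eq_or_ne r j with rfl | hrj
    · refine ⟨α ^ 2, funext fun l => ?_⟩
      rw [Equiv.swap_apply_right, pairVec_right hij]
      rcases eq_or_ne l r with rfl | hlr
      · simp [pairVec_right hij, hij]; linear_combination nrm hα + h2
      rcases eq_or_ne l i with rfl | hli
      · simp [pairVec_left hij, hlr]
      · simp [pairVec_other hli hlr, hli, hlr]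
    · refine ⟨1, ?_⟩
      rw [Equiv.swap_apply_of_ne_of_ne hri hrj, pairVec_other hri hrj, zero_pow_q hF, zero_smul,
        add_zero, one_smul]
  -- a full centre gives all
  suffices hfull : ∃ v, v ∈ centres 2 M ∧ ∀ r, v r ≠ 0 by
    obtain ⟨v, hv, hall⟩ := hfull
    refine le_of_centres hF (Or.inl le_rfl) fun u hu => ?_
    by_cases hua : ∀ r, u r ≠ 0
    · obtain ⟨P, hP⟩ : ∃ P, P = ∏ r, u r / v r := ⟨_, rfl⟩
      have hP0 : P ≠ 0 := hP ▸ Finset.prod_ne_zero_iff.2 fun r _ => div_ne_zero (hua r) (hall r)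
      have hdiv : ∀ r, (u r / v r) * P ^ 2 ≠ 0 := fun r =>
        mul_ne_zero (div_ne_zero (hua r) (hall r)) (pow_ne_zero _ hP0)
      obtain ⟨d, hdM, hd, -, hdx⟩ := exists_diagM hF hHM (fun r => (u r / v r) * P ^ 2)
        (fun r => cube (hdiv r)) (by
          rw [Finset.prod_mul_distrib, Finset.prod_const, ← hP, Finset.card_univ, Fintype.card_fin]
          calc P * (P ^ 2) ^ 4 = (P ^ 3) ^ 3 := by ring
            _ = 1 := by rw [cube hP0, one_pow])
      have h := centres_smul hF (centres_conj hdM hd hv) P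
      convert h using 1
      funext r
      rw [Pi.smul_apply, smul_eq_mul, hdx]
      field_simp [hall r]
      linear_combination -(u r) * cube hP0
    simp only [not_forall, not_not] at hua
    obtain ⟨t, ht⟩ := hua
    by_cases hu0 : u = 0
    · rw [hu0, ← zero_smul F (pairVec (0 : Fin 4) 1 (1 : F) 1)]
      exact centres_smul hF (two 0 1 1 (by decide) one_ne_zero) 0
    have hcnt : ((supp u).card : F) = 0 := by
      rw [← hu, herm_self_supp hF, Finset.sum_congr rfl (fun r hr => nrm (mem_supp.1 hr)),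
        Finset.sum_const, nsmul_eq_mul, mul_one]
    have hlt : (supp u).card < 4 := lt_of_lt_of_eq (Finset.card_lt_card
      ((Finset.ssubset_iff_of_subset (Finset.subset_univ _)).2
        ⟨t, Finset.mem_univ _, fun h => mem_supp.1 h ht⟩)) (by rw [Finset.card_univ, Fintype.card_fin])
    have hne : (supp u).card ≠ 0 := fun h => hu0 (funext fun r =>
      eq_zero_of_notMem_supp (by rw [Finset.card_eq_zero.1 h]; simp))
    have hc2 : (supp u).card = 2 := by
      have : (supp u).card = 1 ∨ (supp u).card = 2 ∨ (supp u).card = 3 := by omega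
      rcases this with h | h | h
      · simp [h] at hcnt
      · exact h
      · exfalso; rw [h] at hcnt; push_cast at hcnt
        exact one_ne_zero (show (1 : F) = 0 by linear_combination hcnt - h2)
    obtain ⟨i, j, hij, he⟩ := Finset.card_eq_two.1 hc2
    have hi : u i ≠ 0 := mem_supp.1 (by simp [he])
    have hj : u j ≠ 0 := mem_supp.1 (by simp [he])
    have h := centres_smul hF (two i j (u j / u i) hij (div_ne_zero hj hi)) (u i)
    convert h using 1
    funext r
    rw [Pi.smul_apply, smul_eq_mul]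
    rcases eq_or_ne r i with rfl | hri
    · rw [pairVec_left hij, mul_one]
    rcases eq_or_ne r j with rfl | hrj
    · rw [pairVec_right hij, mul_div_cancel₀ _ hi]
    · rw [pairVec_other hri hrj, mul_zero]
      exact eq_zero_of_notMem_supp (by simp [he, hri, hrj])
  -- a column of weight three and one through the remaining coordinate
  obtain ⟨i, p, s, hps, hp, hs⟩ := exists_col_of_not_mon hgm
  obtain ⟨a, ha⟩ : ∃ a, a = (g : Matrix (Fin 4) (Fin 4) F) *ᵥ Pi.single i 1 := ⟨_, rfl⟩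
  rw [← ha] at hp hs
  have w1 : ∀ r, ((supp ((g : Matrix (Fin 4) (Fin 4) F) *ᵥ Pi.single r 1)).card : F) = 1 := fun r => by
    have h : Cfsg.hermForm 4 F 2 ((g : Matrix (Fin 4) (Fin 4) F) *ᵥ Pi.single r 1)
        ((g : Matrix (Fin 4) (Fin 4) F) *ᵥ Pi.single r 1) = 1 := ((hMK hgM).1 _ _).trans (o.1 r)
    rw [herm_self_supp hF, Finset.sum_congr rfl (fun r hr => nrm (mem_supp.1 hr)),
      Finset.sum_const, nsmul_eq_mul, mul_one] at h
    exact h
  have odd : ∀ r, (supp ((g : Matrix (Fin 4) (Fin 4) F) *ᵥ Pi.single r 1)).card = 1 ∨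
      (supp ((g : Matrix (Fin 4) (Fin 4) F) *ᵥ Pi.single r 1)).card = 3 := fun r => by
    have h := w1 r
    have hle := Finset.card_le_univ (supp ((g : Matrix (Fin 4) (Fin 4) F) *ᵥ Pi.single r 1))
    rw [Fintype.card_fin] at hle
    interval_cases hc : (supp ((g : Matrix (Fin 4) (Fin 4) F) *ᵥ Pi.single r 1)).card <;>
      first
        | exact Or.inl rfl
        | exact Or.inr rfl
        | (exfalso; push_cast at h; exact one_ne_zero (show (1 : F) = 0 by
            first
              | linear_combination -h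
              | linear_combination -h + h2
              | linear_combination -h + 2 * h2))
  have ha3 : (supp a).card = 3 := by
    rcases odd i with h | h
    · rw [← ha] at h
      exact absurd (Finset.card_le_one.1 h.le p (mem_supp.2 hp) s (mem_supp.2 hs)) hps
    · rw [ha]; exact h
  obtain ⟨t, ht⟩ := exists_notMem_of_card_lt (S := supp a) (by omega)
  obtain ⟨j, hj⟩ : ∃ j, ((g : Matrix (Fin 4) (Fin 4) F) *ᵥ Pi.single j 1) t ≠ 0 := by
    by_contra hc
    simp only [not_exists, not_not] at hc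
    obtain ⟨x, hx⟩ := Matrix.mulVec_surjective_iff_isUnit.2 (Units.isUnit g) (Pi.single t 1)
    have := congrFun hx t
    rw [mulVec_eq_sum_cols, Finset.sum_apply, Pi.single_eq_same,
      Finset.sum_eq_zero (fun r _ => by rw [Pi.smul_apply, hc r, smul_zero])] at this
    exact zero_ne_one this
  have hij : i ≠ j := by
    rintro rfl
    rw [← ha] at hj
    exact hj (eq_zero_of_notMem_supp ht)
  obtain ⟨b, hb⟩ : ∃ b, b = (g : Matrix (Fin 4) (Fin 4) F) *ᵥ Pi.single j 1 := ⟨_, rfl⟩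
  rw [← hb] at hj
  -- at most two of the three values are bad
  have hI : (supp a ∩ supp b).card ≤ 2 := by
    have : insert t (supp a ∩ supp b) ⊆ supp b :=
      Finset.insert_subset (mem_supp.2 hj) Finset.inter_subset_right
    have := Finset.card_le_card this
    rw [Finset.card_insert_of_notMem (fun h => ht (Finset.mem_inter.1 h).1)] at this
    rcases odd j with h | h <;> rw [← hb] at h <;> omega
  obtain ⟨α, hα, hαB⟩ : ∃ α : F, α ≠ 0 ∧ α ∉ (supp a ∩ supp b).image fun r => -(a r / b r) := by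
    by_contra! hc
    have hsub : (Finset.univ.erase (0 : F)) ⊆ (supp a ∩ supp b).image fun r => -(a r / b r) :=
      fun x hx => hc x (Finset.mem_erase.1 hx).1
    have := (Finset.card_le_card hsub).trans Finset.card_image_le
    rw [Finset.card_erase_of_mem (Finset.mem_univ _), Finset.card_univ, hF] at this
    omega
  have hmove := centres_conj hgM (hMK hgM) (two i j α hij hα)
  refine ⟨_, hmove, fun r => ?_⟩
  have e : pairVec i j (1 : F) α = Pi.single i 1 + α • Pi.single j 1 := by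
    rw [← Pi.single_smul, smul_eq_mul, mul_one]; rfl
  rw [e, Matrix.mulVec_add, Matrix.mulVec_smul, ← ha, ← hb, Pi.add_apply, Pi.smul_apply, smul_eq_mul]
  by_cases har : r ∈ supp a
  · intro h0
    by_cases hbr : b r = 0
    · rw [hbr, mul_zero, add_zero] at h0; exact mem_supp.1 har h0
    refine hαB (Finset.mem_image.2 ⟨r, Finset.mem_inter.2 ⟨har, mem_supp.2 hbr⟩, ?_⟩)
    field_simp
    linear_combination -h0
  · have hrt : r = t := by
      by_contra hrt
      have : insert r (insert t (supp a)) ⊆ Finset.univ := Finset.subset_univ _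
      have := Finset.card_le_card this
      rw [Finset.card_insert_of_notMem (by simp [har, hrt]), Finset.card_insert_of_notMem ht, ha3,
        Finset.card_univ, Fintype.card_fin] at this
      omega
    rw [eq_zero_of_notMem_supp har, zero_add, hrt]
    exact mul_ne_zero hα hj

end Four

/-- The frame stabiliser is maximal in SU_4, q ≠ 3. -/
theorem isMaximalIn_frame_stabilizer_four (hF : Fintype.card F = q ^ 2) (hq3 : q ≠ 3) {t : ℕ}
    (D : Fin t → Submodule F (Fin 4 → F))
    (hD : Cfsg.Geo.IsNondegenerateMDecomposition (Cfsg.hermForm 4 F q) 1 D) :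
    Cfsg.Geo.IsMaximalIn (Cfsg.GU 4 F q ⊓ Cfsg.Geo.specialLinear (Fin 4) F)
      (Cfsg.Geo.decompositionStabilizer D ⊓ (Cfsg.GU 4 F q ⊓ Cfsg.Geo.specialLinear (Fin 4) F)) := by
  classical
  obtain ⟨b, hb, hmem⟩ := exists_frame_of_decomposition hF hD
  have hdim : ∀ i, Module.finrank F (D i) = 1 := hD.1.finrank_eq
  have iff : ∀ g : Matrix.GeneralLinearGroup (Fin 4) F,
      g ∈ Cfsg.Geo.decompositionStabilizer D ↔ InStab b g := fun g =>
    mem_decompositionStabilizer_iff hF hmem hdim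
  refine isMaximalIn_of_forall inf_le_right ?_ fun M hHM hMK g hgM hgH => ?_
  · obtain ⟨g, hg, hgH⟩ := exists_outside_mono hF le_rfl hb
    exact ⟨g, hg, fun h => hgH ((iff g).1 h.1)⟩
  obtain ⟨c, hc, hiff⟩ := exists_frame_conj hF (by norm_num) hb
  let M' := M.comap (MulAut.conj c).toMonoidHom
  have hmem' : ∀ h, h ∈ M' ↔ c * h * c⁻¹ ∈ M := fun h => Iff.rfl
  have hMK' : M' ≤ suGL 4 F q := fun h hh => by
    rw [show h = c⁻¹ * (c * h * c⁻¹) * c by group]
    exact mul_mem (mul_mem (inv_mem hc) (hMK ((hmem' h).1 hh))) hc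
  have hg' : c * (c⁻¹ * g * c) * c⁻¹ = g := by group
  have hHM' : ∀ h ∈ suGL 4 F q, IsMon h → h ∈ M' := fun h hh hm => by
    have hK : c * h * c⁻¹ ∈ suGL 4 F q := mul_mem (mul_mem hc hh) (inv_mem hc)
    exact (hmem' h).2 (hHM ⟨(iff _).2 ((hiff h).1 hm), hK⟩)
  have hgm : ¬ IsMon (c⁻¹ * g * c) := fun hm => hgH
    ⟨(iff g).2 (by have := (hiff _).1 hm; rwa [hg'] at this), hMK hgM⟩
  have hgM' := (hmem' (c⁻¹ * g * c)).2 (by rw [hg']; exact hgM)
  have hle : suGL 4 F q ≤ M' := by
    by_cases hq2 : q = 2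
    · exact mono_le_four_two hF hHM' hq2 hMK' hgM' hgm
    · have := two_le_q hF
      exact mono_le_four_big hF hHM' (by omega) hMK' hgM' hgm
  intro x hx
  have := (hmem' _).1 (hle (mul_mem (mul_mem (inv_mem hc) hx) hc))
  rwa [show c * (c⁻¹ * x * c) * c⁻¹ = x by group] at this

end Cfsg.Agent.Unitary
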