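import Cfsg.Agent.Lib.Unitary.Center
import Cfsg.Agent.Lib.Unitary.Transvection
import Cfsg.Agent.Lib.Forms.Witt
/-
Witt's theorem for GU and SU, from the general one in Lib/Forms/Witt.
* hermSesq: hermForm as a sesquilinear map
* exists_gu_witt: two linearly independent families with equal Gram matrices are conjugate in GU
* exists_su_witt: also in SU, if some norm-one vector is orthogonal to the target family
* Orthonormal.snoc, exists_eps (norm -1), isotropic_split (an isotropic vector v ⊥ b is a + e a')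
-/
set_option autoImplicit false

namespace Cfsg.Agent.Unitary

open scoped Matrix

variable {F : Type*} [Field F] [Fintype F] {q n : ℕ}

/-- The hermitian form as a map semilinear in the first variable: `B u v = h v u`. -/
def hermSesq (hF : Fintype.card F = q ^ 2) (n : ℕ) :
    (Fin n → F) →ₛₗ[conjHom hF] (Fin n → F) →ₗ[F] F :=
  LinearMap.mk₂'ₛₗ (conjHom hF) (RingHom.id F) (fun u v => Cfsg.hermForm n F q v u)
    (fun u u' v => (hermForm_isHerm hF n).add_right hF v u u')
    (fun c u v => (hermForm_isHerm hF n).smul_right c v u)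
    (fun u v v' => (hermForm_isHerm hF n).add_left v v' u)
    (fun c u v => (hermForm_isHerm hF n).smul_left c v u)

theorem conjHom_ne_id (hF : Fintype.card F = q ^ 2) : conjHom hF ≠ RingHom.id F := by
  intro h
  obtain ⟨x, hx⟩ : ∃ x : F, x ^ q ≠ x := by
    by_contra hc
    simp only [not_exists, not_not] at hc
    have h1 := card_fixed hF
    have h2 : Nat.card {x : F // x ^ q = x} = Nat.card F :=
      Nat.card_congr (Equiv.subtypeUnivEquiv hc)
    rw [h1, Nat.card_eq_fintype_card, hF] at h2
    have hq := two_le_q hF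
    have : q * 2 ≤ q ^ 2 := by rw [sq]; exact Nat.mul_le_mul_left q hq
    omega
  exact hx (RingHom.congr_fun h x)

/-- Witt's theorem: two linearly independent families with the same Gram matrix are conjugate in GU. -/
theorem exists_gu_witt (hF : Fintype.card F = q ^ 2) {k : ℕ} {u w : Fin k → (Fin n → F)}
    (hu : LinearIndependent F u) (hw : LinearIndependent F w)
    (hgram : ∀ i j, Cfsg.hermForm n F q (w i) (w j) = Cfsg.hermForm n F q (u i) (u j)) :
    ∃ g : Cfsg.GU n F q, ∀ i,
      ((g : Matrix.GeneralLinearGroup (Fin n) F) : Matrix (Fin n) (Fin n) F) *ᵥ u i = w i := by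
  obtain ⟨ψ, hψ⟩ := LinearMap.exists_extend ((Module.Basis.span hu).constr F w)
  have hψu : ∀ i, ψ (u i) = w i := by
    intro i
    have := LinearMap.congr_fun hψ (Module.Basis.span hu i)
    rw [LinearMap.comp_apply, Module.Basis.constr_basis] at this
    simpa [Module.Basis.span_apply] using this
  have H := hermForm_isHerm hF n
  have hsum : ∀ x ∈ Submodule.span F (Set.range u), ∃ c : Fin k → F,
      x = ∑ i, c i • u i ∧ ψ x = ∑ i, c i • w i := by
    intro x hx
    obtain ⟨c, rfl⟩ := (Submodule.mem_span_range_iff_exists_fun F).1 hx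
    exact ⟨c, rfl, by simp [hψu]⟩
  obtain ⟨g, hg, hgψ⟩ := Cfsg.Agent.Forms.witt_hermitian_map (conjHom hF) (conjHom_ne_id hF)
    (pow_q_pow_q hF) (hermSesq hF n) ⟨fun x y => (H.conj_symm y x).symm⟩
    ⟨fun x hx => hermForm_nondeg hF n x fun y => (H.eq_zero_symm hF).1 (hx y),
      fun y hy => hermForm_nondeg hF n y fun x => hy x⟩
    (Submodule.span F (Set.range u)) ψ
    (fun x hx h0 => by
      obtain ⟨c, rfl, hc⟩ := hsum x hx
      rw [hc] at h0
      have := Fintype.linearIndependent_iff.1 hw c h0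
      simp [this])
    (fun x hx x' hx' => by
      obtain ⟨c, rfl, hc⟩ := hsum x hx
      obtain ⟨c', rfl, hc'⟩ := hsum x' hx'
      show Cfsg.hermForm n F q (ψ _) (ψ _) = Cfsg.hermForm n F q _ _
      rw [hc, hc']
      simp only [H.sum_left, H.sum_right hF, H.smul_left, H.smul_right, hgram])
  refine ⟨guOfUnitary hF (LinearMap.toMatrix' g.toLinearMap) fun x y => ?_, fun i => ?_⟩
  · simp only [LinearMap.toMatrix'_mulVec]
    exact hg y x
  · show LinearMap.toMatrix' g.toLinearMap *ᵥ u i = w i
    rw [LinearMap.toMatrix'_mulVec]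
    exact (hgψ _ (Submodule.subset_span ⟨i, rfl⟩)).trans (hψu i)

theorem Orthonormal.snoc (hF : Fintype.card F = q ^ 2) {k : ℕ} {b : Fin k → (Fin n → F)}
    (hb : Orthonormal (Cfsg.hermForm n F q) b) {v : Fin n → F}
    (hv : Cfsg.hermForm n F q v v = 1) (hvb : ∀ i, Cfsg.hermForm n F q (b i) v = 0) :
    Orthonormal (Cfsg.hermForm n F q) (Fin.snoc b v : Fin (k + 1) → (Fin n → F)) := by
  refine ⟨fun i => ?_, fun i j hij => ?_⟩
  · induction i using Fin.lastCases with
    | last => simpa using hv
    | cast i => simpa using hb.1 i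
  · induction i using Fin.lastCases with
    | last =>
      induction j using Fin.lastCases with
      | last => exact absurd rfl hij
      | cast j => simpa using ((hermForm_isHerm hF n).eq_zero_symm hF).1 (hvb j)
    | cast i =>
      induction j using Fin.lastCases with
      | last => simpa using hvb i
      | cast j => simpa using hb.2 (fun e => hij (congrArg Fin.castSucc e))

/-- The reflection `x ↦ x + (m - 1) h(x,e) e`. -/
theorem exists_gu_det (hF : Fintype.card F = q ^ 2) {e : Fin n → F}
    (he : Cfsg.hermForm n F q e e = 1) {m : F} (hm : m ^ (q + 1) = 1) :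
    ∃ M : Matrix (Fin n) (Fin n) F, IsUnitary q M ∧ M.det = m ∧
      ∀ x, Cfsg.hermForm n F q x e = 0 → M *ᵥ x = x := by
  refine ⟨Cfsg.unitaryTransvection n q e (m - 1), fun x y => ?_, ?_, fun x hx => ?_⟩
  · have H := hermForm_isHerm hF n
    rw [transvection_mulVec, transvection_mulVec, H.add_left, H.add_right hF, H.add_right hF,
      H.smul_left, H.smul_left, H.smul_right, H.smul_right, he, H.conj_symm y e, mul_pow,
      sub_pow_q hF, one_pow]
    linear_combination Cfsg.hermForm n F q x e * Cfsg.hermForm n F q y e ^ q * hm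
  · rw [Cfsg.unitaryTransvection, ← Matrix.smul_vecMulVec,
      Matrix.vecMulVec_eq Unit, Matrix.det_one_add_replicateCol_mul_replicateRow]
    have : (fun j => e j ^ q) ⬝ᵥ ((m - 1) • e) = m - 1 := by
      rw [dotProduct_smul, smul_eq_mul]
      have : (fun j => e j ^ q) ⬝ᵥ e = 1 := by
        simpa [dotProduct, Cfsg.hermForm, mul_comm] using he
      rw [this, mul_one]
    rw [this]; ring
  · rw [transvection_mulVec, hx, mul_zero, zero_smul, add_zero]

/-- Witt's theorem inside SU. -/
theorem exists_su_witt (hF : Fintype.card F = q ^ 2) {k : ℕ} {u w : Fin k → (Fin n → F)}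
    (hu : LinearIndependent F u) (hw : LinearIndependent F w)
    (hgram : ∀ i j, Cfsg.hermForm n F q (w i) (w j) = Cfsg.hermForm n F q (u i) (u j))
    {e : Fin n → F} (he : Cfsg.hermForm n F q e e = 1)
    (hew : ∀ i, Cfsg.hermForm n F q (w i) e = 0) :
    ∃ g : Cfsg.SU n F q, ∀ i,
      ((g : Matrix.SpecialLinearGroup (Fin n) F) : Matrix (Fin n) (Fin n) F) *ᵥ u i = w i := by
  obtain ⟨g, hg⟩ := exists_gu_witt hF hu hw hgram
  have hd := IsUnitary.det_norm hF (g.2 : IsUnitary q _)
  have hd0 : ((g : Matrix.GeneralLinearGroup (Fin n) F) : Matrix (Fin n) (Fin n) F).det ≠ 0 :=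
    fun h => by
    change ((g : Matrix.GeneralLinearGroup (Fin n) F) : Matrix (Fin n) (Fin n) F).det ^ (q + 1) = 1
      at hd
    simp [h] at hd
  obtain ⟨M, hM, hMd, hMf⟩ := exists_gu_det hF he
    (m := (((g : Matrix.GeneralLinearGroup (Fin n) F) : Matrix (Fin n) (Fin n) F).det)⁻¹)
    (inv_pow_succ _ hd)
  refine ⟨suOfUnitary _ (hM.mul g.2) ?_, fun i => ?_⟩
  · rw [Matrix.det_mul, hMd]
    exact inv_mul_cancel₀ hd0
  · rw [suOfUnitary_val, ← Matrix.mulVec_mulVec]
    show M *ᵥ (_ *ᵥ u i) = _
    rw [show (Units.coeHom (Matrix (Fin n) (Fin n) F)) (g : Matrix.GeneralLinearGroup (Fin n) F) *ᵥ u i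
      = w i from hg i]
    exact hMf _ (hew i)

theorem exists_eps (hF : Fintype.card F = q ^ 2) : ∃ x : F, x ^ (q + 1) = -1 :=
  exists_norm_eq hF (by rw [neg_pow_q hF, one_pow])

/-- A nonzero isotropic vector orthogonal to an orthonormal family needs two more dimensions. -/
theorem isotropic_room (hF : Fintype.card F = q ^ 2) {k : ℕ} {b : Fin k → (Fin n → F)}
    (hb : Orthonormal (Cfsg.hermForm n F q) b) {v : Fin n → F} (hv : v ≠ 0)
    (hv0 : Cfsg.hermForm n F q v v = 0) (hvb : ∀ i, Cfsg.hermForm n F q v (b i) = 0) :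
    k + 2 ≤ n := by
  by_contra hc
  have hk : k ≤ n := by
    simpa using (hb.linearIndependent (hermForm_isHerm hF n)).fintype_card_le_finrank
  have h1 := orthonormal_next hF hk hb (0 : F)
  rw [isotropic_count hF] at h1
  have e : n - k = 0 ∨ n - k = 1 := by omega
  have h2 : Nat.card {v : Fin n → F //
      Cfsg.hermForm n F q v v = 0 ∧ ∀ i, Cfsg.hermForm n F q v (b i) = 0} = 1 := by
    rcases e with e | e <;> simpa [e] using h1
  obtain ⟨x, hx⟩ := Nat.card_eq_one_iff_exists.1 h2
  have H := hermForm_isHerm hF n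
  exact hv (congrArg Subtype.val ((hx ⟨v, hv0, hvb⟩).trans
    (hx ⟨0, H.zero_left 0, fun i => H.zero_left _⟩).symm))

/-- A nonzero isotropic vector orthogonal to an orthonormal family splits as `a + ε a'`. -/
theorem isotropic_split (hF : Fintype.card F = q ^ 2) {k : ℕ} {b : Fin k → (Fin n → F)}
    (hb : Orthonormal (Cfsg.hermForm n F q) b) {v : Fin n → F} (hv : v ≠ 0)
    (hv0 : Cfsg.hermForm n F q v v = 0) (hvb : ∀ i, Cfsg.hermForm n F q v (b i) = 0)
    {ε : F} (hε : ε ^ (q + 1) = -1) :
    ∃ a a' : Fin n → F, Orthonormal (Cfsg.hermForm n F q)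
      (Fin.snoc (Fin.snoc b a : Fin (k + 1) → (Fin n → F)) a' : Fin (k + 2) → (Fin n → F)) ∧
      v = a + ε • a' := by
  have H := hermForm_isHerm hF n
  obtain ⟨i, hi⟩ := Function.ne_iff.1 hv
  -- a vector s ⊥ b with h s v = 1
  let s₀ : Fin n → F := Pi.single i 1 - ∑ j, Cfsg.hermForm n F q (Pi.single i 1) (b j) • b j
  have hs₀b : ∀ j, Cfsg.hermForm n F q s₀ (b j) = 0 := fun j => by
    simp only [s₀, H.sub_left, Orthonormal.coeff H hb, sub_self]
  have hs₀v : Cfsg.hermForm n F q s₀ v = v i ^ q := by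
    simp [s₀, H.sub_left, H.sum_left, H.smul_left, (H.eq_zero_symm hF).1 (hvb _),
      hermForm_single_left]
  have hvi : v i ^ q ≠ 0 := fun e => hi ((pow_q_eq_zero hF).1 e)
  let s := (v i ^ q)⁻¹ • s₀
  have hsv : Cfsg.hermForm n F q s v = 1 := by
    simp only [s, H.smul_left, hs₀v, inv_mul_cancel₀ hvi]
  have hsb : ∀ j, Cfsg.hermForm n F q s (b j) = 0 := fun j => by
    simp only [s, H.smul_left, hs₀b, mul_zero]
  have hvs : Cfsg.hermForm n F q v s = 1 := by rw [H.conj_symm s v, hsv, one_pow]
  obtain ⟨α, hα⟩ := exists_trace_eq hF (c := 1 - Cfsg.hermForm n F q s s)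
    (by rw [sub_pow_q hF, one_pow, H.self_fixed])
  let a := α • v + s
  have haa : Cfsg.hermForm n F q a a = 1 := by
    simp only [a, H.add_left, H.add_right hF, H.smul_left, H.smul_right, hsv, hvs, hv0]
    linear_combination hα
  have hva : Cfsg.hermForm n F q v a = 1 := by
    simp only [a, H.add_right hF, H.smul_right, hv0, hvs, mul_zero, zero_add]
  have hav : Cfsg.hermForm n F q a v = 1 := by rw [H.conj_symm v a, hva, one_pow]
  have hab : ∀ j, Cfsg.hermForm n F q (b j) a = 0 := fun j => by
    rw [H.eq_zero_symm hF]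
    simp only [a, H.add_left, H.smul_left, hvb, hsb, mul_zero, add_zero]
  have hε0 : ε ≠ 0 := fun h => by simp [h] at hε
  have hva' : Cfsg.hermForm n F q (v - a) (v - a) = -1 := by
    simp only [H.sub_left, H.sub_right hF, hv0, hva, hav, haa]; ring
  refine ⟨a, ε⁻¹ • (v - a), (hb.snoc hF haa hab).snoc hF ?_ (fun j => ?_), ?_⟩
  · rw [H.smul_left, H.smul_right, hva', ← mul_assoc, ← pow_succ', inv_pow, hε]
    simp
  · induction j using Fin.lastCases with
    | last => simp [H.smul_right, H.sub_right hF, hav, haa]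
    | cast j => simp [H.smul_right, H.sub_right hF, hab j, (H.eq_zero_symm hF).1 (hvb j)]
  · rw [smul_inv_smul₀ hε0, add_sub_cancel]

end Cfsg.Agent.Unitary
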