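import Cfsg.Agent.Lib.Unitary.Center
/-
Sums of norm-one elements with prescribed coefficients and product.
* card_roots_quad_le, exists_sum4, exists_pow_bezout, exists_sum_prod, exists_trace_ratio
-/
set_option autoImplicit false

namespace Cfsg.Agent.Unitary

variable {F : Type*} [Field F] [Fintype F] {q : ℕ}

omit [Fintype F] in
theorem card_roots_quad_le [DecidableEq F] {a b c : F} (ha : a ≠ 0) (S : Finset F)
    (hS : ∀ x ∈ S, a * x ^ 2 + b * x + c = 0) : S.card ≤ 2 := by
  let p : Polynomial F := Polynomial.C a * Polynomial.X ^ 2 + Polynomial.C b * Polynomial.X + Polynomial.C c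
  have hdeg : p.natDegree = 2 := Polynomial.natDegree_quadratic ha
  have hp : p ≠ 0 := fun h => by rw [h, Polynomial.natDegree_zero] at hdeg; omega
  calc S.card ≤ p.roots.toFinset.card := Finset.card_le_card fun x hx => by
        rw [Multiset.mem_toFinset, Polynomial.mem_roots hp]
        simp [p, hS x hx]
    _ ≤ p.roots.card := Multiset.toFinset_card_le _
    _ ≤ 2 := hdeg ▸ p.card_roots'

theorem inv_eq_pow_q {l : F} (hl : l ^ (q + 1) = 1) : l⁻¹ = l ^ q :=
  inv_eq_of_mul_eq_one_right (by rw [← pow_succ', hl])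

variable (hF : Fintype.card F = q ^ 2)
include hF

/-- Four circles cover everything. -/
theorem exists_sum4 (w : Fin 4 → F) (hw : ∀ i, w i ≠ 0) (z : F) :
    ∃ l : Fin 4 → F, (∀ i, l i ^ (q + 1) = 1) ∧ ∑ i, w i * l i = z := by
  classical
  set U := Finset.univ.filter (fun x : F => x ^ (q + 1) = 1) with hU
  have hUc : U.card = q + 1 := by
    have := card_norm_one hF
    rwa [Nat.card_eq_fintype_card, Fintype.card_subtype] at this
  have big : ∀ a b : F, a ≠ 0 → b ≠ 0 →
      q ^ 2 < 2 * ((U ×ˢ U).image fun p => a * p.1 + b * p.2).card := by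
    intro a b ha hb
    set f : F × F → F := fun p => a * p.1 + b * p.2 with hf
    set S := (U ×ˢ U).image f
    have fib : ∀ v ∈ S, ((U ×ˢ U).filter fun p => f p = v).card ≤ if v = 0 then q + 1 else 2 := by
      intro v _
      have hinj : Set.InjOn Prod.fst (↑((U ×ˢ U).filter fun p => f p = v) : Set (F × F)) := by
        intro p hp p' hp' e
        simp only [Finset.coe_filter, Set.mem_setOf_eq, hf] at hp hp'
        refine Prod.ext e (mul_left_cancel₀ hb ?_)
        have h := hp.2.trans hp'.2.symm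
        rw [e] at h
        linear_combination h
      rw [← Finset.card_image_of_injOn hinj]
      split_ifs with hv
      · refine le_trans (Finset.card_le_card ?_) hUc.le
        intro x hx
        obtain ⟨p, hp, rfl⟩ := Finset.mem_image.1 hx
        exact (Finset.mem_product.1 (Finset.mem_filter.1 hp).1).1
      · refine card_roots_quad_le (a := v ^ q * a) (b := b ^ (q + 1) - v ^ (q + 1) - a ^ (q + 1))
          (c := v * a ^ q) (mul_ne_zero (pow_ne_zero _ hv) ha) _ fun x hx => ?_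
        obtain ⟨p, hp, rfl⟩ := Finset.mem_image.1 hx
        obtain ⟨hpU, hpv⟩ := Finset.mem_filter.1 hp
        obtain ⟨h1, h2⟩ := Finset.mem_product.1 hpU
        have h1' : p.1 ^ (q + 1) = 1 := (Finset.mem_filter.1 h1).2
        have h2' : p.2 ^ (q + 1) = 1 := (Finset.mem_filter.1 h2).2
        simp only [hf] at hpv
        have e1 : b * p.2 = v - a * p.1 := by linear_combination hpv
        have e2 := congrArg (fun y : F => y ^ (q + 1)) e1
        simp only [mul_pow, h2', mul_one] at e2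
        rw [pow_succ (v - a * p.1) q, sub_pow_q hF, mul_pow] at e2
        rw [pow_succ p.1 q] at h1'
        linear_combination p.1 * e2 + (a ^ (q + 1) * p.1 - v * a ^ q) * h1'
    have h1 := Finset.card_eq_sum_card_image f (U ×ˢ U)
    rw [Finset.card_product, hUc] at h1
    have h2 := Finset.sum_le_sum fib
    rw [← h1, Finset.sum_ite, Finset.sum_const, Finset.sum_const, smul_eq_mul, smul_eq_mul] at h2
    have h3 : (S.filter fun v => v = 0).card ≤ 1 := Finset.card_le_one.2 fun x hx y hy => by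
      rw [(Finset.mem_filter.1 hx).2, (Finset.mem_filter.1 hy).2]
    have h4 := Finset.card_filter_add_card_filter_not (s := S) (fun v => v = 0)
    have := two_le_q hF
    nlinarith
  let A := (U ×ˢ U).image fun p => w 0 * p.1 + w 1 * p.2
  let B := ((U ×ˢ U).image fun p => w 2 * p.1 + w 3 * p.2).image fun x => z - x
  have hAB : (A ∩ B).Nonempty := by
    rw [← Finset.card_pos]
    have h1 : q ^ 2 < 2 * A.card := big _ _ (hw 0) (hw 1)
    have h2 : q ^ 2 < 2 * B.card := by
      show _ < 2 * (Finset.image _ _).card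
      rw [Finset.card_image_of_injective _ sub_right_injective]
      exact big _ _ (hw 2) (hw 3)
    have h3 := Finset.card_union_add_card_inter A B
    have h4 : (A ∪ B).card ≤ q ^ 2 := hF ▸ Finset.card_le_univ _
    omega
  obtain ⟨x, hx⟩ := hAB
  obtain ⟨hxA, hxB⟩ := Finset.mem_inter.1 hx
  obtain ⟨p, hp, hpx⟩ := Finset.mem_image.1 hxA
  obtain ⟨y, hy, hyx⟩ := Finset.mem_image.1 hxB
  obtain ⟨p', hp', hpy⟩ := Finset.mem_image.1 hy
  obtain ⟨a1, a2⟩ := Finset.mem_product.1 hp
  obtain ⟨a3, a4⟩ := Finset.mem_product.1 hp'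
  refine ⟨![p.1, p.2, p'.1, p'.2], fun i => ?_, ?_⟩
  · fin_cases i
    · exact (Finset.mem_filter.1 a1).2
    · exact (Finset.mem_filter.1 a2).2
    · exact (Finset.mem_filter.1 a3).2
    · exact (Finset.mem_filter.1 a4).2
  · simp only [Fin.sum_univ_four, Matrix.cons_val_zero, Matrix.cons_val_one, Matrix.cons_val]
    linear_combination hpx + hpy - hyx

omit hF in
theorem exists_pow_bezout {a b : ℕ} (hab : a.Coprime b) {P : F} (hP : P ^ (q + 1) = 1) :
    ∃ s r : F, s ^ (q + 1) = 1 ∧ r ^ (q + 1) = 1 ∧ s ^ a * r ^ b = P := by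
  have hP0 : P ≠ 0 := fun h => by simp [h] at hP
  refine ⟨P ^ a.gcdA b, P ^ a.gcdB b, ?_, ?_, ?_⟩
  · rw [← zpow_natCast, ← zpow_mul, mul_comm, zpow_mul, zpow_natCast, hP, one_zpow]
  · rw [← zpow_natCast, ← zpow_mul, mul_comm, zpow_mul, zpow_natCast, hP, one_zpow]
  · rw [← zpow_natCast, ← zpow_natCast, ← zpow_mul, ← zpow_mul, ← zpow_add₀ hP0]
    conv_rhs => rw [← zpow_one P]
    congr 1
    have h := Nat.gcd_eq_gcd_ab a b
    rw [hab] at h
    push_cast at h
    linear_combination -h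

/-- A prescribed sum with a prescribed product up to e-th powers. -/
theorem exists_sum_prod {ι : Type*} [DecidableEq ι] (I : Finset ι) (w : ι → F)
    (hw : ∀ i ∈ I, w i ≠ 0) (z P : F) (hP : P ^ (q + 1) = 1) (e : ℕ)
    (hcond : 13 ≤ I.card ∨ (9 ≤ I.card ∧ Nat.Coprime 5 e) ∨ (8 ≤ I.card ∧ Nat.Coprime 4 e)) :
    ∃ (l : ι → F) (r : F), (∀ i, l i ^ (q + 1) = 1) ∧ r ^ (q + 1) = 1 ∧
      ∑ i ∈ I, w i * l i = z ∧ (∏ i ∈ I, l i) * r ^ e = P := by
  classical
  -- a family of four with zero sum, or five, scaled freely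
  have grp : ∀ (G : Finset ι), 4 ≤ G.card → (∀ i ∈ G, w i ≠ 0) → ∀ y : F, ∃ l : ι → F,
      (∀ i, l i ^ (q + 1) = 1) ∧ ∑ i ∈ G, w i * l i = y := by
    intro G hG hGw y
    obtain ⟨T, hTG, hT⟩ := Finset.exists_subset_card_eq hG
    let f : Fin 4 ≃ T := (Fintype.equivFinOfCardEq (by simp [hT])).symm
    obtain ⟨l, hl, hls⟩ := exists_sum4 hF (fun i => w (f i)) (fun i => hGw _ (hTG (f i).2))
      (y - ∑ i ∈ G \ T, w i)
    refine ⟨fun i => if h : i ∈ T then l (f.symm ⟨i, h⟩) else 1, fun i => ?_, ?_⟩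
    · dsimp only; split_ifs
      · exact hl _
      · exact one_pow _
    · rw [← Finset.sum_sdiff hTG, Finset.sum_congr rfl (s₁ := G \ T) (g := w) (fun i hi => by
        dsimp only
        rw [dif_neg (Finset.mem_sdiff.1 hi).2, mul_one])]
      rw [← Finset.sum_coe_sort T, ← f.sum_comp]
      simp only [Finset.coe_mem, dite_true, Subtype.coe_eta, Equiv.symm_apply_apply]
      rw [hls]; ring
  -- m scaled zero-sum terms, r^e, and the rest
  have main : ∀ (G J : Finset ι) (a e' : ℕ) (P' : F), Disjoint G J → G.card = a → 4 ≤ a →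
      4 ≤ J.card → (∀ i ∈ G ∪ J, w i ≠ 0) → a.Coprime e' → P' ^ (q + 1) = 1 →
      ∃ (l : ι → F) (r : F), (∀ i, l i ^ (q + 1) = 1) ∧ r ^ (q + 1) = 1 ∧
        ∑ i ∈ G ∪ J, w i * l i = z ∧ (∏ i ∈ G ∪ J, l i) * r ^ e' = P' := by
    intro G J a e' P' hd hGc ha hJ hwGJ hco hP'
    obtain ⟨l1, hl1, hs1⟩ := grp G (by omega) (fun i hi => hwGJ i (Finset.mem_union_left _ hi)) 0
    obtain ⟨l2, hl2, hs2⟩ := grp J hJ (fun i hi => hwGJ i (Finset.mem_union_right _ hi)) z
    obtain ⟨Q, hQdef⟩ : ∃ Q, Q = P' * ((∏ i ∈ G, l1 i) * ∏ i ∈ J, l2 i)⁻¹ := ⟨_, rfl⟩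
    have hQ : Q ^ (q + 1) = 1 := by
      rw [hQdef, mul_pow, inv_pow, mul_pow, ← Finset.prod_pow, ← Finset.prod_pow, hP']
      simp [hl1, hl2]
    obtain ⟨s, r, hs, hr, hsr⟩ := exists_pow_bezout hco hQ
    refine ⟨fun i => if i ∈ G then s * l1 i else l2 i, r, fun i => ?_, hr, ?_, ?_⟩
    · dsimp only; split_ifs
      · rw [mul_pow, hs, hl1, one_mul]
      · exact hl2 i
    · rw [Finset.sum_union hd,
        Finset.sum_congr rfl (s₁ := G) (g := fun i => w i * (s * l1 i)) (fun i hi => by simp [hi]),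
        Finset.sum_congr rfl (s₁ := J) (g := fun i => w i * l2 i)
          (fun i hi => by simp [Finset.disjoint_right.1 hd hi]),
        hs2, Finset.sum_congr rfl (fun i _ => show w i * (s * l1 i) = s * (w i * l1 i) by ring),
        ← Finset.mul_sum, hs1, mul_zero, zero_add]
    · rw [Finset.prod_union hd,
        Finset.prod_congr rfl (s₁ := G) (g := fun i => s * l1 i) (fun i hi => by simp [hi]),
        Finset.prod_congr rfl (s₁ := J) (g := fun i => l2 i)
          (fun i hi => by simp [Finset.disjoint_right.1 hd hi]),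
        Finset.prod_mul_distrib, Finset.prod_const, hGc]
      have hne : (∏ i ∈ G, l1 i) * ∏ i ∈ J, l2 i ≠ 0 := by
        refine mul_ne_zero (Finset.prod_ne_zero_iff.2 fun i _ h => ?_) (Finset.prod_ne_zero_iff.2 fun i _ h => ?_)
        · have := hl1 i; simp [h] at this
        · have := hl2 i; simp [h] at this
      calc s ^ a * (∏ i ∈ G, l1 i) * (∏ i ∈ J, l2 i) * r ^ e'
          = (s ^ a * r ^ e') * ((∏ i ∈ G, l1 i) * ∏ i ∈ J, l2 i) := by ring
        _ = P' := by rw [hsr, hQdef, inv_mul_cancel_right₀ hne]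
  rcases hcond with h | ⟨h, hco⟩ | ⟨h, hco⟩
  · obtain ⟨G, hGI, hG⟩ := Finset.exists_subset_card_eq (show 4 ≤ I.card by omega)
    have hI' : 9 ≤ (I \ G).card := by rw [Finset.card_sdiff_of_subset hGI]; omega
    obtain ⟨G5, hG5, hG5c⟩ := Finset.exists_subset_card_eq (show 5 ≤ (I \ G).card by omega)
    obtain ⟨lG, hlG, hsG⟩ := grp G hG.ge (fun i hi => hw i (hGI hi)) 0
    obtain ⟨l5, hl5, hs5⟩ := grp G5 (by omega) (fun i hi => hw i (Finset.mem_sdiff.1 (hG5 hi)).1) 0
    set J := (I \ G) \ G5 with hJ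
    obtain ⟨l2, hl2, hs2⟩ := grp J (by rw [hJ, Finset.card_sdiff_of_subset hG5]; omega)
      (fun i hi => hw i (Finset.mem_sdiff.1 (Finset.mem_sdiff.1 hi).1).1) z
    have hne : (∏ i ∈ G, lG i) * ((∏ i ∈ G5, l5 i) * ∏ i ∈ J, l2 i) ≠ 0 := by
      refine mul_ne_zero (Finset.prod_ne_zero_iff.2 fun i _ h => ?_)
        (mul_ne_zero (Finset.prod_ne_zero_iff.2 fun i _ h => ?_) (Finset.prod_ne_zero_iff.2 fun i _ h => ?_))
      · have := hlG i; simp [h] at this
      · have := hl5 i; simp [h] at this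
      · have := hl2 i; simp [h] at this
    obtain ⟨Q, hQdef⟩ : ∃ Q, Q = P * ((∏ i ∈ G, lG i) * ((∏ i ∈ G5, l5 i) * ∏ i ∈ J, l2 i))⁻¹ :=
      ⟨_, rfl⟩
    have hQ : Q ^ (q + 1) = 1 := by
      rw [hQdef, mul_pow, inv_pow, mul_pow, mul_pow, ← Finset.prod_pow, ← Finset.prod_pow,
        ← Finset.prod_pow, hP]
      simp [hlG, hl5, hl2]
    obtain ⟨s, r, hs, hr, hsr⟩ := exists_pow_bezout (by norm_num : Nat.Coprime 4 5) hQ
    refine ⟨fun i => if i ∈ G then s * lG i else if i ∈ G5 then r * l5 i else l2 i, 1, fun i => ?_,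
      one_pow _, ?_, ?_⟩
    · dsimp only; split_ifs
      · rw [mul_pow, hs, hlG, one_mul]
      · rw [mul_pow, hr, hl5, one_mul]
      · exact hl2 i
    · have hm : ∀ i ∈ G5, i ∉ G := fun i hi => (Finset.mem_sdiff.1 (hG5 hi)).2
      rw [← Finset.sum_sdiff hGI, ← Finset.sum_sdiff hG5, ← hJ,
        Finset.sum_congr rfl (s₁ := G) (g := fun i => s * (w i * lG i))
          (fun i hi => by simp [hi]; ring),
        Finset.sum_congr rfl (s₁ := G5) (g := fun i => r * (w i * l5 i))
          (fun i hi => by simp [hi, hm i hi]; ring),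
        Finset.sum_congr rfl (s₁ := J) (g := fun i => w i * l2 i)
          (fun i hi => by
            simp [(Finset.mem_sdiff.1 hi).2, (Finset.mem_sdiff.1 (Finset.mem_sdiff.1 hi).1).2]),
        ← Finset.mul_sum, ← Finset.mul_sum, hsG, hs5, hs2]
      ring
    · have hm : ∀ i ∈ G5, i ∉ G := fun i hi => (Finset.mem_sdiff.1 (hG5 hi)).2
      rw [← Finset.prod_sdiff hGI, ← Finset.prod_sdiff hG5, ← hJ,
        Finset.prod_congr rfl (s₁ := G) (g := fun i => s * lG i) (fun i hi => by simp [hi]),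
        Finset.prod_congr rfl (s₁ := G5) (g := fun i => r * l5 i) (fun i hi => by simp [hi, hm i hi]),
        Finset.prod_congr rfl (s₁ := J) (g := fun i => l2 i) (fun i hi => by
            simp [(Finset.mem_sdiff.1 hi).2, (Finset.mem_sdiff.1 (Finset.mem_sdiff.1 hi).1).2]),
        Finset.prod_mul_distrib, Finset.prod_mul_distrib, Finset.prod_const, Finset.prod_const, hG, hG5c,
        one_pow, mul_one]
      calc (∏ i ∈ J, l2 i) * (r ^ 5 * ∏ i ∈ G5, l5 i) * (s ^ 4 * ∏ i ∈ G, lG i)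
          = (s ^ 4 * r ^ 5) * ((∏ i ∈ G, lG i) * ((∏ i ∈ G5, l5 i) * ∏ i ∈ J, l2 i)) := by ring
        _ = P := by rw [hsr, hQdef, inv_mul_cancel_right₀ hne]
  · obtain ⟨G, hGI, hG⟩ := Finset.exists_subset_card_eq (show 5 ≤ I.card by omega)
    have h' := main G (I \ G) 5 e P Finset.disjoint_sdiff hG (by norm_num)
      (by rw [Finset.card_sdiff_of_subset hGI]; omega)
      (fun i hi => hw i (by rwa [Finset.union_sdiff_of_subset hGI] at hi)) hco hP
    rwa [Finset.union_sdiff_of_subset hGI] at h'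
  · obtain ⟨G, hGI, hG⟩ := Finset.exists_subset_card_eq (show 4 ≤ I.card by omega)
    have h' := main G (I \ G) 4 e P Finset.disjoint_sdiff hG (by norm_num)
      (by rw [Finset.card_sdiff_of_subset hGI]; omega)
      (fun i hi => hw i (by rwa [Finset.union_sdiff_of_subset hGI] at hi)) hco hP
    rwa [Finset.union_sdiff_of_subset hGI] at h'

/-- Two circle points making A T(l) + B T(l') vanish, with the twisted sum nonzero. -/
theorem exists_trace_ratio {A B : F} (hA : A ^ q = A) (hA0 : A ≠ 0) (hB : B ^ q = B) (hB0 : B ≠ 0) :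
    ∃ l l' η : F, l ^ (q + 1) = 1 ∧ l' ^ (q + 1) = 1 ∧ l ≠ 1 ∧ l' ≠ 1 ∧
      η = A * (l ^ q - 1) + B * (l' ^ q - 1) ∧ η ≠ 0 ∧ η + η ^ q = 0 := by
  classical
  obtain ⟨ζ, hζ, hord⟩ := exists_norm_one_gen hF
  have hq := two_le_q hF
  have h2 : (2 : F) ^ q = 2 := by
    rw [show (2 : F) = 1 + 1 by norm_num, add_pow_q hF, one_pow]
  set U := (Finset.univ.filter (fun x : F => x ^ (q + 1) = 1)).erase 1 with hU
  have hUc : U.card = q := by
    have := card_norm_one hF
    rw [Nat.card_eq_fintype_card, Fintype.card_subtype] at this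
    rw [hU, Finset.card_erase_of_mem (by simp), this]; omega
  set T : F → F := fun x => x + x ^ q - 2 with hT
  have hTS : q ≤ 2 * (U.image T).card := by
    rw [← hUc]
    refine (Finset.card_le_mul_card_image U 2 fun v _ => ?_)
    refine card_roots_quad_le (a := (1 : F)) (b := -(v + 2)) (c := 1) one_ne_zero _ fun x hx => ?_
    obtain ⟨hxU, hxv⟩ := Finset.mem_filter.1 hx
    have hx1 : x ^ (q + 1) = 1 := (Finset.mem_filter.1 (Finset.mem_of_mem_erase hxU)).2
    rw [pow_succ] at hx1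
    simp only [hT] at hxv
    linear_combination x * hxv - hx1
  have hT0 : ∀ x ∈ U, T x ≠ 0 ∧ (T x) ^ q = T x := by
    intro x hx
    obtain ⟨hx1, hxU⟩ := Finset.mem_erase.1 hx
    have hxn : x ^ (q + 1) = 1 := (Finset.mem_filter.1 hxU).2
    refine ⟨fun h => hx1 ?_, ?_⟩
    · have e : (x - 1) ^ 2 = 0 := by
        rw [pow_succ] at hxn
        simp only [hT] at h
        linear_combination x * h - hxn
      exact sub_eq_zero.1 (pow_eq_zero_iff two_ne_zero |>.1 e)
    · simp only [hT]; rw [sub_pow_q hF, trace_fixed hF, h2]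
  set X := U.image T with hX
  set Y := X.image fun v => -(A / B) * v with hY
  set K := (Finset.univ.filter fun v : F => v ^ q = v).erase 0 with hK
  have hKc : K.card = q - 1 := by
    have := card_fixed hF
    rw [Nat.card_eq_fintype_card, Fintype.card_subtype] at this
    rw [hK, Finset.card_erase_of_mem (by simp [zero_pow_q hF]), this]
  have hXK : X ⊆ K := fun v hv => by
    obtain ⟨x, hx, rfl⟩ := Finset.mem_image.1 hv
    exact Finset.mem_erase.2 ⟨(hT0 x hx).1, by simp [(hT0 x hx).2]⟩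
  have hYK : Y ⊆ K := fun v hv => by
    obtain ⟨u, hu, rfl⟩ := Finset.mem_image.1 hv
    obtain ⟨hu0, hu'⟩ := Finset.mem_erase.1 (hXK hu)
    refine Finset.mem_erase.2 ⟨mul_ne_zero (neg_ne_zero.2 (div_ne_zero hA0 hB0)) hu0, ?_⟩
    simp only [Finset.mem_filter, Finset.mem_univ, true_and] at hu' ⊢
    rw [mul_pow, neg_pow_q hF, div_pow, hA, hB, hu']
  have hYc : Y.card = X.card :=
    Finset.card_image_of_injective _ (mul_right_injective₀ (neg_ne_zero.2 (div_ne_zero hA0 hB0)))
  obtain ⟨v, hv⟩ : (X ∩ Y).Nonempty := by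
    rw [← Finset.card_pos]
    have h1 := Finset.card_union_add_card_inter X Y
    have h2 := Finset.card_le_card (Finset.union_subset hXK hYK)
    omega
  obtain ⟨hvX, hvY⟩ := Finset.mem_inter.1 hv
  obtain ⟨l', hl', hl'v⟩ := Finset.mem_image.1 hvX
  obtain ⟨u, hu, huv⟩ := Finset.mem_image.1 hvY
  obtain ⟨l, hl, hlu⟩ := Finset.mem_image.1 hu
  obtain ⟨hl1, hlU⟩ := Finset.mem_erase.1 hl
  obtain ⟨hl'1, hl'U⟩ := Finset.mem_erase.1 hl'
  have hln : l ^ (q + 1) = 1 := (Finset.mem_filter.1 hlU).2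
  have hl'n : l' ^ (q + 1) = 1 := (Finset.mem_filter.1 hl'U).2
  have hsum : A * T l + B * T l' = 0 := by
    rw [hlu, hl'v, ← huv]; field_simp; ring
  have skew : ∀ a b : F, A * T a + B * T b = 0 →
      (A * (a ^ q - 1) + B * (b ^ q - 1)) + (A * (a ^ q - 1) + B * (b ^ q - 1)) ^ q = 0 := by
    intro a b h
    simp only [add_pow_q hF, mul_pow, sub_pow_q hF, pow_q_pow_q hF, one_pow, hA, hB]
    simp only [hT] at h
    linear_combination h
  by_cases h1 : A * (l ^ q - 1) + B * (l' ^ q - 1) = 0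
  swap
  · exact ⟨l, l', _, hln, hl'n, hl1, hl'1, rfl, h1, skew l l' hsum⟩
  have hsum' : A * T l + B * T (l' ^ q) = 0 := by
    rw [← hsum]; simp only [hT, pow_q_pow_q hF]; ring
  have hl'n' : (l' ^ q) ^ (q + 1) = 1 := by rw [← pow_mul, mul_comm, pow_mul, hl'n, one_pow]
  have hl'1' : l' ^ q ≠ 1 := fun h => hl'1 (by rw [← pow_q_pow_q hF l', h, one_pow])
  by_cases h2' : A * (l ^ q - 1) + B * ((l' ^ q) ^ q - 1) = 0
  swap
  · exact ⟨l, l' ^ q, _, hln, hl'n', hl1, hl'1', rfl, h2', skew l _ hsum'⟩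
  -- then l' = -1 and A = -B
  rw [pow_q_pow_q hF] at h2'
  have e1 : l' = l' ^ q := mul_left_cancel₀ hB0 (by linear_combination h2' - h1)
  have e2 : l' = -1 := by
    have h' : (l' - 1) * (l' + 1) = 0 := by
      rw [pow_succ, ← e1] at hl'n; linear_combination hl'n
    exact eq_neg_of_add_eq_zero_left ((mul_eq_zero.1 h').resolve_left (sub_ne_zero.2 hl'1))
  have e3 : l = -1 := by
    have hfix : (l ^ q - 1) ^ q = l ^ q - 1 := by
      have : l ^ q - 1 = -(B * (l' ^ q - 1)) / A := by field_simp; linear_combination h1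
      rw [this, div_pow, neg_pow_q hF, mul_pow, sub_pow_q hF, hA, hB, pow_q_pow_q hF, one_pow, ← e1]
    rw [sub_pow_q hF, pow_q_pow_q hF, one_pow] at hfix
    have hll : l = l ^ q := by linear_combination hfix
    have h' : (l - 1) * (l + 1) = 0 := by
      rw [pow_succ, ← hll] at hln; linear_combination hln
    exact eq_neg_of_add_eq_zero_left ((mul_eq_zero.1 h').resolve_left (sub_ne_zero.2 hl1))
  have hm2 : (2 : F) ≠ 0 := fun h => hl1 (by rw [e3]; linear_combination -h)
  have hAB : A = -B := by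
    rw [← e1, e2, e3, neg_pow_q hF, one_pow] at h1
    have : (2 : F) * (A + B) = 0 := by linear_combination -h1
    exact eq_neg_of_add_eq_zero_left ((mul_eq_zero.1 this).resolve_left hm2)
  have hne : ζ ^ q ≠ ζ := fun h => by
    have h' : ζ ^ 2 = 1 := by rw [pow_succ, h] at hζ; rw [sq]; exact hζ
    have := orderOf_dvd_of_pow_eq_one h'
    rw [hord] at this
    have := Nat.le_of_dvd (by norm_num) this
    omega
  have hζ1 : ζ ≠ 1 := fun h => hne (by rw [h, one_pow])
  refine ⟨ζ, ζ ^ q, _, hζ, by rw [← pow_mul, mul_comm, pow_mul, hζ, one_pow], hζ1,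
    fun h => hζ1 (by rw [← pow_q_pow_q hF ζ, h, one_pow]), rfl, ?_, ?_⟩
  · rw [pow_q_pow_q hF, hAB]
    intro h
    exact hne (mul_left_cancel₀ hB0 (by linear_combination -h))
  · simp only [add_pow_q hF, mul_pow, sub_pow_q hF, pow_q_pow_q hF, one_pow, hA, hB, hAB, neg_pow_q hF]
    ring

end Cfsg.Agent.Unitary
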