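import Cfsg.Agent.Lib.Unitary.MonoMax
import Cfsg.Agent.Lib.Unitary.DecompMax
/-
Stabilisers of decompositions into orthogonal non-degenerate subspaces of equal dimension.
* isMaximalIn_frame_stabilizer (10 ≤ n), isMaximalIn_frame_stabilizer' (also n = 6, 3 ≤ q),
  isMaximalIn_decomposition_stabilizer (k ≥ 2)
-/
set_option autoImplicit false

namespace Cfsg.Agent.Unitary

variable {F : Type*} [Field F] [Fintype F] {q n : ℕ}

/-- The frame stabiliser is maximal in SU. -/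
theorem isMaximalIn_frame_stabilizer' (hF : Fintype.card F = q ^ 2) (hn : 10 ≤ n ∨ n = 8 ∨ n = 6 ∧ 3 ≤ q) {t : ℕ}
    (D : Fin t → Submodule F (Fin n → F))
    (hD : Cfsg.Geo.IsNondegenerateMDecomposition (Cfsg.hermForm n F q) 1 D) :
    Cfsg.Geo.IsMaximalIn (Cfsg.GU n F q ⊓ Cfsg.Geo.specialLinear (Fin n) F)
      (Cfsg.Geo.decompositionStabilizer D ⊓ (Cfsg.GU n F q ⊓ Cfsg.Geo.specialLinear (Fin n) F)) := by
  classical
  obtain ⟨b, hb, hmem⟩ := exists_frame_of_decomposition hF hD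
  have hdim : ∀ i, Module.finrank F (D i) = 1 := hD.1.finrank_eq
  have iff : ∀ g : Matrix.GeneralLinearGroup (Fin n) F,
      g ∈ Cfsg.Geo.decompositionStabilizer D ↔ InStab b g := fun g =>
    mem_decompositionStabilizer_iff hF hmem hdim
  refine ⟨lt_of_le_of_ne inf_le_right fun h => ?_, fun M hHM hMK => ?_⟩
  · obtain ⟨g, hg, hgH⟩ := exists_outside_mono hF (by omega) hb
    have : g ∈ Cfsg.Geo.decompositionStabilizer D ⊓
        (Cfsg.GU n F q ⊓ Cfsg.Geo.specialLinear (Fin n) F) := by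
      rw [h]; exact hg
    exact hgH ((iff g).1 this.1)
  · by_cases hle : M ≤ Cfsg.Geo.decompositionStabilizer D
    · exact Or.inl (le_antisymm (le_inf hle hMK) hHM)
    right
    obtain ⟨g, hgM, hg⟩ := SetLike.not_le_iff_exists.1 hle
    have hHM' : ∀ x ∈ suGL n F q, InStab b x → x ∈ M := fun x hx h => hHM ⟨(iff x).2 h, hx⟩
    exact le_antisymm hMK (mono_overgroup hF hn hb hHM' hMK hgM fun h => hg ((iff g).2 h))

/-- The frame stabiliser is maximal in SU, n ≥ 10. -/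
theorem isMaximalIn_frame_stabilizer (hF : Fintype.card F = q ^ 2) (hn : 10 ≤ n) {t : ℕ}
    (D : Fin t → Submodule F (Fin n → F))
    (hD : Cfsg.Geo.IsNondegenerateMDecomposition (Cfsg.hermForm n F q) 1 D) :
    Cfsg.Geo.IsMaximalIn (Cfsg.GU n F q ⊓ Cfsg.Geo.specialLinear (Fin n) F)
      (Cfsg.Geo.decompositionStabilizer D ⊓ (Cfsg.GU n F q ⊓ Cfsg.Geo.specialLinear (Fin n) F)) :=
  isMaximalIn_frame_stabilizer' hF (Or.inl hn) D hD

/-- A decomposition stabiliser with blocks of dimension at least two is maximal in SU. -/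
theorem isMaximalIn_decomposition_stabilizer (hF : Fintype.card F = q ^ 2) {t k : ℕ}
    (hn : 4 ≤ n) (D : Fin t → Submodule F (Fin n → F))
    (hD : Cfsg.Geo.IsNondegenerateMDecomposition (Cfsg.hermForm n F q) k D)
    (h2 : 2 ≤ k) (hkt : 3 ≤ k ∨ 3 ≤ t) (hkq : 3 ≤ k ∨ 3 ≤ q) :
    Cfsg.Geo.IsMaximalIn (Cfsg.GU n F q ⊓ Cfsg.Geo.specialLinear (Fin n) F)
      (Cfsg.Geo.decompositionStabilizer D ⊓ (Cfsg.GU n F q ⊓ Cfsg.Geo.specialLinear (Fin n) F)) := by
  classical
  obtain ⟨b, hb, hmem⟩ := exists_frame_of_decomposition hF hD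
  have hdim : ∀ i, Module.finrank F (D i) = k := hD.1.finrank_eq
  have iff : ∀ g : Matrix.GeneralLinearGroup (Fin n) F,
      g ∈ Cfsg.Geo.decompositionStabilizer D ↔ InStab b g := fun g =>
    mem_decompositionStabilizer_iff hF hmem hdim
  have ht : 2 ≤ t := hD.1.two_le
  refine ⟨lt_of_le_of_ne inf_le_right fun h => ?_, fun M hHM hMK => ?_⟩
  · obtain ⟨g, hg, hgH⟩ := exists_outside_decomp hF hb h2 ht
    have : g ∈ Cfsg.Geo.decompositionStabilizer D ⊓
        (Cfsg.GU n F q ⊓ Cfsg.Geo.specialLinear (Fin n) F) := by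
      rw [h]; exact hg
    exact hgH ((iff g).1 this.1)
  · by_cases hle : M ≤ Cfsg.Geo.decompositionStabilizer D
    · exact Or.inl (le_antisymm (le_inf hle hMK) hHM)
    right
    obtain ⟨g, hgM, hg⟩ := SetLike.not_le_iff_exists.1 hle
    have hHM' : ∀ x ∈ suGL n F q, InStab b x → x ∈ M := fun x hx h => hHM ⟨(iff x).2 h, hx⟩
    exact le_antisymm hMK (decomp_overgroup hF hb hHM' h2 hkt hkq hn hgM (hMK hgM)
      fun h => hg ((iff g).2 h))

end Cfsg.Agent.Unitary
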