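import Cfsg.Agent.Lib.Unitary.Decomp
import Cfsg.Agent.Lib.Unitary.Circle
/-
Monomial unitary matrices and pseudo-reflections.
* IsMon, supp, weight facts, glRefl (apply, conj, det, mono criteria), exists_monM, exists_diagM,
  Linked ν x (R x R(e_k)⁻¹ ∈ M)
-/
set_option autoImplicit false

namespace Cfsg.Agent.Unitary

open scoped Matrix

variable {F : Type*} [Field F] {q n : ℕ}

/-- A monomial matrix. -/
def IsMon (g : Matrix.GeneralLinearGroup (Fin n) F) : Prop :=
  ∃ π : Equiv.Perm (Fin n), ∀ i, ∃ a : F,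
    (g : Matrix (Fin n) (Fin n) F) *ᵥ Pi.single i 1 = a • Pi.single (π i) 1

theorem IsMon.mul {g g' : Matrix.GeneralLinearGroup (Fin n) F} (h : IsMon g) (h' : IsMon g') :
    IsMon (g * g') := by
  obtain ⟨π, hπ⟩ := h
  obtain ⟨π', hπ'⟩ := h'
  refine ⟨π * π', fun i => ?_⟩
  obtain ⟨a, ha⟩ := hπ' i
  obtain ⟨a', ha'⟩ := hπ (π' i)
  exact ⟨a * a', by rw [Units.val_mul, ← Matrix.mulVec_mulVec, ha, Matrix.mulVec_smul, ha', smul_smul]; rfl⟩

theorem IsMon.inv {g : Matrix.GeneralLinearGroup (Fin n) F} (h : IsMon g) : IsMon g⁻¹ := by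
  obtain ⟨π, hπ⟩ := h
  refine ⟨π⁻¹, fun i => ?_⟩
  obtain ⟨a, ha⟩ := hπ (π⁻¹ i)
  have e : π (π⁻¹ i) = i := π.apply_symm_apply i
  rw [e] at ha
  have ha0 : a ≠ 0 := by
    rintro rfl
    rw [zero_smul] at ha
    have h1 := Matrix.mulVec_injective_iff_isUnit.2 (Units.isUnit g) (ha.trans (Matrix.mulVec_zero _).symm)
    simpa using congrFun h1 (π⁻¹ i)
  refine ⟨a⁻¹, Matrix.mulVec_injective_iff_isUnit.2 (Units.isUnit g) ?_⟩
  rw [Matrix.mulVec_smul, ha, smul_smul, inv_mul_cancel₀ ha0, one_smul, Matrix.mulVec_mulVec,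
    ← Units.val_mul, mul_inv_cancel, Units.val_one, Matrix.one_mulVec]

theorem IsMon.col {g : Matrix.GeneralLinearGroup (Fin n) F} (h : IsMon g) (i : Fin n) {j l : Fin n}
    (hj : ((g : Matrix (Fin n) (Fin n) F) *ᵥ Pi.single i 1) j ≠ 0)
    (hl : ((g : Matrix (Fin n) (Fin n) F) *ᵥ Pi.single i 1) l ≠ 0) : j = l := by
  obtain ⟨π, hπ⟩ := h
  obtain ⟨a, ha⟩ := hπ i
  rw [ha] at hj hl
  have key : ∀ p, (a • (Pi.single (π i) 1 : Fin n → F)) p ≠ 0 → p = π i := fun p hp => by
    by_contra h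
    simp [Pi.single_eq_of_ne h] at hp
  rw [key j hj, key l hl]

/-- Not monomial: a column with two nonzero entries. -/
theorem exists_col_of_not_mon {g : Matrix.GeneralLinearGroup (Fin n) F} (h : ¬ IsMon g) :
    ∃ i j l, j ≠ l ∧ ((g : Matrix (Fin n) (Fin n) F) *ᵥ Pi.single i 1) j ≠ 0 ∧
      ((g : Matrix (Fin n) (Fin n) F) *ᵥ Pi.single i 1) l ≠ 0 := by
  by_contra hc
  simp only [not_exists, not_and, not_not] at hc
  have hinj : Function.Injective (fun w => (g : Matrix (Fin n) (Fin n) F) *ᵥ w) :=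
    Matrix.mulVec_injective_iff_isUnit.2 (Units.isUnit g)
  have hone : ∀ i, ∃ j, ((g : Matrix (Fin n) (Fin n) F) *ᵥ Pi.single i 1) j ≠ 0 := by
    intro i
    by_contra h0
    simp only [not_exists, not_not] at h0
    have h1 := hinj ((funext h0).trans (Matrix.mulVec_zero (g : Matrix (Fin n) (Fin n) F)).symm)
    simpa using congrFun h1 i
  choose π hπ using hone
  have hcol : ∀ i, (g : Matrix (Fin n) (Fin n) F) *ᵥ Pi.single i 1 =
      ((g : Matrix (Fin n) (Fin n) F) *ᵥ Pi.single i 1) (π i) • Pi.single (π i) 1 := by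
    intro i; funext j
    by_cases hj : j = π i
    · subst hj; simp
    · simp only [Pi.smul_apply, Pi.single_eq_of_ne hj, smul_zero]
      exact hc i j (π i) hj |> fun h' => by
        by_contra h0
        exact hπ i (h' h0)
  have hπi : Function.Injective π := by
    intro i i' he
    by_contra hne
    have e1 := hcol i
    have e2 := hcol i'
    rw [← he] at e2
    have hb : ((g : Matrix (Fin n) (Fin n) F) *ᵥ Pi.single i' 1) (π i) ≠ 0 := he ▸ hπ i'
    have := hinj (a₁ := ((g : Matrix (Fin n) (Fin n) F) *ᵥ Pi.single i' 1) (π i) • Pi.single i 1)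
      (a₂ := ((g : Matrix (Fin n) (Fin n) F) *ᵥ Pi.single i 1) (π i) • Pi.single i' 1) (by
        simp only [Matrix.mulVec_smul]
        conv_lhs => rw [e1]
        conv_rhs => rw [e2]
        rw [smul_smul, smul_smul, mul_comm])
    have h' := congrFun this i
    simp [Pi.single_eq_of_ne hne] at h' hb
    exact hb h'
  exact h ⟨Equiv.ofBijective π (Finite.injective_iff_bijective.1 hπi), fun i => ⟨_, hcol i⟩⟩

variable [Fintype F]

/-- Support of a vector. -/
noncomputable def supp (x : Fin n → F) : Finset (Fin n) := by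
  classical exact Finset.univ.filter fun i => x i ≠ 0

omit [Fintype F] in
theorem mem_supp {x : Fin n → F} {i : Fin n} : i ∈ supp x ↔ x i ≠ 0 := by simp [supp]

omit [Fintype F] in
theorem eq_zero_of_notMem_supp {x : Fin n → F} {i : Fin n} (h : i ∉ supp x) : x i = 0 := by
  simpa [mem_supp] using h

omit [Fintype F] in
theorem exists_notMem_of_card_lt {S : Finset (Fin n)} (h : S.card < n) : ∃ i, i ∉ S := by
  by_contra hc
  simp only [not_exists, not_not] at hc
  have h1 : (Finset.univ : Finset (Fin n)).card ≤ S.card := Finset.card_le_card fun i _ => hc i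
  rw [Finset.card_univ, Fintype.card_fin] at h1
  omega

theorem herm_single (hF : Fintype.card F = q ^ 2) (x : Fin n → F) (i : Fin n) :
    Cfsg.hermForm n F q x (Pi.single i 1) = x i := hermForm_single_right hF x i

/-- A pseudo-reflection as an element of GL. -/
noncomputable def glRefl (q : ℕ) (e : Fin n → F) (m : F) : Matrix.GeneralLinearGroup (Fin n) F := by
  classical exact
    if h : IsUnit (Cfsg.unitaryTransvection n q e (m - 1)) then h.unit else 1

section Refl

variable (hF : Fintype.card F = q ^ 2)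
include hF

theorem refl_isUnitary {e : Fin n → F} (he : Cfsg.hermForm n F q e e = 1) {m : F}
    (hm : m ^ (q + 1) = 1) : IsUnitary q (Cfsg.unitaryTransvection n q e (m - 1)) := by
  intro x y
  have H := hermForm_isHerm hF n
  rw [transvection_mulVec, transvection_mulVec, H.add_left, H.add_right hF, H.add_right hF,
    H.smul_left, H.smul_left, H.smul_right, H.smul_right, he, H.conj_symm y e, mul_pow,
    sub_pow_q hF, one_pow]
  linear_combination Cfsg.hermForm n F q x e * Cfsg.hermForm n F q y e ^ q * hm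

theorem glRefl_val {e : Fin n → F} (he : Cfsg.hermForm n F q e e = 1) {m : F}
    (hm : m ^ (q + 1) = 1) : (glRefl q e m : Matrix (Fin n) (Fin n) F) =
      Cfsg.unitaryTransvection n q e (m - 1) := by
  rw [glRefl, dif_pos ((refl_isUnitary hF he hm).isUnit hF), IsUnit.unit_spec]

theorem glRefl_apply {e : Fin n → F} (he : Cfsg.hermForm n F q e e = 1) {m : F}
    (hm : m ^ (q + 1) = 1) (x : Fin n → F) : (glRefl q e m : Matrix (Fin n) (Fin n) F) *ᵥ x =
      x + ((m - 1) * Cfsg.hermForm n F q x e) • e := by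
  rw [glRefl_val hF he hm, transvection_mulVec]

theorem glRefl_mem {e : Fin n → F} (he : Cfsg.hermForm n F q e e = 1) {m : F}
    (hm : m ^ (q + 1) = 1) : glRefl q e m ∈ Cfsg.GU n F q := by
  rw [mem_GU_iff, glRefl_val hF he hm]; exact refl_isUnitary hF he hm

theorem glRefl_det {e : Fin n → F} (he : Cfsg.hermForm n F q e e = 1) {m : F}
    (hm : m ^ (q + 1) = 1) : (glRefl q e m : Matrix (Fin n) (Fin n) F).det = m := by
  rw [glRefl_val hF he hm, Cfsg.unitaryTransvection, ← Matrix.smul_vecMulVec,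
    Matrix.vecMulVec_eq Unit, Matrix.det_one_add_replicateCol_mul_replicateRow]
  have : (fun j => e j ^ q) ⬝ᵥ ((m - 1) • e) = m - 1 := by
    rw [dotProduct_smul, smul_eq_mul]
    have : (fun j => e j ^ q) ⬝ᵥ e = 1 := by
      simpa [dotProduct, Cfsg.hermForm, mul_comm] using he
    rw [this, mul_one]
  rw [this]; ring

theorem glRefl_fix {e : Fin n → F} (he : Cfsg.hermForm n F q e e = 1) {m : F}
    (hm : m ^ (q + 1) = 1) {x : Fin n → F} (hx : Cfsg.hermForm n F q x e = 0) :
    (glRefl q e m : Matrix (Fin n) (Fin n) F) *ᵥ x = x := by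
  rw [glRefl_apply hF he hm, hx, mul_zero, zero_smul, add_zero]

theorem glRefl_self {e : Fin n → F} (he : Cfsg.hermForm n F q e e = 1) {m : F}
    (hm : m ^ (q + 1) = 1) : (glRefl q e m : Matrix (Fin n) (Fin n) F) *ᵥ e = m • e := by
  rw [glRefl_apply hF he hm, he]; module

theorem glRefl_conj {g : Matrix.GeneralLinearGroup (Fin n) F} (hg : g ∈ Cfsg.GU n F q)
    {e : Fin n → F} (he : Cfsg.hermForm n F q e e = 1) {m : F} (hm : m ^ (q + 1) = 1) :
    g * glRefl q e m * g⁻¹ = glRefl q ((g : Matrix (Fin n) (Fin n) F) *ᵥ e) m := by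
  refine Units.ext (Matrix.ext_iff_mulVec.2 fun x => ?_)
  have he' : Cfsg.hermForm n F q ((g : Matrix (Fin n) (Fin n) F) *ᵥ e)
      ((g : Matrix (Fin n) (Fin n) F) *ᵥ e) = 1 := (hg e e).trans he
  obtain ⟨y, rfl⟩ : ∃ y, (g : Matrix (Fin n) (Fin n) F) *ᵥ y = x :=
    Matrix.mulVec_surjective_iff_isUnit.2 (Units.isUnit g) x
  rw [Matrix.mulVec_mulVec, ← Units.val_mul, inv_mul_cancel_right, Units.val_mul,
    ← Matrix.mulVec_mulVec, glRefl_apply hF he hm, glRefl_apply hF he' hm, Matrix.mulVec_add,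
    Matrix.mulVec_smul,
    show Cfsg.hermForm n F q ((g : Matrix (Fin n) (Fin n) F) *ᵥ y) ((g : Matrix (Fin n) (Fin n) F) *ᵥ e) =
      Cfsg.hermForm n F q y e from hg y e]

theorem glRefl_smul {e : Fin n → F} (he : Cfsg.hermForm n F q e e = 1) {m r : F}
    (hm : m ^ (q + 1) = 1) (hr : r ^ (q + 1) = 1) : glRefl q (r • e) m = glRefl q e m := by
  have H := hermForm_isHerm hF n
  have hr' : r ^ q * r = 1 := by rw [← pow_succ, hr]
  have he' : Cfsg.hermForm n F q (r • e) (r • e) = 1 := by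
    rw [H.smul_left, H.smul_right, he]; linear_combination hr'
  refine Units.ext (Matrix.ext_iff_mulVec.2 fun x => ?_)
  rw [glRefl_apply hF he hm, glRefl_apply hF he' hm, H.smul_right, smul_smul]
  congr 2
  linear_combination ((m - 1) * Cfsg.hermForm n F q x e) * hr'

theorem glRefl_single_mon (i : Fin n) {m : F} (hm : m ^ (q + 1) = 1) :
    IsMon (glRefl q (Pi.single i 1 : Fin n → F) m) := by
  have o := single_orthonormal hF n
  refine ⟨1, fun j => ⟨if j = i then m else 1, ?_⟩⟩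
  rw [Equiv.Perm.one_apply]
  rcases eq_or_ne j i with rfl | hji
  · rw [if_pos rfl, glRefl_self hF (o.1 j) hm]
  · rw [if_neg hji, glRefl_fix hF (o.1 i) hm (o.2 hji), one_smul]

/-- Monomial element with prescribed entries. -/
theorem exists_mono (π : Equiv.Perm (Fin n)) (l : Fin n → F) (hl : ∀ i, l i ^ (q + 1) = 1) :
    ∃ g : Matrix.GeneralLinearGroup (Fin n) F, g ∈ Cfsg.GU n F q ∧ IsMon g ∧
      ∀ x j, ((g : Matrix (Fin n) (Fin n) F) *ᵥ x) j = l j * x (π.symm j) := by
  let A : Matrix (Fin n) (Fin n) F := Matrix.of fun j i => if i = π.symm j then l j else 0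
  have hA : ∀ x j, (A *ᵥ x) j = l j * x (π.symm j) := fun x j => by
    simp [A, Matrix.mulVec, dotProduct]
  have hU : IsUnitary q A := by
    intro x y
    show ∑ j, (A *ᵥ x) j * (A *ᵥ y) j ^ q = ∑ j, x j * y j ^ q
    rw [← Equiv.sum_comp π.symm (fun j => x j * y j ^ q)]
    refine Finset.sum_congr rfl fun j _ => ?_
    rw [hA, hA, mul_pow]
    have := hl j
    rw [pow_succ] at this
    linear_combination (x (π.symm j) * y (π.symm j) ^ q) * this
  refine ⟨(guOfUnitary hF A hU : Cfsg.GU n F q), (guOfUnitary hF A hU).2,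
    ⟨π, fun i => ⟨l (π i), ?_⟩⟩, fun x j => ?_⟩
  · funext j
    rw [guOfUnitary_val, hA]
    rcases eq_or_ne j (π i) with rfl | hj
    · simp
    · have : π.symm j ≠ i := fun h => hj (by rw [← h, Equiv.apply_symm_apply])
      simp [hj, this]
  · rw [guOfUnitary_val, hA]

section InM

variable {M : Subgroup (Matrix.GeneralLinearGroup (Fin n) F)}
  (hHM : ∀ g ∈ suGL n F q, IsMon g → g ∈ M)
include hHM

/-- A monomial element of M: one coordinate absorbs the determinant. -/
theorem exists_monM (π : Equiv.Perm (Fin n)) (l : Fin n → F) (hl : ∀ i, l i ^ (q + 1) = 1) (p : Fin n) :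
    ∃ g ∈ M, g ∈ suGL n F q ∧ IsMon g ∧ ∃ m : F, m ^ (q + 1) = 1 ∧ ∀ x j,
      ((g : Matrix (Fin n) (Fin n) F) *ᵥ x) j = (if j = p then m else l j) * x (π.symm j) := by
  obtain ⟨g, hg, hgm, hgx⟩ := exists_mono hF π l hl
  have hd : (g : Matrix (Fin n) (Fin n) F).det ^ (q + 1) = 1 :=
    IsUnitary.det_norm hF (hg : IsUnitary q _)
  have hd0 : (g : Matrix (Fin n) (Fin n) F).det ≠ 0 := fun h => by simp [h] at hd
  obtain ⟨d, hdd⟩ : ∃ d, d = (g : Matrix (Fin n) (Fin n) F).det⁻¹ := ⟨_, rfl⟩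
  have hd1 : d ^ (q + 1) = 1 := hdd ▸ inv_pow_succ _ hd
  have o := single_orthonormal hF n
  have hsu : glRefl q (Pi.single p 1) d * g ∈ suGL n F q := by
    refine ⟨mul_mem (glRefl_mem hF (o.1 p) hd1) hg, MonoidHom.mem_ker.2 (Units.ext ?_)⟩
    show (_ * (g : Matrix (Fin n) (Fin n) F)).det = 1
    rw [Matrix.det_mul]
    refine Eq.trans (congrArg (· * _) (glRefl_det hF (o.1 p) hd1)) ?_
    rw [hdd, inv_mul_cancel₀ hd0]
  have hmon := (glRefl_single_mon hF p hd1).mul hgm
  refine ⟨_, hHM _ hsu hmon, hsu, hmon, d * l p, by rw [mul_pow, hd1, hl, one_mul], fun x j => ?_⟩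
  rw [Units.val_mul, ← Matrix.mulVec_mulVec, glRefl_apply hF (o.1 p) hd1, herm_single hF,
    Pi.add_apply, Pi.smul_apply, hgx, hgx]
  rcases eq_or_ne j p with rfl | hj
  · simp; ring
  · simp [hj]

/-- A diagonal element of M. -/
theorem exists_diagM (l : Fin n → F) (hl : ∀ i, l i ^ (q + 1) = 1) (hp : ∏ i, l i = 1) :
    ∃ g ∈ M, g ∈ suGL n F q ∧ IsMon g ∧
      ∀ x j, ((g : Matrix (Fin n) (Fin n) F) *ᵥ x) j = l j * x j := by
  obtain ⟨g, hg, hgm, hgx⟩ := exists_mono hF 1 l hl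
  have hdiag : (g : Matrix (Fin n) (Fin n) F) = Matrix.diagonal l := by
    refine Matrix.ext_iff_mulVec.2 fun x => funext fun j => ?_
    rw [hgx, Matrix.mulVec_diagonal]; rfl
  have hsu : g ∈ suGL n F q := ⟨hg, MonoidHom.mem_ker.2 (Units.ext (by
    show (g : Matrix (Fin n) (Fin n) F).det = 1
    rw [hdiag, Matrix.det_diagonal, hp]))⟩
  exact ⟨g, hHM _ hsu hgm, hsu, hgm, fun x j => by rw [hgx]; rfl⟩

end InM

end Refl

/-- x is linked to the coordinate frame. -/
def Linked (q : ℕ) (M : Subgroup (Matrix.GeneralLinearGroup (Fin n) F)) (m : F) (x : Fin n → F) : Prop :=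
  Cfsg.hermForm n F q x x = 1 ∧ ∀ k : Fin n, glRefl q x m * (glRefl q (Pi.single k 1) m)⁻¹ ∈ M

section LinkedLemmas

variable (hF : Fintype.card F = q ^ 2) {M : Subgroup (Matrix.GeneralLinearGroup (Fin n) F)}
  (hHM : ∀ g ∈ suGL n F q, IsMon g → g ∈ M) {m : F} (hm : m ^ (q + 1) = 1)
include hF hHM hm

theorem mon_linked {x : Fin n → F} (hx : Cfsg.hermForm n F q x x = 1) (hmon : IsMon (glRefl q x m)) :
    Linked q M m x := by
  refine ⟨hx, fun k => hHM _ ⟨?_, MonoidHom.mem_ker.2 (Units.ext ?_)⟩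
    (hmon.mul (glRefl_single_mon hF k hm).inv)⟩
  · exact (Cfsg.GU n F q).mul_mem (glRefl_mem hF hx hm)
      ((Cfsg.GU n F q).inv_mem (glRefl_mem hF ((single_orthonormal hF n).1 k) hm))
  · have hm0 : m ≠ 0 := fun h => by simp [h] at hm
    have o := (single_orthonormal hF n).1 k
    have h1 : ((glRefl q (Pi.single k 1 : Fin n → F) m)⁻¹ *
        glRefl q (Pi.single k 1 : Fin n → F) m : Matrix.GeneralLinearGroup (Fin n) F) = 1 := inv_mul_cancel _
    have h2 := congrArg (fun g : Matrix.GeneralLinearGroup (Fin n) F => (g : Matrix (Fin n) (Fin n) F).det) h1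
    simp only [Units.val_mul, Matrix.det_mul, glRefl_det hF o hm, Units.val_one, Matrix.det_one] at h2
    show ((glRefl q x m * (glRefl q (Pi.single k 1 : Fin n → F) m)⁻¹ : Matrix.GeneralLinearGroup (Fin n) F) :
      Matrix (Fin n) (Fin n) F).det = 1
    rw [Units.val_mul, Matrix.det_mul, glRefl_det hF hx hm, mul_comm]
    exact h2

theorem linked_single (k : Fin n) : Linked q M m (Pi.single k 1) :=
  mon_linked hF hHM hm ((single_orthonormal hF n).1 k) (glRefl_single_mon hF k hm)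

omit hHM hm in
theorem Linked.pair {x y : Fin n → F} (hx : Linked q M m x) (hy : Linked q M m y) (k : Fin n) :
    glRefl q x m * (glRefl q y m)⁻¹ ∈ M := by
  have _ := hF
  have := mul_mem (hx.2 k) (inv_mem (hy.2 k))
  simpa [mul_inv_rev, mul_assoc] using this

/-- Transport by an element of M. -/
theorem Linked.of_conj {x y : Fin n → F} (hx : Linked q M m x) (hy : Linked q M m y)
    {g : Matrix.GeneralLinearGroup (Fin n) F} (hgM : g ∈ M) (hg : g ∈ Cfsg.GU n F q)
    (hgy : Linked q M m ((g : Matrix (Fin n) (Fin n) F) *ᵥ y)) :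
    Linked q M m ((g : Matrix (Fin n) (Fin n) F) *ᵥ x) := by
  refine ⟨(hg x x).trans hx.1, fun k => ?_⟩
  have h1 : g * (glRefl q x m * (glRefl q y m)⁻¹) * g⁻¹ ∈ M :=
    mul_mem (mul_mem hgM (Linked.pair hF hx hy k)) (inv_mem hgM)
  have e : g * (glRefl q x m * (glRefl q y m)⁻¹) * g⁻¹ =
      (g * glRefl q x m * g⁻¹) * (g * glRefl q y m * g⁻¹)⁻¹ := by group
  rw [e, glRefl_conj hF hg hx.1 hm, glRefl_conj hF hg hy.1 hm] at h1
  have := mul_mem h1 (hgy.2 k)
  simpa [mul_assoc] using this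

omit hHM in
theorem Linked.smul {x : Fin n → F} (hx : Linked q M m x) {r : F} (hr : r ^ (q + 1) = 1) :
    Linked q M m (r • x) := by
  have H := hermForm_isHerm hF n
  refine ⟨?_, fun k => by rw [glRefl_smul hF hx.1 hm hr]; exact hx.2 k⟩
  rw [H.smul_left, H.smul_right, hx.1, mul_one, ← pow_succ', hr]

theorem Linked.mon {x : Fin n → F} (hx : Linked q M m x) {g : Matrix.GeneralLinearGroup (Fin n) F}
    (hgM : g ∈ M) (hg : g ∈ Cfsg.GU n F q) (hgm : IsMon g) :
    Linked q M m ((g : Matrix (Fin n) (Fin n) F) *ᵥ x) := by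
  rcases Nat.eq_zero_or_pos n with rfl | hn
  · exact ⟨(hg x x).trans hx.1, fun k => k.elim0⟩
  obtain ⟨π, hπ⟩ := hgm
  obtain ⟨a, ha⟩ := hπ ⟨0, hn⟩
  refine Linked.of_conj hF hHM hm hx (linked_single hF hHM hm ⟨0, hn⟩) hgM hg ?_
  rw [ha]
  refine Linked.smul hF hm (linked_single hF hHM hm _) ?_
  have h : Cfsg.hermForm n F q ((g : Matrix (Fin n) (Fin n) F) *ᵥ Pi.single (⟨0, hn⟩ : Fin n) (1 : F))
      ((g : Matrix (Fin n) (Fin n) F) *ᵥ Pi.single (⟨0, hn⟩ : Fin n) (1 : F)) =
      Cfsg.hermForm n F q (Pi.single (⟨0, hn⟩ : Fin n) (1 : F)) (Pi.single (⟨0, hn⟩ : Fin n) 1) := hg _ _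
  have o := (single_orthonormal hF n).1
  rw [ha, (hermForm_isHerm hF n).smul_left, (hermForm_isHerm hF n).smul_right, o, o, mul_one] at h
  rw [pow_succ']; exact h

/-- An element fixing a linked line: all its columns are linked. -/
theorem cols_linked {g : Matrix.GeneralLinearGroup (Fin n) F} (hgM : g ∈ M) (hg : g ∈ Cfsg.GU n F q)
    {y : Fin n → F} (hy : Linked q M m y) (hgy : Linked q M m ((g : Matrix (Fin n) (Fin n) F) *ᵥ y))
    (i : Fin n) : Linked q M m ((g : Matrix (Fin n) (Fin n) F) *ᵥ Pi.single i 1) :=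
  Linked.of_conj hF hHM hm (linked_single hF hHM hm i) hy hgM hg hgy

end LinkedLemmas

end Cfsg.Agent.Unitary
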