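import Cfsg.Agent.Lib.Unitary.Circle
/-
Norm-one combinations in few variables, with a prescribed product.
* exists_sum3 (three circles cover every nonzero element), exists_sum3_equal, exists_sum_three
* exists_sum_big, exists_zero_triple
* exists_sum_prod_of_zero, exists_sum_prod_of (a zero-sum group, and a given solution on the rest)
-/
set_option autoImplicit false

namespace Cfsg.Agent.Unitary

variable {F : Type*} [Field F] [Fintype F] {q : ℕ}

/-- The norms on two circles meet. -/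
theorem exists_norm_meet (hF : Fintype.card F = q ^ 2) {a b c d : F} (ha : a ≠ 0) (hb : b ≠ 0)
    (hc : c ≠ 0) (hd : d ≠ 0) : ∃ x y : F, x ^ (q + 1) = 1 ∧ y ^ (q + 1) = 1 ∧
      (a + b * x) ^ (q + 1) = (c + d * y) ^ (q + 1) := by
  classical
  set U := Finset.univ.filter (fun x : F => x ^ (q + 1) = 1) with hU
  have hUc : U.card = q + 1 := by
    have := card_norm_one hF
    rwa [Nat.card_eq_fintype_card, Fintype.card_subtype] at this
  set K := Finset.univ.filter (fun v : F => v ^ q = v) with hK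
  have hKc : K.card = q := by
    have := card_fixed hF
    rwa [Nat.card_eq_fintype_card, Fintype.card_subtype] at this
  have sub : ∀ a b : F, (U.image fun x => (a + b * x) ^ (q + 1)) ⊆ K := fun a b v hv => by
    obtain ⟨x, -, rfl⟩ := Finset.mem_image.1 hv
    exact Finset.mem_filter.2 ⟨Finset.mem_univ _, pow_q_succ_fixed hF _⟩
  have big : ∀ a b : F, a ≠ 0 → b ≠ 0 →
      q + 1 ≤ 2 * (U.image fun x => (a + b * x) ^ (q + 1)).card := by
    intro a b ha hb
    refine hUc.symm.le.trans (Finset.card_le_mul_card_image U 2 fun v _ => ?_)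
    refine card_roots_quad_le (a := a ^ q * b) (b := a ^ q * a + b ^ q * b - v)
      (c := a * b ^ q) (mul_ne_zero (pow_ne_zero _ ha) hb) _ fun x hx => ?_
    obtain ⟨hxU, hxv⟩ := Finset.mem_filter.1 hx
    have hx1 : x ^ (q + 1) = 1 := (Finset.mem_filter.1 hxU).2
    simp only [pow_succ _ q, add_pow_q hF, mul_pow] at hxv hx1 ⊢
    linear_combination x * hxv - (b ^ q * b * x + a * b ^ q) * hx1
  obtain ⟨v, hv⟩ : ((U.image fun x => (a + b * x) ^ (q + 1)) ∩
      (U.image fun x => (c + d * x) ^ (q + 1))).Nonempty := by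
    rw [← Finset.card_pos]
    have h1 := Finset.card_union_add_card_inter (U.image fun x => (a + b * x) ^ (q + 1))
      (U.image fun x => (c + d * x) ^ (q + 1))
    have h2 := Finset.card_le_card (Finset.union_subset (sub a b) (sub c d))
    have := big a b ha hb
    have := big c d hc hd
    omega
  obtain ⟨h1, h2⟩ := Finset.mem_inter.1 hv
  obtain ⟨x, hx, hxv⟩ := Finset.mem_image.1 h1
  obtain ⟨y, hy, hyv⟩ := Finset.mem_image.1 h2
  exact ⟨x, y, (Finset.mem_filter.1 hx).2, (Finset.mem_filter.1 hy).2, hxv.trans hyv.symm⟩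

/-- Three circles cover every nonzero element. -/
theorem exists_sum3 (hF : Fintype.card F = q ^ 2) {w₀ w₁ w₂ z : F} (h₀ : w₀ ≠ 0) (h₁ : w₁ ≠ 0)
    (h₂ : w₂ ≠ 0) (hz : z ≠ 0) : ∃ a b c : F, a ^ (q + 1) = 1 ∧ b ^ (q + 1) = 1 ∧
      c ^ (q + 1) = 1 ∧ w₀ * a + w₁ * b + w₂ * c = z := by
  obtain ⟨x, y, hx, hy, hN⟩ := exists_norm_meet hF h₀ h₁ hz (neg_ne_zero.2 h₂)
  by_cases h0 : w₀ + w₁ * x = 0
  · rw [h0, zero_pow (Nat.succ_ne_zero q), eq_comm, pow_eq_zero_iff (Nat.succ_ne_zero q)] at hN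
    exact ⟨1, x, y, one_pow _, hx, hy, by linear_combination h0 - hN⟩
  set s := (z + -w₂ * y) / (w₀ + w₁ * x) with hs
  have hs1 : s ^ (q + 1) = 1 := by
    rw [hs, div_pow, ← hN, div_self (pow_ne_zero _ h0)]
  have e : s * (w₀ + w₁ * x) = z + -w₂ * y := by rw [hs, div_mul_cancel₀ _ h0]
  exact ⟨s, s * x, y, hs1, by rw [mul_pow, hs1, hx, one_mul], hy, by linear_combination e⟩

/-- Three equal circles reach zero when a primitive cube root of unity, or one itself, allows it. -/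
theorem exists_sum3_equal (hF : Fintype.card F = q ^ 2) (h3 : 3 ∣ q + 1 ∨ (3 : F) = 0) :
    ∃ a b c : F, a ^ (q + 1) = 1 ∧ b ^ (q + 1) = 1 ∧ c ^ (q + 1) = 1 ∧ a + b + c = 0 := by
  rcases h3 with h3 | h3
  · obtain ⟨ζ, hζ, hord⟩ := exists_norm_one_gen hF
    obtain ⟨k, hk⟩ := h3
    have hw : (ζ ^ k) ^ 3 = 1 := by rw [← pow_mul, mul_comm, ← hk, hζ]
    have hw1 : ζ ^ k ≠ 1 := fun h => by
      have := Nat.le_of_dvd (by omega) (hord ▸ orderOf_dvd_of_pow_eq_one h)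
      omega
    refine ⟨1, ζ ^ k, (ζ ^ k) ^ 2, one_pow _, ?_, ?_, ?_⟩
    · rw [← pow_mul, mul_comm, pow_mul, hζ, one_pow]
    · rw [← pow_mul, ← pow_mul, show k * (2 * (q + 1)) = (q + 1) * (k * 2) by ring, pow_mul, hζ,
        one_pow]
    · refine (mul_eq_zero.1 (show (ζ ^ k - 1) * (1 + ζ ^ k + (ζ ^ k) ^ 2) = 0 by
        linear_combination hw)).resolve_left (sub_ne_zero.2 hw1)
  · exact ⟨1, 1, 1, one_pow _, one_pow _, one_pow _, by linear_combination h3⟩

theorem exists_pow_bezout_gcd {a e : ℕ} (hab : a.Coprime (Nat.gcd e (q + 1))) {P : F}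
    (hP : P ^ (q + 1) = 1) :
    ∃ s r : F, s ^ (q + 1) = 1 ∧ r ^ (q + 1) = 1 ∧ s ^ a * r ^ e = P := by
  obtain ⟨s, r, hs, hr, hsr⟩ := exists_pow_bezout hab hP
  have hr0 : r ≠ 0 := fun h => by simp [h] at hr
  refine ⟨s, r ^ Nat.gcdA e (q + 1), hs, ?_, ?_⟩
  · rw [← zpow_natCast, ← zpow_mul, mul_comm, zpow_mul, zpow_natCast, hr, one_zpow]
  · rw [← hsr]
    congr 1
    rw [← zpow_natCast r, Nat.gcd_eq_gcd_ab, zpow_add₀ hr0, zpow_mul r _ (Nat.gcdB e (q + 1)),
      zpow_natCast r (q + 1), hr, one_zpow, mul_one, zpow_mul, zpow_natCast r e,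
      ← zpow_natCast _ e, ← zpow_mul, mul_comm, zpow_mul, zpow_natCast]

/-- A prescribed sum and product, from a zero-sum group and any solution on the rest. -/
theorem exists_sum_prod_of_zero (hF : Fintype.card F = q ^ 2) {ι : Type*} [DecidableEq ι]
    {I G : Finset ι} (hGI : G ⊆ I) (w : ι → F)
    {z P : F} (hP : P ^ (q + 1) = 1) {e : ℕ} (hco : G.card.Coprime (Nat.gcd e (q + 1)))
    (hG : ∃ l : ι → F, (∀ i, l i ^ (q + 1) = 1) ∧ ∑ i ∈ G, w i * l i = 0)
    (hJ : ∃ l : ι → F, (∀ i, l i ^ (q + 1) = 1) ∧ ∑ i ∈ I \ G, w i * l i = z) :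
    ∃ (l : ι → F) (r : F), (∀ i, l i ^ (q + 1) = 1) ∧ r ^ (q + 1) = 1 ∧
      ∑ i ∈ I, w i * l i = z ∧ (∏ i ∈ I, l i) * r ^ e = P := by
  classical
  obtain ⟨l1, hl1, hs1⟩ := hG
  obtain ⟨l2, hl2, hs2⟩ := hJ
  obtain ⟨Q, hQdef⟩ : ∃ Q, Q = P * ((∏ i ∈ G, l1 i) * ∏ i ∈ I \ G, l2 i)⁻¹ := ⟨_, rfl⟩
  have hQ : Q ^ (q + 1) = 1 := by
    rw [hQdef, mul_pow, inv_pow, mul_pow, ← Finset.prod_pow, ← Finset.prod_pow, hP]
    simp [hl1, hl2]
  have hne : (∏ i ∈ G, l1 i) * ∏ i ∈ I \ G, l2 i ≠ 0 := by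
    refine mul_ne_zero (Finset.prod_ne_zero_iff.2 fun i _ h => ?_)
      (Finset.prod_ne_zero_iff.2 fun i _ h => ?_)
    · have := hl1 i; simp [h] at this
    · have := hl2 i; simp [h] at this
  obtain ⟨s, r, hs, hr, hsr⟩ := exists_pow_bezout_gcd hco hQ
  refine ⟨fun i => if i ∈ G then s * l1 i else l2 i, r, fun i => ?_, hr, ?_, ?_⟩
  · dsimp only; split_ifs
    · rw [mul_pow, hs, hl1, one_mul]
    · exact hl2 i
  · rw [← Finset.sum_sdiff hGI,
      Finset.sum_congr rfl (s₁ := G) (g := fun i => s * (w i * l1 i))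
        (fun i hi => by simp [hi]; ring),
      Finset.sum_congr rfl (s₁ := I \ G) (g := fun i => w i * l2 i)
        (fun i hi => by simp [(Finset.mem_sdiff.1 hi).2]),
      hs2, ← Finset.mul_sum, hs1, mul_zero, add_zero]
  · rw [← Finset.prod_sdiff hGI,
      Finset.prod_congr rfl (s₁ := G) (g := fun i => s * l1 i) (fun i hi => by simp [hi]),
      Finset.prod_congr rfl (s₁ := I \ G) (g := fun i => l2 i)
        (fun i hi => by simp [(Finset.mem_sdiff.1 hi).2]),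
      Finset.prod_mul_distrib, Finset.prod_const]
    calc (∏ i ∈ I \ G, l2 i) * (s ^ G.card * ∏ i ∈ G, l1 i) * r ^ e
        = (s ^ G.card * r ^ e) * ((∏ i ∈ G, l1 i) * ∏ i ∈ I \ G, l2 i) := by ring
      _ = P := by rw [hsr, hQdef, inv_mul_cancel_right₀ hne]

/-- Norm-one elements with prescribed sum on at least four indices. -/
theorem exists_sum_big (hF : Fintype.card F = q ^ 2) {ι : Type*} [DecidableEq ι] {J : Finset ι}
    (hJ : 4 ≤ J.card) (w : ι → F) (hw : ∀ i ∈ J, w i ≠ 0) (z : F) :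
    ∃ l : ι → F, (∀ i, l i ^ (q + 1) = 1) ∧ ∑ i ∈ J, w i * l i = z := by
  classical
  obtain ⟨T, hTG, hT⟩ := Finset.exists_subset_card_eq hJ
  let f : Fin 4 ≃ T := (Fintype.equivFinOfCardEq (by simp [hT])).symm
  obtain ⟨l0, hl0, hl0s⟩ := exists_sum4 hF (fun i => w (f i)) (fun i => hw _ (hTG (f i).2))
    (z - ∑ i ∈ J \ T, w i)
  refine ⟨fun i => if h : i ∈ T then l0 (f.symm ⟨i, h⟩) else 1, fun i => ?_, ?_⟩
  · dsimp only; split_ifs
    · exact hl0 _
    · exact one_pow _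
  · rw [← Finset.sum_sdiff hTG, Finset.sum_congr rfl (s₁ := J \ T) (g := w) (fun i hi => by
      dsimp only
      rw [dif_neg (Finset.mem_sdiff.1 hi).2, mul_one]),
      ← Finset.sum_coe_sort T, ← f.sum_comp]
    simp only [Finset.coe_mem, dite_true, Subtype.coe_eta, Equiv.symm_apply_apply]
    rw [hl0s]; ring

theorem exists_sum_prod_of (hF : Fintype.card F = q ^ 2) {ι : Type*} [DecidableEq ι]
    {I G : Finset ι} (hGI : G ⊆ I) (w : ι → F) (hw : ∀ i ∈ I, w i ≠ 0) (hG : 4 ≤ G.card)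
    {z P : F} (hP : P ^ (q + 1) = 1) {e : ℕ} (hco : G.card.Coprime (Nat.gcd e (q + 1)))
    (hJ : ∃ l : ι → F, (∀ i, l i ^ (q + 1) = 1) ∧ ∑ i ∈ I \ G, w i * l i = z) :
    ∃ (l : ι → F) (r : F), (∀ i, l i ^ (q + 1) = 1) ∧ r ^ (q + 1) = 1 ∧
      ∑ i ∈ I, w i * l i = z ∧ (∏ i ∈ I, l i) * r ^ e = P :=
  exists_sum_prod_of_zero hF hGI w hP hco
    (exists_sum_big hF hG w (fun i hi => hw i (hGI hi)) 0) hJ

/-- Norm-one solutions on three indices. -/
theorem exists_sum_three (hF : Fintype.card F = q ^ 2) {ι : Type*} [DecidableEq ι] {J : Finset ι}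
    (hJ : J.card = 3) (w : ι → F) (hw : ∀ i ∈ J, w i ≠ 0) {z : F}
    (hz : z ≠ 0 ∨ ((3 ∣ q + 1 ∨ (3 : F) = 0) ∧ ∀ i ∈ J, ∀ j ∈ J, w i = w j)) :
    ∃ l : ι → F, (∀ i, l i ^ (q + 1) = 1) ∧ ∑ i ∈ J, w i * l i = z := by
  classical
  obtain ⟨x, y, t, hxy, hxt, hyt, rfl⟩ := Finset.card_eq_three.1 hJ
  obtain ⟨a, b, c, ha, hb, hc, habc⟩ : ∃ a b c : F, a ^ (q + 1) = 1 ∧ b ^ (q + 1) = 1 ∧
      c ^ (q + 1) = 1 ∧ w x * a + w y * b + w t * c = z := by
    by_cases h0 : z = 0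
    · obtain ⟨h3, heq⟩ := hz.resolve_left (fun h => h h0)
      obtain ⟨a, b, c, ha, hb, hc, habc⟩ := exists_sum3_equal hF h3
      refine ⟨a, b, c, ha, hb, hc, ?_⟩
      rw [heq y (by simp) x (by simp), heq t (by simp) x (by simp), h0]
      linear_combination (w x) * habc
    · exact exists_sum3 hF (hw _ (by simp)) (hw _ (by simp)) (hw _ (by simp)) h0
  refine ⟨fun i => if i = x then a else if i = y then b else c, fun i => ?_, ?_⟩
  · dsimp only; split_ifs <;> assumption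
  · rw [Finset.sum_insert (by simp [hxy, hxt]), Finset.sum_insert (by simp [hyt]),
      Finset.sum_singleton]
    simp [hxy.symm, hxt.symm, hyt.symm, ← habc, add_assoc]

/-- Three weights equal up to sign have a zero combination. -/
theorem exists_zero_triple (hF : Fintype.card F = q ^ 2) {ι : Type*} [DecidableEq ι] {G : Finset ι}
    (hG : G.card = 3) (w : ι → F) (hw : ∀ i ∈ G, w i ≠ 0) (h3 : 3 ∣ q + 1 ∨ (3 : F) = 0)
    (heq : ∀ i ∈ G, ∀ j ∈ G, w i * w i = w j * w j) :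
    ∃ l : ι → F, (∀ i, l i ^ (q + 1) = 1) ∧ ∑ i ∈ G, w i * l i = 0 := by
  classical
  obtain ⟨x, hx⟩ := Finset.card_pos.1 (show 0 < G.card by omega)
  have hm : (-1 : F) ^ (q + 1) = 1 := by rw [pow_succ, neg_pow_q hF, one_pow]; ring
  obtain ⟨l, hl, hls⟩ := exists_sum_three hF hG (fun _ => w x) (fun _ _ => hw x hx) (z := 0)
    (Or.inr ⟨h3, fun _ _ _ _ => rfl⟩)
  refine ⟨fun i => if i ∈ G then w x / w i * l i else 1, fun i => ?_, ?_⟩
  · dsimp only
    split_ifs with hi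
    · rcases mul_self_eq_mul_self_iff.1 (heq x hx i hi) with e | e
      · rw [e, div_self (hw i hi), one_mul]; exact hl i
      · rw [e, neg_div, div_self (hw i hi), mul_pow, hm, one_mul]; exact hl i
    · exact one_pow _
  · rw [← hls]
    refine Finset.sum_congr rfl fun i hi => ?_
    have := hw i hi
    simp only [if_pos hi]
    field_simp

end Cfsg.Agent.Unitary
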