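import Cfsg.Agent.Lib.Unitary.Maximal
/-
Coordinates for orthogonal decompositions into nondegenerate subspaces of equal dimension.
* IsFrame, frameVec (F^(t×k) → V), inner, exists_surj, exists_refl, exists_gu_frame, exists_block_perm, InStab,
  exists_frame_of_decomposition, mem_decompositionStabilizer_iff
-/
set_option autoImplicit false

namespace Cfsg.Agent.Unitary

open scoped Matrix

variable {F : Type*} [Field F] {q n t k : ℕ}

/-- The vector with coordinates c in a frame. -/
def frameVec (b : Fin t × Fin k → (Fin n → F)) : (Fin t → Fin k → F) →ₗ[F] (Fin n → F) where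
  toFun c := ∑ p, c p.1 p.2 • b p
  map_add' c c' := by simp [add_smul, Finset.sum_add_distrib]
  map_smul' a c := by simp [smul_smul, Finset.smul_sum]

/-- g permutes the blocks of the frame. -/
def InStab (b : Fin t × Fin k → (Fin n → F)) (g : Matrix.GeneralLinearGroup (Fin n) F) : Prop :=
  ∃ π : Equiv.Perm (Fin t), ∀ i y, ∃ y',
    (g : Matrix (Fin n) (Fin n) F) *ᵥ frameVec b (Pi.single i y) = frameVec b (Pi.single (π i) y')

/-- An orthonormal basis indexed by blocks. -/
structure IsFrame (q : ℕ) (b : Fin t × Fin k → (Fin n → F)) : Prop where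
  orth : Orthonormal (Cfsg.hermForm n F q) b
  card : t * k = n

variable [Fintype F] {b : Fin t × Fin k → (Fin n → F)}

/-- The pseudo-reflection at a norm-one vector. -/
theorem exists_refl (hF : Fintype.card F = q ^ 2) {e : Fin n → F}
    (he : Cfsg.hermForm n F q e e = 1) {m : F} (hm : m ^ (q + 1) = 1) :
    ∃ g : Matrix.GeneralLinearGroup (Fin n) F, g ∈ Cfsg.GU n F q ∧
      (g : Matrix (Fin n) (Fin n) F).det = m ∧
      ∀ x, (g : Matrix (Fin n) (Fin n) F) *ᵥ x = x + ((m - 1) * Cfsg.hermForm n F q x e) • e := by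
  have H := hermForm_isHerm hF n
  have hM : IsUnitary q (Cfsg.unitaryTransvection n q e (m - 1)) := fun x y => by
    rw [transvection_mulVec, transvection_mulVec, H.add_left, H.add_right hF, H.add_right hF,
      H.smul_left, H.smul_left, H.smul_right, H.smul_right, he, H.conj_symm y e, mul_pow,
      sub_pow_q hF, one_pow]
    linear_combination Cfsg.hermForm n F q x e * Cfsg.hermForm n F q y e ^ q * hm
  refine ⟨(guOfUnitary hF _ hM : Cfsg.GU n F q), (guOfUnitary hF _ hM).2, ?_, fun x => ?_⟩
  · rw [guOfUnitary_val, Cfsg.unitaryTransvection, ← Matrix.smul_vecMulVec,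
      Matrix.vecMulVec_eq Unit, Matrix.det_one_add_replicateCol_mul_replicateRow]
    have : (fun j => e j ^ q) ⬝ᵥ ((m - 1) • e) = m - 1 := by
      rw [dotProduct_smul, smul_eq_mul]
      have : (fun j => e j ^ q) ⬝ᵥ e = 1 := by
        simpa [dotProduct, Cfsg.hermForm, mul_comm] using he
      rw [this, mul_one]
    rw [this]; ring
  · rw [guOfUnitary_val, transvection_mulVec]

namespace IsFrame

variable (hF : Fintype.card F = q ^ 2) (hb : IsFrame q b)
include hF hb

theorem inner (c d : Fin t → Fin k → F) :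
    Cfsg.hermForm n F q (frameVec b c) (frameVec b d) =
      ∑ i, Cfsg.hermForm k F q (c i) (d i) := by
  refine (Orthonormal.inner_sum hF (hermForm_isHerm hF n) hb.orth _ _).trans ?_
  rw [Fintype.sum_prod_type]
  rfl

theorem exists_coord (x : Fin n → F) : ∃ c, frameVec b c = x :=
  ⟨fun i l => Cfsg.hermForm n F q x (b (i, l)),
    (hb.orth.eq_sum_of_card (hermForm_isHerm hF n) (by
      rw [Fintype.card_prod, Fintype.card_fin, Fintype.card_fin, hb.card, Module.finrank_fin_fun]) x).symm⟩

theorem inner_single (i : Fin t) (c : Fin t → Fin k → F) (y : Fin k → F) :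
    Cfsg.hermForm n F q (frameVec b c) (frameVec b (Pi.single i y)) =
      Cfsg.hermForm k F q (c i) y := by
  rw [hb.inner hF, Finset.sum_eq_single i]
  · rw [Pi.single_eq_same]
  · intro j _ hj; rw [Pi.single_eq_of_ne hj, (hermForm_isHerm hF k).zero_right hF]
  · intro h; exact absurd (Finset.mem_univ i) h

theorem inj {c d : Fin t → Fin k → F} (h : frameVec b c = frameVec b d) : c = d := by
  funext i
  have e := fun y => (hb.inner_single hF i c y).symm.trans
    ((congrArg (fun v => Cfsg.hermForm n F q v _) h).trans (hb.inner_single hF i d y))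
  refine sub_eq_zero.1 (hermForm_nondeg hF k _ fun y => ?_)
  rw [(hermForm_isHerm hF k).sub_left, e, sub_self]

/-- The isometry sending a frame to another orthonormal family. -/
theorem exists_gu_frame {b' : Fin t × Fin k → (Fin n → F)}
    (hb' : Orthonormal (Cfsg.hermForm n F q) b') :
    ∃ g : Matrix.GeneralLinearGroup (Fin n) F, g ∈ Cfsg.GU n F q ∧
      ∀ c, (g : Matrix (Fin n) (Fin n) F) *ᵥ frameVec b c = frameVec b' c := by
  have H := hermForm_isHerm hF n
  let e := (Fintype.equivFin (Fin t × Fin k)).symm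
  obtain ⟨g, hg⟩ := exists_gu_witt hF ((hb.orth.comp e e.injective).linearIndependent H)
    ((hb'.comp e e.injective).linearIndependent H)
    (fun i j => by simp [Function.comp, hb.orth.apply, hb'.apply])
  refine ⟨g, g.2, fun c => ?_⟩
  show _ *ᵥ (∑ p, c p.1 p.2 • b p) = ∑ p, c p.1 p.2 • b' p
  rw [Matrix.mulVec_sum]
  refine Finset.sum_congr rfl fun p _ => ?_
  rw [Matrix.mulVec_smul]
  congr 1
  have := hg (e.symm p)
  simpa using this

/-- Block permutations with given unitary blocks. -/
theorem exists_block_perm (π : Equiv.Perm (Fin t)) (U : Fin t → Matrix (Fin k) (Fin k) F)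
    (hU : ∀ i, IsUnitary q (U i)) :
    ∃ g : Matrix.GeneralLinearGroup (Fin n) F, g ∈ Cfsg.GU n F q ∧
      ∀ c, (g : Matrix (Fin n) (Fin n) F) *ᵥ frameVec b c =
        frameVec b fun j => U (π.symm j) *ᵥ c (π.symm j) := by
  have H := hermForm_isHerm hF k
  let b' : Fin t × Fin k → (Fin n → F) := fun p =>
    frameVec b (Pi.single (π p.1) (U p.1 *ᵥ Pi.single p.2 1))
  have hb' : Orthonormal (Cfsg.hermForm n F q) b' := by
    refine ⟨fun p => ?_, fun p p' hp => ?_⟩
    · show Cfsg.hermForm n F q (frameVec b _) (frameVec b _) = 1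
      rw [hb.inner_single hF, Pi.single_eq_same, hU]
      exact (single_orthonormal hF k).1 p.2
    · show Cfsg.hermForm n F q (frameVec b _) (frameVec b _) = 0
      rw [hb.inner_single hF]
      by_cases h1 : p.1 = p'.1
      · rw [h1, Pi.single_eq_same, hU]
        exact (single_orthonormal hF k).2 fun h2 => hp (Prod.ext h1 h2)
      · rw [Pi.single_eq_of_ne (π.injective.ne (Ne.symm h1)), H.zero_left]
  obtain ⟨g, hg, hgc⟩ := hb.exists_gu_frame hF hb'
  refine ⟨g, hg, fun c => ?_⟩
  rw [hgc]
  show ∑ p : Fin t × Fin k, c p.1 p.2 • frameVec b (Pi.single (π p.1) (U p.1 *ᵥ Pi.single p.2 1)) = _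
  simp only [← map_smul, ← map_sum]
  congr 1
  funext j
  rw [Finset.sum_apply, Fintype.sum_prod_type, Finset.sum_eq_single (π.symm j)]
  · ext l
    simp [Matrix.mulVec, dotProduct, mul_comm]
  · intro i _ hi
    refine Finset.sum_eq_zero fun l _ => ?_
    rw [Pi.smul_apply, Pi.single_eq_of_ne, smul_zero]
    exact fun h => hi (by rw [h, Equiv.symm_apply_apply])
  · intro h; exact absurd (Finset.mem_univ _) h

end IsFrame

/-- A frame adapted to a nondegenerate decomposition. -/
theorem exists_frame_of_decomposition (hF : Fintype.card F = q ^ 2)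
    {D : Fin t → Submodule F (Fin n → F)}
    (hD : Cfsg.Geo.IsNondegenerateMDecomposition (Cfsg.hermForm n F q) k D) :
    ∃ b : Fin t × Fin k → (Fin n → F), IsFrame q b ∧
      ∀ i x, x ∈ D i ↔ ∃ y, frameVec b (Pi.single i y) = x := by
  have H := hermForm_isHerm hF n
  obtain ⟨⟨-, -, hdim, hind, htop⟩, hnd, horth⟩ := hD
  have hB : ∀ i, ∃ c : Fin k → (Fin n → F), Orthonormal (Cfsg.hermForm n F q) c ∧
      Submodule.span F (Set.range c) = D i := by
    intro i
    obtain ⟨c, hc⟩ := exists_orthonormalBasis hF (H.comap (D i).subtype) fun x hx => by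
      by_contra h0
      obtain ⟨-, y, hy, hxy⟩ := hnd i x x.2 fun e => h0 (Subtype.ext e)
      exact hxy (hx ⟨y, hy⟩)
    let c' : Fin k → (Fin n → F) := fun l => (c (Fin.cast (hdim i).symm l) : Fin n → F)
    have hc' : Orthonormal (Cfsg.hermForm n F q) c' :=
      ⟨fun l => hc.1 _, fun l l' h => hc.2 fun e => h (Fin.cast_injective _ e)⟩
    refine ⟨c', hc', Submodule.eq_of_le_of_finrank_eq (Submodule.span_le.2 ?_) ?_⟩
    · rintro _ ⟨l, rfl⟩; exact (c _).2
    · rw [finrank_span_eq_card (hc'.linearIndependent H), hdim, Fintype.card_fin]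
  choose c hc hcs using hB
  let b : Fin t × Fin k → (Fin n → F) := fun p => c p.1 p.2
  have hmem : ∀ p, b p ∈ D p.1 := fun p => hcs p.1 ▸ Submodule.subset_span ⟨p.2, rfl⟩
  have hb : Orthonormal (Cfsg.hermForm n F q) b := by
    refine ⟨fun p => (hc p.1).1 p.2, fun p p' hp => ?_⟩
    by_cases h : p.1 = p'.1
    · obtain ⟨i, l⟩ := p
      obtain ⟨i', l'⟩ := p'
      dsimp only at h
      subst h
      exact (hc i).2 fun e => hp (Prod.ext rfl e)
    · exact horth _ _ h _ (hmem p) _ (hmem p')
  have hle : ∀ i, D i ≤ Submodule.span F (Set.range b) := fun i => by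
    rw [← hcs i]
    exact Submodule.span_le.2 (by rintro _ ⟨l, rfl⟩; exact Submodule.subset_span ⟨(i, l), rfl⟩)
  have hcard : t * k = n := by
    have h1 := finrank_span_eq_card (hb.linearIndependent H)
    rw [eq_top_iff.2 (htop ▸ iSup_le hle : ⊤ ≤ Submodule.span F (Set.range b)), finrank_top,
      Module.finrank_fin_fun, Fintype.card_prod, Fintype.card_fin, Fintype.card_fin] at h1
    exact h1.symm
  refine ⟨b, ⟨hb, hcard⟩, fun i x => ⟨fun hx => ?_, ?_⟩⟩
  · rw [← hcs i] at hx
    obtain ⟨a, rfl⟩ := (Submodule.mem_span_range_iff_exists_fun F).1 hx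
    refine ⟨a, ?_⟩
    show ∑ p : Fin t × Fin k, _ • b p = _
    rw [Fintype.sum_prod_type, Finset.sum_eq_single i]
    · simp [b]
    · intro j _ hj; simp [Pi.single_eq_of_ne hj]
    · intro h; exact absurd (Finset.mem_univ i) h
  · rintro ⟨y, rfl⟩
    show ∑ p : Fin t × Fin k, _ • b p ∈ D i
    refine Submodule.sum_mem _ fun p _ => ?_
    by_cases hp : p.1 = i
    · exact (D i).smul_mem _ (hp ▸ hmem p)
    · simp [Pi.single_eq_of_ne hp]

/-- Membership in the stabiliser, through the frame. -/
theorem mem_decompositionStabilizer_iff (hF : Fintype.card F = q ^ 2)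
    {D : Fin t → Submodule F (Fin n → F)}
    (hD : ∀ i x, x ∈ D i ↔ ∃ y, frameVec b (Pi.single i y) = x)
    (hdim : ∀ i, Module.finrank F (D i) = k) {g : Matrix.GeneralLinearGroup (Fin n) F} :
    g ∈ Cfsg.Geo.decompositionStabilizer D ↔ InStab b g := by
  have _ := hF
  constructor
  · rintro ⟨π, hπ⟩
    refine ⟨π, fun i y => ?_⟩
    have : (g : Matrix (Fin n) (Fin n) F) *ᵥ frameVec b (Pi.single i y) ∈ D (π i) := by
      rw [← hπ i]; exact ⟨_, (hD i _).2 ⟨y, rfl⟩, Matrix.toLin'_apply _ _⟩
    obtain ⟨y', hy'⟩ := (hD _ _).1 this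
    exact ⟨y', hy'.symm⟩
  · rintro ⟨π, hπ⟩
    refine ⟨π, fun i => Submodule.eq_of_le_of_finrank_eq ?_ ?_⟩
    · rintro _ ⟨x, hx, rfl⟩
      obtain ⟨y, rfl⟩ := (hD i x).1 hx
      obtain ⟨y', hy'⟩ := hπ i y
      rw [Matrix.toLin'_apply, hy']
      exact (hD _ _).2 ⟨y', rfl⟩
    · rw [← (Submodule.equivMapOfInjective _ (by
        show Function.Injective (Matrix.toLin' (g : Matrix (Fin n) (Fin n) F))
        intro a c e
        rw [Matrix.toLin'_apply, Matrix.toLin'_apply] at e
        exact Matrix.mulVec_injective_iff_isUnit.2 (Units.isUnit g) e) _).finrank_eq, hdim, hdim]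

end Cfsg.Agent.Unitary
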