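import Cfsg.Agent.EqLemmas
/-
Certificates for the small monomial cases in dimension eight: for q = 3 any four, for q = 7 any five
non-zero elements of the prime field have norm-one multipliers of product one, at least three
non-trivial, shifting the sum from 1 to 1/2.
-/
set_option autoImplicit false

namespace Cfsg.Agent.Unitary

/-- The product of a list of points (a, b), read as a + b i. -/
def gaussProd {R : Type*} [CommRing R] : List (R × R) → R × R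
  | [] => (1, 0)
  | x :: l => ((x.1 * (gaussProd l).1 - x.2 * (gaussProd l).2), (x.1 * (gaussProd l).2 + x.2 * (gaussProd l).1))

/-- A certificate for the weights `w`. -/
def GoodCert {q k : ℕ} (w : Fin k → ZMod q) (L : Fin k → ZMod q × ZMod q) : Prop :=
  (∀ i, (L i).1 * (L i).1 + (L i).2 * (L i).2 = 1) ∧ gaussProd (List.ofFn L) = (1, 0) ∧
    2 * (1 + ∑ i, w i * ((L i).1 - 1)) = 1 ∧ ∑ i, w i * (L i).2 = 0 ∧
    3 ≤ (Finset.univ.filter fun i => L i ≠ (1, 0)).card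

instance {q k : ℕ} (w : Fin k → ZMod q) (L : Fin k → ZMod q × ZMod q) : Decidable (GoodCert w L) :=
  inferInstanceAs (Decidable (_ ∧ _ ∧ _ ∧ _ ∧ _))

def nonzeroThree : Fin 2 → ZMod 3 := ![1, 2]

def nonzeroSeven : Fin 6 → ZMod 7 := ![1, 2, 3, 4, 5, 6]

def certThree : List (Fin 4 → ZMod 3 × ZMod 3) :=
  [![(0, 1), (2, 0), (1, 0), (0, 1)], ![(2, 0), (2, 0), (2, 0), (2, 0)], ![(0, 1), (0, 1), (0, 2), (0, 2)]]

def certSeven : List (Fin 5 → ZMod 7 × ZMod 7) :=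
  [![(6, 0), (6, 0), (6, 0), (1, 0), (6, 0)],
    ![(1, 0), (6, 0), (6, 0), (6, 0), (6, 0)],
    ![(6, 0), (2, 2), (2, 5), (6, 0), (1, 0)],
    ![(0, 1), (6, 0), (1, 0), (1, 0), (0, 1)],
    ![(5, 2), (5, 2), (1, 0), (1, 0), (0, 1)],
    ![(1, 0), (6, 0), (0, 1), (0, 6), (6, 0)],
    ![(1, 0), (6, 0), (6, 0), (2, 2), (2, 5)],
    ![(1, 0), (6, 0), (5, 2), (5, 5), (6, 0)],
    ![(6, 0), (6, 0), (6, 0), (6, 0), (1, 0)],
    ![(0, 1), (0, 6), (6, 0), (6, 0), (1, 0)],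
    ![(0, 1), (0, 6), (0, 6), (0, 1), (1, 0)],
    ![(5, 2), (5, 5), (6, 0), (1, 0), (6, 0)],
    ![(6, 0), (1, 0), (6, 0), (5, 2), (5, 5)],
    ![(6, 0), (1, 0), (2, 2), (2, 5), (6, 0)],
    ![(1, 0), (1, 0), (5, 2), (0, 1), (5, 2)],
    ![(5, 2), (0, 1), (2, 2), (1, 0), (0, 1)],
    ![(0, 1), (0, 6), (0, 6), (2, 2), (2, 2)],
    ![(0, 1), (2, 2), (2, 2), (6, 0), (1, 0)],
    ![(0, 1), (2, 2), (2, 5), (0, 1), (6, 0)],
    ![(1, 0), (5, 2), (5, 5), (6, 0), (6, 0)],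
    ![(0, 1), (0, 1), (5, 2), (0, 6), (5, 2)],
    ![(0, 1), (0, 6), (0, 1), (0, 1), (6, 0)],
    ![(1, 0), (5, 2), (5, 2), (5, 5), (5, 5)],
    ![(2, 2), (2, 2), (5, 2), (5, 2), (1, 0)],
    ![(6, 0), (1, 0), (0, 1), (0, 6), (6, 0)],
    ![(0, 1), (0, 6), (1, 0), (6, 0), (6, 0)]]

theorem exists_nonzeroThree : ∀ z : ZMod 3, z ≠ 0 → ∃ a, nonzeroThree a = z := by decide

theorem exists_nonzeroSeven : ∀ z : ZMod 7, z ≠ 0 → ∃ a, nonzeroSeven a = z := by decide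

theorem exists_cert_three : ∀ a b c d : Fin 2, a ≤ b → b ≤ c → c ≤ d → ∃ L ∈ certThree,
    GoodCert (q := 3) ![nonzeroThree a, nonzeroThree b, nonzeroThree c, nonzeroThree d] L := by
  decide +kernel

theorem exists_cert_seven : ∀ a b : Fin 6, a ≤ b → ∀ c, b ≤ c → ∀ d, c ≤ d → ∀ e, d ≤ e →
    ∃ L ∈ certSeven, GoodCert (q := 7)
      ![nonzeroSeven a, nonzeroSeven b, nonzeroSeven c, nonzeroSeven d, nonzeroSeven e] L := by
  decide +kernel

end Cfsg.Agent.Unitary
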