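import Cfsg.Agent.Lib.Forms.Classify
import Cfsg.Agent.Lib.Forms.Witt
/-
Singular vectors with prescribed pairings for a symmetric bilinear form over a finite field, 2 ≠ 0.
* exists_singular_pairing, exists_singular_outside, exists_ortho_outside, span_singular (only the zero vector is orthogonal to all singular vectors)
-/
set_option autoImplicit false

namespace Cfsg.Agent.Unitary

variable {K W : Type*} [Field K] [AddCommGroup W] [Module K W] [FiniteDimensional K W]
  {B : LinearMap.BilinForm K W} (hs : ∀ v w, B v w = B w v) (hnd : ∀ v, (∀ w, B v w = 0) → v = 0)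
include hs hnd

theorem exists_bilin_dual {S : Submodule K W} {x : W} (hx : x ∉ S) :
    ∃ v, (∀ w ∈ S, B w v = 0) ∧ B x v = 1 := by
  obtain ⟨v, h1, h2⟩ := Cfsg.Agent.Forms.exists_dual_vector (σ := RingHom.id K) B
    (fun y hy => hnd y fun w => by rw [hs]; exact hy w) S x hx 1
  exact ⟨v, fun w hw => by rw [hs]; exact h1 w hw, by rw [hs]; exact h2⟩

theorem exists_ortho_outside {m : ℕ} (T : Fin m → W) (hm : 2 * m < Module.finrank K W) :
    ∃ z, (∀ i, B (T i) z = 0) ∧ z ∉ Submodule.span K (Set.range T) := by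
  have _ := hs
  have _ := hnd
  let f : W →ₗ[K] (Fin m → K) := LinearMap.pi fun i => B (T i)
  by_contra hc
  simp only [not_exists, not_and, not_not] at hc
  have hle : LinearMap.ker f ≤ Submodule.span K (Set.range T) := fun z hz =>
    hc z fun i => congrFun (LinearMap.mem_ker.1 hz) i
  have h1 := Submodule.finrank_mono hle
  have h2 := LinearMap.finrank_range_add_finrank_ker f
  have h3 : Module.finrank K (LinearMap.range f) ≤ m := (Submodule.finrank_le _).trans (by simp)
  have h4 : Module.finrank K (Submodule.span K (Set.range T)) ≤ m := by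
    simpa [Set.finrank] using finrank_range_le_card (R := K) T
  omega

theorem exists_singular_outside [Finite K] {m : ℕ} (T : Fin m → W) {R : Submodule K W}
    (hR : ∀ z ∈ Submodule.span K (Set.range T), (∀ i, B (T i) z = 0) → z ∈ R)
    (hm : m + Module.finrank K R + 3 ≤ Module.finrank K W) :
    ∃ w, B w w = 0 ∧ (∀ i, B (T i) w = 0) ∧ w ∉ Submodule.span K (Set.range T) := by
  have _ := hs
  have _ := hnd
  let f : W →ₗ[K] (Fin m → K) := LinearMap.pi fun i => B (T i)
  have h3 : Module.finrank K (LinearMap.range f) ≤ m :=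
    (Submodule.finrank_le _).trans (by simp)
  have h5 := LinearMap.finrank_range_add_finrank_ker f
  obtain ⟨C, hC⟩ := Submodule.exists_isCompl R
  have h6 := Submodule.finrank_add_eq_of_isCompl hC
  have h7 := Submodule.finrank_sup_add_finrank_inf_eq (LinearMap.ker f) C
  have h8 := Submodule.finrank_le (LinearMap.ker f ⊔ C)
  have h9 : 3 ≤ Module.finrank K (LinearMap.ker f ⊓ C : Submodule K W) := by omega
  obtain ⟨w, hw0, hww⟩ := Cfsg.Agent.Forms.exists_singular_of_three_le
    ((LinearMap.BilinMap.toQuadraticMap B).comp (LinearMap.ker f ⊓ C).subtype) h9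
  have hwK : ∀ i, B (T i) w = 0 := fun i => congrFun (LinearMap.mem_ker.1 w.2.1) i
  exact ⟨w, hww, hwK, fun h => hw0 (Subtype.ext
    (Submodule.disjoint_def.1 hC.disjoint _ (hR _ h hwK) w.2.2))⟩

theorem exists_singular_pairing [Finite K] (h2 : (2 : K) ≠ 0) {m : ℕ} (T : Fin m → W)
    (hm : 2 * m + 3 ≤ Module.finrank K W) {z : W} (hz : z ∉ Submodule.span K (Set.range T)) :
    ∃ s, B s s = 0 ∧ (∀ i, B (T i) s = 0) ∧ B z s = 1 := by
  have h4 : Module.finrank K (Submodule.span K (Set.range T)) ≤ m := by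
    simpa [Set.finrank] using finrank_range_le_card (R := K) T
  obtain ⟨w, hww, hwT, hwS⟩ := exists_singular_outside hs hnd T
    (R := Submodule.span K (Set.range T)) (fun _ h _ => h) (by omega)
  by_cases hzw : B z w = 0
  swap
  · exact ⟨(B z w)⁻¹ • w, by simp [hww], fun i => by simp [hwT], by simp [hzw]⟩
  obtain ⟨u, huS, huz⟩ := exists_bilin_dual hs hnd hz
  have huT : ∀ i, B (T i) u = 0 := fun i => huS _ (Submodule.subset_span ⟨i, rfl⟩)
  obtain ⟨u', huT', huz', huw⟩ : ∃ u', (∀ i, B (T i) u' = 0) ∧ B z u' = 1 ∧ B u' w ≠ 0 := by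
    by_cases huw : B u w = 0
    · have hwZ : w ∉ Submodule.span K (Set.range (Fin.cons z T : Fin (m + 1) → W)) := by
        rw [Fin.range_cons, Submodule.mem_span_insert]
        rintro ⟨a, t, ht, rfl⟩
        have hut : B t u = 0 := huS t ht
        rw [hs, map_add, LinearMap.add_apply, map_smul, LinearMap.smul_apply, huz, hut, add_zero,
          smul_eq_mul, mul_one] at huw
        exact hwS (by simpa [huw] using ht)
      obtain ⟨z', hz'S, hz'w⟩ := exists_bilin_dual hs hnd hwZ
      refine ⟨u + z', fun i => ?_, ?_, ?_⟩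
      · rw [map_add, huT, hz'S _ (Submodule.subset_span ⟨i.succ, by simp⟩), add_zero]
      · rw [map_add, huz, hz'S _ (Submodule.subset_span ⟨0, by simp⟩), add_zero]
      · rw [map_add, LinearMap.add_apply, huw, zero_add, hs, hz'w]
        exact one_ne_zero
    · exact ⟨u, huT, huz, huw⟩
  refine ⟨u' - (B u' u' / (2 * B u' w)) • w, ?_, fun i => ?_, ?_⟩
  · simp only [map_sub, map_smul, LinearMap.sub_apply, LinearMap.smul_apply, smul_eq_mul, hww,
      hs w u']
    field_simp
    ring
  · rw [map_sub, map_smul, huT', hwT, smul_zero, sub_zero]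
  · rw [map_sub, map_smul, huz', hzw, smul_zero, sub_zero]

theorem eq_zero_of_singular [Finite K] (h2 : (2 : K) ≠ 0) (hd : 5 ≤ Module.finrank K W) {z : W}
    (hz : ∀ s, B s s = 0 → B z s = 0) : z = 0 := by
  by_contra h0
  obtain ⟨s, hss, -, hzs⟩ := exists_singular_pairing hs hnd h2 (m := 0) Fin.elim0 (by omega)
    (z := z) (by simpa using h0)
  exact one_ne_zero (hzs.symm.trans (hz s hss))

end Cfsg.Agent.Unitary
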