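import Cfsg.Agent.Lib.Unitary.Maximal
/-
Overgroups of the stabiliser of a pair of complementary totally isotropic subspaces.
* IsEich (Eichler element), eich_exists, eich_comm, eich_comm_same, eich_add
* IsPolarPair, exists_pair_map, isMaximalIn_pair_stabilizer
-/
set_option autoImplicit false

namespace Cfsg.Agent.Unitary

open scoped Matrix

variable {F : Type*} [Field F] {q n k : ℕ}

/-- g is x ↦ x + h(x,a) b - h(x,b) a. -/
def IsEich (q : ℕ) (g : Matrix.GeneralLinearGroup (Fin n) F) (a b : Fin n → F) : Prop :=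
  ∀ x, (g : Matrix (Fin n) (Fin n) F) *ᵥ x =
    x + Cfsg.hermForm n F q x a • b - Cfsg.hermForm n F q x b • a

/-- g is the transvection x ↦ x + c h(x,v) v. -/
def IsTrans (q : ℕ) (g : Matrix.GeneralLinearGroup (Fin n) F) (v : Fin n → F) (c : F) : Prop :=
  ∀ x, (g : Matrix (Fin n) (Fin n) F) *ᵥ x = x + (c * Cfsg.hermForm n F q x v) • v

theorem isTrans_of_eq {g : Matrix.GeneralLinearGroup (Fin n) F} {v : Fin n → F} {c : F}
    (h : (g : Matrix (Fin n) (Fin n) F) = Cfsg.unitaryTransvection n q v c) : IsTrans q g v c :=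
  fun x => by rw [h, transvection_mulVec]

theorem gl_ext_mulVec {g h : Matrix.GeneralLinearGroup (Fin n) F}
    (H : ∀ x, (g : Matrix (Fin n) (Fin n) F) *ᵥ x = (h : Matrix (Fin n) (Fin n) F) *ᵥ x) : g = h :=
  Units.ext (Matrix.ext_iff_mulVec.2 H)

variable [Fintype F]

theorem eich_exists (hF : Fintype.card F = q ^ 2) {a b : Fin n → F}
    (ha : Cfsg.hermForm n F q a a = 0) (hb : Cfsg.hermForm n F q b b = 0)
    (hab : Cfsg.hermForm n F q a b = 0) :
    ∃ g ∈ suGL n F q, IsEich q g a b := by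
  obtain ⟨t, -, ht⟩ := eichler_mem hF ha hb hab
  exact ⟨_, suToGU_mem_suGL t, ht⟩

theorem eich_conj (hF : Fintype.card F = q ^ 2) {g e : Matrix.GeneralLinearGroup (Fin n) F}
    {a b : Fin n → F} (hg : g ∈ suGL n F q) (he : IsEich q e a b) :
    IsEich q (g * e * g⁻¹) ((g : Matrix (Fin n) (Fin n) F) *ᵥ a)
      ((g : Matrix (Fin n) (Fin n) F) *ᵥ b) := by
  have _ := hF
  intro x
  obtain ⟨y, rfl⟩ : ∃ y, (g : Matrix (Fin n) (Fin n) F) *ᵥ y = x :=
    Matrix.mulVec_surjective_iff_isUnit.2 (Units.isUnit g) x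
  rw [Matrix.mulVec_mulVec, ← Units.val_mul, inv_mul_cancel_right, Units.val_mul,
    ← Matrix.mulVec_mulVec, he, Matrix.mulVec_sub, Matrix.mulVec_add, Matrix.mulVec_smul,
    Matrix.mulVec_smul, mem_suGL_herm hg, mem_suGL_herm hg]

/-- The commutator of two Eichler elements whose lines meet in one pairing. -/
theorem eich_comm (hF : Fintype.card F = q ^ 2) {R A : Matrix.GeneralLinearGroup (Fin n) F}
    {r s a b : Fin n → F} (hR : IsEich q R r s) (hA : IsEich q A a b)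
    (ha : Cfsg.hermForm n F q a a = 0) (hr : Cfsg.hermForm n F q r r = 0)
    (hra : Cfsg.hermForm n F q r a = 0) (hrb : Cfsg.hermForm n F q r b = 0)
    (hrs : Cfsg.hermForm n F q r s = 0) (hab : Cfsg.hermForm n F q a b = 0)
    (hsa : Cfsg.hermForm n F q s a = 0) :
    IsEich q (R * A * R⁻¹ * A⁻¹) a (-(Cfsg.hermForm n F q b s) • r) := by
  have H := hermForm_isHerm hF n
  intro x
  obtain ⟨y, rfl⟩ : ∃ y, ((A * R : Matrix.GeneralLinearGroup (Fin n) F) : Matrix (Fin n) (Fin n) F) *ᵥ y = x :=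
    Matrix.mulVec_surjective_iff_isUnit.2 (Units.isUnit _) x
  rw [Matrix.mulVec_mulVec, ← Units.val_mul,
    show R * A * R⁻¹ * A⁻¹ * (A * R) = R * A by group, Units.val_mul, Units.val_mul,
    ← Matrix.mulVec_mulVec, ← Matrix.mulVec_mulVec, hR, hA y, hA, hR]
  simp only [H.add_left, H.sub_left, H.smul_left, H.smul_right, ha, hr, hra, hrb, hrs, hab, hsa,
    (H.eq_zero_symm hF).1 hra, (H.eq_zero_symm hF).1 hrb, (H.eq_zero_symm hF).1 hrs,
    (H.eq_zero_symm hF).1 hab, (H.eq_zero_symm hF).1 hsa, neg_pow_q hF, ← H.conj_symm b s]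
  module

/-- The commutator of two Eichler elements with a common vector is a transvection. -/
theorem eich_comm_same (hF : Fintype.card F = q ^ 2) {A B : Matrix.GeneralLinearGroup (Fin n) F}
    {r a b : Fin n → F} (hA : IsEich q A r a) (hB : IsEich q B r b)
    (hr : Cfsg.hermForm n F q r r = 0)
    (hra : Cfsg.hermForm n F q r a = 0) (hrb : Cfsg.hermForm n F q r b = 0) :
    IsTrans q (A * B * A⁻¹ * B⁻¹) r
      (Cfsg.hermForm n F q a b - Cfsg.hermForm n F q b a) := by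
  have H := hermForm_isHerm hF n
  intro x
  obtain ⟨y, rfl⟩ : ∃ y, ((B * A : Matrix.GeneralLinearGroup (Fin n) F) : Matrix (Fin n) (Fin n) F) *ᵥ y = x :=
    Matrix.mulVec_surjective_iff_isUnit.2 (Units.isUnit _) x
  rw [Matrix.mulVec_mulVec, ← Units.val_mul,
    show A * B * A⁻¹ * B⁻¹ * (B * A) = A * B by group, Units.val_mul, Units.val_mul,
    ← Matrix.mulVec_mulVec, ← Matrix.mulVec_mulVec, hA, hB y, hB, hA]
  simp only [H.add_left, H.sub_left, H.smul_left, hr, hra, hrb,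
    (H.eq_zero_symm hF).1 hra, (H.eq_zero_symm hF).1 hrb]
  module

/-- Splitting one argument of an Eichler element. -/
theorem eich_add (hF : Fintype.card F = q ^ 2) {A B C : Matrix.GeneralLinearGroup (Fin n) F}
    {r a b : Fin n → F} (hA : IsEich q A a r) (hB : IsEich q B b r) (hC : IsEich q C (a + b) r)
    (hr : Cfsg.hermForm n F q r r = 0)
    (hra : Cfsg.hermForm n F q r a = 0) (hrb : Cfsg.hermForm n F q r b = 0) :
    IsTrans q (C * (A * B)⁻¹) r (Cfsg.hermForm n F q b a) := by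
  have H := hermForm_isHerm hF n
  intro x
  obtain ⟨y, rfl⟩ : ∃ y, ((A * B : Matrix.GeneralLinearGroup (Fin n) F) : Matrix (Fin n) (Fin n) F) *ᵥ y = x :=
    Matrix.mulVec_surjective_iff_isUnit.2 (Units.isUnit _) x
  rw [Matrix.mulVec_mulVec, ← Units.val_mul, inv_mul_cancel_right, hC, Units.val_mul,
    ← Matrix.mulVec_mulVec, hA, hB y]
  simp only [H.add_left, H.sub_left, H.smul_left, H.add_right hF, hr, hra, hrb,
    (H.eq_zero_symm hF).1 hra, (H.eq_zero_symm hF).1 hrb]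
  module

/-- A pair of complementary totally isotropic subspaces of dimension k. -/
structure IsPolarPair (q k : ℕ) (P Q : Submodule F (Fin n → F)) : Prop where
  left : IsTISubspace q k P
  right : IsTISubspace q k Q
  sup : P ⊔ Q = ⊤
  inf : P ⊓ Q = ⊥

theorem IsPolarPair.symm {P Q : Submodule F (Fin n → F)} (h : IsPolarPair q k P Q) :
    IsPolarPair q k Q P :=
  ⟨h.right, h.left, by rw [sup_comm]; exact h.sup, by rw [inf_comm]; exact h.inf⟩

theorem IsPolarPair.exists_split {P Q : Submodule F (Fin n → F)} (h : IsPolarPair q k P Q)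
    (x : Fin n → F) : ∃ u ∈ P, ∃ v ∈ Q, u + v = x :=
  Submodule.mem_sup.1 (h.sup ▸ Submodule.mem_top)

theorem IsPolarPair.eq_zero_of_perp (hF : Fintype.card F = q ^ 2) {P Q : Submodule F (Fin n → F)}
    (h : IsPolarPair q k P Q) {x : Fin n → F} (hx : x ∈ P)
    (hxQ : ∀ y ∈ Q, Cfsg.hermForm n F q x y = 0) : x = 0 :=
  hermForm_nondeg hF n x fun y => by
    obtain ⟨u, hu, v, hv, rfl⟩ := h.exists_split y
    rw [(hermForm_isHerm hF n).add_right hF, h.left.2 x hx u hu, hxQ v hv, add_zero]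

theorem IsPolarPair.exists_dual (hF : Fintype.card F = q ^ 2) {P Q : Submodule F (Fin n → F)}
    (h : IsPolarPair q k P Q) {d : Fin k → (Fin n → F)} (hd : Submodule.span F (Set.range d) = Q)
    (α : Fin k → F) : ∃! x : P, ∀ i, Cfsg.hermForm n F q x (d i) = α i := by
  have H := hermForm_isHerm hF n
  let φ : P →ₗ[F] (Fin k → F) :=
    { toFun := fun x i => Cfsg.hermForm n F q x (d i)
      map_add' := fun x y => funext fun i => H.add_left _ _ _
      map_smul' := fun c x => funext fun i => H.smul_left _ _ _ }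
  have hinj : Function.Injective φ := by
    rw [← LinearMap.ker_eq_bot, LinearMap.ker_eq_bot']
    intro x hx
    refine Subtype.ext (h.eq_zero_of_perp hF x.2 fun y hy => ?_)
    rw [← hd] at hy
    obtain ⟨c, rfl⟩ := (Submodule.mem_span_range_iff_exists_fun F).1 hy
    simp [H.sum_right hF, H.smul_right, show ∀ i, Cfsg.hermForm n F q x (d i) = 0 from congrFun hx]
  have hsurj : Function.Surjective φ :=
    (LinearMap.injective_iff_surjective_of_finrank_eq_finrank (by simp [h.left.1])).1 hinj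
  obtain ⟨x, hx⟩ := hsurj α
  exact ⟨x, congrFun hx, fun y hy => hinj ((funext hy).trans hx.symm)⟩

/-- Adapted dual bases. -/
theorem IsPolarPair.exists_basis (hF : Fintype.card F = q ^ 2) {P Q : Submodule F (Fin n → F)} {j : ℕ}
    (h : IsPolarPair q (j + 1) P Q) {r : Fin n → F} (hr : r ∈ P) (hr0 : r ≠ 0) :
    ∃ e d : Fin (j + 1) → (Fin n → F), e 0 = r ∧ (∀ i, e i ∈ P) ∧ (∀ i, d i ∈ Q) ∧
      Submodule.span F (Set.range e) = P ∧ Submodule.span F (Set.range d) = Q ∧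
      (∀ i l, Cfsg.hermForm n F q (e i) (d l) = if i = l then 1 else 0) ∧
      LinearIndependent F (Fin.append e d) := by
  have H := hermForm_isHerm hF n
  obtain ⟨y, hy, hy'⟩ : ∃ y ∈ Q, Cfsg.hermForm n F q y r ≠ 0 := by
    by_contra hc
    simp only [not_exists, not_and, not_not] at hc
    exact hr0 (h.eq_zero_of_perp hF hr fun y hy => (H.eq_zero_symm hF).1 (hc y hy))
  obtain ⟨d, hdQ, hds, hdr, hdl⟩ := exists_adapted hF h.right.1 h.right.2 ⟨y, hy, hy'⟩
  have he := fun i => (h.exists_dual hF hds (fun l => if i = l then 1 else 0)).exists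
  choose e he using he
  have he0 : (e 0 : Fin n → F) = r := by
    obtain ⟨x, -, hu⟩ := h.exists_dual hF hds (fun l => if 0 = l then 1 else 0)
    have h1 := hu (e 0) (he 0)
    have h2 := hu ⟨r, hr⟩ fun l => by
      rw [H.conj_symm (d l) r, hdr, apply_ite (fun z : F => z ^ q), one_pow, zero_pow_q hF]
      simp [eq_comm]
    rw [h1, ← h2]
  have hde : ∀ i l, Cfsg.hermForm n F q (d l) (e i) = if i = l then 1 else 0 := fun i l => by
    rw [H.conj_symm (e i : Fin n → F) (d l), he, apply_ite (fun z : F => z ^ q), one_pow, zero_pow_q hF]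
  have hli : LinearIndependent F (Fin.append (fun i => (e i : Fin n → F)) d) := by
    rw [Fintype.linearIndependent_iff]
    intro c hc
    rw [Fin.sum_univ_add] at hc
    simp only [Fin.append_left, Fin.append_right] at hc
    intro i
    induction i using Fin.addCases with
    | left i =>
      have := congrArg (fun v => Cfsg.hermForm n F q v (d i)) hc
      simpa [H.add_left, H.sum_left, H.smul_left, he, h.right.2 _ (hdQ _) _ (hdQ _), H.zero_left]
        using this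
    | right i =>
      have := congrArg (fun v => Cfsg.hermForm n F q v (e i : Fin n → F)) hc
      simpa [H.add_left, H.sum_left, H.smul_left, hde, h.left.2 _ (e _).2 _ (e _).2, H.zero_left]
        using this
  refine ⟨fun i => (e i : Fin n → F), d, he0, fun i => (e i).2, hdQ, ?_, hds, he, hli⟩
  have hel : LinearIndependent F (fun i => (e i : Fin n → F)) := by
    have := hli.comp (Fin.castAdd (j + 1)) (Fin.castAdd_injective _ _)
    simpa [Function.comp_def] using this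
  refine Submodule.eq_of_le_of_finrank_eq (Submodule.span_le.2 ?_) ?_
  · rintro _ ⟨i, rfl⟩; exact (e i).2
  · rw [finrank_span_eq_card hel, h.left.1, Fintype.card_fin]

theorem mulVec_mem_of_range {e : Fin k → (Fin n → F)} {W W' : Submodule F (Fin n → F)}
    (hs : Submodule.span F (Set.range e) = W) {A : Matrix (Fin n) (Fin n) F}
    (h : ∀ i, A *ᵥ e i ∈ W') {x : Fin n → F} (hx : x ∈ W) : A *ᵥ x ∈ W' := by
  rw [← hs] at hx
  obtain ⟨c, rfl⟩ := (Submodule.mem_span_range_iff_exists_fun F).1 hx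
  rw [Matrix.mulVec_sum]
  exact Submodule.sum_mem _ fun i _ => by rw [Matrix.mulVec_smul]; exact W'.smul_mem _ (h i)

/-- SU is transitive on pointed polar pairs, up to scalars. -/
theorem exists_pair_map (hF : Fintype.card F = q ^ 2) {P Q P' Q' : Submodule F (Fin n → F)}
    (h : IsPolarPair q k P Q) (h' : IsPolarPair q k P' Q') {r r' : Fin n → F} (hr : r ∈ P)
    (hr0 : r ≠ 0) (hr' : r' ∈ P') (hr0' : r' ≠ 0) :
    ∃ (g : Matrix.GeneralLinearGroup (Fin n) F) (a : F), g ∈ suGL n F q ∧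
      (∀ x ∈ P, (g : Matrix (Fin n) (Fin n) F) *ᵥ x ∈ P') ∧
      (∀ x ∈ Q, (g : Matrix (Fin n) (Fin n) F) *ᵥ x ∈ Q') ∧
      a • ((g : Matrix (Fin n) (Fin n) F) *ᵥ r) = r' := by
  have H := hermForm_isHerm hF n
  obtain ⟨j, rfl⟩ : ∃ j, k = j + 1 := by
    refine ⟨k - 1, ?_⟩
    have : k ≠ 0 := fun hk => hr0 (by
      have := Submodule.finrank_eq_zero.1 (hk ▸ h.left.1)
      rwa [this, Submodule.mem_bot] at hr)
    omega
  obtain ⟨e, d, he0, heP, hdQ, hes, hds, hed, hl⟩ := h.exists_basis hF hr hr0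
  obtain ⟨e', d', he0', heP', hdQ', hes', hds', hed', hl'⟩ := h'.exists_basis hF hr' hr0'
  obtain ⟨g, hg⟩ := exists_gu_witt hF hl hl' (fun i l => by
    induction i using Fin.addCases with
    | left i =>
      induction l using Fin.addCases with
      | left l =>
        simp only [Fin.append_left]
        rw [h.left.2 _ (heP i) _ (heP l), h'.left.2 _ (heP' i) _ (heP' l)]
      | right l =>
        simp only [Fin.append_left, Fin.append_right]
        rw [hed, hed']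
    | right i =>
      induction l using Fin.addCases with
      | left l =>
        simp only [Fin.append_left, Fin.append_right]
        rw [H.conj_symm (e l) (d i), H.conj_symm (e' l) (d' i), hed, hed']
      | right l =>
        simp only [Fin.append_right]
        rw [h.right.2 _ (hdQ i) _ (hdQ l), h'.right.2 _ (hdQ' i) _ (hdQ' l)])
  have hge : ∀ i, ((g : Matrix.GeneralLinearGroup (Fin n) F) : Matrix (Fin n) (Fin n) F) *ᵥ e i =
      e' i := fun i => by simpa only [Fin.append_left] using hg (Fin.castAdd (j + 1) i)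
  have hgd : ∀ i, ((g : Matrix.GeneralLinearGroup (Fin n) F) : Matrix (Fin n) (Fin n) F) *ᵥ d i =
      d' i := fun i => by simpa only [Fin.append_right] using hg (Fin.natAdd (j + 1) i)
  have hd : ((g : Matrix.GeneralLinearGroup (Fin n) F) : Matrix (Fin n) (Fin n) F).det ^ (q + 1) = 1 :=
    IsUnitary.det_norm hF (g.2 : IsUnitary q _)
  have hd0 : ((g : Matrix.GeneralLinearGroup (Fin n) F) : Matrix (Fin n) (Fin n) F).det ≠ 0 :=
    fun h => by simp [h] at hd
  obtain ⟨M, hM, hMd, hMf, ⟨l, hMr⟩, l', hMs⟩ := exists_gu_scale_pair hF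
    (h'.left.2 _ (heP' 0) _ (heP' 0)) (h'.right.2 _ (hdQ' 0) _ (hdQ' 0))
    ((hed' 0 0).trans (if_pos rfl)) (inv_pow_succ _ hd)
  have hde' : ∀ i l, Cfsg.hermForm n F q (d' l) (e' i) = if i = l then 1 else 0 := fun i l => by
    rw [H.conj_symm (e' i) (d' l), hed', apply_ite (fun z : F => z ^ q), one_pow, zero_pow_q hF]
  have hMe : ∀ i, M *ᵥ e' i ∈ P' := by
    intro i
    rcases eq_or_ne i 0 with rfl | hi
    · rw [hMr]; exact P'.smul_mem _ (heP' 0)
    · rw [hMf _ (h'.left.2 _ (heP' i) _ (heP' 0)) ((hed' i 0).trans (if_neg hi))]; exact heP' i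
  have hMd' : ∀ i, M *ᵥ d' i ∈ Q' := by
    intro i
    rcases eq_or_ne i 0 with rfl | hi
    · rw [hMs]; exact Q'.smul_mem _ (hdQ' 0)
    · rw [hMf _ ((hde' 0 i).trans (if_neg (Ne.symm hi))) (h'.right.2 _ (hdQ' i) _ (hdQ' 0))]
      exact hdQ' i
  let A : Cfsg.GU n F q := guOfUnitary hF M hM * g
  refine ⟨A, l⁻¹, ⟨A.2, MonoidHom.mem_ker.2 (Units.ext ?_)⟩, fun x hx => ?_, fun x hx => ?_, ?_⟩
  · show (M * _).det = 1
    rw [Matrix.det_mul, hMd, inv_mul_cancel₀ hd0]
  · refine mulVec_mem_of_range hes (fun i => ?_) hx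
    show (M * _) *ᵥ e i ∈ P'
    rw [← Matrix.mulVec_mulVec, hge]; exact hMe i
  · refine mulVec_mem_of_range hds (fun i => ?_) hx
    show (M * _) *ᵥ d i ∈ Q'
    rw [← Matrix.mulVec_mulVec, hgd]; exact hMd' i
  · show l⁻¹ • ((M * _) *ᵥ r) = r'
    have hl0 : l ≠ 0 := by
      rintro rfl
      have h1 : M *ᵥ e' 0 = M *ᵥ 0 := by rw [hMr, zero_smul, Matrix.mulVec_zero]
      exact hr0' (he0' ▸ Matrix.mulVec_injective_iff_isUnit.2 (hM.isUnit hF) h1)
    rw [← Matrix.mulVec_mulVec, ← he0, hge, hMr, inv_smul_smul₀ hl0, he0']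

section Overgroup

variable {M : Subgroup (Matrix.GeneralLinearGroup (Fin n) F)}
  (hF : Fintype.card F = q ^ 2) {P Q : Submodule F (Fin n → F)} (hPQ : IsPolarPair q k P Q)
  (hHM : ∀ g ∈ suGL n F q,
    (∀ x ∈ P, (g : Matrix (Fin n) (Fin n) F) *ᵥ x ∈ P) →
    (∀ x ∈ Q, (g : Matrix (Fin n) (Fin n) F) *ᵥ x ∈ Q) → g ∈ M)
include hF hPQ hHM

/-- Eichler elements of the pair are in M. -/
theorem exists_pair_eich {r y : Fin n → F} (hr : r ∈ P) (hy : y ∈ Q)
    (hry : Cfsg.hermForm n F q r y = 0) :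
    (∃ g ∈ M, IsEich q g r y) ∧ ∃ g ∈ M, IsEich q g y r := by
  have H := hermForm_isHerm hF n
  have hyr : Cfsg.hermForm n F q y r = 0 := (H.eq_zero_symm hF).1 hry
  have hr0 := hPQ.left.2 r hr r hr
  have hy0 := hPQ.right.2 y hy y hy
  refine ⟨?_, ?_⟩
  · obtain ⟨g, hg, he⟩ := eich_exists hF hr0 hy0 hry
    refine ⟨g, hHM g hg (fun x hx => ?_) (fun x hx => ?_), he⟩
    · rw [he, hPQ.left.2 x hx r hr, zero_smul, add_zero]
      exact P.sub_mem hx (P.smul_mem _ hr)
    · rw [he, hPQ.right.2 x hx y hy, zero_smul, sub_zero]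
      exact Q.add_mem hx (Q.smul_mem _ hy)
  · obtain ⟨g, hg, he⟩ := eich_exists hF hy0 hr0 hyr
    refine ⟨g, hHM g hg (fun x hx => ?_) (fun x hx => ?_), he⟩
    · rw [he, hPQ.left.2 x hx r hr, zero_smul, sub_zero]
      exact P.add_mem hx (P.smul_mem _ hr)
    · rw [he, hPQ.right.2 x hx y hy, zero_smul, add_zero]
      exact Q.sub_mem hx (Q.smul_mem _ hy)

/-- An Eichler element E(a, t r) for all t, with r in P and a outside, gives a centre. -/
theorem centre_of_eich {a r : Fin n → F} (hr : r ∈ P) (ha : Cfsg.hermForm n F q a a = 0)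
    (har : Cfsg.hermForm n F q a r = 0) {a₀ a₁ : Fin n → F} (h0 : a₀ ∈ P) (h1 : a₁ ∈ Q)
    (hsplit : a₀ + a₁ = a) (hind : a₀ ∉ Submodule.span F ({r} : Set (Fin n → F)))
    (hE : ∀ t : F, ∃ g ∈ M, IsEich q g a (t • r)) : r ∈ centres q M := by
  have H := hermForm_isHerm hF n
  have hr0 := hPQ.left.2 r hr r hr
  have h0r : Cfsg.hermForm n F q a₀ r = 0 := hPQ.left.2 _ h0 r hr
  have h1r : Cfsg.hermForm n F q a₁ r = 0 := by
    rw [← hsplit, H.add_left, h0r, zero_add] at har; exact har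
  -- transvection part
  set d := Cfsg.hermForm n F q a₁ a₀ with hd
  have hdskew : d + d ^ q = 0 := by
    rw [hd, ← H.conj_symm]
    have := ha
    rw [← hsplit, H.add_left, H.add_right hF, H.add_right hF, hPQ.left.2 _ h0 _ h0,
      hPQ.right.2 _ h1 _ h1] at this
    linear_combination this
  -- an Eichler element E(a₀, t r) T(t r, d) in M
  have key : ∀ t : F, ∃ g ∈ M, ∀ x, (g : Matrix (Fin n) (Fin n) F) *ᵥ x =
      x + Cfsg.hermForm n F q x a₀ • (t • r) - Cfsg.hermForm n F q x (t • r) • a₀ +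
        (d * Cfsg.hermForm n F q x (t • r)) • (t • r) := by
    intro t
    obtain ⟨C, hCM, hC⟩ := hE t
    have htr : t • r ∈ P := P.smul_mem t hr
    have h1tr : Cfsg.hermForm n F q a₁ (t • r) = 0 := by rw [H.smul_right, h1r, mul_zero]
    obtain ⟨-, B, hBM, hB⟩ := exists_pair_eich hF hPQ hHM htr h1 ((H.eq_zero_symm hF).1 h1tr)
    obtain ⟨A, -, hA⟩ := eich_exists hF (hPQ.left.2 _ h0 _ h0) (hPQ.left.2 _ htr _ htr)
      (hPQ.left.2 _ h0 _ htr)
    rw [← hsplit] at hC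
    have hT := eich_add hF hA hB hC (hPQ.left.2 _ htr _ htr) (hPQ.left.2 _ htr _ h0)
      ((H.eq_zero_symm hF).1 h1tr)
    refine ⟨C * B⁻¹, mul_mem hCM (inv_mem hBM), fun x => ?_⟩
    rw [show C * B⁻¹ = C * (A * B)⁻¹ * A by group, Units.val_mul, ← Matrix.mulVec_mulVec, hT, hA]
    simp only [H.add_left, H.sub_left, H.smul_left, hPQ.left.2 _ htr _ htr, hPQ.left.2 _ h0 _ htr, hPQ.left.2 _ hr _ htr, ← hd]
    module
  refine ⟨hr0, fun g c hc hg => ?_⟩
  by_cases hd0 : d = 0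
  · -- pure Eichler elements in P: commute with one of the pair
    obtain ⟨d', hd'Q, hd'r, hd'a⟩ : ∃ z ∈ Q, Cfsg.hermForm n F q r z = 0 ∧
        Cfsg.hermForm n F q a₀ z = 1 := by
      have : RingHomSurjective (conjHom hF) := ⟨(conjHom_bijective hF).2⟩
      obtain ⟨z, hz, hz'⟩ := Cfsg.Agent.Forms.exists_dual_vector (hermSesq hF n)
        (fun y hy => hermForm_nondeg hF n y fun x => hy x) _ a₀ hind 1
      change Cfsg.hermForm n F q a₀ z = 1 at hz'
      obtain ⟨u, hu, v, hv, rfl⟩ := hPQ.exists_split z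
      refine ⟨v, hv, ?_, ?_⟩
      · have := hz r (Submodule.mem_span_singleton_self r)
        change Cfsg.hermForm n F q r (u + v) = 0 at this
        rwa [H.add_right hF, hPQ.left.2 r hr u hu, zero_add] at this
      · rwa [H.add_right hF, hPQ.left.2 _ h0 u hu, zero_add] at hz'
    obtain ⟨δ, hδ0, hδ⟩ := exists_skew hF
    obtain ⟨σ, hσ⟩ := exists_trace_eq hF (c := c / δ)
      (by rw [div_pow, hδ, eq_neg_of_add_eq_zero_right hc, neg_div_neg_eq])
    obtain ⟨A, hAM, hA⟩ := key 1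
    have hA' : IsEich q A⁻¹ r a₀ := by
      intro x
      obtain ⟨y, rfl⟩ : ∃ y, (A : Matrix (Fin n) (Fin n) F) *ᵥ y = x :=
        Matrix.mulVec_surjective_iff_isUnit.2 (Units.isUnit _) x
      rw [Matrix.mulVec_mulVec, ← Units.val_mul, inv_mul_cancel, Units.val_one, Matrix.one_mulVec, hA]
      simp only [hd0, one_smul, H.add_left, H.sub_left, H.smul_left, zero_mul, zero_smul, add_zero,
        hr0, h0r, (H.eq_zero_symm hF).1 h0r, hPQ.left.2 _ h0 _ h0]
      module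
    let z := (δ * σ) ^ q • d'
    obtain ⟨⟨B, hBM, hB⟩, -⟩ := exists_pair_eich hF hPQ hHM hr (Q.smul_mem _ hd'Q)
      (show Cfsg.hermForm n F q r z = 0 by rw [H.smul_right, hd'r, mul_zero])
    have hT := eich_comm_same hF hA' hB hr0 (hPQ.left.2 r hr _ h0)
      (show Cfsg.hermForm n F q r z = 0 by rw [H.smul_right, hd'r, mul_zero])
    have hcv : Cfsg.hermForm n F q a₀ z - Cfsg.hermForm n F q z a₀ = c := by
      rw [H.conj_symm a₀ z, H.smul_right, hd'a, mul_one, pow_q_pow_q hF, mul_pow, hδ]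
      have : δ * (σ + σ ^ q) = c := by rw [hσ, mul_div_cancel₀ _ hδ0]
      linear_combination this
    rw [hcv] at hT
    have : g = A⁻¹ * B * A⁻¹⁻¹ * B⁻¹ := gl_ext_mulVec fun x => by rw [hT, hg, transvection_mulVec]
    rw [this]
    exact mul_mem (mul_mem (mul_mem (inv_mem hAM) hBM) (inv_mem (inv_mem hAM))) (inv_mem hBM)
  · -- E(a₀,r) E(a₀, t r) against E(a₀, (1+t) r): a transvection
    obtain ⟨t, ht⟩ := exists_trace_eq hF (c := -c / d)
      (by rw [div_pow, neg_pow_q hF, eq_neg_of_add_eq_zero_right hc,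
        eq_neg_of_add_eq_zero_right hdskew, neg_neg, div_neg, neg_div])
    obtain ⟨g1, h1M, e1⟩ := key 1
    obtain ⟨g2, h2M, e2⟩ := key t
    obtain ⟨g3, h3M, e3⟩ := key (1 + t)
    have : g = g1 * g2 * g3⁻¹ := gl_ext_mulVec fun x => by
      obtain ⟨y, rfl⟩ : ∃ y, (g3 : Matrix (Fin n) (Fin n) F) *ᵥ y = x :=
        Matrix.mulVec_surjective_iff_isUnit.2 (Units.isUnit _) x
      conv_rhs => rw [Matrix.mulVec_mulVec, ← Units.val_mul, inv_mul_cancel_right, Units.val_mul,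
        ← Matrix.mulVec_mulVec]
      rw [hg, transvection_mulVec, e1, e2, e3]
      have hdt : d * (t + t ^ q) = -c := by rw [ht, mul_div_cancel₀ _ hd0]
      simp only [one_smul, H.add_left, H.sub_left, H.smul_left, H.smul_right, hr0, h0r,
        (H.eq_zero_symm hF).1 h0r, hPQ.left.2 _ h0 _ h0, add_pow_q hF, one_pow]
      match_scalars
      · ring
      · linear_combination (Cfsg.hermForm n F q y r) * hdt
      · ring
    rw [this]
    exact mul_mem (mul_mem h1M h2M) (inv_mem h3M)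

end Overgroup

theorem le_of_pair_centre (hF : Fintype.card F = q ^ 2) (hn : 4 ≤ n ∨ (n = 3 ∧ 3 ≤ q) ∨ n ≤ 2)
    {P Q : Submodule F (Fin n → F)} (hPQ : IsPolarPair q k P Q)
    {M : Subgroup (Matrix.GeneralLinearGroup (Fin n) F)}
    (hHM : ∀ g ∈ suGL n F q,
      ((∀ x ∈ P, (g : Matrix (Fin n) (Fin n) F) *ᵥ x ∈ P) ∧
        (∀ x ∈ Q, (g : Matrix (Fin n) (Fin n) F) *ᵥ x ∈ Q)) ∨
      ((∀ x ∈ P, (g : Matrix (Fin n) (Fin n) F) *ᵥ x ∈ Q) ∧
        (∀ x ∈ Q, (g : Matrix (Fin n) (Fin n) F) *ᵥ x ∈ P)) → g ∈ M)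
    {r : Fin n → F} (hr : r ∈ P) (hr0 : r ≠ 0) (hC : r ∈ centres q M) : suGL n F q ≤ M := by
  have H := hermForm_isHerm hF n
  have cP : ∀ v ∈ P, v ∈ centres q M := by
    intro v hv
    rcases eq_or_ne v 0 with rfl | hv0
    · rw [← zero_smul F r]; exact centres_smul hF hC 0
    obtain ⟨g, a, hg, h1, h2, rfl⟩ := exists_pair_map hF hPQ hPQ hr hr0 hv hv0
    exact centres_smul hF (centres_conj (hHM g hg (Or.inl ⟨h1, h2⟩)) hg hC) a
  have cQ : ∀ v ∈ Q, v ∈ centres q M := by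
    intro v hv
    rcases eq_or_ne v 0 with rfl | hv0
    · rw [← zero_smul F r]; exact centres_smul hF hC 0
    obtain ⟨g, a, hg, h1, h2, rfl⟩ := exists_pair_map hF hPQ hPQ.symm hr hr0 hv hv0
    exact centres_smul hF (centres_conj (hHM g hg (Or.inr ⟨h1, h2⟩)) hg hC) a
  have key : ∀ a ∈ P, ∀ b ∈ Q, Cfsg.hermForm n F q (a + b) (a + b) = 0 →
      Cfsg.hermForm n F q b a ≠ 0 → a + b ∈ centres q M := by
    intro a ha b hb h0 hne
    have hskew : Cfsg.hermForm n F q b a + Cfsg.hermForm n F q b a ^ q = 0 := by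
      rw [← H.conj_symm]
      rw [H.add_left, H.add_right hF, H.add_right hF, hPQ.left.2 a ha a ha,
        hPQ.right.2 b hb b hb] at h0
      linear_combination h0
    have hc : (Cfsg.hermForm n F q b a)⁻¹ + ((Cfsg.hermForm n F q b a)⁻¹) ^ q = 0 := by
      rw [inv_pow, eq_neg_of_add_eq_zero_right hskew, inv_neg, add_neg_cancel]
    have := centres_step hF (cP a ha) (cQ b hb) hc
    rwa [inv_mul_cancel₀ hne, one_smul, add_comm] at this
  refine le_of_centres hF hn fun u hu => ?_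
  obtain ⟨a, ha, b, hb, rfl⟩ := hPQ.exists_split u
  by_cases hba : Cfsg.hermForm n F q b a = 0
  swap
  · exact key a ha b hb hu hba
  rcases eq_or_ne b 0 with rfl | hb0
  · rw [add_zero]; exact cP a ha
  obtain ⟨w, hw, hbw⟩ : ∃ w ∈ P, Cfsg.hermForm n F q b w ≠ 0 := by
    by_contra hc
    simp only [not_exists, not_and, not_not] at hc
    exact hb0 (hPQ.symm.eq_zero_of_perp hF hb hc)
  obtain ⟨δ, hδ0, hδ⟩ := exists_skew hF
  have hδ' : δ + δ ^ q = 0 := by rw [hδ, add_neg_cancel]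
  have hne : Cfsg.hermForm n F q b (a + (δ * Cfsg.hermForm n F q b w) • w) ≠ 0 := by
    rw [H.add_right hF, hba, zero_add, H.smul_right, mul_pow]
    exact mul_ne_zero (mul_ne_zero (pow_ne_zero _ hδ0) (pow_ne_zero _ hbw)) hbw
  have hiso : Cfsg.hermForm n F q (a + (δ * Cfsg.hermForm n F q b w) • w + b)
      (a + (δ * Cfsg.hermForm n F q b w) • w + b) = 0 := by
    have hab : Cfsg.hermForm n F q a b = 0 := (H.eq_zero_symm hF).1 hba
    simp only [H.add_left, H.add_right hF, H.smul_left, H.smul_right, hPQ.left.2 a ha a ha,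
      hPQ.left.2 a ha w hw, hPQ.left.2 w hw a ha, hPQ.left.2 w hw w hw, hPQ.right.2 b hb b hb, hab,
      hba, H.conj_symm b w, mul_pow]
    linear_combination (Cfsg.hermForm n F q b w ^ q * Cfsg.hermForm n F q b w) * hδ'
  have h' := key _ (P.add_mem ha (P.smul_mem _ hw)) b hb hiso hne
  have hc' : -δ + (-δ) ^ q = 0 := by rw [neg_pow_q hF, hδ]; ring
  have := centres_step hF (cP w hw) h' hc'
  rwa [show Cfsg.hermForm n F q (a + (δ * Cfsg.hermForm n F q b w) • w + b) w =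
    Cfsg.hermForm n F q b w by
      simp [H.add_left, H.smul_left, hPQ.left.2 a ha w hw, hPQ.left.2 w hw w hw],
    show a + (δ * Cfsg.hermForm n F q b w) • w + b + (-δ * Cfsg.hermForm n F q b w) • w = a + b by
      module] at this

theorem exists_pow_q_ne (hF : Fintype.card F = q ^ 2) : ∃ t : F, t ^ q ≠ t := by
  by_contra h
  simp only [not_exists, not_not] at h
  have h1 : Nat.card {x : F // x ^ q = x} = Nat.card F :=
    Nat.card_congr (Equiv.subtypeUnivEquiv h)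
  rw [card_fixed hF, Nat.card_eq_fintype_card, hF] at h1
  have := two_le_q hF
  have : q * 2 ≤ q ^ 2 := by rw [sq]; exact Nat.mul_le_mul_left q this
  omega

theorem IsPolarPair.split_unique {P Q : Submodule F (Fin n → F)} (h : IsPolarPair q k P Q)
    {u v u' v' : Fin n → F} (hu : u ∈ P) (hv : v ∈ Q) (hu' : u' ∈ P) (hv' : v' ∈ Q)
    (e : u + v = u' + v') : u = u' ∧ v = v' := by
  have h1 : u - u' = v' - v := by linear_combination (norm := module) e
  have h2 : u - u' ∈ P ⊓ Q := ⟨P.sub_mem hu hu', h1 ▸ Q.sub_mem hv' hv⟩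
  rw [h.inf, Submodule.mem_bot, sub_eq_zero] at h2
  exact ⟨h2, by subst h2; exact add_left_cancel e⟩

theorem IsPolarPair.mem_of_perp (hF : Fintype.card F = q ^ 2) {P Q : Submodule F (Fin n → F)}
    (h : IsPolarPair q k P Q) {w : Fin n → F} (hw : ∀ x ∈ P, Cfsg.hermForm n F q x w = 0) :
    w ∈ P := by
  have H := hermForm_isHerm hF n
  obtain ⟨u, hu, v, hv, rfl⟩ := h.exists_split w
  have : v = 0 := h.symm.eq_zero_of_perp hF hv fun x hx => (H.eq_zero_symm hF).1 (by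
    have := hw x hx
    rwa [H.add_right hF, h.left.2 x hx u hu, zero_add] at this)
  rw [this, add_zero]; exact hu

/-- An element outside the stabiliser moves some orthogonal pair into general position. -/
theorem exists_good_pair (hF : Fintype.card F = q ^ 2) (hk : 3 ≤ k)
    {P Q : Submodule F (Fin n → F)} (hPQ : IsPolarPair q k P Q)
    {g : Matrix.GeneralLinearGroup (Fin n) F} (hg : g ∈ suGL n F q)
    {x : Fin n → F} (hx : x ∈ P) (hxP : (g : Matrix (Fin n) (Fin n) F) *ᵥ x ∉ P)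
    (hxQ : (g : Matrix (Fin n) (Fin n) F) *ᵥ x ∉ Q) :
    ∃ x ∈ P, ∃ y ∈ Q, Cfsg.hermForm n F q x y = 0 ∧ ∃ a₀ ∈ P, ∃ a₁ ∈ Q, ∃ b₀ ∈ P, ∃ b₁ ∈ Q,
      (g : Matrix (Fin n) (Fin n) F) *ᵥ x = a₀ + a₁ ∧
      (g : Matrix (Fin n) (Fin n) F) *ᵥ y = b₀ + b₁ ∧
      (Cfsg.hermForm n F q a₀ a₁ * Cfsg.hermForm n F q b₀ b₁ ≠
          Cfsg.hermForm n F q a₀ b₁ * Cfsg.hermForm n F q b₀ a₁ ∨
        Cfsg.hermForm n F q a₀ a₁ ≠ 0 ∧ y ≠ 0 ∧ (b₀ = 0 ∨ b₁ = 0)) := by
  have H := hermForm_isHerm hF n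
  let G := (g : Matrix (Fin n) (Fin n) F)
  have hG := mem_suGL_herm hg
  have hGinj : Function.Injective (Matrix.mulVec G) :=
    Matrix.mulVec_injective_iff_isUnit.2 (Units.isUnit g)
  have hGsurj : Function.Surjective (Matrix.mulVec G) :=
    Matrix.mulVec_surjective_iff_isUnit.2 (Units.isUnit g)
  by_contra hc
  simp only [not_exists, not_and, not_or] at hc
  -- products vanish
  have det : ∀ x ∈ P, ∀ y ∈ Q, Cfsg.hermForm n F q x y = 0 → ∀ a₀ ∈ P, ∀ a₁ ∈ Q, ∀ b₀ ∈ P,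
      ∀ b₁ ∈ Q, G *ᵥ x = a₀ + a₁ → G *ᵥ y = b₀ + b₁ →
      Cfsg.hermForm n F q a₀ a₁ * Cfsg.hermForm n F q b₀ b₁ =
        -(Cfsg.hermForm n F q a₀ b₁ * Cfsg.hermForm n F q a₀ b₁ ^ q) := by
    intro x hx y hy hxy a₀ ha₀ a₁ ha₁ b₀ hb₀ b₁ hb₁ ea eb
    have h1 := (hc x hx y hy hxy a₀ ha₀ a₁ ha₁ b₀ hb₀ b₁ hb₁ ea eb).1
    rw [not_not] at h1
    have h2 : Cfsg.hermForm n F q (a₀ + a₁) (b₀ + b₁) = 0 := by rw [← ea, ← eb, hG, hxy]
    rw [H.add_left, H.add_right hF, H.add_right hF, hPQ.left.2 a₀ ha₀ b₀ hb₀,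
      hPQ.right.2 a₁ ha₁ b₁ hb₁, zero_add, add_zero, H.conj_symm b₀ a₁] at h2
    have h3 : Cfsg.hermForm n F q b₀ a₁ = -Cfsg.hermForm n F q a₀ b₁ ^ q := by
      have := congrArg (fun z : F => z ^ q) (eq_neg_of_add_eq_zero_right h2)
      simpa only [pow_q_pow_q hF, neg_pow_q hF] using this
    rw [h1, h3, mul_neg]
  -- the form vanishing on a sum
  have first : ∀ x ∈ P, ∀ a₀ ∈ P, ∀ a₁ ∈ Q, G *ᵥ x = a₀ + a₁ →
      Cfsg.hermForm n F q a₀ a₁ = 0 := by
    intro x hx a₀ ha₀ a₁ ha₁ ea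
    by_contra hs
    have ha₀0 : a₀ ≠ 0 := fun h => hs (by rw [h, H.zero_left])
    -- y orthogonal to x with no cross term
    obtain ⟨y, hy, hy0, hxy, hay⟩ : ∃ y ∈ Q, y ≠ 0 ∧ Cfsg.hermForm n F q x y = 0 ∧
        Cfsg.hermForm n F q a₀ (G *ᵥ y) = 0 := by
      let φ : Q →ₗ[F] F × F :=
        { toFun := fun z => (Cfsg.hermForm n F q z x, Cfsg.hermForm n F q (G *ᵥ z) a₀)
          map_add' := fun z w => by simp [H.add_left, Matrix.mulVec_add]
          map_smul' := fun c z => by simp [H.smul_left, Matrix.mulVec_smul] }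
      obtain ⟨z, hz, hz0⟩ := Submodule.exists_mem_ne_zero_of_ne_bot
        (LinearMap.ker_ne_bot_of_finrank_lt (f := φ) (by
          rw [hPQ.right.1, Module.finrank_prod, Module.finrank_self]; omega))
      have hz' : Cfsg.hermForm n F q z x = 0 ∧ Cfsg.hermForm n F q (G *ᵥ z) a₀ = 0 :=
        Prod.mk_eq_zero.1 hz
      exact ⟨z, z.2, fun h => hz0 (Subtype.ext h), (H.eq_zero_symm hF).1 hz'.1,
        (H.eq_zero_symm hF).1 hz'.2⟩
    obtain ⟨b₀, hb₀, b₁, hb₁, eb⟩ := hPQ.exists_split (G *ᵥ y)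
    have hC : Cfsg.hermForm n F q a₀ b₁ = 0 := by
      rwa [← eb, H.add_right hF, hPQ.left.2 a₀ ha₀ b₀ hb₀, zero_add] at hay
    have hs' : Cfsg.hermForm n F q b₀ b₁ = 0 := by
      have := det x hx y hy hxy a₀ ha₀ a₁ ha₁ b₀ hb₀ b₁ hb₁ ea eb.symm
      rw [hC, zero_mul, neg_zero] at this
      exact (mul_eq_zero.1 this).resolve_left hs
    have hb0 := (hc x hx y hy hxy a₀ ha₀ a₁ ha₁ b₀ hb₀ b₁ hb₁ ea eb.symm).2 hs hy0
    -- b₁ is a combination of G x and G y modulo nothing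
    obtain ⟨w, hw⟩ := hGsurj b₁
    obtain ⟨x0, hx0P, hx0⟩ : ∃ x0 ∈ P, Cfsg.hermForm n F q x0 y = 1 := by
      obtain ⟨z, hz, hzy⟩ : ∃ z ∈ P, Cfsg.hermForm n F q z y ≠ 0 := by
        by_contra h
        simp only [not_exists, not_and, not_not] at h
        exact hy0 (hPQ.symm.eq_zero_of_perp hF hy fun z hz => (H.eq_zero_symm hF).1 (h z hz))
      exact ⟨(Cfsg.hermForm n F q z y)⁻¹ • z, P.smul_mem _ hz, by
        rw [H.smul_left, inv_mul_cancel₀ hzy]⟩
    obtain ⟨c, hcdef⟩ : ∃ c, c = Cfsg.hermForm n F q w x0 := ⟨_, rfl⟩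
    have hu : w - c • y ∈ P := by
      refine hPQ.mem_of_perp hF fun x' hx' => ?_
      set z := x' - Cfsg.hermForm n F q x' y • x0 with hz
      have hzP : z ∈ P := P.sub_mem hx' (P.smul_mem _ hx0P)
      have hzy : Cfsg.hermForm n F q z y = 0 := by
        rw [hz, H.sub_left, H.smul_left, hx0, mul_one, sub_self]
      obtain ⟨c₀, hc₀, c₁, hc₁, ec⟩ := hPQ.exists_split (G *ᵥ z)
      have h0 := det z hzP y hy hzy c₀ hc₀ c₁ hc₁ b₀ hb₀ b₁ hb₁ ec.symm eb.symm
      rw [hs', mul_zero, eq_comm, neg_eq_zero, mul_eq_zero, pow_q_eq_zero hF, or_self] at h0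
      have hzw : Cfsg.hermForm n F q z w = 0 := by
        rw [← hG z w, hw, ← ec, H.add_left, h0, hPQ.right.2 c₁ hc₁ b₁ hb₁, add_zero]
      rw [hz, H.sub_left, H.smul_left, sub_eq_zero] at hzw
      rw [H.sub_right hF, H.smul_right, hzw, hcdef, H.conj_symm w x0, mul_comm, sub_self]
    have hperp : ∀ z ∈ Q, Cfsg.hermForm n F q x z = 0 →
        Cfsg.hermForm n F q (w - c • y) z = 0 := by
      intro z hz hxz
      obtain ⟨z₀, hz₀, z₁, hz₁, ez⟩ := hPQ.exists_split (G *ᵥ z)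
      have hsum : Cfsg.hermForm n F q b₀ z₁ + Cfsg.hermForm n F q b₁ z₀ = 0 := by
        have : Cfsg.hermForm n F q (b₀ + b₁) (z₀ + z₁) = 0 := by
          rw [eb, ez, hG]; exact hPQ.right.2 y hy z hz
        rwa [H.add_left, H.add_right hF, H.add_right hF, hPQ.left.2 b₀ hb₀ z₀ hz₀,
          hPQ.right.2 b₁ hb₁ z₁ hz₁, zero_add, add_zero] at this
      have e1 : ∀ t : F, t * Cfsg.hermForm n F q b₁ z₀ ^ q -
          t ^ q * Cfsg.hermForm n F q b₁ z₀ = 0 := fun t => by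
        have h1 := det x hx z hz hxz a₀ ha₀ a₁ ha₁ z₀ hz₀ z₁ hz₁ ea ez.symm
        have h2 := det x hx (y + t • z) (Q.add_mem hy (Q.smul_mem _ hz))
          (by rw [H.add_right hF, H.smul_right, hxy, hxz, mul_zero, add_zero])
          a₀ ha₀ a₁ ha₁ (b₀ + t • z₀) (P.add_mem hb₀ (P.smul_mem _ hz₀))
          (b₁ + t • z₁) (Q.add_mem hb₁ (Q.smul_mem _ hz₁)) ea
          (by rw [Matrix.mulVec_add, Matrix.mulVec_smul, ← eb, ← ez]; module)
        simp only [H.add_left, H.smul_left, H.add_right hF, H.smul_right, hC, hs', zero_add,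
          mul_pow, pow_q_pow_q hF, H.conj_symm b₁ z₀] at h2
        have h3 : Cfsg.hermForm n F q a₀ a₁ * (t * Cfsg.hermForm n F q b₁ z₀ ^ q -
            t ^ q * Cfsg.hermForm n F q b₁ z₀) = 0 := by
          linear_combination h2 - t * t ^ q * h1 - Cfsg.hermForm n F q a₀ a₁ * t ^ q * hsum
        exact (mul_eq_zero.1 h3).resolve_left hs
      obtain ⟨t, ht⟩ := exists_pow_q_ne hF
      have e : Cfsg.hermForm n F q b₁ z₀ = 0 := by
        have h1 := e1 1
        rw [one_pow, one_mul, one_mul] at h1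
        have h2 : (t - t ^ q) * Cfsg.hermForm n F q b₁ z₀ = 0 := by
          linear_combination e1 t - t * h1
        exact (mul_eq_zero.1 h2).resolve_left (sub_ne_zero.2 (Ne.symm ht))
      rw [H.sub_left, H.smul_left, hPQ.right.2 y hy z hz, mul_zero, sub_zero, ← hG w z, hw, ← ez,
        H.add_right hF, e, hPQ.right.2 b₁ hb₁ z₁ hz₁, add_zero]
    obtain ⟨z0, hz0Q, hz0⟩ : ∃ z0 ∈ Q, Cfsg.hermForm n F q x z0 = 1 := by
      obtain ⟨z, hz, hxz⟩ : ∃ z ∈ Q, Cfsg.hermForm n F q x z ≠ 0 := by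
        by_contra h
        simp only [not_exists, not_and, not_not] at h
        apply ha₀0
        have : a₀ + a₁ = 0 + 0 := by
          rw [← ea, hPQ.eq_zero_of_perp hF hx h, Matrix.mulVec_zero, add_zero]
        exact (hPQ.split_unique ha₀ ha₁ P.zero_mem Q.zero_mem this).1
      exact ⟨((Cfsg.hermForm n F q x z)⁻¹) ^ q • z, Q.smul_mem _ hz, by
        rw [H.smul_right, pow_q_pow_q hF, inv_mul_cancel₀ hxz]⟩
    obtain ⟨ν, hν⟩ : ∃ ν, ν = Cfsg.hermForm n F q (w - c • y) z0 := ⟨_, rfl⟩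
    have hw' : w - c • y - ν • x = 0 := by
      refine hPQ.eq_zero_of_perp hF (P.sub_mem hu (P.smul_mem _ hx)) fun z hz => ?_
      have h := hperp (z - Cfsg.hermForm n F q x z ^ q • z0)
        (Q.sub_mem hz (Q.smul_mem _ hz0Q))
        (by rw [H.sub_right hF, H.smul_right, pow_q_pow_q hF, hz0, mul_one, sub_self])
      rw [H.sub_right hF, H.smul_right, pow_q_pow_q hF, ← hν] at h
      rw [H.sub_left, H.smul_left]
      linear_combination h
    have hsplit : (0 : Fin n → F) + b₁ = (ν • a₀ + c • b₀) + (ν • a₁ + c • b₁) := by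
      have : w = ν • x + c • y := by linear_combination (norm := module) hw'
      rw [zero_add]
      refine hw.symm.trans ?_
      rw [this, Matrix.mulVec_add, Matrix.mulVec_smul, Matrix.mulVec_smul, ea, ← eb]
      module
    obtain ⟨e0, e1⟩ := hPQ.split_unique P.zero_mem hb₁
      (P.add_mem (P.smul_mem _ ha₀) (P.smul_mem _ hb₀))
      (Q.add_mem (Q.smul_mem _ ha₁) (Q.smul_mem _ hb₁)) hsplit
    rcases eq_or_ne ν 0 with hν0 | hν0
    · rw [hν0, zero_smul, zero_add] at e0 e1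
      rcases eq_or_ne c 0 with hc0 | hc0
      · exact hb0.2 (by rw [e1, hc0, zero_smul])
      · exact hb0.1 ((smul_eq_zero.1 e0.symm).resolve_left hc0)
    · have h1 : (1 - c) • b₁ = ν • a₁ := by linear_combination (norm := module) e1
      have h2 := congrArg (Cfsg.hermForm n F q a₀) h1
      rw [H.smul_right, H.smul_right, hC, mul_zero, eq_comm, mul_eq_zero,
        pow_q_eq_zero hF] at h2
      exact h2.elim hν0 hs
  obtain ⟨a₀, ha₀, a₁, ha₁, ea⟩ := hPQ.exists_split (G *ᵥ x)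
  obtain ⟨x', hx'⟩ := hGsurj a₀
  have hx'P : x' ∈ P := by
    refine hPQ.mem_of_perp hF fun z hz => (H.eq_zero_symm hF).1 ?_
    obtain ⟨z₀, hz₀, z₁, hz₁, ez⟩ := hPQ.exists_split (G *ᵥ z)
    have hsum : Cfsg.hermForm n F q a₀ z₁ + Cfsg.hermForm n F q a₁ z₀ = 0 := by
      have : Cfsg.hermForm n F q (a₀ + a₁) (z₀ + z₁) = 0 := by
        rw [ea, ez, hG]; exact hPQ.left.2 x hx z hz
      rwa [H.add_left, H.add_right hF, H.add_right hF, hPQ.left.2 a₀ ha₀ z₀ hz₀,
        hPQ.right.2 a₁ ha₁ z₁ hz₁, zero_add, add_zero] at this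
    have e1 : ∀ t : F, t * Cfsg.hermForm n F q a₁ z₀ ^ q -
        t ^ q * Cfsg.hermForm n F q a₁ z₀ = 0 := fun t => by
      have h := first (x + t • z) (P.add_mem hx (P.smul_mem _ hz))
        (a₀ + t • z₀) (P.add_mem ha₀ (P.smul_mem _ hz₀))
        (a₁ + t • z₁) (Q.add_mem ha₁ (Q.smul_mem _ hz₁))
        (by rw [Matrix.mulVec_add, Matrix.mulVec_smul, ← ea, ← ez]; module)
      simp only [H.add_left, H.smul_left, H.add_right hF, H.smul_right,
        first x hx a₀ ha₀ a₁ ha₁ ea.symm, first z hz z₀ hz₀ z₁ hz₁ ez.symm,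
        H.conj_symm a₁ z₀, zero_add, mul_zero, add_zero] at h
      linear_combination h - t ^ q * hsum
    obtain ⟨t, ht⟩ := exists_pow_q_ne hF
    have e : Cfsg.hermForm n F q a₁ z₀ = 0 := by
      have h1 := e1 1
      rw [one_pow, one_mul, one_mul] at h1
      have h2 : (t - t ^ q) * Cfsg.hermForm n F q a₁ z₀ = 0 := by
        linear_combination e1 t - t * h1
      exact (mul_eq_zero.1 h2).resolve_left (sub_ne_zero.2 (Ne.symm ht))
    rw [e, add_zero] at hsum
    rw [← hG x' z, hx', ← ez, H.add_right hF, hPQ.left.2 a₀ ha₀ z₀ hz₀, hsum, add_zero]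
  have hnd : x' ∉ Submodule.span F ({x} : Set (Fin n → F)) := by
    intro h
    obtain ⟨c, rfl⟩ := Submodule.mem_span_singleton.1 h
    have e : a₀ + (0 : Fin n → F) = c • a₀ + c • a₁ := by
      rw [add_zero, ← smul_add, ea, ← Matrix.mulVec_smul]; exact hx'.symm
    obtain ⟨e0, e1⟩ := hPQ.split_unique ha₀ Q.zero_mem (P.smul_mem _ ha₀) (Q.smul_mem _ ha₁) e
    rcases eq_or_ne c 0 with rfl | hc0
    · rw [zero_smul] at e0
      exact hxQ (by show G *ᵥ x ∈ Q; rw [← ea, e0, zero_add]; exact ha₁)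
    · exact hxP (by
        show G *ᵥ x ∈ P
        rw [← ea, (smul_eq_zero.1 e1.symm).resolve_left hc0, add_zero]; exact ha₀)
  obtain ⟨y, hy, hxy, hx'y⟩ : ∃ y ∈ Q, Cfsg.hermForm n F q x y = 0 ∧
      Cfsg.hermForm n F q x' y = 1 := by
    have : RingHomSurjective (conjHom hF) := ⟨(conjHom_bijective hF).2⟩
    obtain ⟨z, hz, hz'⟩ := Cfsg.Agent.Forms.exists_dual_vector (hermSesq hF n)
      (fun y hy => hermForm_nondeg hF n y fun x => hy x) _ x' hnd 1
    change Cfsg.hermForm n F q x' z = 1 at hz'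
    obtain ⟨u, hu, v, hv, rfl⟩ := hPQ.exists_split z
    refine ⟨v, hv, ?_, ?_⟩
    · have := hz x (Submodule.mem_span_singleton_self x)
      change Cfsg.hermForm n F q x (u + v) = 0 at this
      rwa [H.add_right hF, hPQ.left.2 x hx u hu, zero_add] at this
    · rwa [H.add_right hF, hPQ.left.2 x' hx'P u hu, zero_add] at hz'
  obtain ⟨b₀, hb₀, b₁, hb₁, eb⟩ := hPQ.exists_split (G *ᵥ y)
  have hC : Cfsg.hermForm n F q a₀ b₁ = 1 := by
    have : Cfsg.hermForm n F q a₀ (G *ᵥ y) = 1 := by rw [← hx', hG, hx'y]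
    rwa [← eb, H.add_right hF, hPQ.left.2 a₀ ha₀ b₀ hb₀, zero_add] at this
  have h := det x hx y hy hxy a₀ ha₀ a₁ ha₁ b₀ hb₀ b₁ hb₁ ea.symm eb.symm
  rw [first x hx a₀ ha₀ a₁ ha₁ ea.symm, hC, zero_mul, one_pow, one_mul, eq_comm,
    neg_eq_zero] at h
  exact one_ne_zero h

theorem exists_perp_two (hF : Fintype.card F = q ^ 2) {P : Submodule F (Fin n → F)}
    (hP : 3 ≤ Module.finrank F P) (u v : Fin n → F) :
    ∃ r ∈ P, r ≠ 0 ∧ Cfsg.hermForm n F q r u = 0 ∧ Cfsg.hermForm n F q r v = 0 := by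
  have H := hermForm_isHerm hF n
  let φ : P →ₗ[F] F × F :=
    { toFun := fun z => (Cfsg.hermForm n F q z u, Cfsg.hermForm n F q z v)
      map_add' := fun z w => by simp [H.add_left]
      map_smul' := fun c z => by simp [H.smul_left] }
  obtain ⟨z, hz, hz0⟩ := Submodule.exists_mem_ne_zero_of_ne_bot
    (LinearMap.ker_ne_bot_of_finrank_lt (f := φ) (by
      rw [Module.finrank_prod, Module.finrank_self]; omega))
  exact ⟨z, z.2, fun h => hz0 (Subtype.ext h), (Prod.mk_eq_zero.1 hz).1, (Prod.mk_eq_zero.1 hz).2⟩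

theorem exists_perp_outside (hF : Fintype.card F = q ^ 2) {P Q : Submodule F (Fin n → F)}
    (hPQ : IsPolarPair q k P Q) (hk : 3 ≤ k) {a b u : Fin n → F} (ha : a ∈ P) (hb : b ∈ P)
    (hau : Cfsg.hermForm n F q a u ≠ 0) :
    ∃ r ∈ P, Cfsg.hermForm n F q r u = 0 ∧ Cfsg.hermForm n F q r 0 = 0 ∧
      r ∉ Submodule.span F ({a, b} : Set (Fin n → F)) := by
  have H := hermForm_isHerm hF n
  by_contra hc
  simp only [not_exists, not_and, not_not] at hc
  have hle : P ≤ Submodule.span F ({a, b} : Set (Fin n → F)) := fun z hz => by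
    have h1 := hc (z - (Cfsg.hermForm n F q z u / Cfsg.hermForm n F q a u) • a)
      (P.sub_mem hz (P.smul_mem _ ha))
      (by rw [H.sub_left, H.smul_left, div_mul_cancel₀ _ hau, sub_self]) (H.zero_right hF _)
    have ha' : a ∈ Submodule.span F ({a, b} : Set (Fin n → F)) :=
      Submodule.subset_span (Set.mem_insert _ _)
    simpa using Submodule.add_mem _ h1
      (Submodule.smul_mem _ (Cfsg.hermForm n F q z u / Cfsg.hermForm n F q a u) ha')
  have _ := hb
  classical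
  have h1 := Submodule.finrank_mono hle
  rw [hPQ.left.1] at h1
  have := finrank_span_le_card ({a, b} : Set (Fin n → F)) (R := F)
  simp only [Set.toFinset_insert, Set.toFinset_singleton] at this
  have h2 : ({a, b} : Finset (Fin n → F)).card ≤ 2 :=
    le_trans (Finset.card_insert_le _ _) (by simp)
  omega

/-- From an element outside the stabiliser, a centre in P or Q. -/
theorem exists_pair_centre (hF : Fintype.card F = q ^ 2) (hk : 3 ≤ k)
    {P Q : Submodule F (Fin n → F)} (hPQ : IsPolarPair q k P Q)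
    {M : Subgroup (Matrix.GeneralLinearGroup (Fin n) F)}
    (hHM : ∀ g ∈ suGL n F q,
      (∀ x ∈ P, (g : Matrix (Fin n) (Fin n) F) *ᵥ x ∈ P) →
      (∀ x ∈ Q, (g : Matrix (Fin n) (Fin n) F) *ᵥ x ∈ Q) → g ∈ M)
    {g : Matrix.GeneralLinearGroup (Fin n) F} (hgM : g ∈ M) (hg : g ∈ suGL n F q)
    {x : Fin n → F} (hx : x ∈ P) (hxP : (g : Matrix (Fin n) (Fin n) F) *ᵥ x ∉ P)
    (hxQ : (g : Matrix (Fin n) (Fin n) F) *ᵥ x ∉ Q) :
    ∃ r, r ≠ 0 ∧ (r ∈ P ∨ r ∈ Q) ∧ r ∈ centres q M := by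
  have H := hermForm_isHerm hF n
  let G := (g : Matrix (Fin n) (Fin n) F)
  have hG := mem_suGL_herm hg
  obtain ⟨x, hx, y, hy, hxy, a₀, ha₀, a₁, ha₁, b₀, hb₀, b₁, hb₁, ea, eb, hgood⟩ :=
    exists_good_pair hF hk hPQ hg hx hxP hxQ
  set a := G *ᵥ x with ha_def
  have ha : Cfsg.hermForm n F q a a = 0 := (hG x x).trans (hPQ.left.2 x hx x hx)
  have hsplit : a₀ + a₁ = a := ea.symm
  have hgy : G *ᵥ y = b₀ + b₁ := eb
  -- one-sided core
  have core : ∀ {P' Q' : Submodule F (Fin n → F)}, IsPolarPair q k P' Q' →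
      (∀ g ∈ suGL n F q,
        (∀ x ∈ P', (g : Matrix (Fin n) (Fin n) F) *ᵥ x ∈ P') →
        (∀ x ∈ Q', (g : Matrix (Fin n) (Fin n) F) *ᵥ x ∈ Q') → g ∈ M) →
      ∀ (a₀ a₁ b₀ b₁ : Fin n → F), a₀ ∈ P' → a₁ ∈ Q' → b₀ ∈ P' → b₁ ∈ Q' → a₀ + a₁ = a →
      a₀ ≠ 0 → b₀ ∉ Submodule.span F ({a₀} : Set (Fin n → F)) →
      G *ᵥ y = b₀ + b₁ →
      (∃ r ∈ P', Cfsg.hermForm n F q r a₁ = 0 ∧
        Cfsg.hermForm n F q r b₁ = 0 ∧ r ∉ Submodule.span F ({a₀, b₀} : Set (Fin n → F))) →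
      ∃ r, r ≠ 0 ∧ r ∈ P' ∧ r ∈ centres q M := by
    intro P' Q' hP' hHM' a₀ a₁ b₀ b₁ ha₀ ha₁ hb₀ hb₁ hsa ha₀0 hb₀a hgy
      ⟨r, hr, hra, hrb, hrS⟩
    have hb : Cfsg.hermForm n F q (b₀ + b₁) (b₀ + b₁) = 0 := by
      rw [← hgy, hG]; exact hPQ.right.2 y hy y hy
    have hab : Cfsg.hermForm n F q a (b₀ + b₁) = 0 := by rw [← hgy, hG, hxy]
    obtain ⟨⟨A₀, hA₀M, hA₀⟩, -⟩ := exists_pair_eich hF hPQ hHM hx hy hxy
    have hA := eich_conj hF hg hA₀
    rw [← ha_def, hgy] at hA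
    have ha₀r : a₀ ∉ Submodule.span F ({r} : Set (Fin n → F)) := by
      intro h
      obtain ⟨c, hc⟩ := Submodule.mem_span_singleton.1 h
      have hc0 : c ≠ 0 := fun h0 => ha₀0 (by rw [← hc, h0, zero_smul])
      exact hrS (by
        rw [← inv_smul_smul₀ hc0 r, hc]
        exact Submodule.smul_mem _ _ (Submodule.subset_span (Set.mem_insert _ _)))
    -- s in Q' with s ⊥ a₀, r and pairing 1 with b₀
    obtain ⟨s, hs, hsa₀, hsr, hsb⟩ : ∃ s ∈ Q', Cfsg.hermForm n F q a₀ s = 0 ∧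
        Cfsg.hermForm n F q r s = 0 ∧ Cfsg.hermForm n F q b₀ s = 1 := by
      have hb₀S : b₀ ∉ Submodule.span F ({a₀, r} : Set (Fin n → F)) := by
        intro h
        rw [Submodule.mem_span_pair] at h
        obtain ⟨c1, c2, hc⟩ := h
        rcases eq_or_ne c2 0 with rfl | hc2
        · rw [zero_smul, add_zero] at hc
          exact hb₀a (Submodule.mem_span_singleton.2 ⟨c1, hc⟩)
        · refine hrS ?_
          rw [Submodule.mem_span_pair]
          exact ⟨-(c2⁻¹ * c1), c2⁻¹, by rw [← hc]; match_scalars <;> field_simp <;> ring⟩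
      have : RingHomSurjective (conjHom hF) := ⟨(conjHom_bijective hF).2⟩
      obtain ⟨z, hz, hz'⟩ := Cfsg.Agent.Forms.exists_dual_vector (hermSesq hF n)
        (fun y hy => hermForm_nondeg hF n y fun x => hy x) _ b₀ hb₀S 1
      change Cfsg.hermForm n F q b₀ z = 1 at hz'
      obtain ⟨u, hu, v, hv, rfl⟩ := hP'.exists_split z
      refine ⟨v, hv, ?_, ?_, ?_⟩
      · have := hz a₀ (Submodule.subset_span (Set.mem_insert _ _))
        change Cfsg.hermForm n F q a₀ (u + v) = 0 at this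
        rwa [H.add_right hF, hP'.left.2 _ ha₀ u hu, zero_add] at this
      · have := hz r (Submodule.subset_span (Set.mem_insert_of_mem _ rfl))
        change Cfsg.hermForm n F q r (u + v) = 0 at this
        rwa [H.add_right hF, hP'.left.2 _ hr u hu, zero_add] at this
      · rwa [H.add_right hF, hP'.left.2 _ hb₀ u hu, zero_add] at hz'
    have hr00 := hP'.left.2 r hr r hr
    have hra' : Cfsg.hermForm n F q r a = 0 := by
      rw [← hsa, H.add_right hF, hP'.left.2 _ hr _ ha₀, hra, add_zero]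
    refine ⟨r, fun h => hrS (by rw [h]; exact Submodule.zero_mem _), hr, ?_⟩
    refine centre_of_eich hF hP' hHM' hr ha ((H.eq_zero_symm hF).1 hra') ha₀ ha₁ hsa ha₀r fun t => ?_
    -- E(r, t' s) against the conjugate E(a, b)
    have hs' : Cfsg.hermForm n F q r ((-t) ^ q • s) = 0 := by rw [H.smul_right, hsr, mul_zero]
    obtain ⟨⟨R, hRM, hR⟩, -⟩ := exists_pair_eich hF hP' hHM' hr (Q'.smul_mem _ hs) hs'
    have hsa' : Cfsg.hermForm n F q ((-t) ^ q • s) a = 0 := by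
      rw [H.smul_left, ← hsa, H.add_right hF, (H.eq_zero_symm hF).1 hsa₀,
        hP'.right.2 _ hs _ ha₁, add_zero, mul_zero]
    have hb' : Cfsg.hermForm n F q r (b₀ + b₁) = 0 := by
      rw [H.add_right hF, hP'.left.2 _ hr _ hb₀, hrb, add_zero]
    have hc := eich_comm hF hR hA ha hr00 hra' hb' hs' hab hsa'
    refine ⟨_, mul_mem (mul_mem (mul_mem hRM (mul_mem (mul_mem hgM hA₀M) (inv_mem hgM)))
      (inv_mem hRM)) (inv_mem (mul_mem (mul_mem hgM hA₀M) (inv_mem hgM))), ?_⟩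
    have e : -(Cfsg.hermForm n F q (b₀ + b₁) ((-t) ^ q • s)) = t := by
      rw [H.smul_right, pow_q_pow_q hF, H.add_left, hsb, hP'.right.2 _ hb₁ _ hs]
      ring
    rwa [e] at hc
  have hsum : Cfsg.hermForm n F q a₀ b₁ + Cfsg.hermForm n F q a₁ b₀ = 0 := by
    have : Cfsg.hermForm n F q (a₀ + a₁) (b₀ + b₁) = 0 := by rw [hsplit, ← hgy, hG, hxy]
    rwa [H.add_left, H.add_right hF, H.add_right hF, hPQ.left.2 a₀ ha₀ b₀ hb₀,
      hPQ.right.2 a₁ ha₁ b₁ hb₁, zero_add, add_zero] at this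
  rcases hgood with hdet | ⟨hs, hy0, hb0⟩
  · have ha₀0 : a₀ ≠ 0 := fun h => hdet (by rw [h, H.zero_left, H.zero_left, zero_mul, zero_mul])
    have hb₀a : b₀ ∉ Submodule.span F ({a₀} : Set (Fin n → F)) := fun h => hdet (by
      obtain ⟨c, rfl⟩ := Submodule.mem_span_singleton.1 h
      rw [H.smul_left, H.smul_left]; ring)
    obtain ⟨r, hr, hr0, hra, hrb⟩ := exists_perp_two hF (hPQ.left.1.symm ▸ hk) a₁ b₁
    obtain ⟨r, h1, h2, h3⟩ := core hPQ hHM a₀ a₁ b₀ b₁ ha₀ ha₁ hb₀ hb₁ hsplit ha₀0 hb₀a hgy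
      ⟨r, hr, hra, hrb, fun h => by
        obtain ⟨α, β, rfl⟩ := Submodule.mem_span_pair.1 h
        simp only [H.add_left, H.smul_left] at hra hrb
        have e1 : α * (Cfsg.hermForm n F q a₀ a₁ * Cfsg.hermForm n F q b₀ b₁ -
            Cfsg.hermForm n F q a₀ b₁ * Cfsg.hermForm n F q b₀ a₁) = 0 := by
          linear_combination Cfsg.hermForm n F q b₀ b₁ * hra - Cfsg.hermForm n F q b₀ a₁ * hrb
        have e2 : β * (Cfsg.hermForm n F q a₀ a₁ * Cfsg.hermForm n F q b₀ b₁ -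
            Cfsg.hermForm n F q a₀ b₁ * Cfsg.hermForm n F q b₀ a₁) = 0 := by
          linear_combination Cfsg.hermForm n F q a₀ a₁ * hrb - Cfsg.hermForm n F q a₀ b₁ * hra
        exact hr0 (by
          rw [(mul_eq_zero.1 e1).resolve_right (sub_ne_zero.2 hdet),
            (mul_eq_zero.1 e2).resolve_right (sub_ne_zero.2 hdet), zero_smul, zero_smul,
            add_zero])⟩
    exact ⟨r, h1, Or.inl h2, h3⟩
  have hgy0 : G *ᵥ y ≠ 0 := fun h => hy0
    (Matrix.mulVec_injective_iff_isUnit.2 (Units.isUnit g) (h.trans (Matrix.mulVec_zero G).symm))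
  rcases hb0 with rfl | rfl
  · rw [zero_add] at hgy
    rw [H.zero_right hF, add_zero] at hsum
    obtain ⟨r, h1, h2, h3⟩ := core hPQ.symm (fun g hg h1 h2 => hHM g hg h2 h1) a₁ a₀ b₁ 0 ha₁
      ha₀ hb₁ P.zero_mem (by rw [add_comm]; exact hsplit) (fun h => hs (by rw [h, H.zero_right hF]))
      (fun h => by
        obtain ⟨c, hc⟩ := Submodule.mem_span_singleton.1 h
        rw [← hc, H.smul_right, mul_eq_zero, pow_q_eq_zero hF] at hsum
        rcases hsum with h0 | h0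
        · exact hgy0 (by rw [hgy, ← hc, h0, zero_smul])
        · exact hs h0)
      (by rw [add_zero]; exact hgy)
      (exists_perp_outside hF hPQ.symm hk ha₁ hb₁
        (fun h => hs ((H.eq_zero_symm hF).1 h)))
    exact ⟨r, h1, Or.inr h2, h3⟩
  · rw [H.zero_right hF, zero_add] at hsum
    obtain ⟨r, h1, h2, h3⟩ := core hPQ hHM a₀ a₁ b₀ 0 ha₀ ha₁ hb₀ Q.zero_mem hsplit
      (fun h => hs (by rw [h, H.zero_left]))
      (fun h => by
        obtain ⟨c, hc⟩ := Submodule.mem_span_singleton.1 h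
        rw [← hc, H.smul_right, mul_eq_zero, pow_q_eq_zero hF] at hsum
        rcases hsum with h0 | h0
        · exact hgy0 (by rw [hgy, ← hc, h0, zero_smul, add_zero])
        · exact hs ((H.eq_zero_symm hF).1 h0))
      hgy
      (exists_perp_outside hF hPQ hk ha₀ hb₀ hs)
    exact ⟨r, h1, Or.inl h2, h3⟩

theorem mem_of_union {S : Submodule F (Fin n → F)} {P Q : Submodule F (Fin n → F)}
    (f : (Fin n → F) →ₗ[F] (Fin n → F)) (h : ∀ x ∈ S, f x ∈ P ∨ f x ∈ Q) :
    (∀ x ∈ S, f x ∈ P) ∨ ∀ x ∈ S, f x ∈ Q := by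
  by_contra hc
  simp only [not_or, not_forall] at hc
  obtain ⟨⟨x, hx, hxP⟩, y, hy, hyQ⟩ := hc
  have hxQ := (h x hx).resolve_left hxP
  have hyP := (h y hy).resolve_right hyQ
  rcases h (x + y) (S.add_mem hx hy) with h1 | h1 <;> rw [map_add] at h1
  · exact hxP ((Submodule.add_mem_iff_left P hyP).1 h1)
  · exact hyQ ((Submodule.add_mem_iff_right Q hxQ).1 h1)

theorem isMaximalIn_pair_stabilizer (hF : Fintype.card F = q ^ 2)
    (hk : 3 ≤ k) (D : Fin 2 → Submodule F (Fin n → F)) (hD : Cfsg.Geo.IsMDecomposition k D)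
    (hts : ∀ i, Cfsg.Geo.IsTotallySingularFor (Cfsg.hermForm n F q) (D i)) :
    Cfsg.Geo.IsMaximalIn (suGL n F q) (Cfsg.Geo.decompositionStabilizer D ⊓ suGL n F q) := by
  have H := hermForm_isHerm hF n
  have hsup : D 0 ⊔ D 1 = ⊤ := top_unique (by
    rw [← hD.iSup_eq_top]
    exact iSup_le fun i => by fin_cases i <;> simp)
  have hinf : D 0 ⊓ D 1 = ⊥ := disjoint_iff.1 (hD.indep.pairwiseDisjoint (by decide))
  have hPQ : IsPolarPair q k (D 0) (D 1) :=
    ⟨⟨hD.finrank_eq 0, hts 0⟩, ⟨hD.finrank_eq 1, hts 1⟩, hsup, hinf⟩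
  have hn : 4 ≤ n := by
    have := Submodule.finrank_sup_add_finrank_inf_eq (D 0) (D 1)
    rw [hsup, hinf, finrank_top, finrank_bot, hD.finrank_eq, hD.finrank_eq,
      Module.finrank_fin_fun] at this
    omega
  have hinj : ∀ g : Matrix.GeneralLinearGroup (Fin n) F,
      Function.Injective (Matrix.toLin' (g : Matrix (Fin n) (Fin n) F)) := fun g => by
    intro x y h
    simp only [Matrix.toLin'_apply] at h
    exact Matrix.mulVec_injective_iff_isUnit.2 (Units.isUnit g) h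
  have mapeq : ∀ (g : Matrix.GeneralLinearGroup (Fin n) F) (i l : Fin 2),
      (∀ x ∈ D i, (g : Matrix (Fin n) (Fin n) F) *ᵥ x ∈ D l) →
      (D i).map (Matrix.toLin' (g : Matrix (Fin n) (Fin n) F)) = D l := by
    intro g i l h
    refine Submodule.eq_of_le_of_finrank_eq ?_ ?_
    · rintro _ ⟨x, hx, rfl⟩
      rw [Matrix.toLin'_apply]; exact h x hx
    · rw [← (Submodule.equivMapOfInjective _ (hinj g) _).finrank_eq, hD.finrank_eq, hD.finrank_eq]
  have stab : ∀ g : Matrix.GeneralLinearGroup (Fin n) F,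
      ((∀ x ∈ D 0, (g : Matrix (Fin n) (Fin n) F) *ᵥ x ∈ D 0) ∧
        (∀ x ∈ D 1, (g : Matrix (Fin n) (Fin n) F) *ᵥ x ∈ D 1)) ∨
      ((∀ x ∈ D 0, (g : Matrix (Fin n) (Fin n) F) *ᵥ x ∈ D 1) ∧
        (∀ x ∈ D 1, (g : Matrix (Fin n) (Fin n) F) *ᵥ x ∈ D 0)) →
      g ∈ Cfsg.Geo.decompositionStabilizer D := by
    rintro g (⟨h0, h1⟩ | ⟨h0, h1⟩)
    · exact ⟨1, fun i => by fin_cases i <;> [exact mapeq g 0 0 h0; exact mapeq g 1 1 h1]⟩
    · exact ⟨Equiv.swap 0 1, fun i => by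
        fin_cases i <;> [exact mapeq g 0 1 h0; exact mapeq g 1 0 h1]⟩
  obtain ⟨δ, hδ0, hδ⟩ := exists_skew hF
  refine isMaximalIn_of_forall inf_le_right ?_ ?_
  · obtain ⟨v, hv, hv0⟩ := Submodule.exists_mem_ne_zero_of_ne_bot (p := D 0) (fun h => by
      have := hD.finrank_eq 0
      rw [h, finrank_bot] at this
      omega)
    obtain ⟨w, hw, hvw⟩ : ∃ w ∈ D 1, Cfsg.hermForm n F q w v ≠ 0 := by
      by_contra hc
      simp only [not_exists, not_and, not_not] at hc
      exact hv0 (hPQ.eq_zero_of_perp hF hv fun y hy => (H.eq_zero_symm hF).1 (hc y hy))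
    refine ⟨glTransvection hF v (hts 0 v hv v hv) δ (by rw [hδ, add_neg_cancel]),
      suToGU_mem_suGL _, fun h => ?_⟩
    obtain ⟨σ, hσ⟩ := h.1
    have h2 : (glTransvection hF v (hts 0 v hv v hv) δ (by rw [hδ, add_neg_cancel]) :
        Matrix (Fin n) (Fin n) F) *ᵥ w ∈ D (σ 1) := by
      rw [← hσ 1]
      exact ⟨w, hw, Matrix.toLin'_apply _ _⟩
    change Cfsg.unitaryTransvection n q v δ *ᵥ w ∈ D (σ 1) at h2
    rw [transvection_mulVec] at h2
    have hs : σ 1 = 0 ∨ σ 1 = 1 := by omega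
    rcases hs with hs | hs <;> rw [hs] at h2
    · rw [Submodule.add_mem_iff_left _ (Submodule.smul_mem _ _ hv)] at h2
      have : w = 0 := (Submodule.eq_bot_iff _).1 hinf w ⟨h2, hw⟩
      exact hvw (by rw [this, H.zero_left])
    · rw [Submodule.add_mem_iff_right _ hw, Submodule.smul_mem_iff _ (mul_ne_zero hδ0 hvw)] at h2
      exact hv0 ((Submodule.eq_bot_iff _).1 hinf v ⟨hv, h2⟩)
  · intro M hHM hMK g hgM hgH
    have hH1 : ∀ g ∈ suGL n F q,
        ((∀ x ∈ D 0, (g : Matrix (Fin n) (Fin n) F) *ᵥ x ∈ D 0) ∧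
          (∀ x ∈ D 1, (g : Matrix (Fin n) (Fin n) F) *ᵥ x ∈ D 1)) ∨
        ((∀ x ∈ D 0, (g : Matrix (Fin n) (Fin n) F) *ᵥ x ∈ D 1) ∧
          (∀ x ∈ D 1, (g : Matrix (Fin n) (Fin n) F) *ᵥ x ∈ D 0)) → g ∈ M :=
      fun g hg h => hHM ⟨stab g h, hg⟩
    obtain ⟨r, hr0, hrPQ, hrC⟩ : ∃ r, r ≠ 0 ∧ (r ∈ D 0 ∨ r ∈ D 1) ∧ r ∈ centres q M := by
      by_cases h : ∃ x ∈ D 0, (g : Matrix (Fin n) (Fin n) F) *ᵥ x ∉ D 0 ∧
          (g : Matrix (Fin n) (Fin n) F) *ᵥ x ∉ D 1
      · obtain ⟨x, hx, h1, h2⟩ := h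
        exact exists_pair_centre hF hk hPQ (fun g hg h1 h2 => hH1 g hg (Or.inl ⟨h1, h2⟩)) hgM
          (hMK hgM) hx h1 h2
      by_cases h' : ∃ x ∈ D 1, (g : Matrix (Fin n) (Fin n) F) *ᵥ x ∉ D 1 ∧
          (g : Matrix (Fin n) (Fin n) F) *ᵥ x ∉ D 0
      · obtain ⟨x, hx, h1, h2⟩ := h'
        obtain ⟨r, h3, h4, h5⟩ := exists_pair_centre hF hk hPQ.symm
          (fun g hg h1 h2 => hH1 g hg (Or.inl ⟨h2, h1⟩)) hgM (hMK hgM) hx h1 h2
        exact ⟨r, h3, h4.symm, h5⟩
      exfalso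
      refine hgH ⟨stab g ?_, hMK hgM⟩
      have m0 := mem_of_union (Matrix.mulVecLin (g : Matrix (Fin n) (Fin n) F)) (S := D 0)
        (P := D 0) (Q := D 1) fun x hx => by
          by_contra hc; rw [not_or] at hc; exact h ⟨x, hx, hc⟩
      have m1 := mem_of_union (Matrix.mulVecLin (g : Matrix (Fin n) (Fin n) F)) (S := D 1)
        (P := D 0) (Q := D 1) fun x hx => by
          by_contra hc; rw [not_or] at hc; exact h' ⟨x, hx, hc.symm⟩
      have both : ∀ l : Fin 2, (∀ i : Fin 2, ∀ x ∈ D i,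
          (g : Matrix (Fin n) (Fin n) F) *ᵥ x ∈ D l) → False := by
        intro l hl
        have e0 := mapeq g 0 l (hl 0)
        have e1 := mapeq g 1 l (hl 1)
        have : D 0 = D 1 := Submodule.map_injective_of_injective (hinj g) (e0.trans e1.symm)
        have h0 := hD.finrank_eq 0
        rw [this] at hinf
        rw [inf_idem] at hinf
        rw [this, hinf, finrank_bot] at h0
        omega
      rcases m0 with m0 | m0 <;> rcases m1 with m1 | m1
      · exact (both 0 fun i => by fin_cases i <;> assumption).elim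
      · exact Or.inl ⟨m0, m1⟩
      · exact Or.inr ⟨m0, m1⟩
      · exact (both 1 fun i => by fin_cases i <;> assumption).elim
    rcases hrPQ with hr | hr
    · exact le_of_pair_centre hF (Or.inl hn) hPQ hH1 hr hr0 hrC
    · exact le_of_pair_centre hF (Or.inl hn) hPQ.symm
        (fun g hg h => hH1 g hg (h.imp And.symm And.symm)) hr hr0 hrC

end Cfsg.Agent.Unitary
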