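import Cfsg.Agent.Lib.Unitary.LagPair
/-
The stabiliser of a pair of complementary totally isotropic planes is maximal in SU, q ≥ 4.
* exists_torus, centre_of_trans, centre_of_two_trans, centre_of_two_lines, exists_pair_centre_two,
  isMaximalIn_pair_stabilizer_two
-/
set_option autoImplicit false

namespace Cfsg.Agent.Unitary

open scoped Matrix

variable {F : Type*} [Field F] [Fintype F] {q n : ℕ}

/-- A fixed scalar avoiding a given finite set of at most three elements. -/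
theorem exists_fixed_notMem (hF : Fintype.card F = q ^ 2) (S : Finset F) (hS : S.card < q) :
    ∃ c : F, c ^ q = c ∧ c ∉ S := by
  classical
  by_contra! hc
  have h := card_fixed hF
  rw [Nat.card_eq_fintype_card, Fintype.card_subtype] at h
  have := Finset.card_le_card (show Finset.univ.filter (fun x : F => x ^ q = x) ⊆ S from
    fun x hx => hc x (Finset.mem_filter.1 hx).2)
  omega

theorem trans_conj {g T : Matrix.GeneralLinearGroup (Fin n) F} {v : Fin n → F} {c : F}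
    (hg : g ∈ suGL n F q) (hT : IsTrans q T v c) :
    IsTrans q (g * T * g⁻¹) ((g : Matrix (Fin n) (Fin n) F) *ᵥ v) c := by
  intro x
  obtain ⟨y, rfl⟩ : ∃ y, (g : Matrix (Fin n) (Fin n) F) *ᵥ y = x :=
    Matrix.mulVec_surjective_iff_isUnit.2 (Units.isUnit g) x
  rw [Matrix.mulVec_mulVec, ← Units.val_mul, inv_mul_cancel_right, Units.val_mul,
    ← Matrix.mulVec_mulVec, hT, Matrix.mulVec_add, Matrix.mulVec_smul, mem_suGL_herm hg]

section TwoPlanes

variable {M : Subgroup (Matrix.GeneralLinearGroup (Fin n) F)}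
  (hF : Fintype.card F = q ^ 2) {P Q : Submodule F (Fin n → F)} (hPQ : IsPolarPair q 2 P Q)
  (hHM : ∀ g ∈ suGL n F q,
    (∀ x ∈ P, (g : Matrix (Fin n) (Fin n) F) *ᵥ x ∈ P) →
    (∀ x ∈ Q, (g : Matrix (Fin n) (Fin n) F) *ᵥ x ∈ Q) → g ∈ M)
include hF hPQ hHM

/-- The diagonal elements of the pair. -/
theorem exists_torus {a b a' b' : Fin n → F} (ha : a ∈ P) (hb : b ∈ P) (ha' : a' ∈ Q) (hb' : b' ∈ Q)
    (haa : Cfsg.hermForm n F q a a' ≠ 0) (hbb : Cfsg.hermForm n F q b b' ≠ 0)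
    (hab : Cfsg.hermForm n F q a b' = 0) (hba : Cfsg.hermForm n F q b a' = 0)
    {α β : F} (hα : α ≠ 0) (hβ : β ≠ 0) (hfix : (α * β) ^ q = α * β) :
    ∃ g ∈ M, g ∈ suGL n F q ∧
      (g : Matrix (Fin n) (Fin n) F) *ᵥ a = α • a ∧ (g : Matrix (Fin n) (Fin n) F) *ᵥ b = β • b ∧
      (g : Matrix (Fin n) (Fin n) F) *ᵥ a' = (α ^ q)⁻¹ • a' ∧
      (g : Matrix (Fin n) (Fin n) F) *ᵥ b' = (β ^ q)⁻¹ • b' := by
  have H := hermForm_isHerm hF n
  have hP := hPQ.left.2
  have hQ := hPQ.right.2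
  have hab' := (H.eq_zero_symm hF).1 hab
  have hba' := (H.eq_zero_symm hF).1 hba
  have haa' : Cfsg.hermForm n F q a' a ≠ 0 := fun h => haa ((H.eq_zero_symm hF).1 h)
  have hbb' : Cfsg.hermForm n F q b' b ≠ 0 := fun h => hbb ((H.eq_zero_symm hF).1 h)
  have hli : LinearIndependent F ![a, b, a', b'] := by
    rw [Fintype.linearIndependent_iff]
    intro c hc
    simp only [Fin.sum_univ_four, Matrix.cons_val] at hc
    have e1 := congrArg (fun v => Cfsg.hermForm n F q v a') hc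
    have e2 := congrArg (fun v => Cfsg.hermForm n F q v b') hc
    have e3 := congrArg (fun v => Cfsg.hermForm n F q v a) hc
    have e4 := congrArg (fun v => Cfsg.hermForm n F q v b) hc
    simp only [H.add_left, H.smul_left, H.zero_left, hab, hba, hab', hba', hP a ha a ha, hP a ha b hb,
      hP b hb a ha, hP b hb b hb, hQ a' ha' a' ha', hQ a' ha' b' hb', hQ b' hb' a' ha',
      hQ b' hb' b' hb', mul_zero, add_zero, zero_add, mul_eq_zero, haa, hbb, haa', hbb', or_false]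
      at e1 e2 e3 e4
    intro i
    fin_cases i <;> assumption
  have hcard : Fintype.card (Fin 4) = Module.finrank F (Fin n → F) := by
    have := Submodule.finrank_sup_add_finrank_inf_eq P Q
    rw [hPQ.sup, hPQ.inf, finrank_top, finrank_bot, hPQ.left.1, hPQ.right.1] at this
    rw [Fintype.card_fin]; omega
  let B := basisOfLinearIndependentOfCardEqFinrank hli hcard
  have hB : ⇑B = ![a, b, a', b'] := coe_basisOfLinearIndependentOfCardEqFinrank hli hcard
  let l : Fin 4 → F := ![α, β, (α ^ q)⁻¹, (β ^ q)⁻¹]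
  have hl0 : ∀ i, l i ≠ 0 := by intro i; fin_cases i <;> simp [l, hα, hβ]
  have hαq : (α ^ q) ^ q = α := pow_q_pow_q hF α
  have hβq : (β ^ q) ^ q = β := pow_q_pow_q hF β
  obtain ⟨g, hg⟩ := exists_gu_witt hF hli (w := fun i => l i • ![a, b, a', b'] i)
    (hli.units_smul (fun i => Units.mk0 (l i) (hl0 i))) (fun i j => by
      rw [H.smul_left, H.smul_right]
      fin_cases i <;> fin_cases j <;>
        simp [l, hab, hba, hab', hba', hP a ha a ha, hP a ha b hb,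
          hP b hb a ha, hP b hb b hb, hQ a' ha' a' ha', hQ a' ha' b' hb', hQ b' hb' a' ha',
          hQ b' hb' b' hb', inv_pow, hαq, hβq] <;>
        field_simp)
  obtain ⟨G, hG⟩ : ∃ G, G = (g : Matrix.GeneralLinearGroup (Fin n) F) := ⟨_, rfl⟩
  have ga : (G : Matrix (Fin n) (Fin n) F) *ᵥ a = α • a := by rw [hG]; simpa [l] using hg 0
  have gb : (G : Matrix (Fin n) (Fin n) F) *ᵥ b = β • b := by rw [hG]; simpa [l] using hg 1
  have ga' : (G : Matrix (Fin n) (Fin n) F) *ᵥ a' = (α ^ q)⁻¹ • a' := by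
    rw [hG]; simpa [l] using hg 2
  have gb' : (G : Matrix (Fin n) (Fin n) F) *ᵥ b' = (β ^ q)⁻¹ • b' := by
    rw [hG]; simpa [l] using hg 3
  have hdet : (G : Matrix (Fin n) (Fin n) F).det = 1 := by
    classical
    rw [← LinearMap.det_toLin', ← LinearMap.det_toMatrix B]
    have e : LinearMap.toMatrix B B (Matrix.toLin' (G : Matrix (Fin n) (Fin n) F)) = Matrix.diagonal l := by
      ext i j
      rw [LinearMap.toMatrix_apply, Matrix.toLin'_apply]
      have : (G : Matrix (Fin n) (Fin n) F) *ᵥ B j = l j • B j := by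
        rw [hG, hB]; exact hg j
      rw [this, map_smul, Module.Basis.repr_self, Finsupp.smul_single, smul_eq_mul, mul_one,
        Finsupp.single_apply, Matrix.diagonal_apply]
      rcases eq_or_ne i j with rfl | hij
      · simp
      · simp [hij, Ne.symm hij]
    rw [e, Matrix.det_diagonal, Fin.prod_univ_four]
    simp only [l, Matrix.cons_val]
    rw [mul_pow] at hfix
    field_simp
    linear_combination -hfix
  have hGs : G ∈ suGL n F q := ⟨hG ▸ g.2, MonoidHom.mem_ker.2 (Units.ext hdet)⟩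
  have mem : ∀ (W : Submodule F (Fin n → F)) (v w : Fin n → F), v ∈ W → w ∈ W → LinearIndependent F ![v, w] →
      Module.finrank F W = 2 → Submodule.span F (Set.range ![v, w]) = W := by
    intro W v w hv hw hl hW
    refine Submodule.eq_of_le_of_finrank_eq (Submodule.span_le.2 ?_) ?_
    · rintro _ ⟨i, rfl⟩; fin_cases i <;> assumption
    · rw [finrank_span_eq_card hl, hW, Fintype.card_fin]
  have lP : LinearIndependent F ![a, b] := by
    have := hli.comp (Fin.castAdd 2) (Fin.castAdd_injective 2 2)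
    convert this using 1
    funext i; fin_cases i <;> rfl
  have lQ : LinearIndependent F ![a', b'] := by
    have := hli.comp (![2, 3] : Fin 2 → Fin 4) (by decide)
    convert this using 1
    funext i; fin_cases i <;> rfl
  refine ⟨G, hHM G hGs (fun x hx => ?_) (fun x hx => ?_), hGs, ga, gb, ga', gb'⟩
  · refine mulVec_mem_of_range (mem P a b ha hb lP hPQ.left.1) (fun i => ?_) hx
    fin_cases i <;> simp [ga, gb, P.smul_mem, ha, hb]
  · refine mulVec_mem_of_range (mem Q a' b' ha' hb' lQ hPQ.right.1) (fun i => ?_) hx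
    fin_cases i <;> simp [ga', gb', Q.smul_mem, ha', hb']

omit hHM in
/-- Two adapted vectors span P. -/
theorem mem_two {p a b a' b' : Fin n → F} (hp : p ∈ P) (ha : a ∈ P) (hb : b ∈ P)
    (h1 : Cfsg.hermForm n F q a a' = 1) (h2 : Cfsg.hermForm n F q b b' = 1)
    (h3 : Cfsg.hermForm n F q a b' = 0) (h4 : Cfsg.hermForm n F q b a' = 0) :
    ∃ s s' : F, s • a + s' • b = p := by
  have H := hermForm_isHerm hF n
  have hl : LinearIndependent F ![a, b] := by
    rw [LinearIndependent.pair_iff]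
    intro s t hst
    have e1 := congrArg (fun v => Cfsg.hermForm n F q v a') hst
    have e2 := congrArg (fun v => Cfsg.hermForm n F q v b') hst
    simp [H.add_left, H.smul_left, h1, h2, h3, h4, H.zero_left] at e1 e2
    exact ⟨e1, e2⟩
  have hsp : Submodule.span F (Set.range ![a, b]) = P := by
    refine Submodule.eq_of_le_of_finrank_eq (Submodule.span_le.2 ?_) ?_
    · rintro _ ⟨i, rfl⟩; fin_cases i <;> assumption
    · rw [finrank_span_eq_card hl, hPQ.left.1, Fintype.card_fin]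
  rw [← hsp] at hp
  obtain ⟨w, hw⟩ := (Submodule.mem_span_range_iff_exists_fun F).1 hp
  exact ⟨w 0, w 1, by simpa [Fin.sum_univ_two] using hw⟩

/-- An adapted quadruple. -/
theorem exists_quad {r : Fin n → F} (hr : r ∈ P) (hr0 : r ≠ 0) :
    ∃ b ∈ P, ∃ a' ∈ Q, ∃ b' ∈ Q, Cfsg.hermForm n F q r a' = 1 ∧ Cfsg.hermForm n F q b b' = 1 ∧
      Cfsg.hermForm n F q r b' = 0 ∧ Cfsg.hermForm n F q b a' = 0 := by
  have _ := hHM
  obtain ⟨e, d, he0, heP, hdQ, -, -, hed, -⟩ := IsPolarPair.exists_basis hF (j := 1) hPQ hr hr0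
  exact ⟨e 1, heP 1, d 0, hdQ 0, d 1, hdQ 1, by rw [← he0, hed]; simp, by rw [hed]; simp,
    by rw [← he0, hed]; simp, by rw [hed]; simp⟩

/-- One transvection at a point of P gives the centre. -/
theorem centre_of_trans {r : Fin n → F} (hr : r ∈ P) (hr0 : r ≠ 0) {c₀ : F} (hc0 : c₀ ≠ 0)
    (hcs : c₀ + c₀ ^ q = 0) {T : Matrix.GeneralLinearGroup (Fin n) F} (hTM : T ∈ M)
    (hT : IsTrans q T r c₀) : r ∈ centres q M := by
  have H := hermForm_isHerm hF n
  refine ⟨hPQ.left.2 r hr r hr, fun g c hc hg => ?_⟩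
  rcases eq_or_ne c 0 with rfl | hcne
  · rw [show g = 1 from Units.ext (by simp [hg, Cfsg.unitaryTransvection])]; exact one_mem _
  obtain ⟨l, hl⟩ := exists_norm_eq hF (c := c / c₀) (by
    rw [div_pow, eq_neg_of_add_eq_zero_right hc, eq_neg_of_add_eq_zero_right hcs, neg_div_neg_eq])
  have hl0 : l ≠ 0 := fun h => by
    rw [h, zero_pow (Nat.succ_ne_zero q), eq_comm, div_eq_zero_iff] at hl
    exact hl.elim hcne hc0
  obtain ⟨b, hb, a', ha', b', hb', h1, h2, h3, h4⟩ := exists_quad hF hPQ hHM hr hr0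
  obtain ⟨A, hAM, hA, hAr, -⟩ := exists_torus hF hPQ hHM hr hb ha' hb' (by rw [h1]; exact one_ne_zero)
    (by rw [h2]; exact one_ne_zero) h3 h4 (α := l) (β := l ^ q) hl0 (pow_ne_zero _ hl0)
    (by rw [mul_pow, pow_q_pow_q hF, mul_comm])
  have e : g = A * T * A⁻¹ := gl_ext_mulVec fun x => by
    rw [trans_conj hA hT, hAr, hg, transvection_mulVec, H.smul_right, smul_smul,
      show c = c₀ * l ^ (q + 1) by rw [hl, mul_div_cancel₀ _ hc0]]
    congr 2
    rw [pow_succ]; ring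
  rw [e]; exact mul_mem (mul_mem hAM hTM) (inv_mem hAM)

/-- The product of two transvections at orthogonal points of P and Q. -/
theorem centre_of_two_trans (hq : 4 ≤ q) {r y : Fin n → F} (hr : r ∈ P) (hr0 : r ≠ 0) (hy : y ∈ Q)
    (hy0 : y ≠ 0) (hry : Cfsg.hermForm n F q r y = 0) {c₁ c₂ : F} (hc₁ : c₁ ≠ 0)
    (hs₁ : c₁ + c₁ ^ q = 0) (hs₂ : c₂ + c₂ ^ q = 0) {g : Matrix.GeneralLinearGroup (Fin n) F}
    (hgM : g ∈ M) (hg : ∀ x, (g : Matrix (Fin n) (Fin n) F) *ᵥ x =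
      x + (c₁ * Cfsg.hermForm n F q x r) • r + (c₂ * Cfsg.hermForm n F q x y) • y) :
    ∃ v, v ≠ 0 ∧ (v ∈ P ∨ v ∈ Q) ∧ v ∈ centres q M := by
  classical
  have H := hermForm_isHerm hF n
  rcases eq_or_ne c₂ 0 with rfl | hc₂
  · exact ⟨r, hr0, Or.inl hr, centre_of_trans hF hPQ hHM hr hr0 hc₁ hs₁ hgM
      fun x => by rw [hg]; simp⟩
  obtain ⟨c, hcq, hc⟩ := exists_fixed_notMem hF ({0, 1, -1} : Finset F)
    (lt_of_le_of_lt Finset.card_le_three hq)
  simp only [Finset.mem_insert, Finset.mem_singleton, not_or] at hc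
  obtain ⟨hc0, hc1, hcm⟩ := hc
  obtain ⟨b, hb, a', ha', b', hb', h1, h2, h3, h4⟩ := exists_quad hF hPQ hHM hr hr0
  obtain ⟨γ, rfl⟩ : ∃ γ : F, γ • b' = y := by
    refine ⟨Cfsg.hermForm n F q y b, ?_⟩
    have hz := hPQ.symm.eq_zero_of_perp hF (x := y - Cfsg.hermForm n F q y b • b')
      (Q.sub_mem hy (Q.smul_mem _ hb')) (fun p hp => ?_)
    · exact (sub_eq_zero.1 hz).symm
    obtain ⟨s, t, rfl⟩ := mem_two hF hPQ hp hr hb h1 h2 h3 h4
    have hb'b : Cfsg.hermForm n F q b' b = 1 := by rw [H.conj_symm b b', h2, one_pow]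
    simp [H.sub_left, H.smul_left, H.add_right hF, H.smul_right, (H.eq_zero_symm hF).1 hry,
      (H.eq_zero_symm hF).1 h3, hb'b]
    ring
  obtain ⟨A, hAM, hA, hAr, -, -, hAb'⟩ := exists_torus hF hPQ hHM hr hb ha' hb'
    (by rw [h1]; exact one_ne_zero) (by rw [h2]; exact one_ne_zero) h3 h4 (α := (1 : F)) (β := c)
    one_ne_zero hc0 (by rw [one_mul, hcq])
  rw [hcq] at hAb'
  rw [one_smul] at hAr
  have hcc : (c⁻¹) ^ q = c⁻¹ := by rw [inv_pow, hcq]
  refine ⟨γ • b', hy0, Or.inr hy, centre_of_trans hF hPQ.symm (fun g hg h1 h2 => hHM g hg h2 h1) hy hy0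
    (c₀ := c₂ * (c⁻¹ * c⁻¹ - 1)) (mul_ne_zero hc₂ (sub_ne_zero.2 fun h => ?_)) ?_
    (mul_mem (mul_mem (mul_mem hAM hgM) (inv_mem hAM)) (inv_mem hgM)) fun x => ?_⟩
  · have : (c - 1) * (c + 1) = 0 := by field_simp at h; linear_combination -h
    rcases mul_eq_zero.1 this with h' | h'
    · exact hc1 (sub_eq_zero.1 h')
    · exact hcm (eq_neg_of_add_eq_zero_left h')
  · rw [mul_pow, sub_pow_q hF, mul_pow, one_pow, hcc]
    linear_combination (c⁻¹ * c⁻¹ - 1) * hs₂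
  · obtain ⟨z, rfl⟩ : ∃ z, ((g * A : Matrix.GeneralLinearGroup (Fin n) F) : Matrix (Fin n) (Fin n) F) *ᵥ z = x :=
      Matrix.mulVec_surjective_iff_isUnit.2 (Units.isUnit _) x
    rw [Matrix.mulVec_mulVec, ← Units.val_mul,
      show A * g * A⁻¹ * g⁻¹ * (g * A) = A * g by group, Units.val_mul, Units.val_mul,
      ← Matrix.mulVec_mulVec, ← Matrix.mulVec_mulVec, hg, hg]
    have e1 : Cfsg.hermForm n F q ((A : Matrix (Fin n) (Fin n) F) *ᵥ z) r = Cfsg.hermForm n F q z r := by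
      conv_lhs => rw [← hAr]
      exact mem_suGL_herm hA z r
    have e2 : Cfsg.hermForm n F q ((A : Matrix (Fin n) (Fin n) F) *ᵥ z) (γ • b') =
        c * Cfsg.hermForm n F q z (γ • b') := by
      have : Cfsg.hermForm n F q ((A : Matrix (Fin n) (Fin n) F) *ᵥ z) ((A : Matrix (Fin n) (Fin n) F) *ᵥ (γ • b')) =
          Cfsg.hermForm n F q z (γ • b') := mem_suGL_herm hA _ _
      rw [Matrix.mulVec_smul, hAb', smul_comm, H.smul_right, hcc] at this
      rw [← this, ← mul_assoc, mul_inv_cancel₀ hc0, one_mul]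
    simp only [Matrix.mulVec_add, Matrix.mulVec_smul, hAr, hAb', H.add_left, H.smul_left, e1, e2, hry,
      hPQ.right.2 _ hy _ hy, hPQ.right.2 _ hb' _ hy]
    match_scalars <;> field_simp <;> ring

/-- Two Eichler lines through a point of P. -/
theorem centre_of_two_lines {r y w : Fin n → F} (hr : r ∈ P) (hr0 : r ≠ 0) (hy : y ∈ Q)
    (hry : Cfsg.hermForm n F q r y = 0) (hrw : Cfsg.hermForm n F q r w = 0)
    (hyw : Cfsg.hermForm n F q y w ≠ 0) (hE : ∀ s : F, ∃ g ∈ M, IsEich q g r (s • w)) :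
    r ∈ centres q M := by
  have H := hermForm_isHerm hF n
  obtain ⟨t, ht⟩ := exists_pow_q_ne hF
  obtain ⟨⟨A, hAM, hA⟩, -⟩ := exists_pair_eich hF hPQ hHM hr hy hry
  obtain ⟨B, hBM, hB⟩ := hE ((t / Cfsg.hermForm n F q y w) ^ q)
  have hT := eich_comm_same hF hA hB (hPQ.left.2 r hr r hr) hry (by rw [H.smul_right, hrw, mul_zero])
  have e1 : Cfsg.hermForm n F q y ((t / Cfsg.hermForm n F q y w) ^ q • w) = t := by
    rw [H.smul_right, pow_q_pow_q hF, div_mul_cancel₀ _ hyw]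
  rw [H.conj_symm y ((t / Cfsg.hermForm n F q y w) ^ q • w), e1] at hT
  refine centre_of_trans hF hPQ hHM hr hr0 (sub_ne_zero.2 (Ne.symm ht)) ?_
    (mul_mem (mul_mem (mul_mem hAM hBM) (inv_mem hAM)) (inv_mem hBM)) hT
  rw [sub_pow_q hF, pow_q_pow_q hF]; ring

/-- A conjugate Eichler line inside an Eichler plane of the pair. -/
theorem centre_of_inside (hq : 4 ≤ q) {r y : Fin n → F} (hr : r ∈ P) (hr0 : r ≠ 0) (hy : y ∈ Q)
    (hy0 : y ≠ 0) (hry : Cfsg.hermForm n F q r y = 0) {u0 u1 v0 v1 : F}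
    (h0 : u0 * v0 ^ q ≠ 0)
    (hE : ∀ t : F, ∃ g ∈ M, IsEich q g (t • (u0 • r + u1 • y)) (v0 • r + v1 • y)) :
    ∃ v, v ≠ 0 ∧ (v ∈ P ∨ v ∈ Q) ∧ v ∈ centres q M := by
  have H := hermForm_isHerm hF n
  obtain ⟨w, hw⟩ := exists_pow_q_ne hF
  set t := w / (u0 * v0 ^ q) with ht
  have htw : t * (u0 * v0 ^ q) = w := div_mul_cancel₀ _ h0
  obtain ⟨g, hgM, hg⟩ := hE t
  set s := (t * u0) ^ q * v1 - v0 ^ q * (t * u1) with hs
  obtain ⟨⟨E, hEM, hEe⟩, -⟩ := exists_pair_eich hF hPQ hHM hr (Q.smul_mem s hy)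
    (show Cfsg.hermForm n F q r (s • y) = 0 by rw [H.smul_right, hry, mul_zero])
  have hyr := (H.eq_zero_symm hF).1 hry
  have hsq : s ^ q = (t * u0) * v1 ^ q - v0 * (t * u1) ^ q := by
    rw [hs, sub_pow_q hF, mul_pow _ v1, mul_pow (v0 ^ q), pow_q_pow_q hF, pow_q_pow_q hF]
  refine centre_of_two_trans hF hPQ hHM hq hr hr0 hy hy0 hry (c₁ := (t * u0) ^ q * v0 - v0 ^ q * (t * u0))
    (c₂ := (t * u1) ^ q * v1 - v1 ^ q * (t * u1)) ?_ ?_ ?_ (mul_mem hgM (inv_mem hEM)) fun x => ?_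
  · intro h
    apply hw
    rw [← htw]
    simp only [mul_pow, pow_q_pow_q hF] at h ⊢
    linear_combination h
  · simp only [sub_pow_q hF, mul_pow, pow_q_pow_q hF]; ring
  · simp only [sub_pow_q hF, mul_pow, pow_q_pow_q hF]; ring
  obtain ⟨z, rfl⟩ : ∃ z, (E : Matrix (Fin n) (Fin n) F) *ᵥ z = x :=
    Matrix.mulVec_surjective_iff_isUnit.2 (Units.isUnit _) x
  rw [Matrix.mulVec_mulVec, ← Units.val_mul, inv_mul_cancel_right, hg, hEe]
  simp only [H.add_left, H.sub_left, H.add_right hF, H.smul_left, H.smul_right, hry, hyr,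
    hPQ.left.2 r hr r hr, hPQ.right.2 y hy y hy, hsq, mul_pow]
  match_scalars
  · ring
  · ring
  · rw [hs, mul_pow]; ring

end TwoPlanes

/-- From an element outside the stabiliser, a centre in P or Q. -/
theorem exists_pair_centre_two (hF : Fintype.card F = q ^ 2) (hq : 4 ≤ q)
    {P Q : Submodule F (Fin n → F)} (hPQ : IsPolarPair q 2 P Q)
    {M : Subgroup (Matrix.GeneralLinearGroup (Fin n) F)}
    (hHM : ∀ g ∈ suGL n F q,
      (∀ x ∈ P, (g : Matrix (Fin n) (Fin n) F) *ᵥ x ∈ P) →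
      (∀ x ∈ Q, (g : Matrix (Fin n) (Fin n) F) *ᵥ x ∈ Q) → g ∈ M)
    {g : Matrix.GeneralLinearGroup (Fin n) F} (hgM : g ∈ M) (hg : g ∈ suGL n F q)
    {x : Fin n → F} (hx : x ∈ P) (hxP : (g : Matrix (Fin n) (Fin n) F) *ᵥ x ∉ P)
    (hxQ : (g : Matrix (Fin n) (Fin n) F) *ᵥ x ∉ Q) :
    ∃ r, r ≠ 0 ∧ (r ∈ P ∨ r ∈ Q) ∧ r ∈ centres q M := by
  classical
  have H := hermForm_isHerm hF n
  have hHM' : ∀ g ∈ suGL n F q,
      (∀ x ∈ Q, (g : Matrix (Fin n) (Fin n) F) *ᵥ x ∈ Q) →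
      (∀ x ∈ P, (g : Matrix (Fin n) (Fin n) F) *ᵥ x ∈ P) → g ∈ M := fun g hg h1 h2 => hHM g hg h2 h1
  have hx0 : x ≠ 0 := fun h => hxP (by rw [h, Matrix.mulVec_zero]; exact P.zero_mem)
  obtain ⟨b, hb, a', ha', y, hy, hxa, hby, hxy, -⟩ := exists_quad hF hPQ hHM hx hx0
  obtain ⟨u, hu⟩ : ∃ u, u = (g : Matrix (Fin n) (Fin n) F) *ᵥ x := ⟨_, rfl⟩
  obtain ⟨v, hv⟩ : ∃ v, v = (g : Matrix (Fin n) (Fin n) F) *ᵥ y := ⟨_, rfl⟩
  rw [← hu] at hxP hxQ
  have huu : Cfsg.hermForm n F q u u = 0 := by rw [hu, mem_suGL_herm hg]; exact hPQ.left.2 x hx x hx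
  have hvv : Cfsg.hermForm n F q v v = 0 := by rw [hv, mem_suGL_herm hg]; exact hPQ.right.2 y hy y hy
  have huv : Cfsg.hermForm n F q u v = 0 := by rw [hu, hv, mem_suGL_herm hg]; exact hxy
  have hyx := (H.eq_zero_symm hF).1 hxy
  have hEtu : ∀ t : F, ∃ E ∈ M, IsEich q E (t • u) v := by
    intro t
    obtain ⟨⟨E, hEM, hE⟩, -⟩ := exists_pair_eich hF hPQ hHM (P.smul_mem t hx) hy
      (show Cfsg.hermForm n F q (t • x) y = 0 by rw [H.smul_left, hxy, mul_zero])
    have h := eich_conj hF hg hE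
    rw [Matrix.mulVec_smul, ← hu, ← hv] at h
    exact ⟨_, mul_mem (mul_mem hgM hEM) (inv_mem hgM), h⟩
  have hEv : ∀ s : F, ∃ E ∈ M, IsEich q E u (s • v) := by
    intro s
    obtain ⟨⟨E, hEM, hE⟩, -⟩ := exists_pair_eich hF hPQ hHM hx (Q.smul_mem s hy)
      (show Cfsg.hermForm n F q x (s • y) = 0 by rw [H.smul_right, hxy, mul_zero])
    have h := eich_conj hF hg hE
    rw [Matrix.mulVec_smul, ← hu, ← hv] at h
    exact ⟨_, mul_mem (mul_mem hgM hEM) (inv_mem hgM), h⟩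
  have hEvu : ∀ t : F, ∃ E ∈ M, IsEich q E v (t • u) := by
    intro t
    obtain ⟨-, E, hEM, hE⟩ := exists_pair_eich hF hPQ hHM (P.smul_mem t hx) hy
      (show Cfsg.hermForm n F q (t • x) y = 0 by rw [H.smul_left, hxy, mul_zero])
    have h := eich_conj hF hg hE
    rw [Matrix.mulVec_smul, ← hu, ← hv] at h
    exact ⟨_, mul_mem (mul_mem hgM hEM) (inv_mem hgM), h⟩
  -- a transvection at u finishes
  have atu : ∀ {T : Matrix.GeneralLinearGroup (Fin n) F} {c : F}, T ∈ M → c ≠ 0 → c + c ^ q = 0 →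
      IsTrans q T u c → ∃ r, r ≠ 0 ∧ (r ∈ P ∨ r ∈ Q) ∧ r ∈ centres q M := by
    intro T c hTM hc hcs hT
    have h := trans_conj (inv_mem hg) hT
    rw [hu, Matrix.mulVec_mulVec, ← Units.val_mul, inv_mul_cancel, Units.val_one, Matrix.one_mulVec] at h
    exact ⟨x, hx0, Or.inl hx, centre_of_trans hF hPQ hHM hx hx0 hc hcs
      (mul_mem (mul_mem (inv_mem hgM) hTM) (inv_mem (inv_mem hgM))) h⟩
  -- Eichler lines at u with non-orthogonal second points
  have linesu : ∀ w, Cfsg.hermForm n F q u w = 0 → Cfsg.hermForm n F q v w ≠ 0 →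
      (∀ s : F, ∃ B ∈ M, IsEich q B u (s • w)) → ∃ r, r ≠ 0 ∧ (r ∈ P ∨ r ∈ Q) ∧ r ∈ centres q M := by
    intro w huw hne hBs
    obtain ⟨t, ht⟩ := exists_pow_q_ne hF
    obtain ⟨A, hAM, hA⟩ := hEv 1
    rw [one_smul] at hA
    obtain ⟨B, hBM, hB⟩ := hBs ((t / Cfsg.hermForm n F q v w) ^ q)
    have hT := eich_comm_same hF hA hB huu huv (by rw [H.smul_right, huw, mul_zero])
    have e1 : Cfsg.hermForm n F q v ((t / Cfsg.hermForm n F q v w) ^ q • w) = t := by
      rw [H.smul_right, pow_q_pow_q hF, div_mul_cancel₀ _ hne]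
    rw [H.conj_symm v ((t / Cfsg.hermForm n F q v w) ^ q • w), e1] at hT
    refine atu (mul_mem (mul_mem (mul_mem hAM hBM) (inv_mem hAM)) (inv_mem hBM))
      (sub_ne_zero.2 (Ne.symm ht)) ?_ hT
    rw [sub_pow_q hF, pow_q_pow_q hF]; ring
  obtain ⟨a₀, ha₀, a₁, ha₁, hsplit⟩ := hPQ.exists_split u
  have ha₀0 : a₀ ≠ 0 := fun h => hxQ (by rw [← hsplit, h, zero_add]; exact ha₁)
  have ha₁0 : a₁ ≠ 0 := fun h => hxP (by rw [← hsplit, h, add_zero]; exact ha₀)
  have h00 := hPQ.left.2 a₀ ha₀ a₀ ha₀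
  have h11 := hPQ.right.2 a₁ ha₁ a₁ ha₁
  have hvu := (H.eq_zero_symm hF).1 huv
  have hv0 : v ≠ 0 := fun h => by
    have := Matrix.mulVec_injective_iff_isUnit.2 (Units.isUnit g)
      ((hv.symm.trans h).trans (Matrix.mulVec_zero _).symm)
    rw [this, H.zero_right hF] at hby
    exact zero_ne_one hby
  -- v moved by an element fixing the line of u
  have move : ∀ {R : Matrix.GeneralLinearGroup (Fin n) F} {l : F}, R ∈ M → R ∈ suGL n F q → l ≠ 0 →
      (R : Matrix (Fin n) (Fin n) F) *ᵥ u = l • u →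
      Cfsg.hermForm n F q v ((R : Matrix (Fin n) (Fin n) F) *ᵥ v) ≠ 0 →
      ∃ r, r ≠ 0 ∧ (r ∈ P ∨ r ∈ Q) ∧ r ∈ centres q M := by
    intro R l hRM hRs hl hRu hne
    have huR : l * Cfsg.hermForm n F q u ((R : Matrix (Fin n) (Fin n) F) *ᵥ v) = 0 := by
      rw [← H.smul_left, ← hRu, mem_suGL_herm hRs, huv]
    refine linesu _ ((mul_eq_zero.1 huR).resolve_left hl) hne fun s => ?_
    obtain ⟨E, hEM, hE⟩ := hEtu (s ^ q / l)
    have h := eich_conj hF hRs hE
    rw [Matrix.mulVec_smul, hRu, smul_smul, div_mul_cancel₀ _ hl] at h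
    refine ⟨_, mul_mem (mul_mem hRM hEM) (inv_mem hRM), fun z => ?_⟩
    rw [h]
    simp only [H.smul_right, pow_q_pow_q hF, smul_smul]
    module
  by_cases hd : Cfsg.hermForm n F q a₀ a₁ = 0
  · have hd' := (H.eq_zero_symm hF).1 hd
    have hsum : Cfsg.hermForm n F q v a₀ + Cfsg.hermForm n F q v a₁ = 0 := by
      rw [← H.add_right hF, hsplit]; exact hvu
    by_cases hA : Cfsg.hermForm n F q v a₀ = 0
    swap
    · -- an element of the pair fixing u
      obtain ⟨w, hw⟩ := exists_pow_q_ne hF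
      set A0 := Cfsg.hermForm n F q v a₀ with hA0
      set B0 := Cfsg.hermForm n F q v a₁ with hB0
      have hB : B0 ≠ 0 := fun h => hA (by rw [h, add_zero] at hsum; exact hsum)
      obtain ⟨t, ht⟩ : ∃ t : F, t ^ q = w / (A0 ^ q * B0) := ⟨_, pow_q_pow_q hF _⟩
      obtain ⟨R, hRs, hR⟩ := eich_exists hF h00 (hPQ.right.2 _ (Q.smul_mem t ha₁) _ (Q.smul_mem t ha₁))
        (show Cfsg.hermForm n F q a₀ (t • a₁) = 0 by rw [H.smul_right, hd, mul_zero])
      have hRM : R ∈ M := by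
        obtain ⟨⟨R', hR'M, hR'⟩, -⟩ := exists_pair_eich hF hPQ hHM ha₀ (Q.smul_mem t ha₁)
          (show Cfsg.hermForm n F q a₀ (t • a₁) = 0 by rw [H.smul_right, hd, mul_zero])
        rwa [gl_ext_mulVec (g := R) (h := R') fun z => by rw [hR, hR']]
      refine move hRM hRs one_ne_zero ?_ ?_
      · rw [hR, one_smul, ← hsplit]
        simp [H.add_left, H.smul_right, h00, h11, hd, hd']
      · rw [hR]
        simp only [H.sub_right hF, H.add_right hF, H.smul_right, hvv, mul_pow, pow_q_pow_q hF, ← hA0, ← hB0]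
        have e : t ^ q * (A0 ^ q * B0) = w :=
          ht.symm ▸ div_mul_cancel₀ _ (mul_ne_zero (pow_ne_zero _ hA) hB)
        have e' : t * (A0 * B0 ^ q) = w ^ q := by
          have := congrArg (fun z : F => z ^ q) e
          simpa [mul_pow, pow_q_pow_q hF] using this
        intro h
        exact hw (by linear_combination -h + e - e')
    have hB : Cfsg.hermForm n F q v a₁ = 0 := by rwa [hA, zero_add] at hsum
    obtain ⟨e, f, he, hf, hff, hee, hef, hfe⟩ : ∃ e f, e ∈ P ∧ f ∈ Q ∧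
        Cfsg.hermForm n F q a₀ f ≠ 0 ∧ Cfsg.hermForm n F q e a₁ ≠ 0 ∧
        Cfsg.hermForm n F q e f = 0 ∧ ∀ p ∈ P, ∃ s s' : F, s • a₀ + s' • e = p := by
      obtain ⟨e, he, f, hf, b', hb', h1, h2, h3, h4⟩ := exists_quad hF hPQ hHM ha₀ ha₀0
      refine ⟨e, f, he, hf, by rw [h1]; exact one_ne_zero, fun h => ha₁0 ?_, h4, fun p hp => ?_⟩
      · refine hPQ.symm.eq_zero_of_perp hF ha₁ fun p hp => ?_
        obtain ⟨s, s', rfl⟩ := mem_two hF hPQ hp ha₀ he h1 h2 h3 h4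
        rw [H.add_right hF, H.smul_right, H.smul_right, hd', (H.eq_zero_symm hF).1 h]; ring
      · exact mem_two hF hPQ hp ha₀ he h1 h2 h3 h4
    obtain ⟨p, hp, p', hp', hvsplit⟩ := hPQ.exists_split v
    obtain ⟨v0, w0, hpv⟩ := hfe p hp
    obtain ⟨r0, hr0, hr0', hr0''⟩ : ∃ v1 : F, v1 • a₁ = p' ∧ True ∧ True := by
      refine ⟨Cfsg.hermForm n F q p' e / Cfsg.hermForm n F q a₁ e, ?_, trivial, trivial⟩
      have hne : Cfsg.hermForm n F q a₁ e ≠ 0 := fun h => hee ((H.eq_zero_symm hF).1 h)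
      refine sub_eq_zero.1 (hPQ.symm.eq_zero_of_perp hF (Q.sub_mem (Q.smul_mem _ ha₁) hp') fun z hz => ?_)
      obtain ⟨s, s', rfl⟩ := hfe z hz
      have hpa : Cfsg.hermForm n F q p' a₀ = 0 := by
        rw [← hvsplit, H.add_left, hPQ.left.2 p hp a₀ ha₀, zero_add] at hA; exact hA
      simp only [H.sub_left, H.add_right hF, H.smul_left, H.smul_right, hd', hpa]
      field_simp
      ring
    have hw0 : w0 = 0 := by
      rw [← hvsplit, ← hpv, ← hr0] at hB
      simp only [H.add_left, H.smul_left, hd, h11, mul_zero, add_zero, zero_add] at hB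
      exact (mul_eq_zero.1 hB).resolve_right hee
    rw [hw0, zero_smul, add_zero] at hpv
    have hv2 : v0 • a₀ + r0 • a₁ = v := by rw [hpv, hr0, hvsplit]
    by_cases hv00 : v0 = 0
    · refine centre_of_inside hF hPQ.symm hHM' hq ha₁ ha₁0 ha₀ ha₀0 hd' (u0 := 1) (u1 := 1)
        (v0 := r0) (v1 := v0) ?_ (fun t => ?_) |>.imp fun r h => ⟨h.1, h.2.1.symm, h.2.2⟩
      · rw [one_mul]
        exact pow_ne_zero _ fun h => hv0 (by rw [← hv2, hv00, h, zero_smul, zero_smul, add_zero])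
      · rw [one_smul, one_smul, add_comm a₁, hsplit, add_comm (r0 • a₁), hv2]
        exact hEtu t
    · refine centre_of_inside hF hPQ hHM hq ha₀ ha₀0 ha₁ ha₁0 hd (u0 := 1) (u1 := 1) (v0 := v0) (v1 := r0)
        ?_ fun t => ?_
      · rw [one_mul]; exact pow_ne_zero _ hv00
      · rw [one_smul, one_smul, hsplit, hv2]
        exact hEtu t
  -- the generic case
  set d := Cfsg.hermForm n F q a₀ a₁ with hdd
  have hds : d + d ^ q = 0 := by
    rw [hdd, ← H.conj_symm]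
    rw [← hsplit, H.add_left, H.add_right hF, H.add_right hF, h00, h11] at huu
    linear_combination huu
  obtain ⟨e, he, f', hf', b', hb', h1, h2, h3, h4⟩ := exists_quad hF hPQ hHM ha₀ ha₀0
  obtain ⟨bb, hbb⟩ : ∃ bb, bb = e - (Cfsg.hermForm n F q e a₁ / d) • a₀ := ⟨_, rfl⟩
  have hbP : bb ∈ P := hbb ▸ P.sub_mem he (P.smul_mem _ ha₀)
  have hba : Cfsg.hermForm n F q bb a₁ = 0 := by
    rw [hbb, H.sub_left, H.smul_left, ← hdd, div_mul_cancel₀ _ hd, sub_self]
  have hbb' : Cfsg.hermForm n F q bb b' = 1 := by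
    rw [hbb, H.sub_left, H.smul_left, h3, h2, mul_zero, sub_zero]
  have hbne : bb ≠ 0 := fun h => by rw [h, H.zero_left] at hbb'; exact zero_ne_one hbb'
  have hb'ne : b' ≠ 0 := fun h => by rw [h, H.zero_right hF] at hbb'; exact zero_ne_one hbb'
  obtain ⟨p, hp, p', hp', hvsplit⟩ := hPQ.exists_split v
  obtain ⟨p0, c2, hpv⟩ : ∃ s s' : F, s • a₀ + s' • bb = p := by
    obtain ⟨s, s', hs⟩ := mem_two hF hPQ hp ha₀ he h1 h2 h3 h4
    exact ⟨s + s' * (Cfsg.hermForm n F q e a₁ / d), s', by rw [← hs, hbb]; module⟩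
  have hspan : ∀ z ∈ P, ∃ s s' : F, s • a₀ + s' • bb = z := fun z hz => by
    obtain ⟨s, s', hs⟩ := mem_two hF hPQ hz ha₀ he h1 h2 h3 h4
    exact ⟨s + s' * (Cfsg.hermForm n F q e a₁ / d), s', by rw [← hs, hbb]; module⟩
  have hba' := (H.eq_zero_symm hF).1 hba
  have h3' := (H.eq_zero_symm hF).1 h3
  have hda : Cfsg.hermForm n F q a₁ a₀ = d ^ q := H.conj_symm a₀ a₁
  have hb'b : Cfsg.hermForm n F q b' bb = 1 := by rw [H.conj_symm bb b', hbb', one_pow]
  obtain ⟨p1, c3, hp'v⟩ : ∃ s s' : F, s • a₁ + s' • b' = p' := by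
    refine ⟨Cfsg.hermForm n F q p' a₀ / d ^ q, Cfsg.hermForm n F q p' bb, sub_eq_zero.1
      (hPQ.symm.eq_zero_of_perp hF (Q.sub_mem (Q.add_mem (Q.smul_mem _ ha₁) (Q.smul_mem _ hb')) hp')
        fun z hz => ?_)⟩
    obtain ⟨s, s', rfl⟩ := hspan z hz
    simp only [H.sub_left, H.add_left, H.add_right hF, H.smul_left, H.smul_right, hba', h3', hda, hb'b]
    field_simp
    ring
  rw [← hpv, ← hp'v] at hvsplit
  have hbb0 := hPQ.left.2 _ hbP _ hbP
  have hb'0 := hPQ.right.2 _ hb' _ hb'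
  have hab0 := hPQ.left.2 _ ha₀ _ hbP
  have hba0 := hPQ.left.2 _ hbP _ ha₀
  have hab1 := hPQ.right.2 _ ha₁ _ hb'
  have hba1 := hPQ.right.2 _ hb' _ ha₁
  -- v and u are orthogonal
  have hp01 : p0 = p1 := by
    have h := hvu
    rw [← hvsplit, ← hsplit] at h
    simp only [H.add_left, H.add_right hF, H.smul_left, h00, h11, hba, hba0, h3', hba1, hda, ← hdd,
      mul_zero, add_zero, zero_add, eq_neg_of_add_eq_zero_right hds] at h
    exact mul_right_cancel₀ hd (by linear_combination h)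
  -- the torus fixing u
  have tor : ∀ c : F, c ^ q = c → c ≠ 0 → ∃ R ∈ M, R ∈ suGL n F q ∧
      (R : Matrix (Fin n) (Fin n) F) *ᵥ u = (1 : F) • u ∧
      (R : Matrix (Fin n) (Fin n) F) *ᵥ v = p0 • u + (c * c2) • bb + (c⁻¹ * c3) • b' := by
    intro c hc hc0
    obtain ⟨R, hRM, hRs, r1, r2, r3, r4⟩ := exists_torus hF hPQ hHM ha₀ hbP ha₁ hb' hd
      (by rw [hbb']; exact one_ne_zero) h3 hba (α := (1 : F)) (β := c) one_ne_zero hc0
      (by rw [one_mul, hc])
    rw [one_pow, inv_one, one_smul] at r3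
    rw [one_smul] at r1
    rw [hc] at r4
    refine ⟨R, hRM, hRs, ?_, ?_⟩
    · rw [← hsplit, Matrix.mulVec_add, r1, r3, one_smul]
    · rw [← hvsplit, Matrix.mulVec_add, Matrix.mulVec_add, Matrix.mulVec_add, Matrix.mulVec_smul,
        Matrix.mulVec_smul, Matrix.mulVec_smul, Matrix.mulVec_smul, r1, r2, r3, r4, ← hsplit, hp01]
      module
  have hv' : p0 • u + c2 • bb + c3 • b' = v := by
    rw [← hvsplit, ← hsplit, hp01]; module
  by_cases hC : c2 * c3 ^ q = 0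
  swap
  · obtain ⟨c, hc, hcn⟩ := exists_fixed_notMem hF
      ({0, 1, c2 * c3 ^ q / (c2 * c3 ^ q) ^ q} : Finset F) (lt_of_le_of_lt Finset.card_le_three hq)
    simp only [Finset.mem_insert, Finset.mem_singleton, not_or] at hcn
    obtain ⟨hc0, hc1, hcA⟩ := hcn
    obtain ⟨R, hRM, hRs, hRu, hRv⟩ := tor c hc hc0
    refine move hRM hRs one_ne_zero hRu fun h => ?_
    rw [hRv] at h
    have hcc : (c⁻¹) ^ q = c⁻¹ := by rw [inv_pow, hc]
    have hvu' : Cfsg.hermForm n F q v u = 0 := hvu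
    have e2 : Cfsg.hermForm n F q v bb = c3 := by
      rw [← hvsplit]
      simp [H.add_left, H.smul_left, hab0, hbb0, hba', hb'b]
    have e3 : Cfsg.hermForm n F q v b' = c2 := by
      rw [← hvsplit]
      simp [H.add_left, H.smul_left, h3, hbb', hab1, hb'0]
    have e1 := hvv
    rw [← hv'] at e1
    nth_rewrite 1 [hv'] at e1
    simp only [H.add_right hF, H.smul_right, hvu', e2, e3, mul_pow, hc, hcc] at h e1
    have key : (c - 1) * ((c2 * c3 ^ q) ^ q * c - c2 * c3 ^ q) = 0 := by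
      rw [mul_pow, pow_q_pow_q hF]
      field_simp at h
      linear_combination h - c * e1
    rcases mul_eq_zero.1 key with k | k
    · exact hc1 (sub_eq_zero.1 k)
    · exact hcA (eq_div_of_mul_eq (pow_ne_zero _ hC) (by linear_combination k))
  have hc23 : c2 = 0 ∨ c3 = 0 := (mul_eq_zero.1 hC).imp id fun h => (pow_q_eq_zero hF).1 h
  -- the remaining component
  have hub : Cfsg.hermForm n F q u bb = 0 := by rw [← hsplit, H.add_left, hab0, hba', add_zero]
  have hub' : Cfsg.hermForm n F q u b' = 0 := by rw [← hsplit, H.add_left, h3, hab1, add_zero]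
  obtain ⟨z, lam, hlam, hz0, hzu, hzv, hzc⟩ : ∃ (z : Fin n → F) (lam : F), lam ≠ 0 ∧
      (z = bb ∨ z = b') ∧ Cfsg.hermForm n F q u z = 0 ∧ p0 • u + lam • z = v ∧
      ∀ c : F, c ^ q = c → c ≠ 0 → ∃ c' : F, c' ^ q = c' ∧ c' ≠ 0 ∧ (c ≠ 1 → c' ≠ 1) ∧
        ∃ R ∈ M, R ∈ suGL n F q ∧ (R : Matrix (Fin n) (Fin n) F) *ᵥ u = (1 : F) • u ∧
          (R : Matrix (Fin n) (Fin n) F) *ᵥ v = p0 • u + (c' * lam) • z := by
    have hne : c2 ≠ 0 ∨ c3 ≠ 0 := by
      by_contra! hne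
      rw [hne.1, hne.2, zero_smul, zero_smul, add_zero, add_zero] at hv'
      have hinj : Function.Injective (fun w => (g : Matrix (Fin n) (Fin n) F) *ᵥ w) :=
        Matrix.mulVec_injective_iff_isUnit.2 (Units.isUnit g)
      have : y = p0 • x := hinj (by
        show (g : Matrix (Fin n) (Fin n) F) *ᵥ y = _ *ᵥ (p0 • x)
        rw [Matrix.mulVec_smul, ← hu, ← hv, hv'])
      rw [this, H.smul_right, hPQ.left.2 b hb x hx, mul_zero] at hby
      exact zero_ne_one hby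
    by_cases h3c : c3 = 0
    · refine ⟨bb, c2, hne.resolve_right (fun h => h h3c), Or.inl rfl, hub, ?_, fun c hc hc0 => ?_⟩
      · rw [← hv', h3c, zero_smul, add_zero]
      · obtain ⟨R, hRM, hRs, hRu, hRv⟩ := tor c hc hc0
        exact ⟨c, hc, hc0, id, R, hRM, hRs, hRu, by rw [hRv, h3c, mul_zero, zero_smul, add_zero]⟩
    · have h2c : c2 = 0 := hc23.resolve_right h3c
      refine ⟨b', c3, h3c, Or.inr rfl, hub', ?_, fun c hc hc0 => ?_⟩
      · rw [← hv', h2c, zero_smul, add_zero]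
      · obtain ⟨R, hRM, hRs, hRu, hRv⟩ := tor c hc hc0
        refine ⟨c⁻¹, by rw [inv_pow, hc], inv_ne_zero hc0, fun h1 h2 => h1 (by rwa [inv_eq_one] at h2),
          R, hRM, hRs, hRu, by rw [hRv, h2c, mul_zero, zero_smul, add_zero]⟩
  have hzz : Cfsg.hermForm n F q z z = 0 := by rcases hz0 with rfl | rfl <;> assumption
  by_cases hp00 : p0 = 0
  · -- two lines through a point of the pair
    have hzv' : lam • z = v := by rw [← hzv, hp00, zero_smul, zero_add]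
    have hzE : ∀ s : F, ∃ E ∈ M, IsEich q E z (s • u) := by
      intro s
      obtain ⟨E, hEM, hE⟩ := hEvu (s / lam ^ q)
      have hl : lam ^ q ≠ 0 := pow_ne_zero _ hlam
      refine ⟨E, hEM, fun w => ?_⟩
      rw [hE, ← hzv']
      simp only [H.smul_right, smul_smul, div_pow, pow_q_pow_q hF]
      match_scalars <;> field_simp
    rcases hz0 with rfl | rfl
    · refine ⟨z, hbne, Or.inl hbP, centre_of_two_lines hF hPQ hHM hbP hbne ha₁ hba
        ((H.eq_zero_symm hF).1 hzu) ?_ hzE⟩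
      rw [← hsplit, H.add_right hF, h11, add_zero]
      exact fun h => hd ((H.eq_zero_symm hF).1 h)
    · refine ⟨z, hb'ne, Or.inr hb', centre_of_two_lines hF hPQ.symm hHM' hb' hb'ne ha₀ h3'
        ((H.eq_zero_symm hF).1 hzu) ?_ hzE⟩
      rw [← hsplit, H.add_right hF, h00, zero_add]
      exact hd
  -- a transvection at u
  obtain ⟨c, hc, hcn⟩ := exists_fixed_notMem hF ({0, 1} : Finset F)
    (lt_of_le_of_lt Finset.card_le_two (by omega))
  simp only [Finset.mem_insert, Finset.mem_singleton, not_or] at hcn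
  obtain ⟨c', hc', hc0', hc1', R, hRM, hRs, hRu, hRv⟩ := hzc c hc hcn.1
  rw [one_smul] at hRu
  obtain ⟨w, hw⟩ := exists_pow_q_ne hF
  set t := w / p0 ^ q with ht
  have htw : t * p0 ^ q = w := div_mul_cancel₀ _ (pow_ne_zero _ hp00)
  obtain ⟨E1, hE1M, hE1⟩ := hEtu (t * c')
  obtain ⟨E2, hE2M, hE2⟩ := hEtu t
  have hE2' := eich_conj hF hRs hE2
  rw [Matrix.mulVec_smul, hRu, hRv] at hE2'
  rw [← hzv] at hE1
  refine atu (mul_mem (mul_mem (mul_mem hRM hE2M) (inv_mem hRM)) (inv_mem hE1M))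
    (c := (c' - 1) * (w - w ^ q)) (mul_ne_zero (sub_ne_zero.2 (hc1' hcn.2)) (sub_ne_zero.2 (Ne.symm hw))) ?_ fun X => ?_
  · rw [mul_pow, sub_pow_q hF, sub_pow_q hF, pow_q_pow_q hF, one_pow, hc']; ring
  obtain ⟨Y, rfl⟩ : ∃ Y, (E1 : Matrix (Fin n) (Fin n) F) *ᵥ Y = X :=
    Matrix.mulVec_surjective_iff_isUnit.2 (Units.isUnit _) X
  rw [Matrix.mulVec_mulVec, ← Units.val_mul, inv_mul_cancel_right, hE2', hE1, ← htw]
  simp only [H.add_left, H.sub_left, H.add_right hF, H.smul_left, H.smul_right, huu, hzu,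
    (H.eq_zero_symm hF).1 hzu, hzz, mul_pow, pow_q_pow_q hF, hc']
  match_scalars <;> ring

theorem isMaximalIn_pair_stabilizer_two (hF : Fintype.card F = q ^ 2) (hq : 4 ≤ q)
    (D : Fin 2 → Submodule F (Fin n → F)) (hD : Cfsg.Geo.IsMDecomposition 2 D)
    (hts : ∀ i, Cfsg.Geo.IsTotallySingularFor (Cfsg.hermForm n F q) (D i)) :
    Cfsg.Geo.IsMaximalIn (suGL n F q) (Cfsg.Geo.decompositionStabilizer D ⊓ suGL n F q) := by
  have H := hermForm_isHerm hF n
  have hsup : D 0 ⊔ D 1 = ⊤ := top_unique (by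
    rw [← hD.iSup_eq_top]
    exact iSup_le fun i => by fin_cases i <;> simp)
  have hinf : D 0 ⊓ D 1 = ⊥ := disjoint_iff.1 (hD.indep.pairwiseDisjoint (by decide))
  have hPQ : IsPolarPair q 2 (D 0) (D 1) :=
    ⟨⟨hD.finrank_eq 0, hts 0⟩, ⟨hD.finrank_eq 1, hts 1⟩, hsup, hinf⟩
  have hn : 4 ≤ n := by
    have := Submodule.finrank_sup_add_finrank_inf_eq (D 0) (D 1)
    rw [hsup, hinf, finrank_top, finrank_bot, hD.finrank_eq, hD.finrank_eq,
      Module.finrank_fin_fun] at this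
    omega
  have hinj : ∀ g : Matrix.GeneralLinearGroup (Fin n) F,
      Function.Injective (Matrix.toLin' (g : Matrix (Fin n) (Fin n) F)) := fun g => by
    intro x y h
    simp only [Matrix.toLin'_apply] at h
    exact Matrix.mulVec_injective_iff_isUnit.2 (Units.isUnit g) h
  have mapeq : ∀ (g : Matrix.GeneralLinearGroup (Fin n) F) (i l : Fin 2),
      (∀ x ∈ D i, (g : Matrix (Fin n) (Fin n) F) *ᵥ x ∈ D l) →
      (D i).map (Matrix.toLin' (g : Matrix (Fin n) (Fin n) F)) = D l := by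
    intro g i l h
    refine Submodule.eq_of_le_of_finrank_eq ?_ ?_
    · rintro _ ⟨x, hx, rfl⟩
      rw [Matrix.toLin'_apply]; exact h x hx
    · rw [← (Submodule.equivMapOfInjective _ (hinj g) _).finrank_eq, hD.finrank_eq, hD.finrank_eq]
  have stab : ∀ g : Matrix.GeneralLinearGroup (Fin n) F,
      ((∀ x ∈ D 0, (g : Matrix (Fin n) (Fin n) F) *ᵥ x ∈ D 0) ∧
        (∀ x ∈ D 1, (g : Matrix (Fin n) (Fin n) F) *ᵥ x ∈ D 1)) ∨
      ((∀ x ∈ D 0, (g : Matrix (Fin n) (Fin n) F) *ᵥ x ∈ D 1) ∧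
        (∀ x ∈ D 1, (g : Matrix (Fin n) (Fin n) F) *ᵥ x ∈ D 0)) →
      g ∈ Cfsg.Geo.decompositionStabilizer D := by
    rintro g (⟨h0, h1⟩ | ⟨h0, h1⟩)
    · exact ⟨1, fun i => by fin_cases i <;> [exact mapeq g 0 0 h0; exact mapeq g 1 1 h1]⟩
    · exact ⟨Equiv.swap 0 1, fun i => by
        fin_cases i <;> [exact mapeq g 0 1 h0; exact mapeq g 1 0 h1]⟩
  obtain ⟨δ, hδ0, hδ⟩ := exists_skew hF
  refine isMaximalIn_of_forall inf_le_right ?_ ?_
  · obtain ⟨v, hv, hv0⟩ := Submodule.exists_mem_ne_zero_of_ne_bot (p := D 0) (fun h => by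
      have := hD.finrank_eq 0
      rw [h, finrank_bot] at this
      omega)
    obtain ⟨w, hw, hvw⟩ : ∃ w ∈ D 1, Cfsg.hermForm n F q w v ≠ 0 := by
      by_contra hc
      simp only [not_exists, not_and, not_not] at hc
      exact hv0 (hPQ.eq_zero_of_perp hF hv fun y hy => (H.eq_zero_symm hF).1 (hc y hy))
    refine ⟨glTransvection hF v (hts 0 v hv v hv) δ (by rw [hδ, add_neg_cancel]),
      suToGU_mem_suGL _, fun h => ?_⟩
    obtain ⟨σ, hσ⟩ := h.1
    have h2 : (glTransvection hF v (hts 0 v hv v hv) δ (by rw [hδ, add_neg_cancel]) :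
        Matrix (Fin n) (Fin n) F) *ᵥ w ∈ D (σ 1) := by
      rw [← hσ 1]
      exact ⟨w, hw, Matrix.toLin'_apply _ _⟩
    change Cfsg.unitaryTransvection n q v δ *ᵥ w ∈ D (σ 1) at h2
    rw [transvection_mulVec] at h2
    have hs : σ 1 = 0 ∨ σ 1 = 1 := by omega
    rcases hs with hs | hs <;> rw [hs] at h2
    · rw [Submodule.add_mem_iff_left _ (Submodule.smul_mem _ _ hv)] at h2
      have : w = 0 := (Submodule.eq_bot_iff _).1 hinf w ⟨h2, hw⟩
      exact hvw (by rw [this, H.zero_left])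
    · rw [Submodule.add_mem_iff_right _ hw, Submodule.smul_mem_iff _ (mul_ne_zero hδ0 hvw)] at h2
      exact hv0 ((Submodule.eq_bot_iff _).1 hinf v ⟨hv, h2⟩)
  · intro M hHM hMK g hgM hgH
    have hH1 : ∀ g ∈ suGL n F q,
        ((∀ x ∈ D 0, (g : Matrix (Fin n) (Fin n) F) *ᵥ x ∈ D 0) ∧
          (∀ x ∈ D 1, (g : Matrix (Fin n) (Fin n) F) *ᵥ x ∈ D 1)) ∨
        ((∀ x ∈ D 0, (g : Matrix (Fin n) (Fin n) F) *ᵥ x ∈ D 1) ∧
          (∀ x ∈ D 1, (g : Matrix (Fin n) (Fin n) F) *ᵥ x ∈ D 0)) → g ∈ M :=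
      fun g hg h => hHM ⟨stab g h, hg⟩
    obtain ⟨r, hr0, hrPQ, hrC⟩ : ∃ r, r ≠ 0 ∧ (r ∈ D 0 ∨ r ∈ D 1) ∧ r ∈ centres q M := by
      by_cases h : ∃ x ∈ D 0, (g : Matrix (Fin n) (Fin n) F) *ᵥ x ∉ D 0 ∧
          (g : Matrix (Fin n) (Fin n) F) *ᵥ x ∉ D 1
      · obtain ⟨x, hx, h1, h2⟩ := h
        exact exists_pair_centre_two hF hq hPQ (fun g hg h1 h2 => hH1 g hg (Or.inl ⟨h1, h2⟩)) hgM
          (hMK hgM) hx h1 h2
      by_cases h' : ∃ x ∈ D 1, (g : Matrix (Fin n) (Fin n) F) *ᵥ x ∉ D 1 ∧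
          (g : Matrix (Fin n) (Fin n) F) *ᵥ x ∉ D 0
      · obtain ⟨x, hx, h1, h2⟩ := h'
        obtain ⟨r, h3, h4, h5⟩ := exists_pair_centre_two hF hq hPQ.symm
          (fun g hg h1 h2 => hH1 g hg (Or.inl ⟨h2, h1⟩)) hgM (hMK hgM) hx h1 h2
        exact ⟨r, h3, h4.symm, h5⟩
      exfalso
      refine hgH ⟨stab g ?_, hMK hgM⟩
      have m0 := mem_of_union (Matrix.mulVecLin (g : Matrix (Fin n) (Fin n) F)) (S := D 0)
        (P := D 0) (Q := D 1) fun x hx => by
          by_contra hc; rw [not_or] at hc; exact h ⟨x, hx, hc⟩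
      have m1 := mem_of_union (Matrix.mulVecLin (g : Matrix (Fin n) (Fin n) F)) (S := D 1)
        (P := D 0) (Q := D 1) fun x hx => by
          by_contra hc; rw [not_or] at hc; exact h' ⟨x, hx, hc.symm⟩
      have both : ∀ l : Fin 2, (∀ i : Fin 2, ∀ x ∈ D i,
          (g : Matrix (Fin n) (Fin n) F) *ᵥ x ∈ D l) → False := by
        intro l hl
        have e0 := mapeq g 0 l (hl 0)
        have e1 := mapeq g 1 l (hl 1)
        have : D 0 = D 1 := Submodule.map_injective_of_injective (hinj g) (e0.trans e1.symm)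
        have h0 := hD.finrank_eq 0
        rw [this] at hinf
        rw [inf_idem] at hinf
        rw [this, hinf, finrank_bot] at h0
        omega
      rcases m0 with m0 | m0 <;> rcases m1 with m1 | m1
      · exact (both 0 fun i => by fin_cases i <;> assumption).elim
      · exact Or.inl ⟨m0, m1⟩
      · exact Or.inr ⟨m0, m1⟩
      · exact (both 1 fun i => by fin_cases i <;> assumption).elim
    rcases hrPQ with hr | hr
    · exact le_of_pair_centre hF (Or.inl hn) hPQ hH1 hr hr0 hrC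
    · exact le_of_pair_centre hF (Or.inl hn) hPQ.symm
        (fun g hg h => hH1 g hg (h.imp And.symm And.symm)) hr hr0 hrC

end Cfsg.Agent.Unitary
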