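import Cfsg.Agent.Lib.Unitary.MonoGrow
/-
Overgroups of the monomial subgroup of SU: a centre of weight below n gives SU when q ≥ 3.
* exists_two_centre, two_all, exists_pair_move, mono_le_of_centre (n ≥ 4)
-/
set_option autoImplicit false

namespace Cfsg.Agent.Unitary

open scoped Matrix

variable {F : Type*} [Field F] [Fintype F] {q n : ℕ}

/-- The vector with entries a at i and b at j. -/
def pairVec (i j : Fin n) (a b : F) : Fin n → F := Pi.single i a + Pi.single j b

omit [Fintype F] in
theorem pairVec_left {i j : Fin n} (hij : i ≠ j) (a b : F) : pairVec i j a b i = a := by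
  simp [pairVec, hij]

omit [Fintype F] in
theorem pairVec_right {i j : Fin n} (hij : i ≠ j) (a b : F) : pairVec i j a b j = b := by
  simp [pairVec, hij.symm]

omit [Fintype F] in
theorem pairVec_other {i j l : Fin n} (hi : l ≠ i) (hj : l ≠ j) (a b : F) : pairVec i j a b l = 0 := by
  simp [pairVec, hi, hj]

omit [Fintype F] in
theorem exists_third {i j : Fin n} (hn : 3 ≤ n) : ∃ p, p ≠ i ∧ p ≠ j := by
  obtain ⟨p, hp⟩ := exists_notMem_of_card_lt (S := ({i, j} : Finset (Fin n)))
    (lt_of_le_of_lt Finset.card_le_two (by omega))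
  exact ⟨p, fun h => hp (by simp [h]), fun h => hp (by simp [h])⟩

section Close

variable {M : Subgroup (Matrix.GeneralLinearGroup (Fin n) F)} (hF : Fintype.card F = q ^ 2)
  (hn : 4 ≤ n) (hHM : ∀ g ∈ suGL n F q, IsMon g → g ∈ M)
include hF hn hHM

theorem herm_pairVec {i j : Fin n} (hij : i ≠ j) (x : Fin n → F) (a b : F) :
    Cfsg.hermForm n F q x (pairVec i j a b) = x i * a ^ q + x j * b ^ q := by
  have _ := hn
  have _ := hHM
  show ∑ l, x l * pairVec i j a b l ^ q = _
  rw [Finset.sum_eq_add i j hij (fun l _ hl => by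
      rw [pairVec_other hl.1 hl.2, zero_pow_q hF, mul_zero])
    (fun h => absurd (Finset.mem_univ i) h) (fun h => absurd (Finset.mem_univ j) h),
    pairVec_left hij, pairVec_right hij]

/-- A centre of weight below n gives one of weight two. -/
theorem exists_two_centre {w : Fin n → F} (hw : w ∈ centres q M) (hw0 : w ≠ 0)
    (hwn : (supp w).card < n) :
    ∃ i j a b, i ≠ j ∧ a ≠ 0 ∧ b ≠ 0 ∧ pairVec i j a b ∈ centres q M := by
  classical
  have H := hermForm_isHerm hF n
  obtain ⟨p, hp⟩ := exists_notMem_of_card_lt (S := supp w) hwn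
  obtain ⟨i, hi⟩ : ∃ i, w i ≠ 0 := by
    by_contra hc
    simp only [not_exists, not_not] at hc
    exact hw0 (funext hc)
  obtain ⟨j, hj, hji⟩ : ∃ j, w j ≠ 0 ∧ j ≠ i := by
    by_contra hc
    simp only [not_exists, not_and, not_not] at hc
    have h0 : w i * w i ^ q = 0 := by
      rw [← hw.1]
      show w i * w i ^ q = ∑ l, w l * w l ^ q
      refine (Finset.sum_eq_single (f := fun l => w l * w l ^ q) i (fun l _ hl => ?_)
        (fun h => absurd (Finset.mem_univ i) h)).symm
      show w l * w l ^ q = 0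
      rw [show w l = 0 from Classical.byContradiction fun h => hl (hc l h), zero_mul]
    exact mul_ne_zero hi (pow_ne_zero _ hi) h0
  have hfix : ∀ a : F, (a * a ^ q) ^ q = a * a ^ q := fun a => by rw [mul_pow, pow_q_pow_q hF]; ring
  obtain ⟨l, l', η, hl, hl', hl1, hl1', hη, hη0, hηs⟩ := exists_trace_ratio hF (hfix (w i))
    (mul_ne_zero hi (pow_ne_zero _ hi)) (hfix (w j)) (mul_ne_zero hj (pow_ne_zero _ hj))
  obtain ⟨g, hgM, hg, -, μ, -, hgx⟩ := exists_monM hF hHM 1
    (fun r => if r = i then l else if r = j then l' else 1)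
    (fun r => by split_ifs; exacts [hl, hl', one_pow _]) p
  have hwp := eq_zero_of_notMem_supp hp
  have hip : i ≠ p := fun h => hi (h ▸ hwp)
  have hjp : j ≠ p := fun h => hj (h ▸ hwp)
  set w' := (g : Matrix (Fin n) (Fin n) F) *ᵥ w with hw'
  have hval : ∀ r, w' r = if r = i then l * w i else if r = j then l' * w j else w r := by
    intro r
    rw [hw', hgx, show (1 : Equiv.Perm (Fin n)).symm r = r from rfl]
    rcases eq_or_ne r i with rfl | hri
    · simp [hip]
    rcases eq_or_ne r j with rfl | hrj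
    · simp [hjp, hri]
    rcases eq_or_ne r p with rfl | hrp
    · simp [hri, hrj, hwp]
    · simp [hri, hrj, hrp]
  have hw'C : w' ∈ centres q M := centres_conj hgM hg hw
  have hsum : Cfsg.hermForm n F q w w' = η := by
    have e : Cfsg.hermForm n F q w w' = ∑ r, (w r * w' r ^ q - w r * w r ^ q) := by
      have h0 : ∑ r, w r * w r ^ q = 0 := hw.1
      rw [Finset.sum_sub_distrib, h0, sub_zero]; rfl
    rw [e, Finset.sum_eq_add i j hji.symm (fun r _ hr => by rw [hval, if_neg hr.1, if_neg hr.2, sub_self])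
      (fun h => absurd (Finset.mem_univ i) h) (fun h => absurd (Finset.mem_univ j) h),
      hval, hval, if_pos rfl, if_neg hji, if_pos rfl, hη, mul_pow, mul_pow]
    ring
  have h := centres_step hF hw'C hw (c := -η⁻¹) (by
    rw [neg_pow_q hF, inv_pow, eq_neg_of_add_eq_zero_right hηs, inv_neg]; ring)
  rw [hsum, neg_mul, inv_mul_cancel₀ hη0, neg_one_smul, ← sub_eq_add_neg] at h
  refine ⟨i, j, w i - l * w i, w j - l' * w j, hji.symm, ?_, ?_, ?_⟩
  · rw [show w i - l * w i = (1 - l) * w i by ring]
    exact mul_ne_zero (sub_ne_zero.2 hl1.symm) hi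
  · rw [show w j - l' * w j = (1 - l') * w j by ring]
    exact mul_ne_zero (sub_ne_zero.2 hl1'.symm) hj
  · convert h using 1
    funext r
    rcases eq_or_ne r i with rfl | hri
    · rw [pairVec_left hji.symm, Pi.sub_apply, hval, if_pos rfl]
    rcases eq_or_ne r j with rfl | hrj
    · rw [pairVec_right hji.symm, Pi.sub_apply, hval, if_neg hri, if_pos rfl]
    · rw [pairVec_other hri hrj, Pi.sub_apply, hval, if_neg hri, if_neg hrj, sub_self]

/-- One centre of weight two gives all. -/
theorem two_all {i j : Fin n} {a b : F} (hij : i ≠ j) (ha : a ≠ 0) (hb : b ≠ 0)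
    (hC : pairVec i j a b ∈ centres q M) {i' j' : Fin n} {a' b' : F} (hij' : i' ≠ j') (ha' : a' ≠ 0)
    (h0 : a' * a' ^ q + b' * b' ^ q = 0) : pairVec i' j' a' b' ∈ centres q M := by
  classical
  obtain ⟨p, hpi, hpj⟩ := exists_third (i := i') (j := j') (show 3 ≤ n by omega)
  let π : Equiv.Perm (Fin n) := (Equiv.swap i i').trans (Equiv.swap (Equiv.swap i i' j) j')
  have hπi : π i = i' := by
    simp only [π, Equiv.trans_apply, Equiv.swap_apply_left]
    refine Equiv.swap_apply_of_ne_of_ne ?_ hij'
    intro h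
    exact hij ((Equiv.swap i i').injective (by rw [Equiv.swap_apply_left]; exact h))
  have hπj : π j = j' := by simp [π]
  have hab : a * a ^ q + b * b ^ q = 0 := by
    have h1 := hC.1
    rwa [herm_pairVec hF hn hHM hij, pairVec_left hij, pairVec_right hij] at h1
  have hl : (b' * a / (a' * b)) ^ (q + 1) = 1 := by
    rw [div_pow, mul_pow, mul_pow, pow_succ b', pow_succ a, pow_succ a', pow_succ b]
    have hne : a' ^ q * a' * (b ^ q * b) ≠ 0 :=
      mul_ne_zero (mul_ne_zero (pow_ne_zero _ ha') ha') (mul_ne_zero (pow_ne_zero _ hb) hb)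
    rw [div_eq_one_iff_eq hne]
    linear_combination (a * a ^ q) * h0 - (a' * a' ^ q) * hab
  obtain ⟨g, hgM, hg, -, μ, -, hgx⟩ := exists_monM hF hHM π
    (fun r => if r = j' then b' * a / (a' * b) else 1)
    (fun r => by split_ifs; exacts [hl, one_pow _]) p
  have h := centres_smul hF (centres_conj hgM hg hC) (a' / a)
  convert h using 1
  funext r
  rw [Pi.smul_apply, hgx, smul_eq_mul]
  rcases eq_or_ne r i' with rfl | hri
  · rw [pairVec_left hij', show π.symm r = i by rw [π.symm_apply_eq, hπi], pairVec_left hij,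
      if_neg hpi.symm, if_neg hij']
    field_simp
  rcases eq_or_ne r j' with rfl | hrj
  · rw [pairVec_right hij', show π.symm r = j by rw [π.symm_apply_eq, hπj], pairVec_right hij,
      if_neg hpj.symm, if_pos rfl]
    field_simp
  · rw [pairVec_other hri hrj, pairVec_other (fun h => hri (by rw [← hπi, ← h, π.apply_symm_apply]))
      (fun h => hrj (by rw [← hπj, ← h, π.apply_symm_apply])), mul_zero, mul_zero]

/-- SU of a coordinate pair lies in M. -/
theorem exists_pair_move {i j : Fin n} {a b : F} (hij : i ≠ j) (ha : a ≠ 0) (hb : b ≠ 0)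
    (hC : pairVec i j a b ∈ centres q M) {i' j' : Fin n} (hij' : i' ≠ j') {v : Fin n → F}
    (hs : v i' * v i' ^ q + v j' * v j' ^ q ≠ 0) :
    ∃ g ∈ M, g ∈ suGL n F q ∧ ((g : Matrix (Fin n) (Fin n) F) *ᵥ v) j' = 0 ∧
      ∀ r, r ≠ i' → r ≠ j' → ((g : Matrix (Fin n) (Fin n) F) *ᵥ v) r = v r := by
  classical
  have H := hermForm_isHerm hF n
  let pr : (Fin n → F) → (Fin 2 → F) := fun x => ![x i', x j']
  let ι : (Fin 2 → F) → (Fin n → F) := fun y => pairVec i' j' (y 0) (y 1)
  have hpι : ∀ y, pr (ι y) = y := fun y => by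
    funext l; fin_cases l <;> simp [pr, ι, pairVec_left hij', pairVec_right hij']
  have hι_add : ∀ y y', ι (y + y') = ι y + ι y' := fun y y' => by
    simp only [ι, pairVec, Pi.add_apply, Pi.single_add]; abel
  have hι_sub : ∀ y y', ι (y - y') = ι y - ι y' := fun y y' => by
    simp only [ι, pairVec, Pi.sub_apply, Pi.single_sub]; abel
  have hpr_add : ∀ x x', pr (x + x') = pr x + pr x' := fun x x' => by
    funext l; fin_cases l <;> simp [pr]
  have hherm : ∀ x y, Cfsg.hermForm n F q x (ι y) = Cfsg.hermForm 2 F q (pr x) y := fun x y => by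
    rw [herm_pairVec hF hn hHM hij']
    simp [Cfsg.hermForm, pr, Fin.sum_univ_two]
  let Emb : Cfsg.SU 2 F q → Matrix.GeneralLinearGroup (Fin n) F → Prop := fun A g =>
    ∀ x, (g : Matrix (Fin n) (Fin n) F) *ᵥ x = x +
      ι (((A : Matrix.SpecialLinearGroup (Fin 2) F) : Matrix (Fin 2) (Fin 2) F) *ᵥ pr x - pr x)
  let S : Subgroup (Cfsg.SU 2 F q) :=
    { carrier := {A | ∃ g ∈ M, g ∈ suGL n F q ∧ Emb A g}
      one_mem' := ⟨1, one_mem _, one_mem _, fun x => by simp [ι, pairVec]⟩
      mul_mem' := by
        rintro A B ⟨g, hgM, hg, hgE⟩ ⟨g', hgM', hg', hgE'⟩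
        refine ⟨g * g', mul_mem hgM hgM', mul_mem hg hg', fun x => ?_⟩
        rw [Units.val_mul, ← Matrix.mulVec_mulVec, hgE' x, hgE, hpr_add, hpι, add_sub_cancel,
          add_assoc, ← hι_add]
        congr 2
        simp only [Subgroup.coe_mul, Matrix.SpecialLinearGroup.coe_mul, ← Matrix.mulVec_mulVec]
        abel
      inv_mem' := by
        rintro A ⟨g, hgM, hg, hgE⟩
        refine ⟨g⁻¹, inv_mem hgM, inv_mem hg, fun x => ?_⟩
        refine Matrix.mulVec_injective_iff_isUnit.2 (Units.isUnit g) ?_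
        rw [Matrix.mulVec_mulVec, ← Units.val_mul, mul_inv_cancel, Units.val_one, Matrix.one_mulVec,
          hgE, hpr_add, hpι, add_sub_cancel, add_assoc, ← hι_add, Matrix.mulVec_mulVec,
          ← Matrix.SpecialLinearGroup.coe_mul, ← Subgroup.coe_mul, mul_inv_cancel]
        simp [ι, pairVec] }
  have htop : transvectionGroup 2 F q ≤ S := by
    rw [transvectionGroup, Subgroup.closure_le]
    rintro A ⟨v, c, hv0, hA⟩
    by_cases hv : v = 0
    · have : A = 1 := Subtype.ext (Subtype.ext (by simp [hA, hv, Cfsg.unitaryTransvection]))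
      rw [this]; exact one_mem _
    have hc : c + c ^ q = 0 :=
      (transvection_isometry_iff hF v hv hv0 c).1 (hA ▸ (A.2 : IsUnitary q _))
    have hv' : v 0 * v 0 ^ q + v 1 * v 1 ^ q = 0 := by
      have h0 := hv0
      simpa [Cfsg.hermForm, Fin.sum_univ_two] using h0
    have hw : ι v ∈ centres q M := by
      have hv0' : v 0 ≠ 0 := by
        intro h
        refine hv (funext fun l => ?_)
        rw [h, zero_mul, zero_add, mul_eq_zero] at hv'
        have h1 : v 1 = 0 := hv'.elim id (fun h' => (pow_q_eq_zero hF).1 h')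
        fin_cases l <;> assumption
      exact two_all hF hn hHM hij ha hb hC hij' hv0' hv'
    refine ⟨glTransvection hF (ι v) hw.1 c hc, hw.2 _ c hc rfl, suToGU_mem_suGL _, fun x => ?_⟩
    refine (transvection_mulVec _ _ _).trans ?_
    rw [hA, transvection_mulVec, add_sub_cancel_left, hherm]
    congr 1
    simp only [ι, pairVec, Pi.smul_apply, smul_add, ← Pi.single_smul]
  rw [transvectionGroup_eq_top hF (Or.inr (Or.inr le_rfl))] at htop
  have o := single_orthonormal hF 2
  obtain ⟨γ, hγ⟩ := exists_norm_eq hF (c := v i' * v i' ^ q + v j' * v j' ^ q)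
    (by simp only [add_pow_q hF, mul_pow, pow_q_pow_q hF]; ring)
  have hγ0 : γ ≠ 0 := fun h => hs (by rw [← hγ, h, zero_pow (Nat.succ_ne_zero q)])
  obtain ⟨A, hA⟩ := exists_su_witt hF (u := fun _ : Fin 1 => pr v)
    (w := fun _ => Pi.single (0 : Fin 2) γ)
    (linearIndependent_unique_iff.2 fun h => hs (by
      have h1 : v i' = 0 := congrFun h 0
      have h2 : v j' = 0 := congrFun h 1
      rw [h1, h2]; ring))
    (linearIndependent_unique_iff.2 fun h => hγ0 (by simpa using congrFun h 0))
    (fun _ _ => by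
      simp [Cfsg.hermForm, Fin.sum_univ_two, pr, zero_pow_q hF]
      rw [← hγ, pow_succ']) (o.1 1)
    (fun _ => by simp [hermForm_single_right hF])
  obtain ⟨g, hgM, hg, hgE⟩ := htop (Subgroup.mem_top A)
  refine ⟨g, hgM, hg, ?_, fun r hri hrj => ?_⟩
  · rw [hgE, Pi.add_apply]
    show v j' + pairVec i' j' _ _ j' = 0
    rw [pairVec_right hij', show ((A : Matrix.SpecialLinearGroup (Fin 2) F) : Matrix (Fin 2) (Fin 2) F) *ᵥ
      pr v = Pi.single 0 γ from hA 0]
    simp [pr]
  · rw [hgE, Pi.add_apply]
    show v r + pairVec i' j' _ _ r = v r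
    rw [pairVec_other hri hrj, add_zero]

/-- A centre of weight below n gives SU. -/
theorem mono_le_of_centre (hq : 3 ≤ q) {w : Fin n → F} (hw : w ∈ centres q M) (hw0 : w ≠ 0)
    (hwn : (supp w).card < n) : suGL n F q ≤ M := by
  classical
  have H := hermForm_isHerm hF n
  obtain ⟨i₀, j₀, a₀, b₀, hij₀, ha₀, hb₀, hC⟩ := exists_two_centre hF hn hHM hw hw0 hwn
  suffices ∀ (k : ℕ) (v : Fin n → F), (supp v).card = k → Cfsg.hermForm n F q v v = 0 →
      v ∈ centres q M by
    exact le_of_centres hF (Or.inl (by omega)) fun v hv => this _ v rfl hv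
  intro k
  induction k using Nat.strong_induction_on with
  | _ k ih =>
  intro v hk hv
  -- a pair with non-zero norm sum shrinks the support
  have reduce : ∀ u : Fin n → F, (supp u).card ≤ k → Cfsg.hermForm n F q u u = 0 →
      ∀ {i j : Fin n}, i ≠ j → u i ≠ 0 → u j ≠ 0 → u i * u i ^ q + u j * u j ^ q ≠ 0 →
      u ∈ centres q M := by
    intro u huk hu i j hij hui huj hs
    obtain ⟨g, hgM, hg, hgj, hgo⟩ := exists_pair_move hF hn hHM hij₀ ha₀ hb₀ hC hij hs
    have hlt : (supp ((g : Matrix (Fin n) (Fin n) F) *ᵥ u)).card < k := by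
      refine lt_of_lt_of_le (Finset.card_lt_card ((Finset.ssubset_iff_of_subset ?_).2
        ⟨j, mem_supp.2 huj, fun h => mem_supp.1 h hgj⟩)) huk
      intro r hr
      rw [mem_supp] at hr ⊢
      rcases eq_or_ne r i with rfl | hri
      · exact hui
      rcases eq_or_ne r j with rfl | hrj
      · exact huj
      · rwa [hgo r hri hrj] at hr
    have h := ih _ hlt _ rfl ((mem_suGL_herm hg u u).trans hu)
    have := centres_conj (g := g⁻¹) (inv_mem hgM) (inv_mem hg) h
    rwa [Matrix.mulVec_mulVec, ← Units.val_mul, inv_mul_cancel, Units.val_one, Matrix.one_mulVec] at this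
  rcases Nat.lt_or_ge k 3 with hk3 | hk3
  · rcases Nat.lt_or_ge k 2 with hk2 | hk2
    · -- the zero vector
      have hv0 : v = 0 := by
        funext r
        by_contra hr
        rw [herm_self_supp hF, Finset.sum_eq_single r (fun l hl hlr => absurd
          (Finset.card_le_one.1 (by omega) l hl r (mem_supp.2 hr)) hlr)
          (fun h => absurd (mem_supp.2 hr) h)] at hv
        exact mul_ne_zero hr (pow_ne_zero _ hr) hv
      rw [hv0, ← zero_smul F w]
      exact centres_smul hF hw 0
    · obtain ⟨i, j, hij, he⟩ := Finset.card_eq_two.1 (show (supp v).card = 2 by omega)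
      have hv' : v = pairVec i j (v i) (v j) := funext fun r => by
        rcases eq_or_ne r i with rfl | hri
        · rw [pairVec_left hij]
        rcases eq_or_ne r j with rfl | hrj
        · rw [pairVec_right hij]
        · rw [pairVec_other hri hrj]
          exact eq_zero_of_notMem_supp (by simp [he, hri, hrj])
      rw [hv']
      refine two_all hF hn hHM hij₀ ha₀ hb₀ hC hij (mem_supp.1 (by simp [he])) ?_
      rw [herm_self_supp hF, he, Finset.sum_pair hij] at hv
      exact hv
  obtain ⟨i, hi, j, hj, l, hl, hij, hil, hjl⟩ := Finset.two_lt_card.1 (show 2 < (supp v).card by omega)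
  rw [mem_supp] at hi hj hl
  by_cases h1 : v i * v i ^ q + v j * v j ^ q = 0
  swap
  · exact reduce v hk.le hv hij hi hj h1
  by_cases h2 : v i * v i ^ q + v l * v l ^ q = 0
  swap
  · exact reduce v hk.le hv hil hi hl h2
  by_cases h3 : v j * v j ^ q + v l * v l ^ q = 0
  swap
  · exact reduce v hk.le hv hjl hj hl h3
  -- characteristic two with equal norms
  have h2' : (2 : F) = 0 := by
    have : (2 : F) * (v i * v i ^ q) = 0 := by linear_combination h1 + h2 - h3
    exact (mul_eq_zero.1 this).resolve_right (mul_ne_zero hi (pow_ne_zero _ hi))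
  obtain ⟨α, hα, hη⟩ : ∃ α : F, α ^ (q + 1) = 1 ∧ v i + v l * α ^ q ≠ 0 := by
    by_contra hc
    simp only [not_exists, not_and, not_not] at hc
    obtain ⟨ζ, hζ, hord⟩ := exists_norm_one_gen hF
    have e1 := hc 1 (one_pow _)
    have e2 := hc ζ hζ
    rw [one_pow, mul_one] at e1
    have e3 : ζ ^ q = 1 := mul_left_cancel₀ hl (by linear_combination e2 - e1)
    have e4 : ζ = 1 := by rw [← pow_q_pow_q hF ζ, e3, one_pow]
    rw [e4, orderOf_one] at hord
    omega
  obtain ⟨η, hηdef⟩ : ∃ η, η = v i + v l * α ^ q := ⟨_, rfl⟩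
  rw [← hηdef] at hη
  obtain ⟨c, hc, hc0, hcne⟩ : ∃ c : F, c + c ^ q = 0 ∧ c ≠ 0 ∧
      v i ^ q * η + v i * η ^ q + c * (η * η ^ q) ≠ 0 := by
    by_contra hc
    simp only [not_exists, not_and, not_not] at hc
    have hsub : (Finset.univ.filter fun c : F => c + c ^ q = 0) ⊆
        {0, -(v i ^ q * η + v i * η ^ q) / (η * η ^ q)} := by
      intro c hcs
      by_cases h : c = 0
      · simp [h]
      · have h' := hc c (Finset.mem_filter.1 hcs).2 h
        have hN : η * η ^ q ≠ 0 := mul_ne_zero hη (pow_ne_zero _ hη)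
        simp only [Finset.mem_insert, Finset.mem_singleton]
        right
        field_simp
        linear_combination h'
    have h4 := (Finset.card_le_card hsub).trans Finset.card_le_two
    have h5 := card_trace_zero hF
    rw [Nat.card_eq_fintype_card, Fintype.card_subtype] at h5
    omega
  have hu : pairVec i l (1 : F) α ∈ centres q M := by
    refine two_all hF hn hHM hij₀ ha₀ hb₀ hC hil one_ne_zero ?_
    rw [one_pow, ← pow_succ', hα]; linear_combination h2'
  obtain ⟨v', hv'⟩ : ∃ v', v' = v + (c * η) • pairVec i l (1 : F) α := ⟨_, rfl⟩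
  have hh : Cfsg.hermForm n F q v (pairVec i l (1 : F) α) = η := by
    rw [herm_pairVec hF hn hHM hil, one_pow, mul_one, hηdef]
  have hh' : Cfsg.hermForm n F q v' (pairVec i l (1 : F) α) = η := by
    rw [hv', H.add_left, H.smul_left, hu.1, mul_zero, add_zero, hh]
  have hv'0 : Cfsg.hermForm n F q v' v' = 0 := by
    rw [hv']
    simp only [H.add_left, H.add_right hF, H.smul_left, H.smul_right, hh, hu.1,
      H.conj_symm v (pairVec i l (1 : F) α), mul_pow, hv]
    linear_combination (η * η ^ q) * hc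
  have hsubset : supp v' ⊆ supp v := by
    intro r hr
    rw [mem_supp] at hr ⊢
    intro h0
    apply hr
    rcases eq_or_ne r i with rfl | hri
    · exact absurd h0 hi
    rcases eq_or_ne r l with rfl | hrl
    · exact absurd h0 hl
    · rw [hv', Pi.add_apply, Pi.smul_apply, pairVec_other hri hrl, smul_zero, add_zero, h0]
  have hcard : (supp v').card ≤ k := hk ▸ Finset.card_le_card hsubset
  have back : v' ∈ centres q M → v ∈ centres q M := by
    intro h
    have := centres_step hF hu h (c := -c) (by rw [neg_pow_q hF]; linear_combination -hc)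
    rw [hh'] at this
    have e : v' + (-c * η) • pairVec i l (1 : F) α = v := by rw [hv']; module
    rwa [e] at this
  apply back
  have hi' : v' i = v i + c * η := by
    rw [hv', Pi.add_apply, Pi.smul_apply, pairVec_left hil, smul_eq_mul, mul_one]
  have hj' : v' j = v j := by
    rw [hv', Pi.add_apply, Pi.smul_apply, pairVec_other hij.symm hjl, smul_zero, add_zero]
  by_cases h0 : v' i = 0
  · refine ih _ ?_ v' rfl hv'0
    refine lt_of_lt_of_le (Finset.card_lt_card ((Finset.ssubset_iff_of_subset hsubset).2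
      ⟨i, mem_supp.2 hi, fun h => mem_supp.1 h h0⟩)) hk.le
  refine reduce v' hcard hv'0 hij h0 (hj' ▸ hj) ?_
  rw [hj', hi', add_pow_q hF, mul_pow]
  intro he
  have hcq : c ^ q = c := by linear_combination hc - c * h2'
  rw [hcq] at he
  have : c * (v i ^ q * η + v i * η ^ q + c * (η * η ^ q)) = 0 := by linear_combination he - h1
  exact (mul_ne_zero hc0 hcne) this

end Close

end Cfsg.Agent.Unitary
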