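import Cfsg.Agent.Lib.Unitary.MonoEven
import Cfsg.Agent.Lib.Unitary.EightCert
/-
Overgroups of the monomial subgroup of SU in dimension eight, all q.
* mono_le_point, mono_le_pair (q + 1 ∤ 8, odd), eight_kill_even (even q), eight_kill_odd (q = 3, 7),
  mono_le_eight
-/
set_option autoImplicit false

namespace Cfsg.Agent.Unitary

open scoped Matrix

variable {F : Type*} [Field F] [Fintype F] {q : ℕ}

/-- In a cycle of odd order every element is an eighth power. -/
theorem exists_eighth_root {P : F} (hodd : ¬ 2 ∣ q + 1) (hP : P ^ (q + 1) = 1) :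
    ∃ r : F, r ^ (q + 1) = 1 ∧ r ^ 8 = P := by
  obtain ⟨u, hu⟩ : ∃ u, q + 1 = 2 * u + 1 := ⟨(q + 1) / 2, by omega⟩
  have step : ∀ x : F, x ^ (q + 1) = 1 → (x ^ (u + 1)) ^ (q + 1) = 1 ∧ (x ^ (u + 1)) ^ 2 = x := by
    intro x hx
    refine ⟨by rw [← pow_mul, mul_comm, pow_mul, hx, one_pow], ?_⟩
    rw [← pow_mul, show (u + 1) * 2 = (q + 1) + 1 by omega, pow_succ, hx, one_mul]
  obtain ⟨h1, e1⟩ := step P hP
  obtain ⟨h2, e2⟩ := step _ h1
  obtain ⟨h3, e3⟩ := step _ h2
  refine ⟨_, h3, ?_⟩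
  rw [show (8 : ℕ) = 2 * 2 * 2 by norm_num, pow_mul, pow_mul, e3, e2, e1]

/-- Eight norms of sum one contain a pair of sum neither 0 nor 1, away from characteristics 2, 3. -/
theorem exists_eight_pair (h2 : (2 : F) ≠ 0) (h3 : (3 : F) ≠ 0) {N : Fin 8 → F} (hN : ∀ j, N j ≠ 0)
    (hs : ∑ j, N j = 1) : ∃ k l, k ≠ l ∧ N k + N l ≠ 0 ∧ N k + N l ≠ 1 := by
  classical
  by_contra! hc
  have hor : ∀ k l, k ≠ l → N k + N l = 0 ∨ N k + N l = 1 := fun k l h =>
    Classical.or_iff_not_imp_left.2 (hc k l h)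
  have half : ∀ a b, a ≠ b → N a = N b → 2 * N a = 1 := fun a b h e => by
    rcases hor a b h with h' | h'
    · exact absurd (show N a = 0 from
        (mul_eq_zero.1 (show (2 : F) * N a = 0 by linear_combination h' + e)).resolve_left h2) (hN a)
    · linear_combination h' + e
  by_cases hall : ∀ b, N b = N 0
  · rw [Finset.sum_congr rfl (fun j _ => hall j), Finset.sum_const, Finset.card_univ, Fintype.card_fin,
      nsmul_eq_mul, Nat.cast_ofNat] at hs
    have h := half 0 1 (by decide) (hall 1).symm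
    exact h3 (by linear_combination hs - 4 * h)
  simp only [not_forall] at hall
  obtain ⟨b, hb⟩ := hall
  have hb0 : (0 : Fin 8) ≠ b := fun h => hb (by rw [h])
  have key : ∀ c, c ≠ 0 → c ≠ b → 2 * N c = 1 - (N 0 + N b) := by
    intro c h0 hcb
    rcases hor 0 c h0.symm with e | e <;> rcases hor b c hcb.symm with e' | e'
    · exact absurd (show N b = N 0 by linear_combination e' - e) hb
    · linear_combination e + e'
    · linear_combination e + e'
    · exact absurd (show N b = N 0 by linear_combination e' - e) hb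
  set S := ({0, b} : Finset (Fin 8))ᶜ with hS
  have hSc : S.card = 6 := by rw [hS, Finset.card_compl, Fintype.card_fin, Finset.card_pair hb0]
  obtain ⟨c, hc1, c', hc1', hcc⟩ := Finset.one_lt_card.1 (show 1 < S.card by omega)
  have hmem : ∀ c ∈ S, c ≠ 0 ∧ c ≠ b := fun c hc => by simpa [hS, not_or] using hc
  have e : N c = N c' := mul_left_cancel₀ h2
    ((key c (hmem c hc1).1 (hmem c hc1).2).trans (key c' (hmem c' hc1').1 (hmem c' hc1').2).symm)
  have h1 : 2 * N c = 1 := half c c' hcc e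
  have hsb : N 0 + N b = 0 := by linear_combination key c (hmem c hc1).1 (hmem c hc1).2 - h1
  have hall' : ∀ d ∈ S, N d = N c := fun d hd => mul_left_cancel₀ h2
    ((key d (hmem d hd).1 (hmem d hd).2).trans (key c (hmem c hc1).1 (hmem c hc1).2).symm)
  rw [← Finset.sum_add_sum_compl {0, b}, Finset.sum_pair hb0, ← hS, Finset.sum_congr rfl hall',
    Finset.sum_const, hSc, nsmul_eq_mul, Nat.cast_ofNat, hsb] at hs
  exact h2 (by linear_combination hs - 3 * h1)

section Block

variable {n : ℕ} {M : Subgroup (Matrix.GeneralLinearGroup (Fin n) F)} (hF : Fintype.card F = q ^ 2)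
  (hn : 5 ≤ n) (hHM : ∀ g ∈ suGL n F q, IsMon g → g ∈ M)
include hF hn hHM

/-- One coordinate as a block. -/
theorem mono_le_point (hq : 3 ≤ q) (hMK : M ≤ suGL n F q) {ζ m : F} (hζ : ζ ^ (q + 1) = 1)
    (hd : ∀ d : ℕ, 1 ≤ d → d ≤ 3 → ζ ^ (n * d) ≠ 1) (hm : m ^ (q + 1) = 1) (hm1 : m ≠ 1)
    (hcols : ∀ g ∈ M, ∀ i : Fin n, Linked q M m ((g : Matrix (Fin n) (Fin n) F) *ᵥ Pi.single i 1))
    {x : Fin n → F} (hx : Cfsg.hermForm n F q x x = 1) (hall : ∀ j, x j ≠ 0)
    {X : Matrix.GeneralLinearGroup (Fin n) F} (hXM : X ∈ M)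
    (hX : ∀ v, (X : Matrix (Fin n) (Fin n) F) *ᵥ v = ζ • ((glRefl q x m : Matrix (Fin n) (Fin n) F) *ᵥ v))
    {k : Fin n} (hk : x k * x k ^ q ≠ 1) : suGL n F q ≤ M := by
  classical
  have hζ0 : ζ ≠ 0 := fun h => by simp [h] at hζ
  have hζe : ∀ e : ℕ, (ζ ^ e) ^ (q + 1) = 1 := fun e => by rw [← pow_mul, mul_comm, pow_mul, hζ, one_pow]
  choose T hTM _hTU _hTm hTx using fun e : Fin 4 => exists_diagM hF hHM
    (fun j => ζ ^ (e : ℕ) * if j ∈ ({k} : Finset (Fin n)) then (ζ ^ (n * (e : ℕ)))⁻¹ else 1)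
    (fun j => by
      rw [mul_pow, hζe, one_mul]
      split_ifs
      exacts [inv_pow_succ _ (hζe _), one_pow _])
    (by
      rw [Finset.prod_mul_distrib, Finset.prod_ite_mem, Finset.univ_inter, Finset.prod_singleton,
        Finset.prod_const, Finset.card_univ, Fintype.card_fin, ← pow_mul, mul_comm (e : ℕ) n,
        mul_inv_cancel₀ (pow_ne_zero _ hζ0)])
  have hν : Function.Injective fun e : Fin 4 => (ζ ^ (n * (e : ℕ)))⁻¹ := by
    intro a b h
    by_contra hne
    wlog hlt : (a : ℕ) < (b : ℕ) generalizing a b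
    · exact this h.symm (Ne.symm hne) (lt_of_le_of_ne (not_lt.1 hlt) fun e => hne (Fin.ext e.symm))
    refine hd ((b : ℕ) - (a : ℕ)) (by omega) (by omega)
      (mul_left_cancel₀ (pow_ne_zero (n * (a : ℕ)) hζ0) ?_)
    rw [← pow_add, mul_one, ← mul_add, Nat.add_sub_cancel' hlt.le]
    exact (inv_injective h).symm
  have hsum : ∑ j ∈ ({k} : Finset (Fin n)), x j * x j ^ q = x k * x k ^ q := Finset.sum_singleton _ _
  obtain ⟨g, hgM, cA, cB, d, d', h1, -, -, -⟩ := exists_restr_swap hF hMK hx {k}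
    (by rw [hsum]; exact mul_ne_zero (hall k) (pow_ne_zero _ (hall k))) (by rw [hsum]; exact hk) hm hm1
    hXM hX T (fun e => (ζ ^ (n * (e : ℕ)))⁻¹) hν hTM
    (fun e => ⟨ζ ^ (e : ℕ), pow_ne_zero _ hζ0, fun v j => hTx e v j⟩)
  have e : restr ({k} : Finset (Fin n)) x = x k • Pi.single k 1 := funext fun j => by
    rcases eq_or_ne j k with rfl | hj
    · simp [restr]
    · simp [restr, hj]
  rw [e, Matrix.mulVec_smul] at h1
  have hsupp : supp ((g : Matrix (Fin n) (Fin n) F) *ᵥ Pi.single k 1) = ({k} : Finset (Fin n))ᶜ := by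
    have hd : d ≠ 0 := by
      rintro rfl
      rw [zero_smul, smul_eq_zero] at h1
      have h2 := Matrix.mulVec_injective_iff_isUnit.2 (Units.isUnit g)
        ((h1.resolve_left (hall k)).trans (Matrix.mulVec_zero _).symm)
      simpa using congrFun h2 k
    ext j
    have e1 := congrFun h1 j
    rw [Pi.smul_apply, Pi.smul_apply, smul_eq_mul, smul_eq_mul] at e1
    rw [mem_supp]
    constructor
    · intro hj
      by_contra hjk
      rw [restr_notMem hjk, mul_zero] at e1
      exact mul_ne_zero (hall k) hj e1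
    · intro hj h0
      rw [restr_mem hj, h0, mul_zero] at e1
      exact mul_ne_zero hd (hall j) e1.symm
  have hc : (supp ((g : Matrix (Fin n) (Fin n) F) *ᵥ Pi.single k 1)).card = n - 1 := by
    rw [hsupp, Finset.card_compl, Fintype.card_fin, Finset.card_singleton]
  exact mono_le_of_linked hF hn hHM hq hm (hcols g hgM k)
    (not_mon_of_three hF (hcols g hgM k).1 hm hm1 (by omega)) (by omega)

/-- Two coordinates as a block: scalars c^e and values ν^e on the block, c^n ν² = 1. -/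
theorem mono_le_pair (hq : 4 ≤ q) (hMK : M ≤ suGL n F q) {ζ m c ν : F} (hc : c ^ (q + 1) = 1)
    (hν : ν ^ (q + 1) = 1) (hcν : c ^ n * (ν * ν) = 1) (hd : ∀ d : ℕ, 1 ≤ d → d ≤ 3 → ν ^ d ≠ 1)
    (hm : m ^ (q + 1) = 1) (hm1 : m ≠ 1)
    {x : Fin n → F} (hx : Cfsg.hermForm n F q x x = 1) (hall : ∀ j, x j ≠ 0) {k l : Fin n} (hkl : k ≠ l)
    (hN0 : x k * x k ^ q + x l * x l ^ q ≠ 0) (hN1 : x k * x k ^ q + x l * x l ^ q ≠ 1)
    {X : Matrix.GeneralLinearGroup (Fin n) F} (hXM : X ∈ M)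
    (hX : ∀ v, (X : Matrix (Fin n) (Fin n) F) *ᵥ v = ζ • ((glRefl q x m : Matrix (Fin n) (Fin n) F) *ᵥ v)) :
    suGL n F q ≤ M := by
  classical
  have hc0 : c ≠ 0 := fun h => by simp [h] at hc
  have hν0 : ν ≠ 0 := fun h => by simp [h] at hν
  choose T hTM _hTU _hTm hTx using fun e : Fin 4 => exists_diagM hF hHM
    (fun j => c ^ (e : ℕ) * if j ∈ ({k, l} : Finset (Fin n)) then ν ^ (e : ℕ) else 1)
    (fun j => by
      rw [mul_pow, ← pow_mul, mul_comm (e : ℕ), pow_mul, hc, one_pow, one_mul]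
      split_ifs
      · rw [← pow_mul, mul_comm, pow_mul, hν, one_pow]
      · exact one_pow _)
    (by
      rw [Finset.prod_mul_distrib, Finset.prod_ite_mem, Finset.univ_inter, Finset.prod_pair hkl,
        Finset.prod_const, Finset.card_univ, Fintype.card_fin, ← pow_mul, mul_comm (e : ℕ) n, pow_mul,
        ← mul_pow, ← mul_pow, hcν, one_pow])
  have hinj : Function.Injective fun e : Fin 4 => ν ^ (e : ℕ) := by
    intro a b h
    by_contra hne
    wlog hlt : (a : ℕ) < (b : ℕ) generalizing a b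
    · exact this h.symm (Ne.symm hne) (lt_of_le_of_ne (not_lt.1 hlt) fun e => hne (Fin.ext e.symm))
    refine hd ((b : ℕ) - (a : ℕ)) (by omega) (by omega)
      (mul_left_cancel₀ (pow_ne_zero (a : ℕ) hν0) ?_)
    rw [← pow_add, mul_one, Nat.add_sub_cancel' hlt.le]
    exact h.symm
  have hsum : ∑ j ∈ ({k, l} : Finset (Fin n)), x j * x j ^ q = x k * x k ^ q + x l * x l ^ q :=
    Finset.sum_pair hkl
  obtain ⟨σ, hσM, cA, cB, d, d', h1, h2', h3', h4⟩ := exists_restr_swap hF hMK hx {k, l}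
    (by rw [hsum]; exact hN0) (by rw [hsum]; exact hN1) hm hm1 hXM hX
    T (fun e => ν ^ (e : ℕ)) hinj hTM (fun e => ⟨c ^ (e : ℕ), pow_ne_zero _ hc0, fun v j => hTx e v j⟩)
  exact mono_le_of_block hF hn hHM hq hMK hkl (hall k) (hall l) hN0 hN1 hx hσM h1 h2' h3' h4
    hν (hd 2 (by norm_num) (by norm_num)) hc0 (hTM 1) (fun v j => by simpa using hTx 1 v j)

end Block

section Eight

variable {M : Subgroup (Matrix.GeneralLinearGroup (Fin 8) F)} (hF : Fintype.card F = q ^ 2)
  (hHM : ∀ g ∈ suGL 8 F q, IsMon g → g ∈ M)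
include hF hHM

/-- Killing a coordinate in characteristic two. -/
theorem eight_kill_even (h2 : (2 : F) = 0) (v : Fin 8 → F) (hall : ∀ r, v r ≠ 0)
    (_hv : Cfsg.hermForm 8 F q v v = 0) : ∃ h ∈ M, h ∈ suGL 8 F q ∧
      3 ≤ (supp (v + Cfsg.hermForm 8 F q v ((h : Matrix (Fin 8) (Fin 8) F) *ᵥ v) •
        ((h : Matrix (Fin 8) (Fin 8) F) *ᵥ v))).card ∧
      (supp (v + Cfsg.hermForm 8 F q v ((h : Matrix (Fin 8) (Fin 8) F) *ᵥ v) •
        ((h : Matrix (Fin 8) (Fin 8) F) *ᵥ v))).card < 8 := by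
  classical
  obtain ⟨ζ, hζ, -, hζ1⟩ := exists_gen_ne_one hF
  set N : Fin 8 → F := fun j => v j * v j ^ q with hNdef
  have hN0 : ∀ j, N j ≠ 0 := fun j => mul_ne_zero (hall j) (pow_ne_zero _ (hall j))
  obtain ⟨l, hl, hls⟩ := exists_sum4 hF (fun i : Fin 4 => N (i.natAdd 4)) (fun i => hN0 _)
    ((-(1 : F)⁻¹) ^ q - N 0 - ζ * (N 1 + N 2 + N 3))
  let L : Fin 8 → F := ![1, ζ, ζ, ζ, l 0, l 1, l 2, l 3]
  have hL : ∀ j, L j ^ (q + 1) = 1 := fun j => by fin_cases j <;> simp [L, hl, hζ]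
  obtain ⟨ρ, hρ, hρ8⟩ := exists_eighth_root (q := q) (not_two_dvd_of_two_eq_zero hF h2)
    (P := (∏ j, L j)⁻¹)
    (inv_pow_succ _ (by rw [← Finset.prod_pow]; exact Finset.prod_eq_one fun j _ => hL j))
  obtain ⟨h, hhM, hh, -, h3', hlt'⟩ := exists_kill_of_diag hF (by norm_num) hHM hall (one_ne_zero (α := F))
    ⟨L, ρ, 0, hL, hρ, rfl, by
      rw [Fin.sum_univ_four] at hls
      simp [L, Fin.sum_univ_eight]
      simp [hNdef] at hls
      linear_combination hls,
    by
      rw [Finset.prod_mul_distrib, Finset.prod_const, Finset.card_univ, Fintype.card_fin, hρ8,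
        inv_mul_cancel₀]
      exact Finset.prod_ne_zero_iff.2 fun j _ h => by simpa [h] using hL j,
    le_trans (show 3 ≤ ({1, 2, 3} : Finset (Fin 8)).card by decide) (Finset.card_le_card fun j hj =>
      Finset.mem_filter.2 ⟨Finset.mem_univ _, by
        simp only [Finset.mem_insert, Finset.mem_singleton] at hj
        rcases hj with rfl | rfl | rfl <;> simpa [L] using hζ1⟩)⟩
  rw [one_mul] at h3' hlt'
  exact ⟨h, hhM, hh, h3', hlt'⟩

/-- Killing a coordinate from a certificate over the prime field. -/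
theorem eight_kill_of_cert {k r : ℕ} [Fact r.Prime] (hk : k < 8) (hqr : q = r) (hr2 : r % 2 = 1)
    {i : F} (hi : i * i = -1) (hiq : i ^ q = -i) (φ : ZMod r →+* F)
    {x : Fin 8 → F} (hall : ∀ j, x j ≠ 0) (hx : Cfsg.hermForm 8 F q x x = 1)
    (f : Fin k → Fin 8) (hf : Function.Injective f) (w : Fin k → ZMod r)
    (hw : ∀ a, φ (w a) = x (f a) * x (f a) ^ q)
    (C : Fin k → ZMod r × ZMod r) (hC : GoodCert w C) :
    ∃ h ∈ M, h ∈ suGL 8 F q ∧ IsMon h ∧
      3 ≤ (supp (x + ((-1 - 1 : F) * Cfsg.hermForm 8 F q x ((h : Matrix (Fin 8) (Fin 8) F) *ᵥ x)) •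
        ((h : Matrix (Fin 8) (Fin 8) F) *ᵥ x))).card ∧
      (supp (x + ((-1 - 1 : F) * Cfsg.hermForm 8 F q x ((h : Matrix (Fin 8) (Fin 8) F) *ᵥ x)) •
        ((h : Matrix (Fin 8) (Fin 8) F) *ᵥ x))).card < 8 := by
  classical
  obtain ⟨hnorm, hprod, hre, him, h3⟩ := hC
  have hφq : ∀ a, φ a ^ q = φ a := fun a => by rw [← map_pow, hqr, ZMod.pow_card]
  let pt : ZMod r × ZMod r → F := fun a => φ a.1 + φ a.2 * i
  have hpt1 : pt (1, 0) = 1 := by simp [pt]
  have hptn : ∀ a, pt (C a) ^ (q + 1) = 1 := fun a => by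
    simp only [pt]
    rw [pow_succ, add_pow_q hF, mul_pow, hφq, hφq, hiq]
    have e := congrArg φ (hnorm a)
    rw [map_add, map_mul, map_mul, map_one] at e
    linear_combination e - φ (C a).2 * φ (C a).2 * hi
  have hptl : ∀ l : List (ZMod r × ZMod r), (l.map pt).prod = pt (gaussProd l) := by
    intro l
    induction l with
    | nil => simp [gaussProd, hpt1]
    | cons a l ih =>
      rw [List.map_cons, List.prod_cons, ih]
      simp only [pt, gaussProd, map_add, map_sub, map_mul]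
      linear_combination φ a.2 * φ (gaussProd l).2 * hi
  have hptne : ∀ a, C a ≠ (1, 0) → pt (C a) ≠ 1 := fun a ha h => by
    refine ha ?_
    have h' : φ ((C a).1 - 1) + φ (C a).2 * i = 0 := by
      simp only [pt] at h
      rw [map_sub, map_one]
      linear_combination h
    have hq' := congrArg (fun z : F => z ^ q) h'
    simp only [add_pow_q hF, mul_pow, hφq, hiq, zero_pow (show q ≠ 0 by omega)] at hq'
    have h2F : (2 : F) ≠ 0 := fun h0 => by
      have h2' : ((2 : ℕ) : ZMod r) = 0 := φ.injective (by rw [map_natCast, map_zero]; push_cast; exact h0)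
      have := Nat.le_of_dvd (by norm_num) ((ZMod.natCast_eq_zero_iff 2 r).1 h2')
      have := (Fact.out : r.Prime).two_le
      omega
    have e1 : φ ((C a).1 - 1) = 0 :=
      (mul_eq_zero.1 (show (2 : F) * φ ((C a).1 - 1) = 0 by linear_combination h' + hq')).resolve_left h2F
    have e2 : φ (C a).2 = 0 := by
      rw [e1, zero_add] at h'
      exact (mul_eq_zero.1 h').resolve_right (fun h0 => by simp [h0] at hi)
    exact Prod.ext (sub_eq_zero.1 (φ.injective (e1.trans (map_zero φ).symm)))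
      (φ.injective (e2.trans (map_zero φ).symm))
  let L : Fin 8 → F := Function.extend f (fun a => pt (C a)) 1
  have hLf : ∀ a, L (f a) = pt (C a) := fun a => hf.extend_apply _ _ _
  have hLo : ∀ j, (¬ ∃ a, f a = j) → L j = 1 := fun j hj => Function.extend_apply' _ _ _ hj
  obtain ⟨t, ht⟩ : ∃ t : Fin 8, ¬ ∃ a, f a = t := by
    by_contra! hc
    have := Fintype.card_le_of_surjective f hc
    simp at this
    omega
  have hsplit : ∀ g : Fin 8 → F, (∀ j, (¬ ∃ a, f a = j) → g j = 0) → ∑ j, g j = ∑ a, g (f a) := by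
    intro g hg
    rw [← Finset.sum_subset (Finset.subset_univ (Finset.univ.map ⟨f, hf⟩)) (fun j _ hj => hg j
      fun ⟨a, ha⟩ => hj (Finset.mem_map.2 ⟨a, Finset.mem_univ _, ha⟩)), Finset.sum_map]
    rfl
  have hκ : (-1 - 1 : F) ≠ 0 := fun h0 => by
    have h2' : ((2 : ℕ) : ZMod r) = 0 := φ.injective (by rw [map_natCast, map_zero]; push_cast; linear_combination -h0)
    have := Nat.le_of_dvd (by norm_num) ((ZMod.natCast_eq_zero_iff 2 r).1 h2')
    have := (Fact.out : r.Prime).two_le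
    omega
  refine exists_kill_of_diag hF (by norm_num) hHM hall hκ ⟨L, 1, t, fun j => ?_, one_pow _, hLo t ht, ?_, ?_, ?_⟩
  · by_cases hj : ∃ a, f a = j
    · obtain ⟨a, rfl⟩ := hj
      rw [hLf]; exact hptn a
    · rw [hLo j hj, one_pow]
  · have e : ∑ j, x j * x j ^ q * L j = 1 + ∑ a, φ (w a) * (pt (C a) - 1) := by
      have := hsplit (fun j => x j * x j ^ q * (L j - 1)) (fun j hj => by rw [hLo j hj, sub_self, mul_zero])
      simp only [hLf, ← hw] at this
      have hs : ∑ j, x j * x j ^ q = 1 := hx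
      rw [← this, Finset.sum_congr rfl (fun j _ => mul_sub (x j * x j ^ q) (L j) 1), Finset.sum_sub_distrib]
      simp only [mul_one]
      rw [hs]
      ring
    rw [e]
    have er : ∑ a, φ (w a) * (pt (C a) - 1) =
        φ (∑ a, w a * ((C a).1 - 1)) + φ (∑ a, w a * (C a).2) * i := by
      rw [map_sum, map_sum, Finset.sum_mul, ← Finset.sum_add_distrib]
      refine Finset.sum_congr rfl fun a _ => ?_
      simp only [pt, map_mul, map_sub, map_one]
      ring
    rw [er, him, map_zero, zero_mul, add_zero]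
    have ev := congrArg φ hre
    rw [map_mul, map_add, map_one, map_ofNat] at ev
    have hT : (-(-1 - 1 : F)⁻¹) ^ q = φ ((2 : ZMod r)⁻¹) := by
      rw [show (-(-1 - 1 : F)⁻¹) = φ ((2 : ZMod r)⁻¹) by
        rw [← inv_neg, map_inv₀, map_ofNat]; congr 1; ring, hφq]
    rw [hT, map_inv₀, map_ofNat]
    exact eq_inv_of_mul_eq_one_right ev
  · simp only [one_mul]
    rw [← Finset.prod_subset (Finset.subset_univ (Finset.univ.map ⟨f, hf⟩)) (fun j _ hj => hLo j
      fun ⟨a, ha⟩ => hj (Finset.mem_map.2 ⟨a, Finset.mem_univ _, ha⟩)), Finset.prod_map]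
    simp only [Function.Embedding.coeFn_mk, hLf]
    rw [← List.prod_ofFn, show (fun a => pt (C a)) = pt ∘ C from rfl, ← List.map_ofFn, hptl, hprod, hpt1]
  · refine h3.trans ((Finset.card_image_of_injective _ hf).ge.trans (Finset.card_le_card fun j hj => ?_))
    obtain ⟨a, ha, rfl⟩ := Finset.mem_image.1 hj
    exact Finset.mem_filter.2 ⟨Finset.mem_univ _, by rw [hLf]; exact hptne a (Finset.mem_filter.1 ha).2⟩

/-- Killing a coordinate for q = 3 and q = 7. -/
theorem eight_kill_odd (hq37 : q = 3 ∨ q = 7) {x : Fin 8 → F} (hall : ∀ j, x j ≠ 0)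
    (hx : Cfsg.hermForm 8 F q x x = 1) :
    ∃ h ∈ M, h ∈ suGL 8 F q ∧ IsMon h ∧
      3 ≤ (supp (x + ((-1 - 1 : F) * Cfsg.hermForm 8 F q x ((h : Matrix (Fin 8) (Fin 8) F) *ᵥ x)) •
        ((h : Matrix (Fin 8) (Fin 8) F) *ᵥ x))).card ∧
      (supp (x + ((-1 - 1 : F) * Cfsg.hermForm 8 F q x ((h : Matrix (Fin 8) (Fin 8) F) *ᵥ x)) •
        ((h : Matrix (Fin 8) (Fin 8) F) *ᵥ x))).card < 8 := by
  classical
  obtain ⟨ζ, hζ, hord, -⟩ := exists_gen_ne_one hF
  obtain ⟨i, hi, hi1⟩ : ∃ i : F, i * i = -1 ∧ i ^ (q + 1) = 1 := by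
    obtain ⟨s, hs⟩ : ∃ s, q + 1 = 4 * s := ⟨(q + 1) / 4, by omega⟩
    refine ⟨ζ ^ s, ?_, by rw [← pow_mul, mul_comm, pow_mul, hζ, one_pow]⟩
    have h4 : (ζ ^ s * ζ ^ s - 1) * (ζ ^ s * ζ ^ s + 1) = 0 := by
      rw [hs] at hζ
      linear_combination hζ
    refine eq_neg_of_add_eq_zero_left ((mul_eq_zero.1 h4).resolve_left fun h0 => ?_)
    have := Nat.le_of_dvd (by omega)
      (hord ▸ orderOf_dvd_of_pow_eq_one (show ζ ^ (s + s) = 1 by rw [pow_add]; linear_combination h0))
    omega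
  have hiq : i ^ q = -i := by
    have hi0 : i ≠ 0 := fun h0 => by simp [h0] at hi
    refine mul_right_cancel₀ hi0 ?_
    rw [← pow_succ, hi1]
    linear_combination hi
  have hr : q.Prime := by rcases hq37 with h | h <;> subst h <;> norm_num
  haveI : Fact q.Prime := ⟨hr⟩
  haveI : CharP F q := by
    obtain ⟨p, hp⟩ := CharP.exists F
    obtain ⟨e, hpp, he⟩ := FiniteField.card F p
    rw [hF] at he
    obtain rfl : p = q := (Nat.prime_dvd_prime_iff_eq hpp hr).1
      (hpp.dvd_of_dvd_pow (n := 2) (he ▸ dvd_pow_self p e.ne_zero))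
    exact hp
  let φ : ZMod q →+* F := ZMod.castHom dvd_rfl F
  have hfix : ∀ y : F, y ≠ 0 → y ^ q = y → ∃ a : ZMod q, a ≠ 0 ∧ φ a = y := by
    intro y hy0 hy
    by_contra! hc
    let p : Polynomial F := Polynomial.X ^ q - Polynomial.X
    have hdeg : p.natDegree = q := FiniteField.X_pow_card_sub_X_natDegree_eq F hr.one_lt
    have hp0 : p ≠ 0 := FiniteField.X_pow_card_sub_X_ne_zero F hr.one_lt
    have hnot : y ∉ (Finset.univ : Finset (ZMod q)).image φ := fun h => by
      obtain ⟨a, -, rfl⟩ := Finset.mem_image.1 h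
      rcases eq_or_ne a 0 with rfl | ha
      exacts [hy0 (map_zero φ), hc a ha rfl]
    have h1 : (insert y ((Finset.univ : Finset (ZMod q)).image φ)).card ≤ q := by
      calc _ ≤ p.roots.toFinset.card := Finset.card_le_card fun z hz => by
            rw [Multiset.mem_toFinset, Polynomial.mem_roots hp0]
            rcases Finset.mem_insert.1 hz with rfl | hz
            · simp [p, hy]
            · obtain ⟨a, -, rfl⟩ := Finset.mem_image.1 hz
              simp [p, ← map_pow, ZMod.pow_card]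
        _ ≤ p.roots.card := Multiset.toFinset_card_le _
        _ ≤ q := hdeg ▸ p.card_roots'
    rw [Finset.card_insert_of_notMem hnot, Finset.card_image_of_injective _ φ.injective,
      Finset.card_univ, ZMod.card] at h1
    omega
  choose W hW0 hW using fun j : Fin 8 => hfix (x j * x j ^ q)
    (mul_ne_zero (hall j) (pow_ne_zero _ (hall j))) (by rw [mul_pow, pow_q_pow_q hF, mul_comm])
  rcases hq37 with h | h <;> subst h
  · have hidx : ∀ j, ∃ a, nonzeroThree a = W j := fun j => by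
      exact exists_nonzeroThree _ (hW0 j)
    choose idx hidx using hidx
    let f₀ : Fin 4 → Fin 8 := Fin.castAdd 4
    let σ := Tuple.sort (idx ∘ f₀)
    have hm := Tuple.monotone_sort (idx ∘ f₀)
    obtain ⟨C, -, hC⟩ := exists_cert_three _ _ _ _ (hm (show (0 : Fin 4) ≤ 1 by decide))
      (hm (show (1 : Fin 4) ≤ 2 by decide)) (hm (show (2 : Fin 4) ≤ 3 by decide))
    refine eight_kill_of_cert hF hHM (k := 4) (by norm_num) rfl (by norm_num) hi hiq φ hall hx
      (fun a => f₀ (σ a)) ((Fin.castAdd_injective 4 4).comp σ.injective) _ (fun a => ?_) C hC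
    rw [← hW]
    congr 1
    fin_cases a <;> simp [σ, hidx]
  · have hidx : ∀ j, ∃ a, nonzeroSeven a = W j := fun j => by
      exact exists_nonzeroSeven _ (hW0 j)
    choose idx hidx using hidx
    let f₀ : Fin 5 → Fin 8 := Fin.castAdd 3
    let σ := Tuple.sort (idx ∘ f₀)
    have hm := Tuple.monotone_sort (idx ∘ f₀)
    obtain ⟨C, -, hC⟩ := exists_cert_seven _ _ (hm (show (0 : Fin 5) ≤ 1 by decide)) _
      (hm (show (1 : Fin 5) ≤ 2 by decide)) _ (hm (show (2 : Fin 5) ≤ 3 by decide)) _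
      (hm (show (3 : Fin 5) ≤ 4 by decide))
    refine eight_kill_of_cert hF hHM (k := 5) (by norm_num) rfl (by norm_num) hi hiq φ hall hx
      (fun a => f₀ (σ a)) ((Fin.castAdd_injective 5 3).comp σ.injective) _ (fun a => ?_) C hC
    rw [← hW]
    congr 1
    fin_cases a <;> simp [σ, hidx]

/-- An overgroup of the monomial group in dimension eight. -/
theorem mono_le_eight (hMK : M ≤ suGL 8 F q) {g : Matrix.GeneralLinearGroup (Fin 8) F}
    (hgM : g ∈ M) (hgm : ¬ IsMon g) : suGL 8 F q ≤ M := by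
  classical
  have hq2 := two_le_q hF
  have hcast : ((q ^ 2 : ℕ) : F) = 0 := hF ▸ FiniteField.cast_card_eq_zero F
  by_cases h2 : (2 : F) = 0
  · rcases Nat.lt_or_ge q 3 with hq | hq
    · exact mono_le_two hF (by norm_num) hHM (by omega) h2 (eight_kill_even hF hHM h2) hgM (hMK hgM) hgm
    · exact mono_le_even_big hF (by norm_num) hHM hq h2 (eight_kill_even hF hHM h2) hgM (hMK hgM) hgm
  have hq : 3 ≤ q := by
    by_contra hc
    obtain rfl : q = 2 := by omega
    push_cast at hcast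
    exact mul_ne_zero h2 h2 (by linear_combination hcast)
  by_cases hdvd : q + 1 ∣ 8
  · have hq37 : q = 3 ∨ q = 7 := by
      have h1 : q + 1 ≤ 8 := Nat.le_of_dvd (by norm_num) hdvd
      have h7 : q ≤ 7 := by omega
      interval_cases q <;> omega
    exact mono_le_of_dvd_of_cols hF (by norm_num) hHM (by norm_num) hq h2 hMK hdvd
      (fun _ hM hm hc => mono_le_of_cols_of_kill hF (by norm_num) hHM hq hdvd h2 hM (hMK hM) hm hc
        fun _ hall hx => eight_kill_odd hF hHM hq37 hall hx) hgM hgm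
  obtain ⟨ζ, m, hζ, hord, hm, hm1, -, hall'⟩ := exists_scalar_cols hF (by norm_num) hHM hMK hdvd
  have hcols : ∀ g ∈ M, ∀ i, Linked q M m ((g : Matrix (Fin 8) (Fin 8) F) *ᵥ Pi.single i 1) :=
    fun g hgM i => (hall' g hgM i).1
  obtain ⟨x, hx, hxm, hor⟩ := exists_good hF (by norm_num) hHM hm hm1 hgM (hMK hgM) hgm (hcols g hgM)
  by_cases hfull : (supp x).card < 8
  · exact mono_le_of_linked hF (by norm_num) hHM hq hm hx hxm hfull
  obtain ⟨i, hi⟩ := hor.resolve_right hfull
  have hall : ∀ j, x j ≠ 0 := fun j hj => hfull (lt_of_lt_of_eq (Finset.card_lt_card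
    ((Finset.ssubset_iff_of_subset (Finset.subset_univ _)).2
      ⟨j, Finset.mem_univ _, fun h => mem_supp.1 h hj⟩)) (by rw [Finset.card_univ, Fintype.card_fin]))
  obtain ⟨X, hXM, hX⟩ := (hall' g hgM i).2
  rw [← hi] at hX
  have hζe : ∀ e : ℕ, (ζ ^ e) ^ (q + 1) = 1 := fun e => by
    rw [← pow_mul, mul_comm, pow_mul, hζ, one_pow]
  have hζd : ∀ e : ℕ, ¬ q + 1 ∣ e → ζ ^ e ≠ 1 := fun e he h =>
    he (hord ▸ orderOf_dvd_of_pow_eq_one h)
  by_cases hpt : (∃ k, x k * x k ^ q ≠ 1) ∧ ¬ q + 1 ∣ 16 ∧ ¬ q + 1 ∣ 24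
  · obtain ⟨⟨k, hk⟩, h16, h24⟩ := hpt
    exact mono_le_point hF (by norm_num) hHM hq hMK hζ (fun d h1 h3 => by
      interval_cases d
      exacts [hζd _ hdvd, hζd _ h16, hζd _ h24]) hm hm1 hcols hx.1 hall hXM hX hk
  have hq15 : q ≠ 15 := by
    rintro rfl
    obtain ⟨p, hp⟩ := CharP.exists F
    obtain ⟨e, hpp, he⟩ := FiniteField.card F p
    rw [hF] at he
    have d3 : 3 ∣ p ^ (e : ℕ) := he ▸ (by norm_num)
    have d5 : 5 ∣ p ^ (e : ℕ) := he ▸ (by norm_num)
    have e3 := (Nat.prime_dvd_prime_iff_eq Nat.prime_three hpp).1 (Nat.prime_three.dvd_of_dvd_pow d3)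
    have e5 := (Nat.prime_dvd_prime_iff_eq Nat.prime_five hpp).1 (Nat.prime_five.dvd_of_dvd_pow d5)
    omega
  have hcase : (7 : F) = 0 ∨ q = 5 ∨ q = 11 ∨ q = 23 := by
    by_cases h1 : ∀ k, x k * x k ^ q = 1
    · left
      have hs : ∑ j, x j * x j ^ q = 1 := hx.1
      rw [Finset.sum_congr rfl (fun j _ => h1 j), Finset.sum_const, Finset.card_univ, Fintype.card_fin,
        nsmul_eq_mul, Nat.cast_ofNat, mul_one] at hs
      linear_combination hs
    · right
      simp only [not_forall] at h1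
      have hor : q + 1 ∣ 16 ∨ q + 1 ∣ 24 := by
        by_contra hc
        simp only [not_or] at hc
        exact hpt ⟨h1, hc⟩
      have hle : q ≤ 23 := by rcases hor with h | h <;> (have := Nat.le_of_dvd (by norm_num) h; omega)
      interval_cases q <;> omega
  have h3 : (3 : F) ≠ 0 := fun h => by
    rcases hcase with h7 | rfl | rfl | rfl
    · exact one_ne_zero (α := F) (by linear_combination h7 - 2 * h)
    all_goals push_cast at hcast
    · exact one_ne_zero (α := F) (by linear_combination hcast - 8 * h)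
    · exact one_ne_zero (α := F) (by linear_combination hcast - 40 * h)
    · exact one_ne_zero (α := F) (by linear_combination hcast - 176 * h)
  obtain ⟨k, l, hkl, hN0, hN1⟩ := exists_eight_pair h2 h3
    (fun j => mul_ne_zero (hall j) (pow_ne_zero _ (hall j))) hx.1
  obtain ⟨a, b, hab, hb⟩ : ∃ a b : ℕ, q + 1 ∣ 8 * a + 2 * b ∧
      ∀ d : ℕ, 1 ≤ d → d ≤ 3 → ¬ q + 1 ∣ b * d := by
    by_cases h5 : q = 5
    · subst h5; exact ⟨5, 1, by norm_num, fun d _ _ h => by interval_cases d <;> omega⟩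
    by_cases h11 : q = 11
    · subst h11; exact ⟨1, 2, by norm_num, fun d _ _ h => by interval_cases d <;> omega⟩
    refine ⟨q, 4, ⟨8, by ring⟩, fun d h1 h3' h => ?_⟩
    have h12 := Nat.le_of_dvd (by omega) h
    have hq' : q ≤ 11 := by omega
    interval_cases q <;> interval_cases d <;> omega
  exact mono_le_pair hF (by norm_num) hHM (show 4 ≤ q by
      by_contra hc
      obtain rfl : q = 3 := by omega
      exact hdvd (by norm_num)) hMK (hζe a) (hζe b) (by
        obtain ⟨s, hs⟩ := hab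
        rw [← pow_add, ← pow_mul, ← pow_add, show a * 8 + (b + b) = (q + 1) * s by omega, pow_mul, hζ,
          one_pow])
    (fun d h1 h3' => by rw [← pow_mul]; exact hζd _ (hb d h1 h3')) hm hm1 hx.1 hall hkl hN0 hN1 hXM hX

end Eight

end Cfsg.Agent.Unitary
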