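import Cfsg.Agent.Lib.Unitary.MonoOdd
/-
Overgroups of the monomial subgroup of SU: characteristic two, and all cases together.
* OneCentre, mono_le_even_big, mono_le_two, mono_le
-/
set_option autoImplicit false

namespace Cfsg.Agent.Unitary

open scoped Matrix

variable {F : Type*} [Field F] [Fintype F] {q n : ℕ}

/-- A centre for the parameter one. -/
def OneCentre (q : ℕ) (M : Subgroup (Matrix.GeneralLinearGroup (Fin n) F)) (v : Fin n → F) : Prop :=
  Cfsg.hermForm n F q v v = 0 ∧ ∀ t : Matrix.GeneralLinearGroup (Fin n) F,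
    (t : Matrix (Fin n) (Fin n) F) = Cfsg.unitaryTransvection n q v 1 → t ∈ M

omit [Fintype F] in
theorem one_skew (h2 : (2 : F) = 0) : (1 : F) + 1 ^ q = 0 := by
  rw [one_pow]; linear_combination h2

theorem OneCentre.conj {M : Subgroup (Matrix.GeneralLinearGroup (Fin n) F)}
    {g : Matrix.GeneralLinearGroup (Fin n) F} (hgM : g ∈ M) (hg : g ∈ suGL n F q) {v : Fin n → F}
    (hv : OneCentre q M v) : OneCentre q M ((g : Matrix (Fin n) (Fin n) F) *ᵥ v) := by
  refine ⟨(mem_suGL_herm hg v v).trans hv.1, fun t ht => ?_⟩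
  have key : g⁻¹ * t * g ∈ M := by
    refine hv.2 _ ?_
    have e := transvection_conj (⟨g, hg.1⟩ : Cfsg.GU n F q) v 1
    simp only at e
    rw [Units.val_mul, Units.val_mul, ht, mul_assoc, ← e, ← mul_assoc, ← Units.val_mul,
      inv_mul_cancel, Units.val_one, one_mul]
  simpa [mul_assoc] using mul_mem (mul_mem hgM key) (inv_mem hgM)

theorem OneCentre.step (hF : Fintype.card F = q ^ 2) (h2 : (2 : F) = 0)
    {M : Subgroup (Matrix.GeneralLinearGroup (Fin n) F)} {v w : Fin n → F}
    (hv : OneCentre q M v) (hw : OneCentre q M w) :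
    OneCentre q M (v + Cfsg.hermForm n F q v w • w) := by
  have h := OneCentre.conj (g := glTransvection hF w hw.1 1 (one_skew h2)) (hw.2 _ rfl)
    (suToGU_mem_suGL _) hv
  have e : (glTransvection hF w hw.1 1 (one_skew h2) : Matrix (Fin n) (Fin n) F) *ᵥ v =
      v + (1 * Cfsg.hermForm n F q v w) • w := transvection_mulVec _ _ _
  rwa [e, one_mul] at h

theorem OneCentre.centre (h2 : (2 : F) = 0) (hq2 : q = 2)
    {M : Subgroup (Matrix.GeneralLinearGroup (Fin n) F)} {v : Fin n → F}
    (hv : OneCentre q M v) : v ∈ centres q M := by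
  refine ⟨hv.1, fun g c hc hg => ?_⟩
  have h : c * (1 + c) = 0 := by subst hq2; linear_combination hc
  rcases mul_eq_zero.1 h with h | h
  · have : g = 1 := Units.ext (by simp [hg, h, Cfsg.unitaryTransvection])
    rw [this]; exact one_mem _
  · have : c = 1 := by linear_combination h - h2
    subst this
    exact hv.2 g hg

section EvenLow

variable {M : Subgroup (Matrix.GeneralLinearGroup (Fin n) F)} (hF : Fintype.card F = q ^ 2)
  (hn : 5 ≤ n) (hHM : ∀ g ∈ suGL n F q, IsMon g → g ∈ M)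
include hF hn hHM

/-- The transvection at a pair is monomial. -/
theorem pair_one_centre (h2 : (2 : F) = 0) {i j : Fin n} (hij : i ≠ j) {α : F}
    (hα : α ^ (q + 1) = 1) : OneCentre q M (pairVec i j 1 α) := by
  classical
  have hαq : α * α ^ q = 1 := by rw [← pow_succ', hα]
  have hv : Cfsg.hermForm n F q (pairVec i j 1 α) (pairVec i j 1 α) = 0 := by
    rw [herm_pairVec hF (by omega) hHM hij, pairVec_left hij, pairVec_right hij, one_pow, hαq]
    linear_combination h2
  refine ⟨hv, fun t ht => hHM t ?_ ⟨Equiv.swap i j, fun r => ?_⟩⟩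
  · rw [show t = glTransvection hF _ hv 1 (one_skew h2) from Units.ext ht]
    exact suToGU_mem_suGL _
  rw [ht, transvection_mulVec, hermForm_single_left, one_mul]
  rcases eq_or_ne r i with rfl | hri
  · refine ⟨α, funext fun l => ?_⟩
    rw [Equiv.swap_apply_left, pairVec_left hij, one_pow, one_smul, Pi.add_apply, Pi.smul_apply,
      smul_eq_mul]
    rcases eq_or_ne l r with rfl | hlr
    · rw [pairVec_left hij, Pi.single_eq_same, Pi.single_eq_of_ne hij]; linear_combination h2
    rcases eq_or_ne l j with rfl | hlj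
    · rw [pairVec_right hij, Pi.single_eq_same, Pi.single_eq_of_ne hlr]; ring
    · rw [pairVec_other hlr hlj, Pi.single_eq_of_ne hlr, Pi.single_eq_of_ne hlj]; ring
  rcases eq_or_ne r j with rfl | hrj
  · refine ⟨α ^ q, funext fun l => ?_⟩
    rw [Equiv.swap_apply_right, pairVec_right hij, Pi.add_apply, Pi.smul_apply, Pi.smul_apply,
      smul_eq_mul, smul_eq_mul]
    rcases eq_or_ne l r with rfl | hlr
    · rw [pairVec_right hij, Pi.single_eq_same, Pi.single_eq_of_ne hij.symm]
      linear_combination hαq + h2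
    rcases eq_or_ne l i with rfl | hli
    · rw [pairVec_left hij, Pi.single_eq_same, Pi.single_eq_of_ne hlr]; ring
    · rw [pairVec_other hli hlr, Pi.single_eq_of_ne hlr, Pi.single_eq_of_ne hli]; ring
  · refine ⟨1, ?_⟩
    rw [Equiv.swap_apply_of_ne_of_ne hri hrj, pairVec_other hri hrj, zero_pow_q hF, zero_smul,
      add_zero, one_smul]

/-- A non-monomial element gives a centre of weight at least three, below n. -/
theorem exists_one_small (h2 : (2 : F) = 0)
    (hkill : ∀ v : Fin n → F, (∀ r, v r ≠ 0) → Cfsg.hermForm n F q v v = 0 → ∃ h ∈ M, h ∈ suGL n F q ∧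
      3 ≤ (supp (v + Cfsg.hermForm n F q v ((h : Matrix (Fin n) (Fin n) F) *ᵥ v) •
        ((h : Matrix (Fin n) (Fin n) F) *ᵥ v))).card ∧
      (supp (v + Cfsg.hermForm n F q v ((h : Matrix (Fin n) (Fin n) F) *ᵥ v) •
        ((h : Matrix (Fin n) (Fin n) F) *ᵥ v))).card < n)
    {g : Matrix.GeneralLinearGroup (Fin n) F} (hgM : g ∈ M)
    (hg : g ∈ suGL n F q) (hgm : ¬ IsMon g) :
    ∃ v, OneCentre q M v ∧ 3 ≤ (supp v).card ∧ (supp v).card < n := by
  classical
  obtain ⟨ζ, hζ, hord, hζ1⟩ := exists_gen_ne_one hF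
  have hζ2 : ζ ^ 2 ≠ 1 := fun h => by
    have h1 := Nat.le_of_dvd (by norm_num) (hord ▸ orderOf_dvd_of_pow_eq_one h)
    have := two_le_q hF
    omega
  have hζ0 : ζ ≠ 0 := fun h => by simp [h] at hζ
  obtain ⟨i, p, s, hps, hp, hs⟩ := exists_col_of_not_mon hgm
  obtain ⟨a, ha⟩ : ∃ a, a = (g : Matrix (Fin n) (Fin n) F) *ᵥ Pi.single i 1 := ⟨_, rfl⟩
  rw [← ha] at hp hs
  have ha2 : 2 ≤ (supp a).card := by
    rw [← Finset.card_pair hps]
    refine Finset.card_le_card fun r hr => ?_
    simp only [Finset.mem_insert, Finset.mem_singleton] at hr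
    rcases hr with rfl | rfl
    · exact mem_supp.2 hp
    · exact mem_supp.2 hs
  obtain ⟨j, hij, b, hb, hU⟩ : ∃ j, i ≠ j ∧ ∃ b, b = (g : Matrix (Fin n) (Fin n) F) *ᵥ Pi.single j 1 ∧
      (4 ≤ (supp a ∪ supp b).card ∨ (3 ≤ (supp a ∪ supp b).card ∧ (supp a ∩ supp b).card < 3)) := by
    by_cases h4 : 4 ≤ (supp a).card
    · obtain ⟨j, hji, -⟩ := exists_third (i := i) (j := i) (show 3 ≤ n by omega)
      exact ⟨j, hji.symm, _, rfl, Or.inl (h4.trans (Finset.card_le_card Finset.subset_union_left))⟩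
    obtain ⟨t, ht⟩ := exists_notMem_of_card_lt (S := supp a) (by omega)
    obtain ⟨j, hj⟩ : ∃ j, ((g : Matrix (Fin n) (Fin n) F) *ᵥ Pi.single j 1) t ≠ 0 := by
      by_contra hc
      simp only [not_exists, not_not] at hc
      obtain ⟨x, hx⟩ := Matrix.mulVec_surjective_iff_isUnit.2 (Units.isUnit g) (Pi.single t 1)
      have := congrFun hx t
      rw [mulVec_eq_sum_cols, Finset.sum_apply, Pi.single_eq_same,
        Finset.sum_eq_zero (fun r _ => by rw [Pi.smul_apply, hc r, smul_zero])] at this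
      exact zero_ne_one this
    refine ⟨j, fun h => ht (mem_supp.2 (by rw [ha, h]; exact hj)), _, rfl, ?_⟩
    have h3 : (supp a).card + 1 ≤
        (supp a ∪ supp ((g : Matrix (Fin n) (Fin n) F) *ᵥ Pi.single j 1)).card := by
      rw [← Finset.card_insert_of_notMem ht]
      exact Finset.card_le_card (Finset.insert_subset (Finset.mem_union_right _ (mem_supp.2 hj))
        Finset.subset_union_left)
    by_cases h3' : 3 ≤ (supp a).card
    · left; omega
    · refine Or.inr ⟨by omega, lt_of_le_of_lt (Finset.card_le_card Finset.inter_subset_left) (by omega)⟩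
  let K : F → Finset (Fin n) := fun α => (supp a ∩ supp b).filter fun r => a r + α * b r = 0
  obtain ⟨α, hα, hK⟩ : ∃ α : F, α ^ (q + 1) = 1 ∧ 3 * (K α).card ≤ (supp a ∩ supp b).card := by
    by_contra hc
    simp only [not_exists, not_and, not_le] at hc
    have d : ∀ α β : F, α ≠ β → Disjoint (K α) (K β) := fun α β hne =>
      Finset.disjoint_left.2 fun r h1 h2' => by
        simp only [K, Finset.mem_filter, Finset.mem_inter, mem_supp] at h1 h2'
        exact mul_ne_zero (sub_ne_zero.2 hne) h1.1.2 (by linear_combination h1.2 - h2'.2)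
    have e1 := hc 1 (one_pow _)
    have e2 := hc ζ hζ
    have e3 := hc (ζ ^ 2) (by rw [← pow_mul, mul_comm, pow_mul, hζ, one_pow])
    have hd : ζ ≠ ζ ^ 2 := fun h => hζ1 (mul_left_cancel₀ hζ0
      (show ζ * ζ = ζ * 1 by linear_combination -h))
    have h12 := Finset.card_union_of_disjoint (d 1 ζ hζ1.symm)
    have h123 := Finset.card_union_of_disjoint
      (Finset.disjoint_union_left.2 ⟨d 1 (ζ ^ 2) hζ2.symm, d ζ (ζ ^ 2) hd⟩)
    have := Finset.card_le_card (show K 1 ∪ K ζ ∪ K (ζ ^ 2) ⊆ supp a ∩ supp b by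
      intro r hr
      simp only [Finset.mem_union] at hr
      rcases hr with (h | h) | h <;> exact (Finset.mem_filter.1 h).1)
    omega
  obtain ⟨v, hvdef⟩ : ∃ v, v = (g : Matrix (Fin n) (Fin n) F) *ᵥ pairVec i j 1 α := ⟨_, rfl⟩
  have hv : OneCentre q M v := hvdef ▸ (pair_one_centre hF hn hHM h2 hij hα).conj hgM hg
  have hve : v = a + α • b := by
    have e : pairVec i j (1 : F) α = Pi.single i 1 + α • Pi.single j 1 := by
      rw [← Pi.single_smul, smul_eq_mul, mul_one]; rfl
    rw [hvdef, e, Matrix.mulVec_add, Matrix.mulVec_smul, ← ha, ← hb]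
  have h3 : 3 ≤ (supp v).card := by
    have hsub : (supp a ∪ supp b) \ K α ⊆ supp v := by
      intro r hr
      simp only [Finset.mem_sdiff, Finset.mem_union, mem_supp, K, Finset.mem_filter,
        Finset.mem_inter] at hr
      rw [mem_supp, hve, Pi.add_apply, Pi.smul_apply, smul_eq_mul]
      obtain ⟨hor, hnot⟩ := hr
      intro h0
      by_cases har : a r = 0
      · have hbr := hor.resolve_left (fun h => h har)
        rw [har, zero_add] at h0
        exact mul_ne_zero (fun h => by simp [h] at hα) hbr h0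
      by_cases hbr : b r = 0
      · rw [hbr, mul_zero, add_zero] at h0; exact har h0
      exact hnot ⟨⟨har, hbr⟩, h0⟩
    have hKU : K α ⊆ supp a ∪ supp b := fun r hr =>
      Finset.mem_union_left _ (Finset.mem_inter.1 (Finset.mem_filter.1 hr).1).1
    have := Finset.card_le_card hsub
    rw [Finset.card_sdiff_of_subset hKU] at this
    have := Finset.card_le_card (show supp a ∩ supp b ⊆ supp a ∪ supp b from
      Finset.inter_subset_left.trans Finset.subset_union_left)
    omega
  by_cases hlt : (supp v).card < n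
  · exact ⟨v, hv, h3, hlt⟩
  have hall : ∀ r, v r ≠ 0 := fun r hr => hlt (lt_of_lt_of_eq (Finset.card_lt_card
    ((Finset.ssubset_iff_of_subset (Finset.subset_univ _)).2
      ⟨r, Finset.mem_univ _, fun h => mem_supp.1 h hr⟩)) (by rw [Finset.card_univ, Fintype.card_fin]))
  obtain ⟨h, hhM, hh, h3', hlt'⟩ := hkill v hall hv.1
  refine ⟨_, ?_, h3', hlt'⟩
  exact hv.step hF h2 (hv.conj hhM hh)

/-- Characteristic two, q ≥ 4. -/
theorem mono_le_even_big (hq : 3 ≤ q) (h2 : (2 : F) = 0)
    (hkill : ∀ v : Fin n → F, (∀ r, v r ≠ 0) → Cfsg.hermForm n F q v v = 0 → ∃ h ∈ M, h ∈ suGL n F q ∧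
      3 ≤ (supp (v + Cfsg.hermForm n F q v ((h : Matrix (Fin n) (Fin n) F) *ᵥ v) •
        ((h : Matrix (Fin n) (Fin n) F) *ᵥ v))).card ∧
      (supp (v + Cfsg.hermForm n F q v ((h : Matrix (Fin n) (Fin n) F) *ᵥ v) •
        ((h : Matrix (Fin n) (Fin n) F) *ᵥ v))).card < n)
    {g : Matrix.GeneralLinearGroup (Fin n) F} (hgM : g ∈ M) (hg : g ∈ suGL n F q) (hgm : ¬ IsMon g) :
    suGL n F q ≤ M := by
  obtain ⟨v, hv, h3, hlt⟩ := exists_one_small hF hn hHM h2 hkill hgM hg hgm
  obtain ⟨t, ht⟩ := exists_notMem_of_card_lt hlt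
  obtain ⟨p, hp, r, hr, r', hr', hpr, hpr', hrr'⟩ := Finset.two_lt_card.1 (show 2 < (supp v).card by omega)
  rw [mem_supp] at hp hr hr'
  refine mono_le_of_fix hF hn hHM hq (z := glTransvection hF v hv.1 1 (one_skew h2)) (hv.2 _ rfl)
    (suToGU_mem_suGL _) (fun hz => hrr' ?_) (i := t) (a := 1) ?_
  · have e : ∀ l, l ≠ p → ((glTransvection hF v hv.1 1 (one_skew h2) : Matrix (Fin n) (Fin n) F) *ᵥ
        Pi.single p 1) l = v p ^ q * v l := fun l hl => by
      refine (congrFun (transvection_mulVec _ _ _) l).trans ?_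
      rw [Pi.add_apply, Pi.smul_apply, Pi.single_eq_of_ne hl, hermForm_single_left, one_mul, zero_add,
        smul_eq_mul]
    refine hz.col p ?_ ?_
    · rw [e r hpr.symm]; exact mul_ne_zero (pow_ne_zero _ hp) hr
    · rw [e r' hpr'.symm]; exact mul_ne_zero (pow_ne_zero _ hp) hr'
  · refine (transvection_mulVec _ _ _).trans ?_
    rw [hermForm_single_left, eq_zero_of_notMem_supp ht, zero_pow_q hF, mul_zero, zero_smul,
      add_zero, one_smul]

end EvenLow

section EvenSeven

variable {M : Subgroup (Matrix.GeneralLinearGroup (Fin n) F)} (hF : Fintype.card F = q ^ 2)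
  (hn : 7 ≤ n) (hHM : ∀ g ∈ suGL n F q, IsMon g → g ∈ M)
include hF hn hHM

omit hn hHM in
theorem cube_one (hq2 : q = 2) {a : F} (ha : a ≠ 0) : a ^ 3 = 1 := by
  have h := FiniteField.pow_card_sub_one_eq_one a ha
  rw [hF, hq2] at h
  exact h

omit hn hHM in
theorem herm_self_card (hq2 : q = 2) (v : Fin n → F) :
    Cfsg.hermForm n F q v v = ((supp v).card : F) := by
  rw [herm_self_supp hF, Finset.sum_congr rfl (g := fun _ => (1 : F)) (fun r hr => ?_),
    Finset.sum_const, nsmul_eq_mul, mul_one]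
  rw [hq2]
  have := cube_one hF hq2 (mem_supp.1 hr)
  linear_combination this

omit hn in
/-- All vectors of one weight below n are conjugate when q = 2. -/
theorem class_centres (hq2 : q = 2) {v : Fin n → F} (hv : v ∈ centres q M)
    (hvn : (supp v).card < n) {u : Fin n → F} (hu : (supp u).card = (supp v).card) :
    u ∈ centres q M := by
  classical
  obtain ⟨p, hp⟩ := exists_notMem_of_card_lt (S := supp u) (hu ▸ hvn)
  let e : {x // x ∈ supp v} ≃ {x // x ∈ supp u} := Finset.equivOfCardEq hu.symm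
  let π : Equiv.Perm (Fin n) := e.extendSubtype
  have hπ : ∀ r, u r ≠ 0 → v (π.symm r) ≠ 0 := fun r hr h0 => by
    have := Equiv.extendSubtype_not_mem e (π.symm r) (fun h => mem_supp.1 h h0)
    exact this (by rw [show e.extendSubtype (π.symm r) = r from π.apply_symm_apply r]; exact mem_supp.2 hr)
  have hπ' : ∀ r, u r = 0 → v (π.symm r) = 0 := fun r hr => by
    by_contra h0
    have := Equiv.extendSubtype_mem e (π.symm r) (mem_supp.2 h0)
    rw [show e.extendSubtype (π.symm r) = r from π.apply_symm_apply r] at this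
    exact mem_supp.1 this hr
  obtain ⟨g, hgM, hg, -, μ, -, hgx⟩ := exists_monM hF hHM π
    (fun r => if u r = 0 then 1 else u r / v (π.symm r))
    (fun r => by
      split_ifs with h
      · exact one_pow _
      · rw [div_pow, hq2, cube_one hF hq2 h, cube_one hF hq2 (hπ r h), div_one]) p
  convert centres_conj hgM hg hv using 1
  funext r
  rw [hgx]
  by_cases hr : u r = 0
  · rw [hr, hπ' r hr, mul_zero]
  · rw [if_neg (fun h => hr (by rw [h]; exact eq_zero_of_notMem_supp hp)), if_neg hr,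
      div_mul_cancel₀ _ (hπ r hr)]

/-- Extension by zero from the first seven coordinates. -/
theorem exists_four (hq2 : q = 2) (h2 : (2 : F) = 0) {v : Fin n → F} (hv : v ∈ centres q M)
    (hv6 : (supp v).card = 6) : ∃ w, w ∈ centres q M ∧ (supp w).card = 4 := by
  classical
  obtain ⟨ω, hω, -, hω1⟩ := exists_gen_ne_one hF
  rw [hq2] at hω
  have hω0 : ω ≠ 0 := fun h => by simp [h] at hω
  have hω' : 1 + ω + ω ^ 2 = 0 := by
    refine (mul_eq_zero.1 (show (ω - 1) * (1 + ω + ω ^ 2) = 0 by linear_combination hω)).resolve_left ?_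
    exact sub_ne_zero.2 hω1
  have hω2 : 1 + ω ≠ 0 := fun h => pow_ne_zero 2 hω0 (by linear_combination hω' - h)
  let ι : Fin 7 ↪ Fin n := Fin.castLEEmb (by omega)
  let ext : (Fin 7 → F) → (Fin n → F) := fun x => Function.extend ι x 0
  have hext : ∀ x k, ext x (ι k) = x k := fun x k => ι.injective.extend_apply _ _ _
  have hext0 : ∀ x r, (¬ ∃ k, ι k = r) → ext x r = 0 := fun x r hr =>
    Function.extend_apply' _ _ _ hr
  have hsupp : ∀ (x : Fin 7 → F) (S : Finset (Fin 7)), (∀ k, x k ≠ 0 ↔ k ∈ S) →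
      (supp (ext x)).card = S.card := by
    intro x S hS
    rw [← Finset.card_map ι (s := S)]
    congr 1
    ext r
    rw [mem_supp, Finset.mem_map]
    by_cases hr : ∃ k, ι k = r
    · obtain ⟨k, rfl⟩ := hr
      rw [hext, hS]
      exact ⟨fun h => ⟨k, h, rfl⟩, fun ⟨k', h, e⟩ => ι.injective e ▸ h⟩
    · rw [hext0 x r hr]
      exact ⟨fun h => absurd rfl h, fun ⟨k, _, e⟩ => absurd ⟨k, e⟩ hr⟩
  have hsum : ∀ x y, Cfsg.hermForm n F q (ext x) (ext y) = ∑ k, x k * y k ^ q := by
    intro x y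
    show ∑ r, ext x r * ext y r ^ q = _
    rw [← Finset.sum_subset (Finset.subset_univ (Finset.univ.map ι)) (fun r _ hr => by
      rw [hext0 x r (fun ⟨k, hk⟩ => hr (Finset.mem_map.2 ⟨k, Finset.mem_univ _, hk⟩)), zero_mul]),
      Finset.sum_map]
    simp only [hext]
  let xs : Fin 7 → F := ![1, 1, 1, 1, 1, 1, 0]
  let ys : Fin 7 → F := ![1, 1, 1, ω, ω, 0, 1]
  have hx : ext xs ∈ centres q M := class_centres hF hHM hq2 hv (by omega) (by
    rw [hsupp xs {0, 1, 2, 3, 4, 5} (fun k => by fin_cases k <;> simp [xs]), hv6]; decide)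
  have hy : ext ys ∈ centres q M := class_centres hF hHM hq2 hv (by omega) (by
    rw [hsupp ys {0, 1, 2, 3, 4, 6} (fun k => by fin_cases k <;> simp [ys, hω0]), hv6]; decide)
  have hxy : Cfsg.hermForm n F q (ext xs) (ext ys) = 1 := by
    rw [hsum, hq2, Fin.sum_univ_seven]
    simp [xs, ys]
    linear_combination (1 + ω ^ 2) * h2
  have h := centres_step hF hy hx (one_skew h2)
  rw [hxy, one_mul, one_smul] at h
  refine ⟨_, h, ?_⟩
  have e : ext xs + ext ys = ext (fun k => xs k + ys k) := by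
    funext r
    by_cases hr : ∃ k, ι k = r
    · obtain ⟨k, rfl⟩ := hr
      rw [Pi.add_apply, hext, hext, hext]
    · rw [Pi.add_apply, hext0 _ r hr, hext0 _ r hr, hext0 _ r hr, add_zero]
  have h11 : (1 : F) + 1 = 0 := by linear_combination h2
  rw [e, hsupp _ {3, 4, 5, 6} (fun k => by fin_cases k <;> simp [xs, ys, hω2, h11])]
  decide

/-- The case q = 2. -/
theorem mono_le_two (hq2 : q = 2) (h2 : (2 : F) = 0)
    (hkill : ∀ v : Fin n → F, (∀ r, v r ≠ 0) → Cfsg.hermForm n F q v v = 0 → ∃ h ∈ M, h ∈ suGL n F q ∧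
      3 ≤ (supp (v + Cfsg.hermForm n F q v ((h : Matrix (Fin n) (Fin n) F) *ᵥ v) •
        ((h : Matrix (Fin n) (Fin n) F) *ᵥ v))).card ∧
      (supp (v + Cfsg.hermForm n F q v ((h : Matrix (Fin n) (Fin n) F) *ᵥ v) •
        ((h : Matrix (Fin n) (Fin n) F) *ᵥ v))).card < n)
    {g : Matrix.GeneralLinearGroup (Fin n) F} (hgM : g ∈ M) (hg : g ∈ suGL n F q) (hgm : ¬ IsMon g) :
    suGL n F q ≤ M := by
  classical
  have H := hermForm_isHerm hF n
  obtain ⟨ω, hω, -, hω1⟩ := exists_gen_ne_one hF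
  rw [hq2] at hω
  have hω0 : ω ≠ 0 := fun h => by simp [h] at hω
  have hω' : 1 + ω + ω ^ 2 = 0 := by
    refine (mul_eq_zero.1 (show (ω - 1) * (1 + ω + ω ^ 2) = 0 by linear_combination hω)).resolve_left ?_
    exact sub_ne_zero.2 hω1
  have hωq : ω ^ (q + 1) = 1 := by rw [hq2]; exact hω
  have hωq2 : (ω ^ 2) ^ (q + 1) = 1 := by rw [← pow_mul, mul_comm, pow_mul, hωq, one_pow]
  obtain ⟨v₀, hv₀', h3, hlt⟩ := exists_one_small hF (by omega) hHM h2 hkill hgM hg hgm
  have hv₀ := hv₀'.centre h2 hq2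
  have heven : ∀ v : Fin n → F, Cfsg.hermForm n F q v v = 0 → 2 ∣ (supp v).card := by
    intro v hv
    rw [herm_self_card hF hq2] at hv
    obtain ⟨k, hk | hk⟩ := Nat.even_or_odd' (supp v).card
    · exact ⟨k, hk⟩
    · exfalso
      rw [hk] at hv
      push_cast at hv
      exact one_ne_zero (α := F) (by linear_combination hv - (k : F) * h2)
  obtain ⟨w₄, hw₄, hw₄c⟩ : ∃ w, w ∈ centres q M ∧ (supp w).card = 4 := by
    have hev := heven v₀ hv₀.1
    rcases Nat.lt_or_ge (supp v₀).card 6 with h6 | h6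
    · exact ⟨v₀, hv₀, by omega⟩
    obtain ⟨S₁, hS₁, hS₁c⟩ := Finset.exists_subset_card_eq (s := supp v₀) (n := 3) (by omega)
    obtain ⟨S₂, hS₂, hS₂c⟩ := Finset.exists_subset_card_eq (s := supp v₀ \ S₁) (n := 3)
      (by rw [Finset.card_sdiff_of_subset hS₁]; omega)
    have hS₂' : S₂ ⊆ supp v₀ := hS₂.trans Finset.sdiff_subset
    have hdis : ∀ r ∈ S₂, r ∉ S₁ := fun r hr => (Finset.mem_sdiff.1 (hS₂ hr)).2
    let L : Fin n → F := fun r => (if r ∈ S₁ then ω else 1) * (if r ∈ S₂ then ω ^ 2 else 1)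
    have hL : ∀ r, L r ^ (q + 1) = 1 := fun r => by
      simp only [L]; split_ifs <;> simp [mul_pow, hωq, hωq2]
    have hLp : ∏ r, L r = 1 := by
      rw [Finset.prod_mul_distrib, Finset.prod_ite_mem, Finset.prod_ite_mem, Finset.univ_inter,
        Finset.univ_inter, Finset.prod_const, Finset.prod_const, hS₁c, hS₂c]
      linear_combination (ω ^ 6 + ω ^ 3 + 1) * hω
    obtain ⟨h, hhM, hh, -, hhx⟩ := exists_diagM hF hHM L hL hLp
    obtain ⟨y, hy⟩ : ∃ y, y = (h : Matrix (Fin n) (Fin n) F) *ᵥ v₀ := ⟨_, rfl⟩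
    have hyC : y ∈ centres q M := hy ▸ centres_conj hhM hh hv₀
    have hk0 : ((supp v₀).card : F) = 0 := by rw [← herm_self_card hF hq2]; exact hv₀.1
    have hvy : Cfsg.hermForm n F q v₀ y = 1 := by
      show ∑ r, v₀ r * y r ^ q = 1
      rw [← Finset.sum_subset (Finset.subset_univ (supp v₀)) (fun r _ hr => by
        rw [eq_zero_of_notMem_supp hr, zero_mul]),
        Finset.sum_congr rfl (g := fun r => 1 + ((if r ∈ S₁ then ω ^ 2 - 1 else 0) +
          (if r ∈ S₂ then ω - 1 else 0))) (fun r hr => ?_), Finset.sum_add_distrib,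
        Finset.sum_add_distrib, Finset.sum_const, Finset.sum_ite_mem, Finset.sum_ite_mem,
        Finset.sum_const, Finset.sum_const, Finset.inter_eq_right.2 hS₁,
        Finset.inter_eq_right.2 hS₂', hS₁c, hS₂c, nsmul_eq_mul, mul_one, hk0]
      · simp only [nsmul_eq_mul, Nat.cast_ofNat]
        linear_combination 3 * hω' - 5 * h2
      · have h1 := cube_one hF hq2 (mem_supp.1 hr)
        rw [hy, hhx, hq2]
        simp only [L]
        by_cases hr1 : r ∈ S₁
        · rw [if_pos hr1, if_pos hr1, if_neg (fun h => hdis r h hr1), if_neg (fun h => hdis r h hr1)]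
          linear_combination ω ^ 2 * h1
        by_cases hr2 : r ∈ S₂
        · rw [if_neg hr1, if_neg hr1, if_pos hr2, if_pos hr2]
          linear_combination ω ^ 4 * h1 + ω * hω
        · rw [if_neg hr1, if_neg hr1, if_neg hr2, if_neg hr2]
          linear_combination h1
    have hz := centres_step hF hyC hv₀ (one_skew h2)
    rw [hvy, one_mul, one_smul] at hz
    refine exists_four hF hn hHM hq2 h2 hz ?_
    have hsupp : supp (v₀ + y) = S₁ ∪ S₂ := by
      ext r
      rw [mem_supp, Pi.add_apply, hy, hhx, Finset.mem_union]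
      simp only [L]
      have hω2 : 1 + ω ≠ 0 := fun h => pow_ne_zero 2 hω0 (by linear_combination hω' - h)
      have hω3 : 1 + ω ^ 2 ≠ 0 := fun h => hω0 (by linear_combination hω' - h)
      by_cases hr1 : r ∈ S₁
      · rw [if_pos hr1, if_neg (fun h => hdis r h hr1)]
        simp only [hr1, true_or, iff_true, mul_one]
        intro h
        exact mul_ne_zero hω2 (mem_supp.1 (hS₁ hr1)) (by linear_combination h)
      by_cases hr2 : r ∈ S₂
      · rw [if_neg hr1, if_pos hr2]
        simp only [hr2, or_true, iff_true, one_mul]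
        intro h
        exact mul_ne_zero hω3 (mem_supp.1 (hS₂' hr2)) (by linear_combination h)
      · rw [if_neg hr1, if_neg hr2]
        simp only [hr1, hr2, or_self, iff_false, not_not, mul_one, one_mul]
        linear_combination v₀ r * h2
    rw [hsupp, Finset.card_union_of_disjoint
      (Finset.disjoint_left.2 fun r h1 h2' => hdis r h2' h1), hS₁c, hS₂c]
  suffices ∀ (k : ℕ) (v : Fin n → F), (supp v).card = k → Cfsg.hermForm n F q v v = 0 →
      v ∈ centres q M by
    exact le_of_centres hF (Or.inl (by omega)) fun v hv => this _ v rfl hv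
  intro k
  induction k using Nat.strong_induction_on with
  | _ k ih =>
  intro v hk hv
  have hev := heven v hv
  rcases Nat.lt_or_ge k 5 with hk5 | hk5
  · have hk' : k = 0 ∨ k = 2 ∨ k = 4 := by omega
    rcases hk' with h | h | h
    · have hv0 : v = 0 := funext fun r => eq_zero_of_notMem_supp
        (by rw [Finset.card_eq_zero.1 (hk.trans h)]; exact Finset.notMem_empty r)
      rw [hv0, ← zero_smul F w₄]
      exact centres_smul hF hw₄ 0
    · obtain ⟨i, j, hij, he⟩ := Finset.card_eq_two.1 (hk.trans h)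
      have hvi : v i ≠ 0 := mem_supp.1 (by simp [he])
      have hvj : v j ≠ 0 := mem_supp.1 (by simp [he])
      have hα : (v j / v i) ^ (q + 1) = 1 := by
        rw [div_pow, hq2, cube_one hF hq2 hvj, cube_one hF hq2 hvi, div_one]
      have hv' : v = v i • pairVec i j 1 (v j / v i) := funext fun r => by
        rw [Pi.smul_apply, smul_eq_mul]
        rcases eq_or_ne r i with rfl | hri
        · rw [pairVec_left hij, mul_one]
        rcases eq_or_ne r j with rfl | hrj
        · rw [pairVec_right hij, mul_div_cancel₀ _ hvi]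
        · rw [pairVec_other hri hrj, mul_zero]
          exact eq_zero_of_notMem_supp (by simp [he, hri, hrj])
      rw [hv']
      exact centres_smul hF ((pair_one_centre hF (by omega) hHM h2 hij hα).centre h2 hq2) _
    · exact class_centres hF hHM hq2 hw₄ (by omega) (by omega)
  obtain ⟨S, hS, hSc⟩ := Finset.exists_subset_card_eq (s := supp v) (n := 4) (by omega)
  let f : Fin 4 ≃ S := (Fintype.equivFinOfCardEq (by rw [Fintype.card_coe, hSc])).symm
  obtain ⟨i, hi⟩ : ∃ i : Fin n, i = f 0 := ⟨_, rfl⟩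
  obtain ⟨j, hj⟩ : ∃ i : Fin n, i = f 1 := ⟨_, rfl⟩
  obtain ⟨a, ha⟩ : ∃ i : Fin n, i = f 2 := ⟨_, rfl⟩
  obtain ⟨b, hb⟩ : ∃ i : Fin n, i = f 3 := ⟨_, rfl⟩
  have hne : ∀ x y : Fin 4, x ≠ y → (f x : Fin n) ≠ f y := fun x y h e =>
    h (f.injective (Subtype.ext e))
  have hij : i ≠ j := by rw [hi, hj]; exact hne _ _ (by decide)
  have hab : a ≠ b := by rw [ha, hb]; exact hne _ _ (by decide)
  have hia : i ≠ a := by rw [hi, ha]; exact hne _ _ (by decide)
  have hib : i ≠ b := by rw [hi, hb]; exact hne _ _ (by decide)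
  have hja : j ≠ a := by rw [hj, ha]; exact hne _ _ (by decide)
  have hjb : j ≠ b := by rw [hj, hb]; exact hne _ _ (by decide)
  have hvi : v i ≠ 0 := mem_supp.1 (hS (by rw [hi]; exact (f 0).2))
  have hvj : v j ≠ 0 := mem_supp.1 (hS (by rw [hj]; exact (f 1).2))
  have hva : v a ≠ 0 := mem_supp.1 (hS (by rw [ha]; exact (f 2).2))
  have hvb : v b ≠ 0 := mem_supp.1 (hS (by rw [hb]; exact (f 3).2))
  obtain ⟨u, hu⟩ : ∃ u, u = pairVec i j (v i) (v j) + pairVec a b (ω * v a) (ω ^ 2 * v b) := ⟨_, rfl⟩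
  have hui : u i = v i := by
    rw [hu, Pi.add_apply, pairVec_left hij, pairVec_other hia hib, add_zero]
  have huj : u j = v j := by
    rw [hu, Pi.add_apply, pairVec_right hij, pairVec_other hja hjb, add_zero]
  have hua : u a = ω * v a := by
    rw [hu, Pi.add_apply, pairVec_left hab, pairVec_other hia.symm hja.symm, zero_add]
  have hub : u b = ω ^ 2 * v b := by
    rw [hu, Pi.add_apply, pairVec_right hab, pairVec_other hib.symm hjb.symm, zero_add]
  have hu0 : ∀ r, r ≠ i → r ≠ j → r ≠ a → r ≠ b → u r = 0 := fun r h1 h2' h3' h4 => by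
    rw [hu, Pi.add_apply, pairVec_other h1 h2', pairVec_other h3' h4, add_zero]
  have huS : supp u = {i, j, a, b} := by
    ext r
    rw [mem_supp]
    simp only [Finset.mem_insert, Finset.mem_singleton]
    constructor
    · intro h
      by_contra hc
      simp only [not_or] at hc
      exact h (hu0 r hc.1 hc.2.1 hc.2.2.1 hc.2.2.2)
    · rintro (rfl | rfl | rfl | rfl)
      · rw [hui]; exact hvi
      · rw [huj]; exact hvj
      · rw [hua]; exact mul_ne_zero hω0 hva
      · rw [hub]; exact mul_ne_zero (pow_ne_zero 2 hω0) hvb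
  have huc : (supp u).card = 4 := by rw [huS]; simp [hij, hia, hib, hja, hjb, hab]
  have huC : u ∈ centres q M := class_centres hF hHM hq2 hw₄ (by omega) (by omega)
  have hvu : Cfsg.hermForm n F q v u = 1 := by
    rw [hu, H.add_right hF, herm_pairVec hF (by omega) hHM hij, herm_pairVec hF (by omega) hHM hab, hq2]
    linear_combination cube_one hF hq2 hvi + cube_one hF hq2 hvj + ω ^ 2 * cube_one hF hq2 hva +
      ω ^ 4 * cube_one hF hq2 hvb + ω * hω + hω'
  have huv : Cfsg.hermForm n F q u v = 1 := by rw [H.conj_symm v u, hvu, one_pow]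
  have hv'0 : Cfsg.hermForm n F q (v + u) (v + u) = 0 := by
    rw [H.add_left, H.add_right hF, H.add_right hF, hv, huC.1, hvu, huv]
    linear_combination h2
  have hlt' : (supp (v + u)).card < k := by
    refine lt_of_lt_of_le (Finset.card_lt_card ((Finset.ssubset_iff_of_subset ?_).2
      ⟨i, mem_supp.2 hvi, fun h => mem_supp.1 h
        (by rw [Pi.add_apply, hui]; linear_combination v i * h2)⟩)) hk.le
    intro r hr
    rw [mem_supp] at hr ⊢
    intro h0
    apply hr
    rw [Pi.add_apply, h0, zero_add]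
    exact hu0 r (fun e => hvi (e ▸ h0)) (fun e => hvj (e ▸ h0)) (fun e => hva (e ▸ h0))
      (fun e => hvb (e ▸ h0))
  have h := centres_step hF huC (ih _ hlt' _ rfl hv'0) (one_skew h2)
  rw [H.add_left, hvu, huC.1, add_zero, one_mul, one_smul] at h
  have e : v + u + u = v := funext fun r => by
    rw [Pi.add_apply, Pi.add_apply]; linear_combination u r * h2
  rwa [e] at h

end EvenSeven

section Even

variable {M : Subgroup (Matrix.GeneralLinearGroup (Fin n) F)} (hF : Fintype.card F = q ^ 2)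
  (hn : 10 ≤ n) (hHM : ∀ g ∈ suGL n F q, IsMon g → g ∈ M)
include hF hn hHM

theorem kill_one_big (h2 : (2 : F) = 0) (v : Fin n → F) (hall : ∀ r, v r ≠ 0)
    (_hv : Cfsg.hermForm n F q v v = 0) : ∃ h ∈ M, h ∈ suGL n F q ∧
      3 ≤ (supp (v + Cfsg.hermForm n F q v ((h : Matrix (Fin n) (Fin n) F) *ᵥ v) •
        ((h : Matrix (Fin n) (Fin n) F) *ᵥ v))).card ∧
      (supp (v + Cfsg.hermForm n F q v ((h : Matrix (Fin n) (Fin n) F) *ᵥ v) •
        ((h : Matrix (Fin n) (Fin n) F) *ᵥ v))).card < n := by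
  obtain ⟨h, hhM, hh, -, h3', hlt'⟩ := exists_kill hF hn hHM hall (one_ne_zero (α := F)) (Or.inr (Or.inl h2))
  rw [one_mul] at h3' hlt'
  exact ⟨h, hhM, hh, h3', hlt'⟩

/-- The monomial subgroup is maximal: an overgroup with a non-monomial element is SU. -/
theorem mono_le (hMK : M ≤ suGL n F q) {g : Matrix.GeneralLinearGroup (Fin n) F}
    (hgM : g ∈ M) (hgm : ¬ IsMon g) : suGL n F q ≤ M := by
  by_cases h2 : (2 : F) = 0
  · rcases Nat.lt_or_ge q 3 with hq | hq
    · exact mono_le_two hF (by omega) hHM (by have := two_le_q hF; omega) h2 (kill_one_big hF hn hHM h2) hgM (hMK hgM) hgm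
    · exact mono_le_even_big hF (by omega) hHM hq h2 (kill_one_big hF hn hHM h2) hgM (hMK hgM) hgm
  have hq : 3 ≤ q := by
    by_contra hc
    have hq2 : q = 2 := by have := two_le_q hF; omega
    have h := FiniteField.cast_card_eq_zero F
    rw [hF, hq2] at h
    push_cast at h
    exact mul_ne_zero h2 h2 (by linear_combination h)
  by_cases hdvd : q + 1 ∣ n
  · exact mono_le_of_dvd_odd hF hn hHM hq h2 hMK hdvd hgM hgm
  · exact mono_le_of_not_dvd hF hn hHM hq h2 hMK hdvd hgM hgm

end Even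

end Cfsg.Agent.Unitary
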