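import Cfsg.Agent.Lib.Unitary.MonoBase
import Cfsg.Agent.Lib.Unitary.LagPair
/-
When is a pseudo-reflection monomial.
* refl_col, herm_self_supp, not_mon_of_three, mon_of_one, mon_of_two, supp_of_not_mon
-/
set_option autoImplicit false

namespace Cfsg.Agent.Unitary

open scoped Matrix

variable {F : Type*} [Field F] [Fintype F] {q n : ℕ}

section Crit

variable (hF : Fintype.card F = q ^ 2)
include hF

theorem refl_col {x : Fin n → F} (hx : Cfsg.hermForm n F q x x = 1) {m : F} (hm : m ^ (q + 1) = 1)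
    (i : Fin n) : (glRefl q x m : Matrix (Fin n) (Fin n) F) *ᵥ Pi.single i 1 =
      Pi.single i 1 + ((m - 1) * x i ^ q) • x := by
  rw [glRefl_apply hF hx hm, hermForm_single_left]

theorem herm_self_supp (x : Fin n → F) :
    Cfsg.hermForm n F q x x = ∑ i ∈ supp x, x i * x i ^ q := by
  show ∑ i, x i * x i ^ q = _
  refine (Finset.sum_subset (Finset.subset_univ _) fun i _ hi => ?_).symm
  rw [eq_zero_of_notMem_supp hi, zero_mul]

theorem not_mon_of_three {x : Fin n → F} (hx : Cfsg.hermForm n F q x x = 1) {m : F}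
    (hm : m ^ (q + 1) = 1) (hm1 : m ≠ 1) (h3 : 3 ≤ (supp x).card) : ¬ IsMon (glRefl q x m) := by
  obtain ⟨i, hi, j, hj, l, hl, hij, hil, hjl⟩ := Finset.two_lt_card.1 (show 2 < (supp x).card from h3)
  intro hmon
  refine hjl (hmon.col i ?_ ?_)
  all_goals
    rw [refl_col hF hx hm, Pi.add_apply, Pi.smul_apply, Pi.single_eq_of_ne, zero_add, smul_eq_mul]
    · exact mul_ne_zero (mul_ne_zero (sub_ne_zero.2 hm1) (pow_ne_zero _ (mem_supp.1 hi)))
        (mem_supp.1 (by assumption))
  · exact hij.symm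
  · exact hil.symm

theorem mon_of_one {x : Fin n → F} (hx : Cfsg.hermForm n F q x x = 1) {m : F}
    (hm : m ^ (q + 1) = 1) (h1 : (supp x).card ≤ 1) : IsMon (glRefl q x m) := by
  have o := (single_orthonormal hF n).1
  obtain ⟨i, hi⟩ : ∃ i, i ∈ supp x := by
    by_contra hc
    simp only [not_exists] at hc
    rw [herm_self_supp hF, Finset.eq_empty_of_forall_notMem hc, Finset.sum_empty] at hx
    exact zero_ne_one hx
  have e : x = x i • Pi.single i 1 := funext fun j => by
    by_cases hj : j = i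
    · subst hj; simp
    · rw [Pi.smul_apply, Pi.single_eq_of_ne hj, smul_zero]
      exact eq_zero_of_notMem_supp fun hjs => hj (Finset.card_le_one.1 h1 j hjs i hi)
  rw [e] at hx
  rw [(hermForm_isHerm hF n).smul_left, (hermForm_isHerm hF n).smul_right, o, mul_one, ← pow_succ'] at hx
  rw [e, glRefl_smul hF (o i) hm hx]
  exact glRefl_single_mon hF i hm

theorem mon_of_two {x : Fin n → F} (hx : Cfsg.hermForm n F q x x = 1) {m : F} (hm : m ^ (q + 1) = 1)
    {p r : Fin n} (hpr : p ≠ r) (hsupp : ∀ j, j ≠ p → j ≠ r → x j = 0)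
    (hp : 1 + (m - 1) * (x p * x p ^ q) = 0) (hr : 1 + (m - 1) * (x r * x r ^ q) = 0) :
    IsMon (glRefl q x m) := by
  refine ⟨Equiv.swap p r, fun i => ?_⟩
  rw [refl_col hF hx hm]
  rcases eq_or_ne i p with rfl | hip
  · refine ⟨(m - 1) * x i ^ q * x r, funext fun j => ?_⟩
    rw [Equiv.swap_apply_left]
    rcases eq_or_ne j i with rfl | hji
    · simp [hpr]; linear_combination hp
    rcases eq_or_ne j r with rfl | hjr
    · simp [hji]
    · simp [hji, hjr, hsupp j hji hjr]
  rcases eq_or_ne i r with rfl | hir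
  · refine ⟨(m - 1) * x i ^ q * x p, funext fun j => ?_⟩
    rw [Equiv.swap_apply_right]
    rcases eq_or_ne j i with rfl | hji
    · simp [hpr.symm]; linear_combination hr
    rcases eq_or_ne j p with rfl | hjp
    · simp [hji]
    · simp [hji, hjp, hsupp j hjp hji]
  · refine ⟨1, funext fun j => ?_⟩
    rw [Equiv.swap_apply_of_ne_of_ne hip hir, hsupp i hip hir, zero_pow_q hF]
    simp

/-- A non-monomial reflection: two nonzero coordinates, and one with non-vanishing diagonal if only two. -/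
theorem supp_of_not_mon {x : Fin n → F} (hx : Cfsg.hermForm n F q x x = 1) {m : F}
    (hm : m ^ (q + 1) = 1) (h : ¬ IsMon (glRefl q x m)) :
    2 ≤ (supp x).card ∧
      (3 ≤ (supp x).card ∨ ∃ i ∈ supp x, 1 + (m - 1) * (x i * x i ^ q) ≠ 0) := by
  have h2 : 2 ≤ (supp x).card := by
    by_contra hc
    exact h (mon_of_one hF hx hm (by omega))
  refine ⟨h2, ?_⟩
  by_contra hc
  simp only [not_or, not_le, not_exists, not_and, not_not] at hc
  obtain ⟨p, r, hpr, he⟩ := Finset.card_eq_two.1 (show (supp x).card = 2 by omega)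
  refine h (mon_of_two hF hx hm hpr (fun j h1 h2 => eq_zero_of_notMem_supp (by simp [he, h1, h2]))
    (hc.2 p (by simp [he])) (hc.2 r (by simp [he])))

end Crit

end Cfsg.Agent.Unitary
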