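import Cfsg.Agent.Lib.Unitary.MonoClose
/-
A non-monomial element fixing all coordinate lines outside a pair gives a transvection centre
on that pair (q ≥ 3), by counting on the q + 1 isotropic lines of the pair.
* pairStab, pairScalar, herm_pair_iso, exists_pair_centre
-/
set_option autoImplicit false

namespace Cfsg.Agent.Unitary

open scoped Matrix

variable {F : Type*} [Field F] {q n : ℕ}

/-- Elements of M fixing every coordinate line outside k and l. -/
def pairStab (q : ℕ) (M : Subgroup (Matrix.GeneralLinearGroup (Fin n) F)) (k l : Fin n) :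
    Subgroup (Matrix.GeneralLinearGroup (Fin n) F) where
  carrier := {h | h ∈ M ∧ h ∈ Cfsg.GU n F q ∧ ∀ j, j ≠ k → j ≠ l →
    ∃ c : F, (h : Matrix (Fin n) (Fin n) F) *ᵥ Pi.single j 1 = c • Pi.single j 1}
  one_mem' := ⟨one_mem _, one_mem _, fun j _ _ =>
    ⟨1, by rw [Units.val_one, Matrix.one_mulVec, one_smul]⟩⟩
  mul_mem' := by
    rintro x y ⟨hx, hxU, hx'⟩ ⟨hy, hyU, hy'⟩
    refine ⟨mul_mem hx hy, mul_mem hxU hyU, fun j hk hl => ?_⟩
    obtain ⟨c, hc⟩ := hx' j hk hl
    obtain ⟨d, hd⟩ := hy' j hk hl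
    exact ⟨d * c, by rw [Units.val_mul, ← Matrix.mulVec_mulVec, hd, Matrix.mulVec_smul, hc, smul_smul]⟩
  inv_mem' := by
    rintro x ⟨hx, hxU, hx'⟩
    refine ⟨inv_mem hx, inv_mem hxU, fun j hk hl => ?_⟩
    obtain ⟨c, hc⟩ := hx' j hk hl
    have hc0 : c ≠ 0 := by
      rintro rfl
      rw [zero_smul] at hc
      have h1 := Matrix.mulVec_injective_iff_isUnit.2 (Units.isUnit x)
        (hc.trans (Matrix.mulVec_zero _).symm)
      simpa using congrFun h1 j
    refine ⟨c⁻¹, Matrix.mulVec_injective_iff_isUnit.2 (Units.isUnit x) ?_⟩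
    rw [Matrix.mulVec_smul, hc, smul_smul, inv_mul_cancel₀ hc0, one_smul, Matrix.mulVec_mulVec,
      ← Units.val_mul, mul_inv_cancel, Units.val_one, Matrix.one_mulVec]

variable [Fintype F]

section Pair

variable {M : Subgroup (Matrix.GeneralLinearGroup (Fin n) F)} (hF : Fintype.card F = q ^ 2)
  (hn : 4 ≤ n) (hHM : ∀ g ∈ suGL n F q, IsMon g → g ∈ M)
include hF hn hHM

/-- The pair is mapped into itself. -/
theorem pairStab_supp {k l : Fin n} {h : Matrix.GeneralLinearGroup (Fin n) F}
    (hh : h ∈ pairStab q M k l) {w : Fin n → F} (hw : ∀ j, j ≠ k → j ≠ l → w j = 0)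
    (j : Fin n) (hjk : j ≠ k) (hjl : j ≠ l) : ((h : Matrix (Fin n) (Fin n) F) *ᵥ w) j = 0 := by
  have _ := hn
  have _ := hHM
  have H := hermForm_isHerm hF n
  obtain ⟨c, hc⟩ := hh.2.2 j hjk hjl
  have hc0 : c ≠ 0 := by
    rintro rfl
    rw [zero_smul] at hc
    have h1 := Matrix.mulVec_injective_iff_isUnit.2 (Units.isUnit h)
      (hc.trans (Matrix.mulVec_zero _).symm)
    simpa using congrFun h1 j
  have e : Cfsg.hermForm n F q ((h : Matrix (Fin n) (Fin n) F) *ᵥ w)
      ((h : Matrix (Fin n) (Fin n) F) *ᵥ Pi.single j 1) = Cfsg.hermForm n F q w (Pi.single j 1) :=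
    hh.2.1 _ _
  rw [hc, H.smul_right, herm_single hF, herm_single hF, hw j hjk hjl] at e
  exact (mul_eq_zero.1 e).resolve_left (pow_ne_zero _ hc0)

/-- A non-monomial element fixing the coordinate lines outside a pair gives a centre there. -/
theorem exists_pair_centre_of_pairStab (hq : 3 ≤ q) {k l : Fin n} (hkl : k ≠ l)
    {g : Matrix.GeneralLinearGroup (Fin n) F} (hg : g ∈ pairStab q M k l) (hgm : ¬ IsMon g) :
    ∃ α : F, α ≠ 0 ∧ pairVec k l 1 α ∈ centres q M := by
  classical
  have H := hermForm_isHerm hF n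
  have o := single_orthonormal hF n
  letI : Fintype (Matrix.GeneralLinearGroup (Fin n) F) := Fintype.ofFinite _
  obtain ⟨p, hpk, hpl⟩ := exists_third (i := k) (j := l) (show 3 ≤ n by omega)
  -- vectors of the pair
  have hsup : ∀ (h : Matrix.GeneralLinearGroup (Fin n) F), h ∈ pairStab q M k l → ∀ w : Fin n → F,
      (∀ j, j ≠ k → j ≠ l → w j = 0) → ∀ j, j ≠ k → j ≠ l →
      ((h : Matrix (Fin n) (Fin n) F) *ᵥ w) j = 0 := fun h hh w hw j =>
    pairStab_supp hF hn hHM hh hw j
  have hek : ∀ j, j ≠ k → j ≠ l → (Pi.single k (1 : F) : Fin n → F) j = 0 :=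
    fun j hj _ => Pi.single_eq_of_ne hj _
  have hel : ∀ j, j ≠ k → j ≠ l → (Pi.single l (1 : F) : Fin n → F) j = 0 :=
    fun j _ hj => Pi.single_eq_of_ne hj _
  obtain ⟨A, hA⟩ : ∃ A, A = (g : Matrix (Fin n) (Fin n) F) *ᵥ Pi.single k 1 := ⟨_, rfl⟩
  obtain ⟨B, hB⟩ : ∃ B, B = (g : Matrix (Fin n) (Fin n) F) *ᵥ Pi.single l 1 := ⟨_, rfl⟩
  have hAB : A k * B k ^ q + A l * B l ^ q = 0 := by
    have e : Cfsg.hermForm n F q A B = 0 := by rw [hA, hB]; exact (hg.2.1 _ _).trans (o.2 hkl)
    rw [← e]
    show _ = ∑ j, A j * B j ^ q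
    rw [Finset.sum_eq_add k l hkl (fun j _ hj => by rw [hA, hsup g hg _ hek j hj.1 hj.2, zero_mul])
      (fun h => absurd (Finset.mem_univ k) h) (fun h => absurd (Finset.mem_univ l) h)]
  obtain ⟨hAk, hAl⟩ : A k ≠ 0 ∧ A l ≠ 0 := by
    have hinj : Function.Injective (fun w => (g : Matrix (Fin n) (Fin n) F) *ᵥ w) :=
      Matrix.mulVec_injective_iff_isUnit.2 (Units.isUnit g)
    have hA0 : A k ≠ 0 ∨ A l ≠ 0 := by
      by_contra! hc
      have : A = 0 := funext fun j => by
        rcases eq_or_ne j k with rfl | hjk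
        · exact hc.1
        rcases eq_or_ne j l with rfl | hjl
        · exact hc.2
        · rw [hA]; exact hsup g hg _ hek j hjk hjl
      have := hinj ((hA.symm.trans this).trans (Matrix.mulVec_zero _).symm)
      simpa using congrFun this k
    have mon : ∀ π : Equiv.Perm (Fin n), (∀ j, j ≠ k → j ≠ l → π j = j) →
        (∀ j, j ≠ π k → A j = 0) → (∀ j, j ≠ π l → B j = 0) → IsMon g := by
      intro π hπ hπA hπB
      refine ⟨π, fun i => ?_⟩
      rcases eq_or_ne i k with rfl | hik
      · refine ⟨A (π i), funext fun j => ?_⟩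
        rw [← hA]
        rcases eq_or_ne j (π i) with rfl | hj
        · simp
        · rw [hπA j hj, Pi.smul_apply, Pi.single_eq_of_ne hj, smul_zero]
      rcases eq_or_ne i l with rfl | hil
      · refine ⟨B (π i), funext fun j => ?_⟩
        rw [← hB]
        rcases eq_or_ne j (π i) with rfl | hj
        · simp
        · rw [hπB j hj, Pi.smul_apply, Pi.single_eq_of_ne hj, smul_zero]
      · obtain ⟨c, hc⟩ := hg.2.2 i hik hil
        exact ⟨c, by rw [hc, hπ i hik hil]⟩
    refine ⟨fun h0 => hgm (mon (Equiv.swap k l) (fun j h1 h2 => Equiv.swap_apply_of_ne_of_ne h1 h2)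
      (fun j hj => ?_) (fun j hj => ?_)), fun h0 => hgm (mon 1 (fun j _ _ => rfl)
      (fun j hj => ?_) (fun j hj => ?_))⟩
    · rw [Equiv.swap_apply_left] at hj
      rcases eq_or_ne j k with rfl | hjk
      · exact h0
      · rw [hA]; exact hsup g hg _ hek j hjk hj
    · rw [Equiv.swap_apply_right] at hj
      rcases eq_or_ne j l with rfl | hjl
      · rw [h0, zero_mul, zero_add, mul_eq_zero] at hAB
        exact (pow_q_eq_zero hF).1 (hAB.resolve_left (hA0.resolve_left fun h => h h0))
      · rw [hB]; exact hsup g hg _ hel j hj hjl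
    · rw [Equiv.Perm.one_apply] at hj
      rcases eq_or_ne j l with rfl | hjl
      · exact h0
      · rw [hA]; exact hsup g hg _ hek j hj hjl
    · rw [Equiv.Perm.one_apply] at hj
      rcases eq_or_ne j k with rfl | hjk
      · rw [h0, zero_mul, add_zero, mul_eq_zero] at hAB
        exact (pow_q_eq_zero hF).1 (hAB.resolve_left (hA0.resolve_right fun h => h h0))
      · rw [hB]; exact hsup g hg _ hel j hjk hj
  -- the norm-one group, the torus and the swap
  set U := Finset.univ.filter (fun r : F => r ^ (q + 1) = 1) with hUdef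
  have hUc : U.card = q + 1 := by
    have := card_norm_one hF
    rwa [Nat.card_eq_fintype_card, Fintype.card_subtype] at this
  choose t htM htU htm ht using fun r : {r : F // r ^ (q + 1) = 1} => exists_diagM hF hHM
    (fun j => if j = k then (r : F) else if j = p then (r : F)⁻¹ else 1)
    (fun j => by split_ifs; exacts [r.2, inv_pow_succ _ r.2, one_pow _])
    (by
      have hr0 : (r : F) ≠ 0 := fun h => by simpa [h] using r.2
      rw [← Finset.prod_subset (Finset.subset_univ ({k, p} : Finset (Fin n))) fun j _ hj => by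
        simp only [Finset.mem_insert, Finset.mem_singleton, not_or] at hj
        simp [hj.1, hj.2], Finset.prod_pair hpk.symm]
      simp [hpk, hr0])
  have htk : ∀ r, (t r : Matrix (Fin n) (Fin n) F) *ᵥ Pi.single k 1 = (r : F) • Pi.single k 1 :=
    fun r => funext fun j => by
      rw [ht, Pi.smul_apply, smul_eq_mul]
      rcases eq_or_ne j k with rfl | hj
      · simp
      · simp [hj]
  have htl : ∀ r, (t r : Matrix (Fin n) (Fin n) F) *ᵥ Pi.single l 1 = Pi.single l 1 :=
    fun r => funext fun j => by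
      rw [ht]
      rcases eq_or_ne j l with rfl | hj
      · simp [hkl.symm, hpl.symm]
      · simp [hj]
  have htG : ∀ r, t r ∈ pairStab q M k l := fun r => ⟨htM r, (htU r).1, fun j hjk hjl =>
    ⟨if j = p then (r : F)⁻¹ else 1, funext fun i => by
      rw [ht, Pi.smul_apply, smul_eq_mul]
      rcases eq_or_ne i j with rfl | hi
      · simp [hjk]
      · simp [hi]⟩⟩
  obtain ⟨σ, hσM, hσU, -, μ, -, hσx⟩ := exists_monM hF hHM (Equiv.swap k l) (fun _ => 1)
    (fun _ => one_pow _) p
  have hσk : (σ : Matrix (Fin n) (Fin n) F) *ᵥ Pi.single k 1 = Pi.single l 1 := funext fun j => by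
    rw [hσx]
    rcases eq_or_ne j l with rfl | hjl
    · simp [hpl.symm]
    · rw [Pi.single_eq_of_ne hjl, Pi.single_eq_of_ne, mul_zero]
      intro h
      exact hjl (by rw [← (Equiv.swap k l).apply_symm_apply j, h, Equiv.swap_apply_left])
  have hσG : σ ∈ pairStab q M k l := ⟨hσM, hσU.1, fun j hjk hjl =>
    ⟨if j = p then μ else 1, funext fun i => by
      rw [hσx, Pi.smul_apply, smul_eq_mul]
      rcases eq_or_ne i j with rfl | hi
      · simp [Equiv.swap_apply_of_ne_of_ne hjk hjl]
      · rw [Pi.single_eq_of_ne hi, Pi.single_eq_of_ne, mul_zero, mul_zero]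
        intro h
        exact hi (by rw [← (Equiv.swap k l).apply_symm_apply i, h,
          Equiv.swap_apply_of_ne_of_ne hjk hjl])⟩⟩
  set G := Finset.univ.filter (fun h => h ∈ pairStab q M k l) with hGdef
  set K := G.filter (fun x : Matrix.GeneralLinearGroup (Fin n) F => ∃ s : F, (x : Matrix (Fin n) (Fin n) F) *ᵥ Pi.single k 1 = s • Pi.single k 1 ∧
    (x : Matrix (Fin n) (Fin n) F) *ᵥ Pi.single l 1 = s • Pi.single l 1) with hKdef
  have hK1 : 0 < K.card := Finset.card_pos.2 ⟨1, by
    simp only [hKdef, hGdef, Finset.mem_filter, Finset.mem_univ, true_and]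
    exact ⟨one_mem _, 1, by rw [Units.val_one, Matrix.one_mulVec, one_smul],
      by rw [Units.val_one, Matrix.one_mulVec, one_smul]⟩⟩
  -- a lower bound on the group
  let γ : Option (Option {r : F // r ^ (q + 1) = 1}) → Matrix.GeneralLinearGroup (Fin n) F
    | none => 1
    | some none => σ
    | some (some r) => t r * g
  have hγG : ∀ i, γ i ∈ pairStab q M k l := fun
    | none => one_mem _
    | some none => hσG
    | some (some r) => mul_mem (htG r) hg
  have hγs : ∀ i i' (s : F), (γ i : Matrix (Fin n) (Fin n) F) *ᵥ Pi.single k 1 =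
      s • ((γ i' : Matrix (Fin n) (Fin n) F) *ᵥ Pi.single k 1) → i = i' := by
    have c1 : ((γ none : Matrix (Fin n) (Fin n) F) *ᵥ Pi.single k 1) = Pi.single k 1 := by
      show ((1 : Matrix.GeneralLinearGroup (Fin n) F) : Matrix (Fin n) (Fin n) F) *ᵥ _ = _
      rw [Units.val_one, Matrix.one_mulVec]
    have c3 : ∀ r, ((γ (some (some r)) : Matrix (Fin n) (Fin n) F) *ᵥ Pi.single k 1) k = (r : F) * A k ∧
        ((γ (some (some r)) : Matrix (Fin n) (Fin n) F) *ᵥ Pi.single k 1) l = A l := fun r => by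
      have e : (γ (some (some r)) : Matrix (Fin n) (Fin n) F) *ᵥ Pi.single k 1 =
          (t r : Matrix (Fin n) (Fin n) F) *ᵥ A := by
        simp only [γ]; rw [Units.val_mul, ← Matrix.mulVec_mulVec, hA]
      rw [e, ht, ht]
      simp [hkl.symm, hpl.symm]
    have hr0 : ∀ r : {r : F // r ^ (q + 1) = 1}, (r : F) ≠ 0 := fun r h => by simpa [h] using r.2
    intro i i' s h
    have hk' := congrFun h k
    have hl' := congrFun h l
    match i, i' with
    | none, none => rfl
    | some none, some none => rfl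
    | none, some none =>
      exfalso
      simp only [γ, Pi.smul_apply, hσk] at hk'
      simp [hkl] at hk'
    | some none, none =>
      exfalso
      simp only [γ, Pi.smul_apply, hσk] at hl'
      simp [hkl.symm] at hl'
    | none, some (some r) =>
      exfalso
      rw [Pi.smul_apply, c1, (c3 r).1] at hk'
      rw [Pi.smul_apply, c1, (c3 r).2, Pi.single_eq_of_ne hkl.symm] at hl'
      have hs : s = 0 := by simpa [hAl] using hl'.symm
      simp [hs] at hk'
    | some none, some (some r) =>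
      exfalso
      rw [Pi.smul_apply, (c3 r).1, show (γ (some none) : Matrix (Fin n) (Fin n) F) *ᵥ Pi.single k 1 =
        Pi.single l 1 from hσk, Pi.single_eq_of_ne hkl] at hk'
      rw [Pi.smul_apply, (c3 r).2, show (γ (some none) : Matrix (Fin n) (Fin n) F) *ᵥ Pi.single k 1 =
        Pi.single l 1 from hσk, Pi.single_eq_same] at hl'
      have hs : s = 0 := by simpa [hAk, hr0 r] using hk'.symm
      simp [hs] at hl'
    | some (some r), none =>
      exfalso
      rw [Pi.smul_apply, c1, (c3 r).2, Pi.single_eq_of_ne hkl.symm, smul_zero] at hl'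
      exact hAl hl'
    | some (some r), some none =>
      exfalso
      rw [Pi.smul_apply, (c3 r).1, show (γ (some none) : Matrix (Fin n) (Fin n) F) *ᵥ Pi.single k 1 =
        Pi.single l 1 from hσk, Pi.single_eq_of_ne hkl, smul_zero] at hk'
      exact mul_ne_zero (hr0 r) hAk hk'
    | some (some r), some (some r') =>
      rw [Pi.smul_apply, (c3 r).2, (c3 r').2, smul_eq_mul] at hl'
      rw [Pi.smul_apply, (c3 r).1, (c3 r').1, smul_eq_mul] at hk'
      have hs : s = 1 := mul_right_cancel₀ hAl (by linear_combination -hl')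
      rw [hs, one_mul] at hk'
      rw [Subtype.ext (mul_right_cancel₀ hAk hk')]
  have hlow : (q + 3) * ((q + 1) * K.card) ≤ G.card := by
    have e : (q + 3) * ((q + 1) * K.card) =
        (Finset.univ ×ˢ (Finset.univ ×ˢ K) :
          Finset (Option (Option {r : F // r ^ (q + 1) = 1}) × {r : F // r ^ (q + 1) = 1} ×
            Matrix.GeneralLinearGroup (Fin n) F)).card := by
      rw [Finset.card_product, Finset.card_product, Finset.card_univ, Finset.card_univ,
        Fintype.card_option, Fintype.card_option, Fintype.card_subtype, ← hUdef, hUc]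
    rw [e]
    refine Finset.card_le_card_of_injOn (fun x => γ x.1 * t x.2.1 * x.2.2) (fun x hx => ?_) ?_
    · obtain ⟨-, hx2⟩ := Finset.mem_product.1 hx
      obtain ⟨-, hx3⟩ := Finset.mem_product.1 hx2
      have h3 : x.2.2 ∈ pairStab q M k l :=
        (Finset.mem_filter.1 (Finset.mem_filter.1 hx3).1).2
      simp only [hGdef, Finset.coe_filter, Finset.mem_univ, true_and, Set.mem_setOf_eq]
      exact mul_mem (mul_mem (hγG _) (htG _)) h3
    rintro ⟨i, r, x⟩ hx ⟨i', r', x'⟩ hx' e
    simp only [Finset.coe_product, Set.mem_prod, Finset.coe_univ, Set.mem_univ, true_and,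
      Finset.mem_coe, hKdef, Finset.mem_filter] at hx hx'
    obtain ⟨-, s, hsk, hsl⟩ := hx
    obtain ⟨-, s', hsk', hsl'⟩ := hx'
    simp only at e
    have hs0 : ∀ {x : Matrix.GeneralLinearGroup (Fin n) F} {s : F},
        (x : Matrix (Fin n) (Fin n) F) *ᵥ Pi.single k 1 = s • Pi.single k 1 → s ≠ 0 := by
      rintro x s h rfl
      rw [zero_smul] at h
      have h1 := Matrix.mulVec_injective_iff_isUnit.2 (Units.isUnit x)
        (h.trans (Matrix.mulVec_zero _).symm)
      simpa using congrFun h1 k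
    have hr0 : ∀ r : {r : F // r ^ (q + 1) = 1}, (r : F) ≠ 0 := fun r h => by simpa [h] using r.2
    have ek := congrArg (fun y : Matrix.GeneralLinearGroup (Fin n) F =>
      (y : Matrix (Fin n) (Fin n) F) *ᵥ Pi.single k 1) e
    simp only [Units.val_mul, ← Matrix.mulVec_mulVec, hsk, hsk', Matrix.mulVec_smul, htk] at ek
    obtain rfl : i = i' := by
      refine hγs i i' ((s * r)⁻¹ * (s' * r')) ?_
      rw [smul_smul, smul_smul] at ek
      rw [← smul_smul, ← ek, inv_smul_smul₀ (mul_ne_zero (hs0 hsk) (hr0 r))]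
    rw [mul_assoc, mul_assoc, mul_left_cancel_iff] at e
    have el := congrArg (fun y : Matrix.GeneralLinearGroup (Fin n) F =>
      ((y : Matrix (Fin n) (Fin n) F) *ᵥ Pi.single l 1)) e
    have ek' := congrArg (fun y : Matrix.GeneralLinearGroup (Fin n) F =>
      ((y : Matrix (Fin n) (Fin n) F) *ᵥ Pi.single k 1)) e
    simp only [Units.val_mul, ← Matrix.mulVec_mulVec, hsk, hsk', hsl, hsl', Matrix.mulVec_smul,
      htk, htl, smul_smul] at el ek'
    have e1 : s = s' := by simpa using congrFun el l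
    have e2 : s * (r : F) = s' * (r' : F) := by simpa using congrFun ek' k
    obtain rfl : r = r' := Subtype.ext (mul_left_cancel₀ (hs0 hsk') (by rw [← e2, e1]))
    rw [mul_left_cancel_iff] at e
    rw [e]
  -- isotropic vectors of the pair
  obtain ⟨α₀, hα₀⟩ := exists_eps hF
  set R := Finset.univ.filter (fun r : F => r ^ (q + 1) = -1) with hRdef
  have hRc : R.card = q + 1 := by
    have := card_norm_fibre hF (c := (-1 : F)) (by rw [neg_pow_q hF, one_pow]) (neg_ne_zero.2 one_ne_zero)
    rwa [Nat.card_eq_fintype_card, Fintype.card_subtype] at this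
  obtain ⟨β, hβR, hβ⟩ := Finset.exists_mem_ne (show 1 < R.card by omega) α₀
  have hβ1 : β ^ (q + 1) = -1 := (Finset.mem_filter.1 hβR).2
  obtain ⟨v, hvdef⟩ : ∃ v, v = pairVec k l (1 : F) α₀ := ⟨_, rfl⟩
  have hpair : ∀ (x : Fin n → F) (a b : F), Cfsg.hermForm n F q x (pairVec k l a b) =
      x k * a ^ q + x l * b ^ q := herm_pairVec hF hn hHM hkl
  have hiso : ∀ r : F, r ^ (q + 1) = -1 →
      Cfsg.hermForm n F q (pairVec k l (1 : F) r) (pairVec k l (1 : F) r) = 0 := fun r hr => by
    rw [hpair, pairVec_left hkl, pairVec_right hkl, one_pow, ← pow_succ', hr]; ring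
  obtain ⟨η, hη⟩ : ∃ η, η = 1 + α₀ * β ^ q := ⟨_, rfl⟩
  have hη0 : η ≠ 0 := fun h => hβ (by
    have hβ0 : β ^ q ≠ 0 := pow_ne_zero _ fun h0 => by simp [h0] at hβ1
    refine mul_right_cancel₀ hβ0 ?_
    rw [← pow_succ', hβ1]
    linear_combination hη - h)
  obtain ⟨w, hwdef⟩ : ∃ w, w = (η⁻¹ ^ q) • pairVec k l (1 : F) β := ⟨_, rfl⟩
  have hv0 : Cfsg.hermForm n F q v v = 0 := hvdef ▸ hiso _ hα₀
  have hw0 : Cfsg.hermForm n F q w w = 0 := by
    rw [hwdef, H.smul_left, H.smul_right, hiso _ hβ1, mul_zero, mul_zero]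
  have hvw : Cfsg.hermForm n F q v w = 1 := by
    rw [hwdef, H.smul_right, pow_q_pow_q hF, hvdef, hpair, pairVec_left hkl, pairVec_right hkl,
      one_pow, mul_one, ← hη, inv_mul_cancel₀ hη0]
  have hwv : Cfsg.hermForm n F q w v = 1 := by rw [H.conj_symm v w, hvw, one_pow]
  have hvsup : ∀ j, j ≠ k → j ≠ l → v j = 0 := fun j h1 h2 => hvdef ▸ pairVec_other h1 h2 _ _
  have hwsup : ∀ j, j ≠ k → j ≠ l → w j = 0 := fun j h1 h2 => by
    rw [hwdef, Pi.smul_apply, pairVec_other h1 h2, smul_zero]
  have hspan : ∀ z : Fin n → F, (∀ j, j ≠ k → j ≠ l → z j = 0) →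
      z = Cfsg.hermForm n F q z w • v + Cfsg.hermForm n F q z v • w := by
    intro z hz
    obtain ⟨u, hu⟩ : ∃ u, u = z - (Cfsg.hermForm n F q z w • v + Cfsg.hermForm n F q z v • w) :=
      ⟨_, rfl⟩
    have huv : Cfsg.hermForm n F q u v = 0 := by
      rw [hu, H.sub_left, H.add_left, H.smul_left, H.smul_left, hv0, hwv]; ring
    have huw : Cfsg.hermForm n F q u w = 0 := by
      rw [hu, H.sub_left, H.add_left, H.smul_left, H.smul_left, hw0, hvw]; ring
    rw [hvdef, hpair, one_pow, mul_one] at huv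
    rw [hwdef, H.smul_right, pow_q_pow_q hF, hpair, one_pow, mul_one] at huw
    have e2 := (mul_eq_zero.1 huw).resolve_left (inv_ne_zero hη0)
    have hne : α₀ ^ q - β ^ q ≠ 0 := fun h => hβ (by
      have h' := congrArg (fun x : F => x ^ q) (sub_eq_zero.1 h)
      simp only [pow_q_pow_q hF] at h'
      exact h'.symm)
    have hul : u l = 0 := (mul_eq_zero.1 (show u l * (α₀ ^ q - β ^ q) = 0 by
      linear_combination huv - e2)).resolve_right hne
    have hu0 : u = 0 := funext fun j => by
      rcases eq_or_ne j k with rfl | hjk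
      · rw [hul, zero_mul, add_zero] at huv; exact huv
      rcases eq_or_ne j l with rfl | hjl
      · exact hul
      · rw [hu, Pi.sub_apply, Pi.add_apply, Pi.smul_apply, Pi.smul_apply, hz j hjk hjl,
          hvsup j hjk hjl, hwsup j hjk hjl]
        simp
    exact sub_eq_zero.1 (hu.symm.trans hu0)
  set St := G.filter (fun h : Matrix.GeneralLinearGroup (Fin n) F => ∃ a : F, (h : Matrix (Fin n) (Fin n) F) *ᵥ v = a • v) with hStdef
  have hvne : v k = 1 := by rw [hvdef, pairVec_left hkl]
  have hfib : G.card ≤ (q + 1) * St.card := by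
    let f : Matrix.GeneralLinearGroup (Fin n) F → F := fun h =>
      ((h : Matrix (Fin n) (Fin n) F) *ᵥ v) l / ((h : Matrix (Fin n) (Fin n) F) *ᵥ v) k
    have hk0 : ∀ h ∈ pairStab q M k l, ((h : Matrix (Fin n) (Fin n) F) *ᵥ v) k ≠ 0 ∧
        f h ^ (q + 1) = -1 := by
      intro h hh
      obtain ⟨z, hz⟩ : ∃ z, z = (h : Matrix (Fin n) (Fin n) F) *ᵥ v := ⟨_, rfl⟩
      have hzs : ∀ j, j ≠ k → j ≠ l → z j = 0 := fun j h1 h2 => hz ▸ hsup h hh v hvsup j h1 h2
      have hz0 : Cfsg.hermForm n F q z z = 0 := by rw [hz]; exact (hh.2.1 v v).trans hv0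
      have e : z k * z k ^ q + z l * z l ^ q = 0 := by
        rw [← hz0]
        show _ = ∑ j, z j * z j ^ q
        rw [Finset.sum_eq_add k l hkl (fun j _ hj => by rw [hzs j hj.1 hj.2, zero_mul])
          (fun h => absurd (Finset.mem_univ k) h) (fun h => absurd (Finset.mem_univ l) h)]
      have hzk : z k ≠ 0 := by
        intro h0
        have hzl : z l = 0 := by
          rw [h0, zero_mul, zero_add, mul_eq_zero] at e
          exact e.elim id (fun h' => (pow_q_eq_zero hF).1 h')
        have : z = 0 := funext fun j => by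
          rcases eq_or_ne j k with rfl | hjk
          · exact h0
          rcases eq_or_ne j l with rfl | hjl
          · exact hzl
          · exact hzs j hjk hjl
        have h1 := Matrix.mulVec_injective_iff_isUnit.2 (Units.isUnit h)
          ((hz.symm.trans this).trans (Matrix.mulVec_zero _).symm)
        exact one_ne_zero (hvne.symm.trans (congrFun h1 k))
      refine ⟨hz ▸ hzk, ?_⟩
      show (((h : Matrix (Fin n) (Fin n) F) *ᵥ v) l / ((h : Matrix (Fin n) (Fin n) F) *ᵥ v) k) ^ (q + 1) = -1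
      rw [← hz, div_pow, pow_succ', pow_succ' (z k), div_eq_iff (mul_ne_zero hzk (pow_ne_zero _ hzk))]
      linear_combination e
    refine le_trans (Finset.card_le_mul_card_image (f := f) G St.card fun r hr => ?_) ?_
    · obtain ⟨h₀, hh₀, hfh₀⟩ := Finset.mem_image.1 hr
      have hh₀G : h₀ ∈ pairStab q M k l := (Finset.mem_filter.1 hh₀).2
      refine Finset.card_le_card_of_injOn (fun h => h₀⁻¹ * h) (fun h hh => ?_)
        fun h _ h' _ e => mul_left_cancel e
      simp only [Finset.coe_filter, Set.mem_setOf_eq] at hh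
      obtain ⟨hhG, hfh⟩ := hh
      have hhG' : h ∈ pairStab q M k l := (Finset.mem_filter.1 hhG).2
      simp only [hStdef, hGdef, Finset.coe_filter, Finset.mem_filter, Finset.mem_univ, true_and,
        Set.mem_setOf_eq]
      refine ⟨mul_mem (inv_mem hh₀G) hhG', ?_⟩
      obtain ⟨c, hc⟩ : ∃ c : F, (h : Matrix (Fin n) (Fin n) F) *ᵥ v =
          c • ((h₀ : Matrix (Fin n) (Fin n) F) *ᵥ v) := by
        refine ⟨((h : Matrix (Fin n) (Fin n) F) *ᵥ v) k / ((h₀ : Matrix (Fin n) (Fin n) F) *ᵥ v) k,
          funext fun j => ?_⟩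
        rw [Pi.smul_apply, smul_eq_mul]
        rcases eq_or_ne j k with rfl | hjk
        · rw [div_mul_cancel₀ _ (hk0 h₀ hh₀G).1]
        rcases eq_or_ne j l with rfl | hjl
        · have h' := hfh.trans hfh₀.symm
          simp only [f] at h'
          rw [div_eq_div_iff (hk0 h hhG').1 (hk0 h₀ hh₀G).1] at h'
          rw [div_mul_eq_mul_div, eq_div_iff (hk0 h₀ hh₀G).1]
          linear_combination h'
        · rw [hsup h hhG' v hvsup j hjk hjl, hsup h₀ hh₀G v hvsup j hjk hjl, mul_zero]
      exact ⟨c, by rw [Units.val_mul, ← Matrix.mulVec_mulVec, hc, Matrix.mulVec_smul,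
        Matrix.mulVec_mulVec, ← Units.val_mul, inv_mul_cancel, Units.val_one, Matrix.one_mulVec]⟩
    · rw [mul_comm, ← hRc]
      refine Nat.mul_le_mul_right _ (Finset.card_le_card fun r hr => ?_)
      obtain ⟨h, hh, rfl⟩ := Finset.mem_image.1 hr
      exact Finset.mem_filter.2 ⟨Finset.mem_univ _, (hk0 h (Finset.mem_filter.1 hh).2).2⟩
  -- the skew parameters and the multipliers
  set Sk := Finset.univ.filter (fun c : F => c + c ^ q = 0) with hSkdef
  have hSkc : Sk.card = q := by
    have := card_trace_zero hF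
    rwa [Nat.card_eq_fintype_card, Fintype.card_subtype] at this
  set V := Sk.filter (fun c => ∀ x : Matrix.GeneralLinearGroup (Fin n) F,
    (x : Matrix (Fin n) (Fin n) F) = Cfsg.unitaryTransvection n q v c → x ∈ M) with hVdef
  by_cases hall : V = Sk
  · refine ⟨α₀, fun h => by simp [h] at hα₀, hvdef ▸ ⟨hv0, fun x c hc hx => ?_⟩⟩
    have hcV : c ∈ V := by rw [hall]; exact Finset.mem_filter.2 ⟨Finset.mem_univ _, hc⟩
    exact (Finset.mem_filter.1 hcV).2 x hx
  exfalso
  obtain ⟨d, hd, hdV⟩ : ∃ d ∈ Sk, d ∉ V := by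
    by_contra! hc
    exact hall (Finset.Subset.antisymm (Finset.filter_subset _ _) hc)
  have memV : ∀ {c : F}, c ∈ V ↔ c + c ^ q = 0 ∧ ∀ x : Matrix.GeneralLinearGroup (Fin n) F,
      (x : Matrix (Fin n) (Fin n) F) = Cfsg.unitaryTransvection n q v c → x ∈ M := fun {c} => by
    simp [hVdef, hSkdef]
  have hV0 : (0 : F) ∈ V := memV.2 ⟨by rw [zero_pow_q hF, add_zero], fun x hx => by
    have : x = 1 := Units.ext (by rw [hx]; simp [Cfsg.unitaryTransvection])
    rw [this]; exact one_mem _⟩
  have hVsub : ∀ c ∈ V, ∀ c' ∈ V, c - c' ∈ V := by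
    intro c hc c' hc'
    obtain ⟨hc, hcM⟩ := memV.1 hc
    obtain ⟨hc', hc'M⟩ := memV.1 hc'
    have hs : c - c' + (c - c') ^ q = 0 := by rw [sub_pow_q hF]; linear_combination hc - hc'
    refine memV.2 ⟨hs, fun x hx => ?_⟩
    have e : x = glTransvection hF v hv0 c hc * (glTransvection hF v hv0 c' hc')⁻¹ :=
      eq_mul_inv_of_mul_eq (Units.ext (by
        rw [Units.val_mul, hx]
        refine (transvection_mul v hv0 _ _).trans ?_
        rw [sub_add_cancel]; rfl))
    rw [e]
    exact mul_mem (hcM _ rfl) (inv_mem (hc'M _ rfl))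
  -- coordinates of an element of St
  let a' : Matrix.GeneralLinearGroup (Fin n) F → F := fun h =>
    Cfsg.hermForm n F q ((h : Matrix (Fin n) (Fin n) F) *ᵥ v) w
  let d' : Matrix.GeneralLinearGroup (Fin n) F → F := fun h =>
    Cfsg.hermForm n F q ((h : Matrix (Fin n) (Fin n) F) *ᵥ w) v
  let x' : Matrix.GeneralLinearGroup (Fin n) F → F := fun h =>
    Cfsg.hermForm n F q ((h : Matrix (Fin n) (Fin n) F) *ᵥ w) w
  have memSt : ∀ h ∈ St, h ∈ pairStab q M k l ∧
      (h : Matrix (Fin n) (Fin n) F) *ᵥ v = a' h • v ∧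
      (h : Matrix (Fin n) (Fin n) F) *ᵥ w = x' h • v + d' h • w ∧
      d' h * a' h ^ q = 1 ∧ x' h * d' h ^ q + (x' h * d' h ^ q) ^ q = 0 := by
    intro h hh
    obtain ⟨hhG, a, ha⟩ := Finset.mem_filter.1 hh
    have hhG' : h ∈ pairStab q M k l := (Finset.mem_filter.1 hhG).2
    have ea : a' h = a := by
      show Cfsg.hermForm n F q _ w = a
      rw [ha, H.smul_left, hvw, mul_one]
    have ew : (h : Matrix (Fin n) (Fin n) F) *ᵥ w = x' h • v + d' h • w :=
      hspan _ (hsup h hhG' w hwsup)
    have e1 : Cfsg.hermForm n F q ((h : Matrix (Fin n) (Fin n) F) *ᵥ w)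
        ((h : Matrix (Fin n) (Fin n) F) *ᵥ v) = 1 := (hhG'.2.1 w v).trans hwv
    have e2 : Cfsg.hermForm n F q ((h : Matrix (Fin n) (Fin n) F) *ᵥ w)
        ((h : Matrix (Fin n) (Fin n) F) *ᵥ w) = 0 := (hhG'.2.1 w w).trans hw0
    rw [ew, ha] at e1
    rw [ew] at e2
    simp only [H.add_left, H.add_right hF, H.smul_left, H.smul_right, hv0, hw0, hvw, hwv, mul_zero,
      mul_one, add_zero, zero_add] at e1 e2
    refine ⟨hhG', by rw [ea, ha], ew, by rw [ea]; linear_combination e1, ?_⟩
    rw [mul_pow, pow_q_pow_q hF]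
    linear_combination e2
  have hline : ∀ {h : Matrix.GeneralLinearGroup (Fin n) F}, h ∈ St → a' h ≠ 0 ∧ d' h ≠ 0 :=
    fun {h} hh => ⟨fun h0 => by
      have e := (memSt h hh).2.2.2.1
      rw [h0, zero_pow_q hF, mul_zero] at e
      exact zero_ne_one e, fun h0 => by
      have e := (memSt h hh).2.2.2.1
      rw [h0, zero_mul] at e
      exact zero_ne_one e⟩
  let N : Matrix.GeneralLinearGroup (Fin n) F → F × F := fun h =>
    (a' h * a' h ^ q, x' h * d' h ^ q)
  -- two elements with the same multiplier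
  have same : ∀ h ∈ St, ∀ h' ∈ St, (N h).1 = (N h').1 →
      (N h').2 - (N h).2 ∈ V ∧ ((N h).2 = (N h').2 → h⁻¹ * h' ∈ K) := by
    intro h hh h' hh' hρ
    obtain ⟨hG1, hv1, hw1, hd1, -⟩ := memSt h hh
    obtain ⟨hG2, hv2, hw2, hd2, hs2⟩ := memSt h' hh'
    obtain ⟨-, hs1⟩ := (memSt h hh).2.2.2
    obtain ⟨ha0, hd0⟩ := hline hh
    obtain ⟨ε, hεdef⟩ : ∃ ε, ε = a' h' / a' h := ⟨_, rfl⟩
    obtain ⟨δ, hδdef⟩ : ∃ δ, δ = (N h').2 - (N h).2 := ⟨_, rfl⟩
    have ea : a' h' = ε * a' h := by rw [hεdef, div_mul_cancel₀ _ ha0]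
    have hρ' : a' h * a' h ^ q = a' h' * a' h' ^ q := hρ
    have hεn : ε ^ (q + 1) = 1 := by
      rw [hεdef, div_pow, pow_succ', pow_succ' (a' h), ← hρ', div_self]
      exact mul_ne_zero ha0 (pow_ne_zero _ ha0)
    have hε0 : ε ≠ 0 := fun h0 => by simp [h0] at hεn
    have hεq : ε ^ q * ε = 1 := by rw [← pow_succ, hεn]
    have ed : d' h' = ε * d' h := by
      refine mul_right_cancel₀ (pow_ne_zero q (mul_ne_zero hε0 ha0)) ?_
      rw [← ea, hd2, ea, mul_pow]
      linear_combination -(ε ^ q * ε) * hd1 - hεq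
    have hx1 : x' h = x' h * d' h ^ q * a' h := by
      have e := congrArg (fun z : F => z ^ q) hd1
      simp only [mul_pow, pow_q_pow_q hF, one_pow] at e
      linear_combination (-x' h) * e
    have hx2 : x' h' = x' h' * d' h' ^ q * a' h' := by
      have e := congrArg (fun z : F => z ^ q) hd2
      simp only [mul_pow, pow_q_pow_q hF, one_pow] at e
      linear_combination (-x' h') * e
    obtain ⟨y, hy⟩ : ∃ y, y = h⁻¹ * h' := ⟨_, rfl⟩
    have hyG : y ∈ pairStab q M k l := hy ▸ mul_mem (inv_mem hG1) hG2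
    have hinj : Function.Injective (fun z => (h : Matrix (Fin n) (Fin n) F) *ᵥ z) :=
      Matrix.mulVec_injective_iff_isUnit.2 (Units.isUnit h)
    have hhy : ∀ z, (h : Matrix (Fin n) (Fin n) F) *ᵥ ((y : Matrix (Fin n) (Fin n) F) *ᵥ z) =
        (h' : Matrix (Fin n) (Fin n) F) *ᵥ z := fun z => by
      rw [Matrix.mulVec_mulVec, ← Units.val_mul, hy, mul_inv_cancel_left]
    have hyv : (y : Matrix (Fin n) (Fin n) F) *ᵥ v = ε • v := hinj (by
      simp only [hhy, Matrix.mulVec_smul, hv1, hv2, smul_smul, ea])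
    have hyw : (y : Matrix (Fin n) (Fin n) F) *ᵥ w = ε • (w + δ • v) := hinj (by
      simp only [hhy, Matrix.mulVec_smul, Matrix.mulVec_add, hv1, hw1, hw2]
      have e : x' h' = ε * x' h + ε * (δ * a' h) := by
        rw [hδdef]
        show x' h' = ε * x' h + ε * ((x' h' * d' h' ^ q - x' h * d' h ^ q) * a' h)
        have h2 := hx2
        rw [ea] at h2
        linear_combination h2 - ε * hx1
      rw [e, ed]
      module)
    refine ⟨?_, fun h0 => ?_⟩
    · have pow : ∀ i : ℕ, ((y ^ i : Matrix.GeneralLinearGroup (Fin n) F) : Matrix (Fin n) (Fin n) F) *ᵥ v =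
          ε ^ i • v ∧ ((y ^ i : Matrix.GeneralLinearGroup (Fin n) F) : Matrix (Fin n) (Fin n) F) *ᵥ w =
          ε ^ i • (w + ((i : F) * δ) • v) ∧ ∀ j (c : F), (y : Matrix (Fin n) (Fin n) F) *ᵥ Pi.single j 1 =
          c • Pi.single j 1 → ((y ^ i : Matrix.GeneralLinearGroup (Fin n) F) : Matrix (Fin n) (Fin n) F) *ᵥ
            Pi.single j 1 = c ^ i • Pi.single j 1 := by
        intro i
        induction i with
        | zero =>
          refine ⟨?_, ?_, fun j c _ => ?_⟩ <;>
            simp only [pow_zero, Units.val_one, Matrix.one_mulVec, Nat.cast_zero, zero_mul, zero_smul,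
              add_zero, one_smul]
        | succ i ih =>
          obtain ⟨i1, i2, i3⟩ := ih
          refine ⟨?_, ?_, fun j c hc => ?_⟩
          · rw [pow_succ', Units.val_mul, ← Matrix.mulVec_mulVec, i1, Matrix.mulVec_smul, hyv, smul_smul,
              ← pow_succ]
          · rw [pow_succ', Units.val_mul, ← Matrix.mulVec_mulVec, i2, Matrix.mulVec_smul, Matrix.mulVec_add,
              Matrix.mulVec_smul, hyv, hyw]
            push_cast
            module
          · rw [pow_succ', Units.val_mul, ← Matrix.mulVec_mulVec, i3 j c hc, Matrix.mulVec_smul, hc,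
              smul_smul, ← pow_succ]
      have hQ : ((q ^ 2 - 1 : ℕ) : F) = -1 := by
        have h1 := FiniteField.cast_card_eq_zero F
        rw [hF] at h1
        rw [Nat.cast_sub (Nat.one_le_pow _ _ (by omega)), h1, Nat.cast_one, zero_sub]
      have hone : ∀ c : F, c ≠ 0 → c ^ (q ^ 2 - 1) = 1 := fun c hc =>
        hF ▸ FiniteField.pow_card_sub_one_eq_one c hc
      obtain ⟨z1, z2, z3⟩ := pow (q ^ 2 - 1)
      rw [hone ε hε0, one_smul] at z1
      rw [hone ε hε0, one_smul, hQ] at z2
      have hδs : δ + δ ^ q = 0 := by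
        rw [hδdef, sub_pow_q hF]
        show x' h' * d' h' ^ q - x' h * d' h ^ q +
          ((x' h' * d' h' ^ q) ^ q - (x' h * d' h ^ q) ^ q) = 0
        linear_combination hs2 - hs1
      have hnδs : -δ + (-δ) ^ q = 0 := by rw [neg_pow_q hF]; linear_combination -hδs
      have hnV : -δ ∈ V := memV.2 ⟨hnδs, fun x hx => by
        suffices e : x = y ^ (q ^ 2 - 1) by rw [e]; exact pow_mem hyG.1 _
        refine Units.ext (Matrix.ext_iff_mulVec.2 fun z => ?_)
        have base : ∀ j, (x : Matrix (Fin n) (Fin n) F) *ᵥ Pi.single j 1 =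
            ((y ^ (q ^ 2 - 1) : Matrix.GeneralLinearGroup (Fin n) F) : Matrix (Fin n) (Fin n) F) *ᵥ
              Pi.single j 1 := by
          intro j
          rw [hx, transvection_mulVec, hermForm_single_left]
          by_cases hj : j = k ∨ j = l
          · have hjs : ∀ i, i ≠ k → i ≠ l → (Pi.single j (1 : F) : Fin n → F) i = 0 := fun i h1 h2 =>
              Pi.single_eq_of_ne (by rintro rfl; exact hj.elim h1 h2) _
            conv_rhs => rw [hspan _ hjs, Matrix.mulVec_add, Matrix.mulVec_smul, Matrix.mulVec_smul,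
              z1, z2, hermForm_single_left, hermForm_single_left]
            conv_lhs => arg 1; rw [hspan _ hjs, hermForm_single_left, hermForm_single_left]
            module
          · rw [not_or] at hj
            obtain ⟨c, hc⟩ := hyG.2.2 j hj.1 hj.2
            have hc0 : c ≠ 0 := by
              rintro rfl
              rw [zero_smul] at hc
              have h1 := Matrix.mulVec_injective_iff_isUnit.2 (Units.isUnit y)
                (hc.trans (Matrix.mulVec_zero _).symm)
              simpa using congrFun h1 j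
            rw [z3 j c hc, hone c hc0, one_smul, hvsup j hj.1 hj.2, zero_pow_q hF, mul_zero, zero_smul,
              add_zero]
        rw [pi_eq_sum_univ' z]
        simp only [Matrix.mulVec_sum, Matrix.mulVec_smul, base]⟩
      rw [← hδdef]
      have := hVsub 0 hV0 _ hnV
      rwa [zero_sub, neg_neg] at this
    · have hδ0 : δ = 0 := by rw [hδdef, h0, sub_self]
      rw [hδ0, zero_smul, add_zero] at hyw
      rw [← hy]
      simp only [hKdef, hGdef, Finset.mem_filter, Finset.mem_univ, true_and]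
      refine ⟨hyG, ε, ?_, ?_⟩
      · conv_lhs => rw [hspan _ hek, Matrix.mulVec_add, Matrix.mulVec_smul, Matrix.mulVec_smul, hyv, hyw]
        conv_rhs => rw [hspan _ hek]
        module
      · conv_lhs => rw [hspan _ hel, Matrix.mulVec_add, Matrix.mulVec_smul, Matrix.mulVec_smul, hyv, hyw]
        conv_rhs => rw [hspan _ hel]
        module
  set I := St.image (fun h => (N h).1) with hIdef
  set P := St.image N with hPdef
  have hP : P.card ≤ V.card * I.card := by
    have e : P.image Prod.fst = I := by rw [hPdef, hIdef, Finset.image_image]; rfl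
    rw [← e]
    refine Finset.card_le_mul_card_image P V.card fun ρ hρ => ?_
    rw [e, hIdef] at hρ
    obtain ⟨h₀, hh₀, hρ₀⟩ := Finset.mem_image.1 hρ
    refine Finset.card_le_card_of_injOn (fun x => x.2 - (N h₀).2) (fun x hx => ?_) ?_
    · simp only [Finset.coe_filter, Set.mem_setOf_eq] at hx
      obtain ⟨hxP, hxρ⟩ := hx
      obtain ⟨h, hh, rfl⟩ := Finset.mem_image.1 hxP
      exact (same h₀ hh₀ h hh (hρ₀.trans hxρ.symm)).1
    · rintro x hx y hy e
      simp only [Finset.coe_filter, Set.mem_setOf_eq] at hx hy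
      exact Prod.ext (hx.2.trans hy.2.symm) (sub_left_inj.1 e)
  have hSt : St.card ≤ K.card * P.card := by
    refine Finset.card_le_mul_card_image St K.card fun x hx => ?_
    obtain ⟨h₀, hh₀, hx₀⟩ := Finset.mem_image.1 hx
    refine Finset.card_le_card_of_injOn (fun h => h₀⁻¹ * h) (fun h hh => ?_)
      fun h _ h' _ e => mul_left_cancel e
    simp only [Finset.coe_filter, Set.mem_setOf_eq] at hh
    have e := hx₀.trans hh.2.symm
    exact (same h₀ hh₀ h hh.1 (congrArg Prod.fst e)).2 (congrArg Prod.snd e)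
  set S := Finset.univ.filter (fun f : F => f ^ q = f ∧ ∀ c ∈ V, f * c ∈ V) with hSdef
  have memS : ∀ {f : F}, f ∈ S ↔ f ^ q = f ∧ ∀ c ∈ V, f * c ∈ V := fun {f} => by simp [hSdef]
  have hI0 : (0 : F) ∉ I := fun h0 => by
    obtain ⟨h, hh, e⟩ := Finset.mem_image.1 h0
    exact mul_ne_zero (hline hh).1 (pow_ne_zero _ (hline hh).1) e
  have hIS : insert 0 I ⊆ S := by
    intro f hf
    rcases Finset.mem_insert.1 hf with rfl | hf
    · exact memS.2 ⟨zero_pow_q hF, fun c _ => by rw [zero_mul]; exact hV0⟩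
    obtain ⟨h, hh, rfl⟩ := Finset.mem_image.1 hf
    obtain ⟨hhG, hhv, -, -, -⟩ := memSt h hh
    have hfix : (a' h * a' h ^ q) ^ q = a' h * a' h ^ q := by rw [mul_pow, pow_q_pow_q hF]; ring
    refine memS.2 ⟨hfix, fun c hc => ?_⟩
    obtain ⟨hcs, hcM⟩ := memV.1 hc
    have hs' : a' h * a' h ^ q * c + (a' h * a' h ^ q * c) ^ q = 0 := by
      rw [mul_pow _ c, hfix]; linear_combination (a' h * a' h ^ q) * hcs
    refine memV.2 ⟨hs', fun x hx => ?_⟩
    have key : x = h * glTransvection hF v hv0 c hcs * h⁻¹ := by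
      refine eq_mul_inv_of_mul_eq (Units.ext ?_)
      rw [Units.val_mul, Units.val_mul, hx]
      have e := transvection_conj (⟨h, hhG.2.1⟩ : Cfsg.GU n F q) v c
      simp only at e
      rw [hhv, transvection_smul] at e
      rw [show c * a' h ^ (q + 1) = a' h * a' h ^ q * c by ring] at e
      exact e.symm
    rw [key]
    exact mul_mem (mul_mem hhG.1 (hcM _ rfl)) (inv_mem hhG.1)
  have hS : S.card * V.card ≤ q := by
    rw [← Finset.card_product, ← hSkc]
    refine Finset.card_le_card_of_injOn (fun z => z.1 * d + z.2) (fun z hz => ?_) ?_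
    · simp only [Finset.coe_product, Set.mem_prod, Finset.mem_coe] at hz
      simp only [hSkdef, Finset.coe_filter, Finset.mem_univ, true_and, Set.mem_setOf_eq]
      have hd' : d + d ^ q = 0 := (Finset.mem_filter.1 hd).2
      rw [add_pow_q hF, mul_pow, (memS.1 hz.1).1]
      linear_combination z.1 * hd' + (memV.1 hz.2).1
    · rintro ⟨f, c⟩ hz ⟨f', c'⟩ hz' e
      simp only [Finset.coe_product, Set.mem_prod, Finset.mem_coe] at hz hz'
      simp only at e
      obtain ⟨hf, hc⟩ := hz
      obtain ⟨hf', hc'⟩ := hz'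
      obtain ⟨u, hu⟩ : ∃ u, u = f - f' := ⟨_, rfl⟩
      have huq : u ^ q = u := by rw [hu, sub_pow_q hF, (memS.1 hf).1, (memS.1 hf').1]
      have huV : ∀ i : ℕ, ∀ c ∈ V, u ^ i * c ∈ V := by
        intro i
        induction i with
        | zero => intro c hc; rwa [pow_zero, one_mul]
        | succ i ih =>
          intro c hc
          rw [pow_succ, mul_assoc]
          refine ih _ ?_
          rw [hu, sub_mul]
          exact hVsub _ ((memS.1 hf).2 c hc) _ ((memS.1 hf').2 c hc)
      have hud : u * d ∈ V := by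
        have := hVsub c' hc' c hc
        rwa [show c' - c = u * d by rw [hu]; linear_combination -e] at this
      rcases eq_or_ne u 0 with h0 | hu0
      · have hff : f = f' := sub_eq_zero.1 (hu ▸ h0)
        subst hff
        exact Prod.ext rfl (by linear_combination e)
      · exfalso
        have h1 := huV (q - 2) _ hud
        rw [← mul_assoc, ← pow_succ, show q - 2 + 1 = q - 1 by omega, (fixed_iff hF hu0).1 huq,
          one_mul] at h1
        exact hdV h1
  have hIc : I.card + 1 ≤ S.card := by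
    rw [← Finset.card_insert_of_notMem hI0]; exact Finset.card_le_card hIS
  have h1 : (q + 3) * ((q + 1) * K.card) ≤ (q + 1) * (K.card * (V.card * I.card)) :=
    hlow.trans (hfib.trans (Nat.mul_le_mul_left _ (hSt.trans (Nat.mul_le_mul_left _ hP))))
  have h2 : q + 3 ≤ V.card * I.card := by
    refine Nat.le_of_mul_le_mul_left ?_ (Nat.mul_pos (Nat.succ_pos q) hK1)
    calc (q + 1) * K.card * (q + 3) = (q + 3) * ((q + 1) * K.card) := by ring
      _ ≤ _ := h1
      _ = (q + 1) * K.card * (V.card * I.card) := by ring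
  have h3 : (I.card + 1) * V.card ≤ q := (Nat.mul_le_mul_right _ hIc).trans hS
  nlinarith

end Pair

end Cfsg.Agent.Unitary
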