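import Cfsg.Agent.Lib.Unitary.MonoGrow
import Cfsg.Agent.Lib.Unitary.PairCentre
/-
A linked vector of weight between two and n - 1, for a generator of the norm-one group, gives SU
(n ≥ 4, q ≥ 3).
* glRefl_mul_same, refl_pair_mem_suGL, Linked.of_pow, exists_circle_pair, exists_linked_scale,
  mono_le_of_linked_gen
-/
set_option autoImplicit false

namespace Cfsg.Agent.Unitary

open scoped Matrix

variable {F : Type*} [Field F] [Fintype F] {q n : ℕ}

theorem glRefl_mul_same (hF : Fintype.card F = q ^ 2) {e : Fin n → F}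
    (he : Cfsg.hermForm n F q e e = 1) {m m' : F} (hm : m ^ (q + 1) = 1) (hm' : m' ^ (q + 1) = 1) :
    glRefl q e m * glRefl q e m' = glRefl q e (m * m') := by
  have H := hermForm_isHerm hF n
  refine gl_ext_mulVec fun v => ?_
  rw [Units.val_mul, ← Matrix.mulVec_mulVec, glRefl_apply hF he hm', glRefl_apply hF he hm,
    glRefl_apply hF he (by rw [mul_pow, hm, hm', one_mul]), H.add_left, H.smul_left, he]
  module

theorem glRefl_one_param (hF : Fintype.card F = q ^ 2) {e : Fin n → F}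
    (he : Cfsg.hermForm n F q e e = 1) : glRefl q e (1 : F) = 1 := by
  refine gl_ext_mulVec fun v => ?_
  rw [glRefl_apply hF he (one_pow _), sub_self, zero_mul, zero_smul, add_zero, Units.val_one,
    Matrix.one_mulVec]

theorem glRefl_pow_param (hF : Fintype.card F = q ^ 2) {e : Fin n → F}
    (he : Cfsg.hermForm n F q e e = 1) {m : F} (hm : m ^ (q + 1) = 1) (i : ℕ) :
    glRefl q e m ^ i = glRefl q e (m ^ i) := by
  induction i with
  | zero => rw [pow_zero, pow_zero, glRefl_one_param hF he]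
  | succ i ih =>
    rw [pow_succ, pow_succ, ih, glRefl_mul_same hF he (by rw [← pow_mul, mul_comm, pow_mul, hm, one_pow]) hm]

theorem refl_pair_mem_suGL (hF : Fintype.card F = q ^ 2) {x y : Fin n → F}
    (hx : Cfsg.hermForm n F q x x = 1) (hy : Cfsg.hermForm n F q y y = 1) {m : F}
    (hm : m ^ (q + 1) = 1) : glRefl q x m * (glRefl q y m)⁻¹ ∈ suGL n F q := by
  refine ⟨(Cfsg.GU n F q).mul_mem (glRefl_mem hF hx hm)
    ((Cfsg.GU n F q).inv_mem (glRefl_mem hF hy hm)), MonoidHom.mem_ker.2 (Units.ext ?_)⟩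
  have h1 : ((glRefl q y m)⁻¹ * glRefl q y m : Matrix.GeneralLinearGroup (Fin n) F) = 1 := inv_mul_cancel _
  have h2 := congrArg (fun g : Matrix.GeneralLinearGroup (Fin n) F => (g : Matrix (Fin n) (Fin n) F).det) h1
  simp only [Units.val_mul, Matrix.det_mul, glRefl_det hF hy hm, Units.val_one, Matrix.det_one] at h2
  show ((glRefl q x m * (glRefl q y m)⁻¹ : Matrix.GeneralLinearGroup (Fin n) F) :
    Matrix (Fin n) (Fin n) F).det = 1
  rw [Units.val_mul, Matrix.det_mul, glRefl_det hF hx hm, mul_comm]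
  exact h2

/-- Two coordinates: norms of `1 - L` weighted by a and b reach c. -/
theorem exists_circle_pair (hF : Fintype.card F = q ^ 2) {a b c : F} (ha : a ^ q = a) (ha0 : a ≠ 0)
    (hb : b ^ q = b) (hb0 : b ≠ 0) (hc : c ^ q = c)
    (h : a + b ≠ 0 ∨ ∀ L : F, L ^ (q + 1) = 1 → L ≠ 1 → b * ((1 - L) * (1 - L) ^ q) ≠ c) :
    ∃ L L' : F, L ^ (q + 1) = 1 ∧ L ≠ 1 ∧ L' ^ (q + 1) = 1 ∧ L' ≠ 1 ∧
      a * ((1 - L) * (1 - L) ^ q) + b * ((1 - L') * (1 - L') ^ q) = c := by
  classical
  set U := (Finset.univ.filter (fun x : F => x ^ (q + 1) = 1)).erase 1 with hUdef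
  have hUc : U.card = q := by
    have := card_norm_one hF
    rw [Nat.card_eq_fintype_card, Fintype.card_subtype] at this
    rw [hUdef, Finset.card_erase_of_mem (by simp), this]; omega
  have memU : ∀ {L : F}, L ∈ U ↔ L ^ (q + 1) = 1 ∧ L ≠ 1 := fun {L} => by simp [hUdef, and_comm]
  let σ : F → F := fun L => (1 - L) * (1 - L) ^ q
  have hσ : ∀ L ∈ U, σ L ≠ 0 ∧ σ L ^ q = σ L := fun L hL => by
    have h1 : 1 - L ≠ 0 := sub_ne_zero.2 (memU.1 hL).2.symm
    exact ⟨mul_ne_zero h1 (pow_ne_zero _ h1), by simp only [σ]; rw [mul_pow, pow_q_pow_q hF, mul_comm]⟩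
  set S := U.image σ with hS
  have hSc : q ≤ 2 * S.card := by
    rw [← hUc]
    refine Finset.card_le_mul_card_image U 2 fun v _ => ?_
    refine card_roots_quad_le (a := (1 : F)) (b := v - 2) (c := 1) one_ne_zero _ fun x hx => ?_
    obtain ⟨hxU, hxv⟩ := Finset.mem_filter.1 hx
    have hx1 := (memU.1 hxU).1
    rw [pow_succ] at hx1
    simp only [σ, sub_pow_q hF, one_pow] at hxv
    linear_combination (-x) * hxv + (x - 1) * hx1
  set K := Finset.univ.filter (fun v : F => v ^ q = v) with hK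
  have hKc : K.card = q := by
    have := card_fixed hF
    rwa [Nat.card_eq_fintype_card, Fintype.card_subtype] at this
  by_contra hcon
  simp only [not_exists, not_and] at hcon
  set X := S.image fun s => a * s with hX
  set Y := S.image fun s => c - b * s with hY
  have hdis : Disjoint X Y := Finset.disjoint_left.2 fun v hvX hvY => by
    obtain ⟨s, hs, rfl⟩ := Finset.mem_image.1 hvX
    obtain ⟨s', hs', e⟩ := Finset.mem_image.1 hvY
    obtain ⟨L, hL, rfl⟩ := Finset.mem_image.1 hs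
    obtain ⟨L', hL', rfl⟩ := Finset.mem_image.1 hs'
    exact hcon L L' (memU.1 hL).1 (memU.1 hL).2 (memU.1 hL').1 (memU.1 hL').2 (by
      simp only [σ] at e; linear_combination -e)
  have hsub : X ∪ Y ⊆ K := by
    intro v hv
    refine Finset.mem_filter.2 ⟨Finset.mem_univ _, ?_⟩
    rcases Finset.mem_union.1 hv with hv | hv <;> obtain ⟨s, hs, rfl⟩ := Finset.mem_image.1 hv <;>
      obtain ⟨L, hL, rfl⟩ := Finset.mem_image.1 hs
    · rw [mul_pow, ha, (hσ L hL).2]
    · rw [sub_pow_q hF, mul_pow, hb, hc, (hσ L hL).2]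
  have hall : X ∪ Y = K := Finset.eq_of_subset_of_card_le hsub (by
    rw [Finset.card_union_of_disjoint hdis, hX, hY,
      Finset.card_image_of_injective _ (mul_right_injective₀ ha0),
      Finset.card_image_of_injective _ (fun s t e => mul_left_cancel₀ hb0 (sub_right_injective e)), hKc]
    omega)
  rcases h with hab | hne
  · have hv : a * (c / (a + b)) ∈ X ∪ Y := by
      rw [hall, hK, Finset.mem_filter]
      exact ⟨Finset.mem_univ _, by rw [mul_pow, div_pow, add_pow_q hF, ha, hb, hc]⟩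
    have key : c - b * (c / (a + b)) = a * (c / (a + b)) := by field_simp; ring
    rcases Finset.mem_union.1 hv with hv | hv
    · refine Finset.disjoint_left.1 hdis hv ?_
      obtain ⟨s, hs, e⟩ := Finset.mem_image.1 hv
      exact Finset.mem_image.2 ⟨s, hs, by rw [mul_left_cancel₀ ha0 e, key]⟩
    · refine Finset.disjoint_left.1 hdis ?_ hv
      obtain ⟨s, hs, e⟩ := Finset.mem_image.1 hv
      refine Finset.mem_image.2 ⟨s, hs, ?_⟩
      rw [← key] at e
      rw [mul_left_cancel₀ hb0 (sub_right_injective e)]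
  · have hv : (0 : F) ∈ X ∪ Y := by
      rw [hall, hK, Finset.mem_filter]
      exact ⟨Finset.mem_univ _, zero_pow_q hF⟩
    rcases Finset.mem_union.1 hv with hv | hv <;> obtain ⟨s, hs, e⟩ := Finset.mem_image.1 hv <;>
      obtain ⟨L, hL, rfl⟩ := Finset.mem_image.1 hs
    · exact mul_ne_zero ha0 (hσ L hL).1 e
    · exact hne L (memU.1 hL).1 (memU.1 hL).2 (by simp only [σ] at e; linear_combination -e)

section Gen

variable {M : Subgroup (Matrix.GeneralLinearGroup (Fin n) F)} (hF : Fintype.card F = q ^ 2)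
  (hn : 4 ≤ n) (hHM : ∀ g ∈ suGL n F q, IsMon g → g ∈ M)
include hF hn hHM

/-- Powers of the parameter keep a vector with a zero coordinate linked. -/
theorem Linked.of_pow {ζ : F} (hζ : ζ ^ (q + 1) = 1) {x : Fin n → F} (hx : Linked q M ζ x) {p : Fin n}
    (hp : x p = 0) (i : ℕ) : Linked q M (ζ ^ i) x := by
  have _ := hn
  have H := hermForm_isHerm hF n
  have o := (single_orthonormal hF n).1
  have hm : (ζ ^ i) ^ (q + 1) = 1 := by rw [← pow_mul, mul_comm, pow_mul, hζ, one_pow]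
  have hcom : Commute (glRefl q x ζ) (glRefl q (Pi.single p 1 : Fin n → F) ζ) := by
    refine gl_ext_mulVec fun v => ?_
    have e1 : Cfsg.hermForm n F q (Pi.single p 1) x = 0 := by
      rw [hermForm_single_left, hp, zero_pow_q hF]
    have e2 : Cfsg.hermForm n F q x (Pi.single p 1) = 0 := by rw [herm_single hF, hp]
    simp only [Units.val_mul, ← Matrix.mulVec_mulVec, glRefl_apply hF hx.1 hζ, glRefl_apply hF (o p) hζ,
      H.add_left, H.smul_left, e1, e2]
    module
  refine ⟨hx.1, fun k => ?_⟩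
  have h1 : glRefl q x (ζ ^ i) * (glRefl q (Pi.single p 1 : Fin n → F) (ζ ^ i))⁻¹ ∈ M := by
    rw [← glRefl_pow_param hF hx.1 hζ, ← glRefl_pow_param hF (o p) hζ, ← inv_pow,
      ← hcom.inv_right.mul_pow]
    exact pow_mem (hx.2 p) i
  have := mul_mem h1 ((linked_single hF hHM hm p).2 k)
  simpa [mul_assoc] using this

variable {ζ : F} (hζ : ζ ^ (q + 1) = 1) (hord : orderOf ζ = q + 1)
include hζ hord

/-- Rescaling the coordinates of a linked vector. -/
theorem exists_linked_scale {x : Fin n → F} (hx : Linked q M ζ x) (hxn : (supp x).card < n)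
    (L : Fin n → F) (hL : ∀ j, L j ^ (q + 1) = 1)
    (hsum : ∑ j, x j * x j ^ q * ((1 - L j) * (1 - L j) ^ q) = 1) :
    ∃ x', Linked q M ζ x' ∧ ∀ j, x' j = x j * (1 - L j) := by
  have H := hermForm_isHerm hF n
  have o := (single_orthonormal hF n).1
  obtain ⟨p, hp'⟩ := exists_notMem_of_card_lt (S := supp x) hxn
  have hp := eq_zero_of_notMem_supp hp'
  obtain ⟨D, hDM, hD, hDm, μ, -, hDx⟩ := exists_monM hF hHM 1 L hL p
  obtain ⟨y, hy⟩ : ∃ y, y = (D : Matrix (Fin n) (Fin n) F) *ᵥ x := ⟨_, rfl⟩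
  have hyj : ∀ j, y j = L j * x j := fun j => by
    rw [hy, hDx, show (1 : Equiv.Perm (Fin n)).symm j = j from rfl]
    rcases eq_or_ne j p with rfl | hj
    · simp [hp]
    · rw [if_neg hj]
  have hyL : Linked q M ζ y := hy ▸ hx.mon hF hHM hζ hDM hD.1 hDm
  have hyp : y p = 0 := by rw [hyj, hp, mul_zero]
  obtain ⟨h, hh⟩ : ∃ h, h = Cfsg.hermForm n F q x y := ⟨_, rfl⟩
  have hht : h + h ^ q = 1 := by
    rw [hh, ← H.conj_symm x y]
    show ∑ j, x j * y j ^ q + ∑ j, y j * x j ^ q = 1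
    rw [← Finset.sum_add_distrib, Finset.sum_congr rfl (g := fun j => 2 * (x j * x j ^ q) -
      x j * x j ^ q * ((1 - L j) * (1 - L j) ^ q)) (fun j _ => ?_), Finset.sum_sub_distrib,
      ← Finset.mul_sum, hsum, show ∑ j, x j * x j ^ q = 1 from hx.1]
    · ring
    · rw [hyj, mul_pow, sub_pow_q hF, one_pow]
      have := hL j
      rw [pow_succ] at this
      linear_combination (x j * x j ^ q) * this
  have hh0 : h ≠ 0 := fun h0 => by
    rw [h0, zero_pow_q hF, add_zero] at hht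
    exact zero_ne_one hht
  obtain ⟨m, hm⟩ : ∃ m, m = 1 - h⁻¹ := ⟨_, rfl⟩
  have hm1 : m ^ (q + 1) = 1 := by
    have hq0 : h ^ q ≠ 0 := pow_ne_zero _ hh0
    rw [pow_succ, hm, sub_pow_q hF, one_pow, inv_pow]
    field_simp
    linear_combination -hht
  obtain ⟨i, -, hi⟩ := (hord ▸ IsPrimitiveRoot.orderOf ζ : IsPrimitiveRoot ζ (q + 1)).eq_pow_of_pow_eq_one hm1
  have hym : Linked q M m y := hi ▸ Linked.of_pow hF hn hHM hζ hyL hyp i
  obtain ⟨z, hz⟩ : ∃ z, z = glRefl q y m * (glRefl q (Pi.single p 1 : Fin n → F) m)⁻¹ := ⟨_, rfl⟩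
  have hzM : z ∈ M := hz ▸ hym.2 p
  have hzU : z ∈ Cfsg.GU n F q := hz ▸ (refl_pair_mem_suGL hF hym.1 (o p) hm1).1
  have hzv : ∀ v, (z : Matrix (Fin n) (Fin n) F) *ᵥ
      ((glRefl q (Pi.single p 1 : Fin n → F) m : Matrix (Fin n) (Fin n) F) *ᵥ v) =
      (glRefl q y m : Matrix (Fin n) (Fin n) F) *ᵥ v := fun v => by
    rw [Matrix.mulVec_mulVec, ← Units.val_mul, hz, inv_mul_cancel_right]
  have hm0 : m ≠ 0 := fun h0 => by simp [h0] at hm1
  have hzp : (z : Matrix (Fin n) (Fin n) F) *ᵥ Pi.single p 1 = m⁻¹ • Pi.single p 1 := by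
    have e := hzv (Pi.single p 1)
    rw [glRefl_self hF (o p) hm1, Matrix.mulVec_smul,
      glRefl_fix hF hym.1 hm1 (by rw [hermForm_single_left, hyp, zero_pow_q hF])] at e
    rw [← inv_smul_smul₀ hm0 ((z : Matrix (Fin n) (Fin n) F) *ᵥ Pi.single p 1), e]
  have hzx : (z : Matrix (Fin n) (Fin n) F) *ᵥ x = fun j => x j * (1 - L j) := by
    have e := hzv x
    rw [glRefl_fix hF (o p) hm1 (by rw [herm_single hF, hp]), glRefl_apply hF hym.1 hm1, ← hh] at e
    rw [e]
    funext j
    rw [Pi.add_apply, Pi.smul_apply, smul_eq_mul, hyj, hm]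
    have := inv_mul_cancel₀ hh0
    linear_combination (-(L j * x j)) * this
  refine ⟨_, ?_, fun j => rfl⟩
  rw [← hzx]
  exact Linked.of_conj hF hHM hζ hx (linked_single hF hHM hζ p) hzM hzU
    (hzp ▸ (linked_single hF hHM hζ p).smul hF hζ (inv_pow_succ _ hm1))

/-- A linked vector supported on exactly two coordinates gives SU. -/
theorem mono_le_of_linked_two (hq : 3 ≤ q) {x : Fin n → F} (hx : Linked q M ζ x) {k l : Fin n}
    (hkl : k ≠ l) (hk : x k ≠ 0) (hl : x l ≠ 0) (hoth : ∀ j, j ≠ k → j ≠ l → x j = 0) :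
    suGL n F q ≤ M := by
  classical
  have o := (single_orthonormal hF n).1
  obtain ⟨p, hpk, hpl⟩ := exists_third (i := k) (j := l) (show 3 ≤ n by omega)
  obtain ⟨g, hgdef⟩ : ∃ g, g = glRefl q x ζ * (glRefl q (Pi.single p 1 : Fin n → F) ζ)⁻¹ := ⟨_, rfl⟩
  have hgU : g ∈ Cfsg.GU n F q := hgdef ▸ (refl_pair_mem_suGL hF hx.1 (o p) hζ).1
  have hgv : ∀ v, (g : Matrix (Fin n) (Fin n) F) *ᵥ
      ((glRefl q (Pi.single p 1 : Fin n → F) ζ : Matrix (Fin n) (Fin n) F) *ᵥ v) =
      (glRefl q x ζ : Matrix (Fin n) (Fin n) F) *ᵥ v := fun v => by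
    rw [Matrix.mulVec_mulVec, ← Units.val_mul, hgdef, inv_mul_cancel_right]
  have hζ0 : ζ ≠ 0 := fun h => by simp [h] at hζ
  have hζ2 : ζ ^ 2 ≠ 1 := fun h => by
    have := Nat.le_of_dvd (by norm_num) (hord ▸ orderOf_dvd_of_pow_eq_one h)
    omega
  have hζ1 : ζ ≠ 1 := fun h => hζ2 (by rw [h, one_pow])
  have hg : g ∈ pairStab q M k l := by
    refine ⟨hgdef ▸ hx.2 p, hgU, fun j hjk hjl => ?_⟩
    have e := hgv (Pi.single j 1)
    rw [glRefl_fix hF hx.1 hζ (x := Pi.single j 1)
      (by rw [hermForm_single_left, hoth j hjk hjl, zero_pow_q hF])] at e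
    rcases eq_or_ne j p with rfl | hjp
    · rw [glRefl_self hF (o j) hζ, Matrix.mulVec_smul] at e
      exact ⟨ζ⁻¹, by rw [← inv_smul_smul₀ hζ0 ((g : Matrix (Fin n) (Fin n) F) *ᵥ Pi.single j 1), e]⟩
    · rw [glRefl_fix hF (o p) hζ ((single_orthonormal hF n).2 hjp)] at e
      exact ⟨1, by rw [e, one_smul]⟩
  have hgm : ¬ IsMon g := by
    intro hmon
    have hR : IsMon (glRefl q x ζ) := by
      have := hmon.mul (glRefl_single_mon hF p hζ)
      rwa [hgdef, inv_mul_cancel_right] at this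
    have diag : ∀ {r s : Fin n}, r ≠ s → x r ≠ 0 → x s ≠ 0 →
        1 + (ζ - 1) * (x r * x r ^ q) = 0 := fun {r s} hrs hr hs => by
      by_contra h0
      refine hrs (hR.col r ?_ ?_)
      · rw [refl_col hF hx.1 hζ, Pi.add_apply, Pi.smul_apply, Pi.single_eq_same, smul_eq_mul]
        intro e; exact h0 (by linear_combination e)
      · rw [refl_col hF hx.1 hζ, Pi.add_apply, Pi.smul_apply, Pi.single_eq_of_ne hrs.symm, zero_add,
          smul_eq_mul]
        exact mul_ne_zero (mul_ne_zero (sub_ne_zero.2 hζ1) (pow_ne_zero _ hr)) hs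
    have dk := diag hkl hk hl
    have dl := diag hkl.symm hl hk
    have hN : x k * x k ^ q + x l * x l ^ q = 1 := by
      rw [← hx.1]
      show _ = ∑ j, x j * x j ^ q
      rw [Finset.sum_eq_add k l hkl (fun j _ hj => by rw [hoth j hj.1 hj.2, zero_mul])
        (fun h => absurd (Finset.mem_univ k) h) (fun h => absurd (Finset.mem_univ l) h)]
    have hζn : ζ = -1 := by linear_combination dk + dl - (ζ - 1) * hN
    exact hζ2 (by rw [hζn]; ring)
  obtain ⟨α, hα, hC⟩ := exists_pair_centre_of_pairStab hF hn hHM hq hkl hg hgm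
  refine mono_le_of_centre hF hn hHM hq hC (fun h => ?_) (lt_of_le_of_lt ?_
    (show 2 < n by omega))
  · have := congrFun h k
    rw [pairVec_left hkl] at this
    exact one_ne_zero this
  · refine (Finset.card_le_card (show supp (pairVec k l (1 : F) α) ⊆ {k, l} from fun j hj => ?_)).trans
      Finset.card_le_two
    by_contra hjs
    simp only [Finset.mem_insert, Finset.mem_singleton, not_or] at hjs
    exact mem_supp.1 hj (pairVec_other hjs.1 hjs.2 _ _)

/-- A linked vector of weight between two and n - 1 gives SU. -/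
theorem mono_le_of_linked_gen (hq : 3 ≤ q) {x : Fin n → F} (hx : Linked q M ζ x)
    (h2 : 2 ≤ (supp x).card) (hxn : (supp x).card < n) : suGL n F q ≤ M := by
  classical
  have fixN : ∀ (x : Fin n → F) (j : Fin n), (x j * x j ^ q) ^ q = x j * x j ^ q := fun x j => by
    rw [mul_pow, pow_q_pow_q hF, mul_comm]
  have two : ∀ (x : Fin n → F), Linked q M ζ x → (supp x).card < n → ∀ a b : Fin n, a ≠ b →
      x a ≠ 0 → x b ≠ 0 → (∃ L L' : F, L ^ (q + 1) = 1 ∧ L ≠ 1 ∧ L' ^ (q + 1) = 1 ∧ L' ≠ 1 ∧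
        x a * x a ^ q * ((1 - L) * (1 - L) ^ q) + x b * x b ^ q * ((1 - L') * (1 - L') ^ q) = 1) →
      suGL n F q ≤ M := by
    rintro x hx hxn a b hab ha hb ⟨L, L', hL, hL1, hL', hL'1, hLs⟩
    obtain ⟨x', hx', hx'j⟩ := exists_linked_scale hF hn hHM hζ hord hx hxn
      (fun j => if j = a then L else if j = b then L' else 1)
      (fun j => by split_ifs; exacts [hL, hL', one_pow _])
      (by
        rw [← Finset.sum_subset (Finset.subset_univ ({a, b} : Finset (Fin n))) fun j _ hj => by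
          simp only [Finset.mem_insert, Finset.mem_singleton, not_or] at hj
          simp [hj.1, hj.2], Finset.sum_pair hab]
        simpa [hab.symm] using hLs)
    refine mono_le_of_linked_two hF hn hHM hζ hord hq hx' hab ?_ ?_ fun j h1 h2 => ?_
    · rw [hx'j, if_pos rfl]; exact mul_ne_zero ha (sub_ne_zero.2 hL1.symm)
    · rw [hx'j, if_neg hab.symm, if_pos rfl]; exact mul_ne_zero hb (sub_ne_zero.2 hL'1.symm)
    · rw [hx'j, if_neg h1, if_neg h2, sub_self, mul_zero]
  have pair : ∀ (x : Fin n → F), Linked q M ζ x → (supp x).card < n → ∀ a b : Fin n, a ≠ b →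
      x a ≠ 0 → x b ≠ 0 → x a * x a ^ q + x b * x b ^ q ≠ 0 → suGL n F q ≤ M :=
    fun x hx hxn a b hab ha hb hne => two x hx hxn a b hab ha hb
      (exists_circle_pair hF (fixN x a) (mul_ne_zero ha (pow_ne_zero _ ha)) (fixN x b)
        (mul_ne_zero hb (pow_ne_zero _ hb)) (one_pow q) (Or.inl hne))
  rcases Nat.lt_or_ge (supp x).card 3 with h3 | h3
  · obtain ⟨k, l, hkl, he⟩ := Finset.card_eq_two.1 (show (supp x).card = 2 by omega)
    exact mono_le_of_linked_two hF hn hHM hζ hord hq hx hkl (mem_supp.1 (by simp [he]))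
      (mem_supp.1 (by simp [he])) fun j h1 h2 => eq_zero_of_notMem_supp (by simp [he, h1, h2])
  obtain ⟨a, ha, b, hb, c, hc, hab, hac, hbc⟩ :=
    Finset.two_lt_card.1 (show 2 < (supp x).card by omega)
  rw [mem_supp] at ha hb hc
  by_cases e1 : x a * x a ^ q + x b * x b ^ q = 0
  swap
  · exact pair x hx hxn a b hab ha hb e1
  by_cases e2 : x a * x a ^ q + x c * x c ^ q = 0
  swap
  · exact pair x hx hxn a c hac ha hc e2
  by_cases e3 : x b * x b ^ q + x c * x c ^ q = 0
  swap
  · exact pair x hx hxn b c hbc hb hc e3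
  -- characteristic two with equal norms
  obtain ⟨N, hNdef⟩ : ∃ N, N = x a * x a ^ q := ⟨_, rfl⟩
  have hN0 : N ≠ 0 := hNdef ▸ mul_ne_zero ha (pow_ne_zero _ ha)
  have h2F : (2 : F) = 0 := by
    have : (2 : F) * N = 0 := by rw [hNdef]; linear_combination e1 + e2 - e3
    exact (mul_eq_zero.1 this).resolve_right hN0
  have hNb : x b * x b ^ q = N := by rw [hNdef]; linear_combination e1 - (x a * x a ^ q) * h2F
  have hNc : x c * x c ^ q = N := by rw [hNdef]; linear_combination e2 - (x a * x a ^ q) * h2F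
  have hNq : N ^ q = N := hNdef ▸ fixN x a
  let σ : F → F := fun L => (1 - L) * (1 - L) ^ q
  have hσq : ∀ L, σ L ^ q = σ L := fun L => by
    simp only [σ]; rw [mul_pow, pow_q_pow_q hF, mul_comm]
  by_cases he : ∀ L : F, L ^ (q + 1) = 1 → L ≠ 1 → N * σ L ≠ 1
  · refine two x hx hxn a b hab ha hb (exists_circle_pair hF (fixN x a)
      (mul_ne_zero ha (pow_ne_zero _ ha)) (fixN x b) (mul_ne_zero hb (pow_ne_zero _ hb))
      (one_pow q) (Or.inr ?_))
    rw [hNb]; exact he
  obtain ⟨r, hr, hr1, hre⟩ : ∃ r : F, r ^ (q + 1) = 1 ∧ r ≠ 1 ∧ N * σ r ≠ 1 := by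
    by_contra! hc'
    have hcard : ((Finset.univ.filter (fun L : F => L ^ (q + 1) = 1)).erase 1).card ≤ 2 := by
      refine card_roots_quad_le (a := (1 : F)) (b := N⁻¹ - 2) (c := 1) one_ne_zero _ fun L hL => ?_
      obtain ⟨hL1, hL⟩ := Finset.mem_erase.1 hL
      have hL' : L ^ (q + 1) = 1 := (Finset.mem_filter.1 hL).2
      have := hc' L hL' hL1
      rw [pow_succ] at hL'
      simp only [σ, sub_pow_q hF, one_pow] at this
      field_simp
      linear_combination (-L) * this + (N * (L - 1)) * hL'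
    have hU := card_norm_one hF
    rw [Nat.card_eq_fintype_card, Fintype.card_subtype] at hU
    rw [Finset.card_erase_of_mem (by simp), hU] at hcard
    omega
  by_cases hd : ∀ L : F, L ^ (q + 1) = 1 → L ≠ 1 → N * σ L ≠ 1 - N * σ r
  swap
  · simp only [not_forall, not_not] at hd
    obtain ⟨L, hL, hL1, hLd⟩ := hd
    exact two x hx hxn a b hab ha hb ⟨L, r, hL, hL1, hr, hr1, by
      rw [← hNdef, hNb]; simp only [σ] at hLd; linear_combination hLd⟩
  obtain ⟨L, L', hL, hL1, hL', hL'1, hLs⟩ := exists_circle_pair hF (c := 1 - N * σ r) hNq hN0 hNq hN0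
    (by rw [sub_pow_q hF, one_pow, mul_pow, hNq, hσq]) (Or.inr hd)
  obtain ⟨x', hx', hx'j⟩ := exists_linked_scale hF hn hHM hζ hord hx hxn
    (fun j => if j = a then L else if j = b then L' else if j = c then r else 1)
    (fun j => by split_ifs; exacts [hL, hL', hr, one_pow _])
    (by
      rw [← Finset.sum_subset (Finset.subset_univ ({a, b, c} : Finset (Fin n))) fun j _ hj => by
        simp only [Finset.mem_insert, Finset.mem_singleton, not_or] at hj
        simp [hj.1, hj.2.1, hj.2.2], Finset.sum_insert (by simp [hab, hac]), Finset.sum_pair hbc]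
      simp [hab.symm, hac.symm, hbc.symm]
      rw [← hNdef, hNb, hNc]
      simp only [σ] at hLs
      linear_combination hLs)
  have hva : x' a = x a * (1 - L) := by rw [hx'j, if_pos rfl]
  have hvb : x' b = x b * (1 - L') := by rw [hx'j, if_neg hab.symm, if_pos rfl]
  have hvc : x' c = x c * (1 - r) := by rw [hx'j, if_neg hac.symm, if_neg hbc.symm, if_pos rfl]
  have hna : x' a ≠ 0 := by rw [hva]; exact mul_ne_zero ha (sub_ne_zero.2 hL1.symm)
  have hnb : x' b ≠ 0 := by rw [hvb]; exact mul_ne_zero hb (sub_ne_zero.2 hL'1.symm)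
  have hnc : x' c ≠ 0 := by rw [hvc]; exact mul_ne_zero hc (sub_ne_zero.2 hr1.symm)
  have hx'n : (supp x').card < n := by
    refine lt_of_le_of_lt (Finset.card_le_card fun j hj => ?_) hxn
    rw [mem_supp, hx'j] at hj
    exact mem_supp.2 (left_ne_zero_of_mul hj)
  by_cases f1 : x' a * x' a ^ q + x' c * x' c ^ q = 0
  swap
  · exact pair x' hx' hx'n a c hac hna hnc f1
  by_cases f2 : x' b * x' b ^ q + x' c * x' c ^ q = 0
  swap
  · exact pair x' hx' hx'n b c hbc hnb hnc f2
  exfalso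
  rw [hva, hvc, mul_pow, mul_pow] at f1
  rw [hvb, hvc, mul_pow, mul_pow] at f2
  simp only [σ] at hLs hre
  refine hre ?_
  linear_combination f1 + f2 - hLs - h2F + ((1 - L) * (1 - L) ^ q) * hNdef
    - ((1 - L') * (1 - L') ^ q) * hNb - 2 * ((1 - r) * (1 - r) ^ q) * hNc

end Gen

end Cfsg.Agent.Unitary
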