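import Cfsg.Agent.Lib.Unitary.MonoSix
import Cfsg.Agent.Lib.Unitary.MonoEight
import Cfsg.Agent.Lib.Unitary.DecompMax
/-
Stabilisers of orthonormal frames (blocks of dimension one) in SU.
* exists_frame_conj, mono_overgroup (10 ≤ n, n = 8, or n = 6 and 3 ≤ q), exists_outside_mono (4 ≤ n)
-/
set_option autoImplicit false

namespace Cfsg.Agent.Unitary

open scoped Matrix

variable {F : Type*} [Field F] [Fintype F] {q n t : ℕ}

omit [Fintype F] in
theorem frameVec_single_one (b : Fin t × Fin 1 → (Fin n → F)) (i : Fin t) (y : Fin 1 → F) :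
    frameVec b (Pi.single i y) = y 0 • b (i, 0) := by
  show ∑ p : Fin t × Fin 1, (Pi.single i y : Fin t → Fin 1 → F) p.1 p.2 • b p = _
  rw [Finset.sum_eq_single (i, 0)]
  · rw [Pi.single_eq_same]
  · intro p _ hp
    rw [Pi.single_eq_of_ne (fun h => hp (Prod.ext h (Subsingleton.elim _ _))), Pi.zero_apply, zero_smul]
  · intro h; exact absurd (Finset.mem_univ _) h

/-- Conjugation carrying the coordinate frame to the given one. -/
theorem exists_frame_conj (hF : Fintype.card F = q ^ 2) (hn : 1 ≤ n)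
    {b : Fin t × Fin 1 → (Fin n → F)} (hb : IsFrame q b) :
    ∃ g ∈ suGL n F q, ∀ h : Matrix.GeneralLinearGroup (Fin n) F, IsMon h ↔ InStab b (g * h * g⁻¹) := by
  classical
  have H := hermForm_isHerm hF n
  have o := single_orthonormal hF n
  let e : Fin n ≃ Fin t := finCongr (by simpa using hb.card.symm)
  let b' : Fin n → (Fin n → F) := fun i => b (e i, 0)
  have hb' : Orthonormal (Cfsg.hermForm n F q) b' :=
    hb.orth.comp (fun i => (e i, 0)) fun i j h => e.injective (congrArg Prod.fst h)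
  obtain ⟨g0, hg0⟩ := exists_gu_witt hF (o.linearIndependent H) (hb'.linearIndependent H)
    (fun i j => by simp [o.apply, hb'.apply])
  have hd : ((g0 : Matrix.GeneralLinearGroup (Fin n) F) : Matrix (Fin n) (Fin n) F).det ^ (q + 1) = 1 :=
    IsUnitary.det_norm hF (g0.2 : IsUnitary q _)
  obtain ⟨d, hdd⟩ : ∃ d, d = ((g0 : Matrix.GeneralLinearGroup (Fin n) F) : Matrix (Fin n) (Fin n) F).det⁻¹ :=
    ⟨_, rfl⟩
  have hd1 : d ^ (q + 1) = 1 := hdd ▸ inv_pow_succ _ hd
  have hd0 : ((g0 : Matrix.GeneralLinearGroup (Fin n) F) : Matrix (Fin n) (Fin n) F).det ≠ 0 :=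
    fun h => by simp [h] at hd
  let p : Fin n := ⟨0, hn⟩
  obtain ⟨g, hgdef⟩ : ∃ g, g = (g0 : Matrix.GeneralLinearGroup (Fin n) F) * glRefl q (Pi.single p 1) d :=
    ⟨_, rfl⟩
  have hg : g ∈ suGL n F q := by
    rw [hgdef]
    refine ⟨mul_mem g0.2 (glRefl_mem hF (o.1 p) hd1), MonoidHom.mem_ker.2 (Units.ext ?_)⟩
    show (((g0 : Matrix.GeneralLinearGroup (Fin n) F) : Matrix (Fin n) (Fin n) F) * _).det = 1
    rw [Matrix.det_mul]
    refine Eq.trans (congrArg (_ * ·) (glRefl_det hF (o.1 p) hd1)) ?_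
    rw [hdd, mul_inv_cancel₀ hd0]
  let c : Fin n → F := fun i => if i = p then d else 1
  have hc : ∀ i, c i ≠ 0 := fun i => by
    simp only [c]; split_ifs
    · exact fun h => by simp [h] at hd1
    · exact one_ne_zero
  have hgi : ∀ i, (g : Matrix (Fin n) (Fin n) F) *ᵥ Pi.single i 1 = c i • b (e i, 0) := by
    intro i
    rw [hgdef, Units.val_mul, ← Matrix.mulVec_mulVec]
    simp only [c]
    rcases eq_or_ne i p with rfl | hi
    · rw [if_pos rfl, glRefl_self hF (o.1 _) hd1, Matrix.mulVec_smul, hg0]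
    · rw [if_neg hi, glRefl_fix hF (o.1 p) hd1 (o.2 hi), hg0, one_smul]
  have hinv : ∀ i, (g⁻¹ : Matrix.GeneralLinearGroup (Fin n) F).val *ᵥ b (e i, 0) =
      (c i)⁻¹ • Pi.single i 1 := by
    intro i
    have h := congrArg (fun v => (g⁻¹ : Matrix.GeneralLinearGroup (Fin n) F).val *ᵥ v) (hgi i)
    simp only [Matrix.mulVec_mulVec, ← Units.val_mul, inv_mul_cancel, Units.val_one, Matrix.one_mulVec,
      Matrix.mulVec_smul] at h
    rw [h, smul_smul, inv_mul_cancel₀ (hc i), one_smul]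
  refine ⟨g, hg, fun h => ⟨?_, ?_⟩⟩
  · rintro ⟨π, hπ⟩
    refine ⟨(e.symm.trans π).trans e, fun i y => ?_⟩
    obtain ⟨a, ha⟩ := hπ (e.symm i)
    refine ⟨fun _ => y 0 * (c (e.symm i))⁻¹ * a * c (π (e.symm i)), ?_⟩
    have h1 := hinv (e.symm i)
    rw [Equiv.apply_symm_apply] at h1
    rw [frameVec_single_one, frameVec_single_one, Matrix.mulVec_smul, Units.val_mul, Units.val_mul,
      ← Matrix.mulVec_mulVec, ← Matrix.mulVec_mulVec, h1, Matrix.mulVec_smul, ha, Matrix.mulVec_smul,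
      Matrix.mulVec_smul, hgi, smul_smul, smul_smul, smul_smul]
    simp only [Equiv.trans_apply]
  · rintro ⟨π, hπ⟩
    refine ⟨(e.trans π).trans e.symm, fun i => ?_⟩
    obtain ⟨y', hy'⟩ := hπ (e i) (fun _ => c i)
    refine ⟨y' 0 * (c (e.symm (π (e i))))⁻¹, ?_⟩
    rw [frameVec_single_one, frameVec_single_one, ← hgi, Matrix.mulVec_mulVec, ← Units.val_mul,
      inv_mul_cancel_right] at hy'
    have h2 := congrArg (fun v => (g⁻¹ : Matrix.GeneralLinearGroup (Fin n) F).val *ᵥ v) hy'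
    simp only [Matrix.mulVec_mulVec, ← Units.val_mul, inv_mul_cancel_left, Matrix.mulVec_smul] at h2
    have h3 := hinv (e.symm (π (e i)))
    rw [Equiv.apply_symm_apply] at h3
    rw [h2, h3, smul_smul]
    rfl

/-- An overgroup of a frame stabiliser with an element outside is SU. -/
theorem mono_overgroup (hF : Fintype.card F = q ^ 2) (hn : 10 ≤ n ∨ n = 8 ∨ n = 6 ∧ 3 ≤ q)
    {b : Fin t × Fin 1 → (Fin n → F)} (hb : IsFrame q b)
    {M : Subgroup (Matrix.GeneralLinearGroup (Fin n) F)}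
    (hHM : ∀ g ∈ suGL n F q, InStab b g → g ∈ M) (hMK : M ≤ suGL n F q)
    {g : Matrix.GeneralLinearGroup (Fin n) F} (hgM : g ∈ M) (hgH : ¬ InStab b g) :
    suGL n F q ≤ M := by
  obtain ⟨c, hc, hiff⟩ := exists_frame_conj hF (by omega) hb
  let M' := M.comap (MulAut.conj c).toMonoidHom
  have hmem : ∀ h, h ∈ M' ↔ c * h * c⁻¹ ∈ M := fun h => Iff.rfl
  have hback : ∀ h, c⁻¹ * (c * h * c⁻¹) * c = h := fun h => by group
  have hMK' : M' ≤ suGL n F q := fun h hh => by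
    rw [← hback h]
    exact mul_mem (mul_mem (inv_mem hc) (hMK ((hmem h).1 hh))) hc
  have hg' : c * (c⁻¹ * g * c) * c⁻¹ = g := by group
  have hHM'' : ∀ h ∈ suGL n F q, IsMon h → h ∈ M' :=
    fun h hh hm => (hmem h).2 (hHM _ (mul_mem (mul_mem hc hh) (inv_mem hc)) ((hiff h).1 hm))
  have hgM' : c⁻¹ * g * c ∈ M' := (hmem _).2 (by rw [hg']; exact hgM)
  have hgm' : ¬ IsMon (c⁻¹ * g * c) := fun hm => hgH (by have := (hiff _).1 hm; rwa [hg'] at this)
  have hle : suGL n F q ≤ M' := by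
    rcases hn with hn | rfl | ⟨rfl, hq⟩
    · exact mono_le hF hn hHM'' hMK' hgM' hgm'
    · exact mono_le_eight hF hHM'' hMK' hgM' hgm'
    · exact mono_le_six hF hHM'' hq hMK' hgM' hgm' 
  intro x hx
  have := (hmem _).1 (hle (mul_mem (mul_mem (inv_mem hc) hx) hc))
  rwa [show c * (c⁻¹ * x * c) * c⁻¹ = x by group] at this

/-- The frame stabiliser is proper. -/
theorem exists_outside_mono (hF : Fintype.card F = q ^ 2) (hn : 4 ≤ n)
    {b : Fin t × Fin 1 → (Fin n → F)} (hb : IsFrame q b) : ∃ g ∈ suGL n F q, ¬ InStab b g := by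
  classical
  have H := hermForm_isHerm hF n
  obtain ⟨c, hc, hiff⟩ := exists_frame_conj hF (by omega) hb
  obtain ⟨δ, hδ0, hδ⟩ := exists_skew hF
  obtain ⟨ε, hε⟩ := exists_eps hF
  let f : Fin 4 → Fin n := fun i => Fin.castLE (by omega) i
  have hf : ∀ i j : Fin 4, i ≠ j → f i ≠ f j := fun i j h e => h (Fin.castLE_injective _ e)
  obtain ⟨v, hvdef⟩ : ∃ v : Fin n → F, v = Pi.single (f 0) 1 + Pi.single (f 1) ε +
      (Pi.single (f 2) 1 + Pi.single (f 3) ε) := ⟨_, rfl⟩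
  have hval : v (f 0) = 1 ∧ v (f 1) = ε ∧ v (f 2) = 1 ∧ v (f 3) = ε := by
    simp [hvdef, Pi.single_apply, hf _ _ (show (0 : Fin 4) ≠ 1 by decide),
      hf _ _ (show (0 : Fin 4) ≠ 2 by decide), hf _ _ (show (0 : Fin 4) ≠ 3 by decide),
      hf _ _ (show (1 : Fin 4) ≠ 0 by decide), hf _ _ (show (1 : Fin 4) ≠ 2 by decide),
      hf _ _ (show (1 : Fin 4) ≠ 3 by decide), hf _ _ (show (2 : Fin 4) ≠ 0 by decide),
      hf _ _ (show (2 : Fin 4) ≠ 1 by decide), hf _ _ (show (2 : Fin 4) ≠ 3 by decide),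
      hf _ _ (show (3 : Fin 4) ≠ 0 by decide), hf _ _ (show (3 : Fin 4) ≠ 1 by decide),
      hf _ _ (show (3 : Fin 4) ≠ 2 by decide)]
  obtain ⟨v0, v1, v2, v3⟩ := hval
  have hs : ∀ (r : Fin n) (a : F), Cfsg.hermForm n F q v (Pi.single r a) = v r * a ^ q := fun r a => by
    rw [show (Pi.single r a : Fin n → F) = a • Pi.single r 1 by rw [← Pi.single_smul, smul_eq_mul, mul_one],
      H.smul_right, herm_single hF]
    ring
  have hv : Cfsg.hermForm n F q v v = 0 := by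
    nth_rw 2 [hvdef]
    rw [H.add_right hF, H.add_right hF, H.add_right hF, hs, hs, hs, hs, v0, v1, v2, v3, one_pow]
    rw [pow_succ'] at hε
    linear_combination 2 * hε
  obtain ⟨T, hTsu, hTx⟩ : ∃ T : Matrix.GeneralLinearGroup (Fin n) F, T ∈ suGL n F q ∧
      ∀ x, (T : Matrix (Fin n) (Fin n) F) *ᵥ x = x + (δ * Cfsg.hermForm n F q x v) • v :=
    ⟨glTransvection hF v hv δ (by rw [hδ, add_neg_cancel]), suToGU_mem_suGL _,
      fun x => transvection_mulVec _ _ _⟩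
  refine ⟨c * T * c⁻¹, mul_mem (mul_mem hc hTsu) (inv_mem hc), fun h => ?_⟩
  have hT := (hiff T).2 h
  have e : ∀ l, l ≠ f 0 → ((T : Matrix (Fin n) (Fin n) F) *ᵥ Pi.single (f 0) 1) l = δ * v l := by
    intro l hl
    rw [hTx, Pi.add_apply, Pi.smul_apply, Pi.single_eq_of_ne hl, hermForm_single_left, v0, one_pow,
      mul_one, zero_add, smul_eq_mul]
  refine hf 2 3 (by decide) (hT.col (f 0) ?_ ?_)
  · rw [e _ (hf 2 0 (by decide)), v2, mul_one]; exact hδ0
  · rw [e _ (hf 3 0 (by decide)), v3]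
    exact mul_ne_zero hδ0 fun h => by simp [h] at hε

end Cfsg.Agent.Unitary
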