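import Cfsg.Agent.Lib.Unitary.MonoBase
import Cfsg.Agent.Lib.Unitary.PlaneSwap
/-
The plane spanned by a vector and its restriction to a set of coordinates.
* restr, exists_restr_swap : a reflection and block-scalar diagonal elements give an element
  exchanging the two restrictions
-/
set_option autoImplicit false

namespace Cfsg.Agent.Unitary

open scoped Matrix

variable {F : Type*} [Field F] [Fintype F] {q n : ℕ}

/-- The restriction of a vector to a set of coordinates. -/
def restr (A : Finset (Fin n)) (x : Fin n → F) : Fin n → F := fun j => if j ∈ A then x j else 0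

omit [Fintype F] in
theorem restr_add_compl (A : Finset (Fin n)) (x : Fin n → F) : restr A x + restr Aᶜ x = x :=
  funext fun j => by by_cases hj : j ∈ A <;> simp [restr, hj]

omit [Fintype F] in
theorem restr_mem {A : Finset (Fin n)} {x : Fin n → F} {j : Fin n} (hj : j ∈ A) :
    restr A x j = x j := if_pos hj

omit [Fintype F] in
theorem restr_notMem {A : Finset (Fin n)} {x : Fin n → F} {j : Fin n} (hj : j ∉ A) :
    restr A x j = 0 := if_neg hj

theorem herm_restr (hF : Fintype.card F = q ^ 2) (A : Finset (Fin n)) (x v : Fin n → F) :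
    Cfsg.hermForm n F q v (restr A x) = ∑ j ∈ A, v j * x j ^ q := by
  show ∑ j, v j * restr A x j ^ q = _
  rw [← Finset.sum_subset (Finset.subset_univ A) fun j _ hj => by
    rw [restr_notMem hj, zero_pow_q hF, mul_zero]]
  exact Finset.sum_congr rfl fun j hj => by rw [restr_mem hj]

theorem exists_restr_swap (hF : Fintype.card F = q ^ 2)
    {M : Subgroup (Matrix.GeneralLinearGroup (Fin n) F)} (hMK : M ≤ suGL n F q)
    {x : Fin n → F} (hx : Cfsg.hermForm n F q x x = 1) (A : Finset (Fin n))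
    (h0 : ∑ j ∈ A, x j * x j ^ q ≠ 0) (h1 : ∑ j ∈ A, x j * x j ^ q ≠ 1)
    {μ ζ : F} (hμ : μ ^ (q + 1) = 1) (hμ1 : μ ≠ 1) {X : Matrix.GeneralLinearGroup (Fin n) F}
    (hXM : X ∈ M) (hX : ∀ v, (X : Matrix (Fin n) (Fin n) F) *ᵥ v =
      ζ • ((glRefl q x μ : Matrix (Fin n) (Fin n) F) *ᵥ v))
    (T : Fin 4 → Matrix.GeneralLinearGroup (Fin n) F) (ν : Fin 4 → F) (hν : Function.Injective ν)
    (hTM : ∀ i, T i ∈ M) (hTx : ∀ i, ∃ ρ : F, ρ ≠ 0 ∧ ∀ v j, ((T i : Matrix (Fin n) (Fin n) F) *ᵥ v) j =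
      ρ * (if j ∈ A then ν i else 1) * v j) :
    ∃ g ∈ M, ∃ cA cB d d' : F,
      (g : Matrix (Fin n) (Fin n) F) *ᵥ restr A x = d • restr Aᶜ x ∧
      (g : Matrix (Fin n) (Fin n) F) *ᵥ restr Aᶜ x = d' • restr A x ∧
      (∀ v, (∀ j ∉ A, v j = 0) → Cfsg.hermForm n F q v x = 0 →
        (g : Matrix (Fin n) (Fin n) F) *ᵥ v = cA • v) ∧
      (∀ v, (∀ j ∈ A, v j = 0) → Cfsg.hermForm n F q v x = 0 →
        (g : Matrix (Fin n) (Fin n) F) *ᵥ v = cB • v) := by
  classical
  have H := hermForm_isHerm hF n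
  set a := restr A x with ha
  set b := restr Aᶜ x with hb
  have hxab : a + b = x := restr_add_compl A x
  have haa : Cfsg.hermForm n F q a a = ∑ j ∈ A, x j * x j ^ q := by
    rw [ha, herm_restr hF]; exact Finset.sum_congr rfl fun j hj => by rw [restr_mem hj]
  have hab : Cfsg.hermForm n F q a b = 0 := by
    rw [hb, herm_restr hF]
    exact Finset.sum_eq_zero fun j hj => by rw [ha, restr_notMem (Finset.mem_compl.1 hj), zero_mul]
  have hba : Cfsg.hermForm n F q b a = 0 := (H.eq_zero_symm hF).1 hab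
  have hbb : Cfsg.hermForm n F q b b = 1 - ∑ j ∈ A, x j * x j ^ q := by
    rw [← hx, ← haa]
    conv_rhs => rw [← hxab, H.add_left, H.add_right hF, H.add_right hF, hab, hba]
    ring
  set P := Submodule.span F ({a, b} : Set (Fin n → F)) with hP
  -- the two generators fix both parts and preserve the plane
  let Q : Matrix.GeneralLinearGroup (Fin n) F → Prop := fun g =>
    g ∈ M ∧ (∀ v ∈ P, (g : Matrix (Fin n) (Fin n) F) *ᵥ v ∈ P) ∧ ∃ cA cB : F, cA ≠ 0 ∧ cB ≠ 0 ∧
      (∀ v, (∀ j ∉ A, v j = 0) → Cfsg.hermForm n F q v x = 0 →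
        (g : Matrix (Fin n) (Fin n) F) *ᵥ v = cA • v) ∧
      (∀ v, (∀ j ∈ A, v j = 0) → Cfsg.hermForm n F q v x = 0 →
        (g : Matrix (Fin n) (Fin n) F) *ᵥ v = cB • v)
  have hζ0 : ζ ≠ 0 := by
    rintro rfl
    have h := hX x
    rw [zero_smul] at h
    have e := Matrix.mulVec_injective_iff_isUnit.2 (Units.isUnit X) (h.trans (Matrix.mulVec_zero _).symm)
    rw [e, H.zero_left] at hx
    exact zero_ne_one hx
  have hQX : Q X := by
    refine ⟨hXM, fun v hv => ?_, ζ, ζ, hζ0, hζ0, fun v _ h => by rw [hX, glRefl_fix hF hx hμ h],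
      fun v _ h => by rw [hX, glRefl_fix hF hx hμ h]⟩
    rw [hX, glRefl_apply hF hx hμ]
    refine P.smul_mem _ (P.add_mem hv (P.smul_mem _ ?_))
    rw [← hxab]
    exact P.add_mem (Submodule.subset_span (Set.mem_insert _ _))
      (Submodule.subset_span (Set.mem_insert_of_mem _ rfl))
  have hTab : ∀ i, ∃ ρ : F, ρ ≠ 0 ∧ (T i : Matrix (Fin n) (Fin n) F) *ᵥ a = (ρ * ν i) • a ∧
      (T i : Matrix (Fin n) (Fin n) F) *ᵥ b = ρ • b := by
    intro i
    obtain ⟨ρ, hρ, hT⟩ := hTx i
    refine ⟨ρ, hρ, funext fun j => ?_, funext fun j => ?_⟩ <;> rw [hT, Pi.smul_apply, smul_eq_mul] <;>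
      by_cases hj : j ∈ A <;> simp [ha, hb, restr, hj]
  have hν0 : ∀ i, ν i ≠ 0 := by
    intro i h
    obtain ⟨ρ, hρ, hTa, -⟩ := hTab i
    rw [h, mul_zero, zero_smul] at hTa
    have e := Matrix.mulVec_injective_iff_isUnit.2 (Units.isUnit (T i))
      (hTa.trans (Matrix.mulVec_zero _).symm)
    rw [e, H.zero_left] at haa
    exact h0 haa.symm
  have hQT : ∀ i, Q (T i) := by
    intro i
    obtain ⟨ρ, hρ, hT⟩ := hTx i
    refine ⟨hTM i, fun v hv => ?_, ρ * ν i, ρ, mul_ne_zero hρ (hν0 i), hρ,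
      fun v hv _ => funext fun j => ?_, fun v hv _ => funext fun j => ?_⟩
    · obtain ⟨s, t, rfl⟩ := (Submodule.mem_span_pair).1 hv
      obtain ⟨ρ', -, e1, e2⟩ := hTab i
      rw [Matrix.mulVec_add, Matrix.mulVec_smul, Matrix.mulVec_smul, e1, e2]
      exact P.add_mem (P.smul_mem _ (P.smul_mem _ (Submodule.subset_span (Set.mem_insert _ _))))
        (P.smul_mem _ (P.smul_mem _ (Submodule.subset_span (Set.mem_insert_of_mem _ rfl))))
    · rw [hT, Pi.smul_apply, smul_eq_mul]
      by_cases hj : j ∈ A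
      · rw [if_pos hj]
      · rw [hv j hj, mul_zero, mul_zero]
    · rw [hT, Pi.smul_apply, smul_eq_mul]
      by_cases hj : j ∈ A
      · rw [hv j hj, mul_zero, mul_zero]
      · rw [if_neg hj, mul_one]
  set G := Subgroup.closure (insert X (Set.range T)) with hG
  have hGQ : ∀ g ∈ G, Q g := by
    intro g hg
    induction hg using Subgroup.closure_induction with
    | mem g hg =>
      rcases hg with rfl | ⟨i, rfl⟩
      exacts [hQX, hQT i]
    | one => exact ⟨M.one_mem, fun v hv => by simpa using hv, 1, 1, one_ne_zero, one_ne_zero,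
        fun v _ _ => by simp, fun v _ _ => by simp⟩
    | mul g g' _ _ hg hg' =>
      obtain ⟨h1', h2, cA, cB, hcA, hcB, h3, h4⟩ := hg
      obtain ⟨h1'', h2', cA', cB', hcA', hcB', h3', h4'⟩ := hg'
      refine ⟨M.mul_mem h1' h1'', fun v hv => ?_, cA' * cA, cB' * cB, mul_ne_zero hcA' hcA,
        mul_ne_zero hcB' hcB, fun v hv h => ?_, fun v hv h => ?_⟩
      · rw [Units.val_mul, ← Matrix.mulVec_mulVec]; exact h2 _ (h2' v hv)
      · rw [Units.val_mul, ← Matrix.mulVec_mulVec, h3' v hv h, Matrix.mulVec_smul, h3 v hv h, smul_smul]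
      · rw [Units.val_mul, ← Matrix.mulVec_mulVec, h4' v hv h, Matrix.mulVec_smul, h4 v hv h, smul_smul]
    | inv g _ hg =>
      obtain ⟨h1', h2, cA, cB, hcA, hcB, h3, h4⟩ := hg
      have hcancel : ∀ v, ((g⁻¹ : Matrix.GeneralLinearGroup (Fin n) F) : Matrix (Fin n) (Fin n) F) *ᵥ
          ((g : Matrix (Fin n) (Fin n) F) *ᵥ v) = v := fun v => by
        rw [Matrix.mulVec_mulVec, ← Units.val_mul, inv_mul_cancel, Units.val_one, Matrix.one_mulVec]
      refine ⟨M.inv_mem h1', fun v hv => ?_, cA⁻¹, cB⁻¹, inv_ne_zero hcA, inv_ne_zero hcB,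
        fun v hv h => ?_, fun v hv h => ?_⟩
      · let f : P →ₗ[F] P := (Matrix.mulVecLin (g : Matrix (Fin n) (Fin n) F)).restrict
          fun w hw => h2 w hw
        have hfi : Function.Injective f := fun w w' e => Subtype.ext
          (Matrix.mulVec_injective_iff_isUnit.2 (Units.isUnit g) (congrArg Subtype.val e))
        obtain ⟨w, hw⟩ := (LinearMap.injective_iff_surjective.1 hfi) ⟨v, hv⟩
        rw [← show (g : Matrix (Fin n) (Fin n) F) *ᵥ (w : Fin n → F) = v from congrArg Subtype.val hw,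
          hcancel]
        exact w.2
      · conv_lhs => rw [← inv_smul_smul₀ hcA v, ← h3 v hv h, Matrix.mulVec_smul, hcancel]
      · conv_lhs => rw [← inv_smul_smul₀ hcB v, ← h4 v hv h, Matrix.mulVec_smul, hcancel]
  choose ρ hρ hTa hTb using hTab
  obtain ⟨g, hgG, d, hd⟩ := exists_swap_in_plane hF (G := G) (a := a) (b := b) (by rw [haa]; exact h0)
    (by rw [hbb]; exact sub_ne_zero.2 (Ne.symm h1)) hab (fun g hg => (hMK (hGQ g hg).1).1)
    (fun g hg => (hGQ g hg).2.1) T (fun i => Subgroup.subset_closure (Or.inr ⟨i, rfl⟩))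
    (fun i => ρ i * ν i) ρ hTa hTb
    (fun i j e => hν (mul_left_cancel₀ (mul_ne_zero (hρ i) (hρ j)) (by linear_combination e)))
    (X := X) (Subgroup.subset_closure (Or.inl rfl)) (fun c hc => by
      have h := congrArg (fun v => Cfsg.hermForm n F q v b) hc
      rw [hX, glRefl_apply hF hx hμ] at h
      simp only [H.smul_left, H.add_left, hab, zero_add, mul_zero] at h
      rw [show Cfsg.hermForm n F q x b = Cfsg.hermForm n F q b b by
          conv_lhs => rw [← hxab, H.add_left, hab, zero_add],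
        show Cfsg.hermForm n F q a x = Cfsg.hermForm n F q a a by
          conv_lhs => rw [← hxab, H.add_right hF, hab, add_zero], haa, hbb] at h
      exact mul_ne_zero hζ0 (mul_ne_zero (mul_ne_zero (sub_ne_zero.2 hμ1) h0)
        (sub_ne_zero.2 (Ne.symm h1))) h)
  obtain ⟨hgM, hgP, cA, cB, -, -, h3, h4⟩ := hGQ g hgG
  obtain ⟨s, t, hst⟩ := Submodule.mem_span_pair.1 (hgP b (Submodule.subset_span
    (Set.mem_insert_of_mem _ rfl)))
  refine ⟨g, hgM, cA, cB, d, s, hd, ?_, h3, h4⟩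
  have e : Cfsg.hermForm n F q ((g : Matrix (Fin n) (Fin n) F) *ᵥ b)
      ((g : Matrix (Fin n) (Fin n) F) *ᵥ a) = 0 := ((hMK hgM).1 b a).trans hba
  rw [hd, ← hst, H.smul_right, H.add_left, H.smul_left, H.smul_left, hab, mul_zero, zero_add, hbb] at e
  have hd0 : d ^ q ≠ 0 := pow_ne_zero _ fun h => h0 (by
    have e' : Cfsg.hermForm n F q ((g : Matrix (Fin n) (Fin n) F) *ᵥ a)
      ((g : Matrix (Fin n) (Fin n) F) *ᵥ a) = Cfsg.hermForm n F q a a := (hMK hgM).1 a a
    rw [← haa, ← e', hd, h, zero_smul, H.zero_left])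
  have ht : t = 0 := ((mul_eq_zero.1 ((mul_eq_zero.1 e).resolve_left hd0)).resolve_right
    (sub_ne_zero.2 (Ne.symm h1)))
  rw [← hst, ht, zero_smul, add_zero]

end Cfsg.Agent.Unitary
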