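import Cfsg.Agent.Lib.Unitary.MonoLinked
import Cfsg.Agent.Lib.Unitary.CircleSmall
import Cfsg.Agent.Lib.Unitary.PlaneMono
/-
Overgroups of the monomial subgroup of SU: finding a linked vector.
* n ≥ 5: exists_kill_of_diag, exists_good, mono_le_of_fix, mono_le_of_linked, mono_le_of_block,
  exists_scalar_cols, linked_refl, mono_le_of_dvd_of_cols
* n ≥ 10: exists_kill_diag, exists_kill, mono_le_of_not_dvd (q+1 ∤ n), mono_le_of_dvd_odd
-/
set_option autoImplicit false

namespace Cfsg.Agent.Unitary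

open scoped Matrix

variable {F : Type*} [Field F] [Fintype F] {q n : ℕ}

omit [Fintype F] in
theorem mulVec_eq_sum_cols (A : Matrix (Fin n) (Fin n) F) (x : Fin n → F) :
    A *ᵥ x = ∑ r, x r • (A *ᵥ Pi.single r 1) := by
  conv_lhs => rw [show x = ∑ r, x r • (Pi.single r 1 : Fin n → F) from pi_eq_sum_univ' x]
  rw [Matrix.mulVec_sum]
  exact Finset.sum_congr rfl fun r _ => Matrix.mulVec_smul _ _ _

theorem exists_gen_ne_one (hF : Fintype.card F = q ^ 2) :
    ∃ ζ : F, ζ ^ (q + 1) = 1 ∧ orderOf ζ = q + 1 ∧ ζ ≠ 1 := by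
  obtain ⟨ζ, hζ, hord⟩ := exists_norm_one_gen hF
  refine ⟨ζ, hζ, hord, fun h => ?_⟩
  rw [h, orderOf_one] at hord
  have := two_le_q hF
  omega

/-- In even characteristic the norm-one group has odd order. -/
theorem not_two_dvd_of_two_eq_zero (hF : Fintype.card F = q ^ 2) (h2 : (2 : F) = 0) :
    ¬ 2 ∣ q + 1 := fun hd => by
  obtain ⟨u, hu, hord, -⟩ := exists_gen_ne_one hF
  obtain ⟨k, hk⟩ := hd
  have hsq : (u ^ k) ^ 2 = 1 := by rw [← pow_mul, mul_comm, ← hk, hu]
  have hne : u ^ k ≠ 1 := fun h => by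
    have := Nat.le_of_dvd (by have := two_le_q hF; omega) (hord ▸ orderOf_dvd_of_pow_eq_one h)
    have := two_le_q hF
    omega
  exact hne (sub_eq_zero.1 ((pow_eq_zero_iff two_ne_zero).1
    (show (u ^ k - 1) ^ 2 = 0 by linear_combination hsq + (1 - u ^ k) * h2)))

/-- Three coordinates whose norms agree up to sign, where equal weights have a zero combination. -/
def HasTriple (q : ℕ) (x : Fin n → F) : Prop :=
  (3 ∣ q + 1 ∨ (3 : F) = 0) ∧ ∃ G : Finset (Fin n), G.card = 3 ∧ ∀ i ∈ G, ∀ j ∈ G,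
    (x i * x i ^ q) * (x i * x i ^ q) = (x j * x j ^ q) * (x j * x j ^ q)

/-- The eigenvalues of a diagonal element killing one coordinate of a full vector and keeping
three. -/
theorem exists_kill_diag [DecidableEq F] (hF : Fintype.card F = q ^ 2) (hn : 10 ≤ n) {x : Fin n → F}
    (hx : ∀ j, x j ≠ 0) {κ : F} (hκ : κ ≠ 0) (hk : 11 ≤ n ∨ (2 : F) = 0 ∨ HasTriple q x) :
    ∃ (L : Fin n → F) (ρ : F) (t : Fin n), (∀ j, L j ^ (q + 1) = 1) ∧ ρ ^ (q + 1) = 1 ∧ L t = 1 ∧
      ∑ j, x j * x j ^ q * L j = (-κ⁻¹) ^ q ∧ ∏ j, ρ * L j = 1 ∧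
      3 ≤ (Finset.univ.filter fun j => L j ≠ 1).card := by
  classical
  set N : Fin n → F := fun j => x j * x j ^ q with hNdef
  have hN0 : ∀ j, N j ≠ 0 := fun j => mul_ne_zero (hx j) (pow_ne_zero _ (hx j))
  set T := (-κ⁻¹) ^ q with hT
  have hT0 : T ≠ 0 := pow_ne_zero _ (neg_ne_zero.2 (inv_ne_zero hκ))
  have hq := two_le_q hF
  obtain ⟨ζ, hζ, hord, hζ1⟩ := exists_gen_ne_one hF
  have hζ0 : ζ ≠ 0 := fun h => by simp [h] at hζ
  have hU : ∀ e : ℕ, (ζ ^ e) ^ (q + 1) = 1 := fun e => by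
    rw [← pow_mul, mul_comm, pow_mul, hζ, one_pow]
  have hpow : ∀ e : ℕ, 0 < e → e < q + 1 → ζ ^ e ≠ 1 := fun e h0 h1 h => by
    have := Nat.le_of_dvd h0 (hord ▸ orderOf_dvd_of_pow_eq_one h)
    omega
  have hPB : ∀ (B : Finset (Fin n)) (L0 : Fin n → F), (∀ j, L0 j ^ (q + 1) = 1) →
      (∏ j ∈ B, L0 j)⁻¹ ^ (q + 1) = 1 := fun B L0 h =>
    inv_pow_succ _ (by rw [← Finset.prod_pow]; exact Finset.prod_eq_one fun j _ => h j)
  -- a partial choice on B and a solution on the complement give all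
  have assemble : ∀ (B : Finset (Fin n)) (L0 : Fin n → F) (t : Fin n), t ∈ B → L0 t = 1 →
      (∀ j, L0 j ^ (q + 1) = 1) →
      (∃ (l : Fin n → F) (r : F), (∀ j, l j ^ (q + 1) = 1) ∧ r ^ (q + 1) = 1 ∧
        ∑ j ∈ Bᶜ, N j * l j = T - ∑ j ∈ B, N j * L0 j ∧
        (∏ j ∈ Bᶜ, l j) * r ^ n = (∏ j ∈ B, L0 j)⁻¹) →
      ∃ (L : Fin n → F) (ρ : F), (∀ j, L j ^ (q + 1) = 1) ∧ ρ ^ (q + 1) = 1 ∧ L t = 1 ∧
        ∑ j, N j * L j = T ∧ ∏ j, ρ * L j = 1 ∧ ∀ j ∈ B, L j = L0 j := by
    rintro B L0 t htB hLt hL0 ⟨l, r, hl, hr, hls, hlp⟩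
    refine ⟨fun j => if j ∈ B then L0 j else l j, r, fun j => ?_, hr, ?_, ?_, ?_,
      fun j hj => if_pos hj⟩
    · dsimp only; split_ifs
      · exact hL0 j
      · exact hl j
    · simp [htB, hLt]
    · rw [← Finset.sum_add_sum_compl B,
        Finset.sum_congr rfl (s₁ := B) (g := fun j => N j * L0 j) (fun j hj => by simp [hj]),
        Finset.sum_congr rfl (s₁ := Bᶜ) (g := fun j => N j * l j)
          (fun j hj => by simp [Finset.mem_compl.1 hj]), hls]
      ring
    · have hne : ∏ j ∈ B, L0 j ≠ 0 := Finset.prod_ne_zero_iff.2 fun j _ h => by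
        have := hL0 j
        simp [h] at this
      rw [Finset.prod_mul_distrib, Finset.prod_const, Finset.card_univ, Fintype.card_fin,
        ← Finset.prod_mul_prod_compl B,
        Finset.prod_congr rfl (s₁ := B) (g := L0) (fun j hj => by simp [hj]),
        Finset.prod_congr rfl (s₁ := Bᶜ) (g := l) (fun j hj => by simp [Finset.mem_compl.1 hj]),
        mul_left_comm, mul_comm (r ^ n), hlp, mul_inv_cancel₀ hne]
  -- three fixed coordinates, two of them varying together
  have trick : ∀ (a b t : Fin n), a ≠ b → t ≠ a → t ≠ b → N a + N b ≠ 0 → 3 ≤ q →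
      (∀ ξ : F, ξ ^ (q + 1) = 1 → T - N t - ξ * (N a + N b) ≠ 0 →
        ∃ (l : Fin n → F) (r : F), (∀ j, l j ^ (q + 1) = 1) ∧ r ^ (q + 1) = 1 ∧
          ∑ j ∈ ({t, a, b} : Finset (Fin n))ᶜ, N j * l j = T - N t - ξ * (N a + N b) ∧
          (∏ j ∈ ({t, a, b} : Finset (Fin n))ᶜ, l j) * r ^ n = (ξ * ξ)⁻¹) →
      ∃ (L : Fin n → F) (ρ : F) (t : Fin n), (∀ j, L j ^ (q + 1) = 1) ∧ ρ ^ (q + 1) = 1 ∧ L t = 1 ∧
        ∑ j, N j * L j = T ∧ ∏ j, ρ * L j = 1 ∧
        3 ≤ (Finset.univ.filter fun j => L j ≠ 1).card := by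
    intro a b t hab hta htb hNab hq3 hsol
    set B : Finset (Fin n) := {t, a, b} with hB
    set c0 := N t + ∑ j ∈ Bᶜ, N j with hc0
    obtain ⟨ξ, hξ, hξ1, hz, hall⟩ : ∃ ξ : F, ξ ^ (q + 1) = 1 ∧ ξ ≠ 1 ∧
        T - N t - ξ * (N a + N b) ≠ 0 ∧ c0 + ξ * (N a + N b) ≠ T := by
      have hne : ∀ i j : ℕ, i < j → j < q + 1 → ζ ^ i ≠ ζ ^ j := fun i j hij hj h => by
        refine hpow (j - i) (by omega) (by omega) (mul_left_cancel₀ (pow_ne_zero i hζ0) ?_)
        rw [← pow_add, mul_one, Nat.add_sub_cancel' hij.le, h]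
      have h12 := hne 1 2 (by norm_num) (by omega)
      have h13 := hne 1 3 (by norm_num) (by omega)
      have h23 := hne 2 3 (by norm_num) (by omega)
      by_contra! hc
      have key : ∀ e, 0 < e → e < q + 1 → ζ ^ e = (T - N t) / (N a + N b) ∨
          ζ ^ e = (T - c0) / (N a + N b) := by
        intro e h0 h1
        by_cases hz : T - N t - ζ ^ e * (N a + N b) = 0
        · exact Or.inl ((eq_div_iff hNab).2 (by linear_combination -hz))
        · exact Or.inr ((eq_div_iff hNab).2 (by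
            linear_combination hc _ (hU e) (hpow e h0 h1) hz))
      rcases key 1 (by norm_num) (by omega) with e1 | e1 <;>
        rcases key 2 (by norm_num) (by omega) with e2 | e2 <;>
          rcases key 3 (by norm_num) (by omega) with e3 | e3
      all_goals first
        | exact h12 (e1.trans e2.symm)
        | exact h13 (e1.trans e3.symm)
        | exact h23 (e2.trans e3.symm)
    have hBt : ∀ f : Fin n → F, ∑ j ∈ B, f j = f t + (f a + f b) := fun f => by
      rw [hB, Finset.sum_insert (by simp [hta, htb]), Finset.sum_pair hab]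
    have hL0 : ∀ j, (if j = t then 1 else ξ : F) ^ (q + 1) = 1 := fun j => by
      split_ifs; exacts [one_pow _, hξ]
    obtain ⟨l, r, hl, hr, hls, hlp⟩ := hsol ξ hξ hz
    obtain ⟨L, ρ, h1, h2', h3, h4, h5, hLB⟩ := assemble B (fun j => if j = t then 1 else ξ) t
      (by simp [hB]) (by simp) hL0 ⟨l, r, hl, hr, by
        rw [hls, hBt, if_pos rfl, if_neg hta.symm, if_neg htb.symm]; ring, by
        rw [hlp, hB, Finset.prod_insert (by simp [hta, htb]), Finset.prod_pair hab, if_pos rfl,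
          if_neg hta.symm, if_neg htb.symm, one_mul]⟩
    refine ⟨L, ρ, t, h1, h2', h3, h4, h5, ?_⟩
    obtain ⟨c, hc, hcL⟩ : ∃ c ∈ Bᶜ, L c ≠ 1 := by
      by_contra! hI
      refine hall ?_
      rw [← h4, ← Finset.sum_add_sum_compl B, hBt,
        Finset.sum_congr rfl (s₁ := Bᶜ) (g := N) (fun j hj => by rw [hI j hj, mul_one]),
        hc0, h3, hLB a (by simp [hB]), if_neg hta.symm, hLB b (by simp [hB]), if_neg htb.symm]
      ring
    have hcB : c ∉ B := Finset.mem_compl.1 hc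
    refine le_trans (le_of_eq ?_) (Finset.card_le_card (show ({a, b, c} : Finset (Fin n)) ⊆ _ from
      fun j hj => Finset.mem_filter.2 ⟨Finset.mem_univ _, ?_⟩))
    · rw [Finset.card_insert_of_notMem, Finset.card_pair]
      · rintro rfl; exact hcB (by simp [hB])
      · simp only [Finset.mem_insert, Finset.mem_singleton, not_or]
        exact ⟨hab, fun h => hcB (by simp [hB, h])⟩
    · simp only [Finset.mem_insert, Finset.mem_singleton] at hj
      rcases hj with rfl | rfl | rfl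
      · rw [hLB _ (by simp [hB]), if_neg hta.symm]; exact hξ1
      · rw [hLB _ (by simp [hB]), if_neg htb.symm]; exact hξ1
      · exact hcL
  -- four fixed coordinates
  have four : ∀ (t a b c : Fin n) (ξ : F), ({t, a, b, c} : Finset (Fin n)).card = 4 →
      ξ ^ (q + 1) = 1 → ξ ≠ 1 →
      (∃ (l : Fin n → F) (r : F), (∀ j, l j ^ (q + 1) = 1) ∧ r ^ (q + 1) = 1 ∧
        ∑ j ∈ ({t, a, b, c} : Finset (Fin n))ᶜ, N j * l j = T - N t - ξ * (N a + N b + N c) ∧
        (∏ j ∈ ({t, a, b, c} : Finset (Fin n))ᶜ, l j) * r ^ n = (ξ * (ξ * ξ))⁻¹) →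
      ∃ (L : Fin n → F) (ρ : F) (t : Fin n), (∀ j, L j ^ (q + 1) = 1) ∧ ρ ^ (q + 1) = 1 ∧ L t = 1 ∧
        ∑ j, N j * L j = T ∧ ∏ j, ρ * L j = 1 ∧
        3 ≤ (Finset.univ.filter fun j => L j ≠ 1).card := by
    rintro t a b c ξ hcard hξ hξ1 ⟨l, r, hl, hr, hls, hlp⟩
    obtain ⟨e1, e2, e3, e4, e5, e6⟩ : t ≠ a ∧ t ≠ b ∧ t ≠ c ∧ a ≠ b ∧ a ≠ c ∧ b ≠ c := by
      have hle : ∀ x y z : Fin n, ({t, a, b, c} : Finset (Fin n)) ⊆ {x, y, z} → False := by
        intro x y z h
        have h1 := Finset.card_le_card h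
        have h2 : ({x, y, z} : Finset (Fin n)).card ≤ 3 := Finset.card_le_three
        omega
      refine ⟨?_, ?_, ?_, ?_, ?_, ?_⟩ <;> intro h <;> subst h
      · exact hle t b c (by simp [Finset.insert_subset_iff])
      · exact hle t a c (by simp [Finset.insert_subset_iff])
      · exact hle t a b (by simp [Finset.insert_subset_iff])
      · exact hle t a c (by simp [Finset.insert_subset_iff])
      · exact hle t a b (by simp [Finset.insert_subset_iff])
      · exact hle t a b (by simp [Finset.insert_subset_iff])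
    have hBf : ∀ f : Fin n → F, ∑ j ∈ ({t, a, b, c} : Finset (Fin n)), f j =
        f t + (f a + (f b + f c)) := fun f => by simp [e1, e2, e3, e4, e5, e6]
    have hL0 : ∀ j, (if j = t then 1 else ξ : F) ^ (q + 1) = 1 := fun j => by
      split_ifs; exacts [one_pow _, hξ]
    obtain ⟨L, ρ, h1, h2', h3, h4, h5, hLB⟩ := assemble {t, a, b, c}
      (fun j => if j = t then 1 else ξ) t (by simp) (by simp) hL0 ⟨l, r, hl, hr, by
        rw [hls, hBf, if_pos rfl, if_neg e1.symm, if_neg e2.symm, if_neg e3.symm]; ring, by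
        rw [hlp]
        simp [e1, e2, e3, e4, e5, e6, e1.symm, e2.symm, e3.symm]⟩
    refine ⟨L, ρ, t, h1, h2', h3, h4, h5, ?_⟩
    refine le_trans (le_of_eq (show 3 = ({a, b, c} : Finset (Fin n)).card by simp [e4, e5, e6]))
      (Finset.card_le_card fun j hj => Finset.mem_filter.2 ⟨Finset.mem_univ _, ?_⟩)
    simp only [Finset.mem_insert, Finset.mem_singleton] at hj
    rcases hj with rfl | rfl | rfl
    · rw [hLB _ (by simp), if_neg e1.symm]; exact hξ1
    · rw [hLB _ (by simp), if_neg e2.symm]; exact hξ1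
    · rw [hLB _ (by simp), if_neg e3.symm]; exact hξ1
  rcases Nat.lt_or_ge n 13 with hn13 | hn13
  swap
  · let t : Fin n := ⟨0, by omega⟩
    let a : Fin n := ⟨1, by omega⟩
    let b : Fin n := ⟨2, by omega⟩
    let c : Fin n := ⟨3, by omega⟩
    have hB : ({t, a, b, c} : Finset (Fin n)).card = 4 := by simp [t, a, b, c, Fin.ext_iff]
    refine four t a b c ζ hB hζ hζ1 (exists_sum_prod hF _ N (fun j _ => hN0 j) _ _
      (inv_pow_succ _ (by rw [mul_pow, mul_pow, hζ, one_mul, one_mul])) n ?_)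
    have hI : ({t, a, b, c} : Finset (Fin n))ᶜ.card = n - 4 := by
      rw [Finset.card_compl, Fintype.card_fin, hB]
    rcases Nat.lt_or_ge n 17 with h | h
    · interval_cases n <;> first | omega | (rw [hI]; decide)
    · left; omega
  by_cases h2 : (2 : F) = 0
  swap
  · have hq3 : 3 ≤ q := by
      by_contra hc
      obtain rfl : q = 2 := by omega
      have h := FiniteField.cast_card_eq_zero F
      rw [hF] at h
      push_cast at h
      exact mul_ne_zero h2 h2 (by linear_combination h)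
    -- a zero-sum group
    obtain ⟨G, hG7, hGco, hG0⟩ : ∃ G : Finset (Fin n), G.card + 7 ≤ n ∧
        G.card.Coprime (Nat.gcd n (q + 1)) ∧
        ∃ l : Fin n → F, (∀ i, l i ^ (q + 1) = 1) ∧ ∑ i ∈ G, N i * l i = 0 := by
      rcases Nat.lt_or_ge n 11 with h10 | h11
      · obtain ⟨h3, G, hGc, hG⟩ := (hk.resolve_left (by omega)).resolve_left h2
        refine ⟨G, by omega, ?_, exists_zero_triple hF hGc N (fun i _ => hN0 i) h3 hG⟩
        obtain rfl : n = 10 := by omega
        rw [hGc]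
        exact Nat.Coprime.coprime_dvd_right (Nat.gcd_dvd_left 10 (q + 1)) (by decide)
      · obtain ⟨G, -, hGc⟩ := Finset.exists_subset_card_eq
          (s := (Finset.univ : Finset (Fin n))) (n := n - 7) (by simp)
        refine ⟨G, by omega, ?_, exists_sum_big hF (by omega) N (fun i _ => hN0 i) 0⟩
        rw [hGc]
        refine Nat.Coprime.coprime_dvd_right (Nat.gcd_dvd_left n (q + 1)) ?_
        interval_cases n <;> decide
    obtain ⟨i1, h1, i2, h2', i3, h3, h12, h13, h23⟩ := Finset.two_lt_card.1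
      (show 2 < Gᶜ.card by rw [Finset.card_compl, Fintype.card_fin]; omega)
    obtain ⟨a, ha, b, hb, hab, hNab⟩ : ∃ a ∈ Gᶜ, ∃ b ∈ Gᶜ, a ≠ b ∧ N a + N b ≠ 0 := by
      by_contra! hc
      exact mul_ne_zero h2 (hN0 i1) (by
        linear_combination hc i1 h1 i2 h2' h12 + hc i1 h1 i3 h3 h13 - hc i2 h2' i3 h3 h23)
    obtain ⟨t, ht⟩ := exists_notMem_of_card_lt (S := insert a (insert b G)) (by
      have := Finset.card_insert_le a (insert b G)
      have := Finset.card_insert_le b G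
      omega)
    simp only [Finset.mem_insert, not_or] at ht
    refine trick a b t hab ht.1 ht.2.1 hNab hq3 fun ξ hξ _ => ?_
    have hGI : G ⊆ ({t, a, b} : Finset (Fin n))ᶜ := fun i hi => by
      rw [Finset.mem_compl, Finset.mem_insert, Finset.mem_insert, Finset.mem_singleton]
      rintro (rfl | rfl | rfl)
      exacts [ht.2.2 hi, Finset.mem_compl.1 ha hi, Finset.mem_compl.1 hb hi]
    refine exists_sum_prod_of_zero hF hGI N (inv_pow_succ _ (by rw [mul_pow, hξ, one_mul])) hGco hG0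
      (exists_sum_big hF ?_ N (fun i _ => hN0 i) _)
    rw [Finset.card_sdiff_of_subset hGI, Finset.card_compl, Fintype.card_fin]
    have := Finset.card_le_three (a := t) (b := a) (c := b)
    omega
  -- characteristic two: groups of four scale freely
  have hco4 : Nat.Coprime 4 (Nat.gcd n (q + 1)) := by
    refine Nat.Coprime.coprime_dvd_right (Nat.gcd_dvd_right n (q + 1)) ?_
    rw [show (4 : ℕ) = 2 ^ 2 by norm_num]
    exact Nat.Coprime.pow_left 2
      ((Nat.Prime.coprime_iff_not_dvd Nat.prime_two).2 (not_two_dvd_of_two_eq_zero hF h2))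
  have sol : ∀ (I : Finset (Fin n)) (z P : F), P ^ (q + 1) = 1 → (8 ≤ I.card ∨ 7 ≤ I.card ∧ z ≠ 0) →
      ∃ (l : Fin n → F) (r : F), (∀ j, l j ^ (q + 1) = 1) ∧ r ^ (q + 1) = 1 ∧
        ∑ j ∈ I, N j * l j = z ∧ (∏ j ∈ I, l j) * r ^ n = P := by
    intro I z P hP hI
    obtain ⟨G, hG, hGc⟩ := Finset.exists_subset_card_eq (show 4 ≤ I.card by omega)
    refine exists_sum_prod_of hF hG N (fun j _ => hN0 j) hGc.ge hP (by rwa [hGc]) ?_
    rcases Nat.lt_or_ge I.card 8 with h | h
    · exact exists_sum_three hF (by rw [Finset.card_sdiff_of_subset hG]; omega) N (fun j _ => hN0 j)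
        (Or.inl (hI.resolve_left (by omega)).2)
    · exact exists_sum_big hF (by rw [Finset.card_sdiff_of_subset hG]; omega) N (fun j _ => hN0 j) z
  rcases Nat.lt_or_ge n 11 with h10 | h11
  swap
  · -- four fixed coordinates, the three varying ones with non-zero sum
    obtain ⟨t, a, b, c, hcard, hs⟩ : ∃ t a b c : Fin n,
        ({t, a, b, c} : Finset (Fin n)).card = 4 ∧ N a + N b + N c ≠ 0 := by
      let i : Fin 5 → Fin n := Fin.castLE (by omega)
      have hi : Function.Injective i := Fin.castLE_injective _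
      by_contra! hc
      have h : ∀ w x y z : Fin 5, ({w, x, y, z} : Finset (Fin 5)).card = 4 →
          N (i x) + N (i y) + N (i z) = 0 := fun w x y z hw => hc (i w) (i x) (i y) (i z) (by
        rw [← hw, ← Finset.card_image_of_injective _ hi]
        simp)
      have e1 := h 0 1 2 3 (by decide)
      have e2 := h 0 1 2 4 (by decide)
      have e3 := h 0 1 3 4 (by decide)
      exact hN0 (i 1) (by linear_combination e1 + e2 + e3 -
        (N (i 1) + N (i 2) + N (i 3) + N (i 4)) * h2)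
    obtain ⟨ξ, hξ, hξ1, hz⟩ : ∃ ξ : F, ξ ^ (q + 1) = 1 ∧ ξ ≠ 1 ∧
        T - N t - ξ * (N a + N b + N c) ≠ 0 := by
      by_contra! hc
      have e1 := hc _ (hU 1) (hpow 1 (by norm_num) (by omega))
      have e2 := hc _ (hU 2) (hpow 2 (by norm_num) (by omega))
      refine hζ1 (mul_left_cancel₀ (mul_ne_zero hζ0 hs) ?_)
      linear_combination e1 - e2
    refine four t a b c ξ hcard hξ hξ1 (sol _ _ _
      (inv_pow_succ _ (by rw [mul_pow, mul_pow, hξ, one_mul, one_mul])) (Or.inr ⟨?_, hz⟩))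
    rw [Finset.card_compl, Fintype.card_fin, hcard]
    omega
  obtain rfl : n = 10 := by omega
  by_cases hex : ∃ a b : Fin 10, N a ≠ N b
  · obtain ⟨a, b, hNab⟩ := hex
    have hab : a ≠ b := fun h => hNab (by rw [h])
    obtain ⟨t, hta, htb⟩ := exists_third (i := a) (j := b) (show 3 ≤ 10 by norm_num)
    have hq3 : 3 ≤ q := by
      by_contra hc
      obtain rfl : q = 2 := by omega
      refine hNab ?_
      have key : ∀ j, N j = 1 := fun j => by
        have h := FiniteField.pow_card_sub_one_eq_one (x j) (hx j)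
        rw [hF] at h
        show x j * x j ^ 2 = 1
        rw [← pow_succ']
        exact h
      rw [key, key]
    refine trick a b t hab hta htb (fun h => hNab ?_) hq3 fun ξ hξ hz => sol _ _ _
      (inv_pow_succ _ (by rw [mul_pow, hξ, one_mul])) (Or.inr ⟨?_, hz⟩)
    · linear_combination h - N b * h2
    · rw [Finset.card_compl, Fintype.card_fin]
      have := Finset.card_le_three (a := t) (b := a) (c := b)
      omega
  simp only [not_exists, not_not] at hex
  set e := N 0 with he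
  have hNe : ∀ j, N j = e := fun j => hex j 0
  by_cases heT : e = T
  swap
  · have hB : ({0, 1, 2} : Finset (Fin 10))ᶜ.card = 7 := by decide
    have hP : (ζ * ζ)⁻¹ ^ (q + 1) = 1 := inv_pow_succ _ (by rw [mul_pow, hζ, one_mul])
    obtain ⟨l, r, hl, hr, hls, hlp⟩ := sol ({0, 1, 2} : Finset (Fin 10))ᶜ (T - e) _ hP
      (Or.inr ⟨hB.ge, sub_ne_zero.2 (Ne.symm heT)⟩)
    obtain ⟨L, ρ, h1, h2', h3, h4, h5, hLB⟩ := assemble {0, 1, 2}
      (fun j => if j = 0 then 1 else ζ) 0 (by simp) (by simp)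
      (fun j => by split_ifs; exacts [one_pow _, hζ]) ⟨l, r, hl, hr, by
        rw [hls]; simp [hNe]; linear_combination (e * ζ) * h2, by rw [hlp]; simp⟩
    refine ⟨L, ρ, 0, h1, h2', h3, h4, h5, ?_⟩
    obtain ⟨c, hc, hcL⟩ : ∃ c ∈ ({0, 1, 2} : Finset (Fin 10))ᶜ, L c ≠ 1 := by
      by_contra! hI
      refine hT0 ?_
      rw [← h4, ← Finset.sum_add_sum_compl {0, 1, 2},
        Finset.sum_congr rfl (s₁ := ({0, 1, 2} : Finset (Fin 10))ᶜ) (g := fun _ => e)
          (fun j hj => by rw [hI j hj, mul_one, hNe]), Finset.sum_const, hB]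
      simp [hNe, h3, hLB 1 (by decide), hLB 2 (by decide)]
      linear_combination (4 * e + e * ζ) * h2
    simp only [Finset.mem_compl, Finset.mem_insert, Finset.mem_singleton, not_or] at hc
    refine le_trans (le_of_eq ?_) (Finset.card_le_card (show ({1, 2, c} : Finset (Fin 10)) ⊆ _ from
      fun j hj => Finset.mem_filter.2 ⟨Finset.mem_univ _, ?_⟩))
    · rw [Finset.card_insert_of_notMem, Finset.card_pair (Ne.symm hc.2.2)]
      simp [Ne.symm hc.2.1]
    · simp only [Finset.mem_insert, Finset.mem_singleton] at hj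
      rcases hj with rfl | rfl | rfl
      · simpa [hLB 1 (by decide)] using hζ1
      · simpa [hLB 2 (by decide)] using hζ1
      · exact hcL
  -- all norms equal to the target: 1 and nine others of zero sum
  have he0 : e ≠ 0 := hN0 0
  obtain ⟨l, hl, hls⟩ := exists_sum4 hF (fun _ => e) (fun _ => he0) (-(ζ * e))
  have hls' : l 0 + l 1 + l 2 + l 3 + ζ = 0 := by
    refine (mul_eq_zero.1 (show e * (l 0 + l 1 + l 2 + l 3 + ζ) = 0 from ?_)).resolve_left he0
    rw [Fin.sum_univ_four] at hls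
    linear_combination hls
  obtain ⟨Q, hQ⟩ : ∃ Q, Q = (ζ * ζ * ζ * (l 0 * l 1 * l 2 * l 3))⁻¹ := ⟨_, rfl⟩
  obtain ⟨s, r, hs, hr, hsr⟩ := exists_pow_bezout_gcd hco4 (P := Q) (by
    rw [hQ]
    refine inv_pow_succ _ ?_
    simp only [mul_pow, hζ, hl, one_mul])
  refine ⟨![1, s, s, s * ζ, s * ζ, ζ, l 0, l 1, l 2, l 3], r, 0, fun j => ?_, hr, rfl, ?_, ?_, ?_⟩
  · fin_cases j <;> simp [hs, hl, hζ, mul_pow]
  · have key : ∀ L : Fin 10 → F, ∑ j, N j * L j = e * ∑ j, L j := fun L => by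
      rw [Finset.mul_sum]; exact Finset.sum_congr rfl fun j _ => by rw [hNe]
    rw [key, ← heT]
    simp [Fin.sum_univ_succ]
    linear_combination e * hls' + (e * (s + s * ζ)) * h2
  · rw [Finset.prod_mul_distrib, Finset.prod_const, Finset.card_univ, Fintype.card_fin]
    simp [Fin.prod_univ_succ]
    have hne : ζ * ζ * ζ * (l 0 * l 1 * l 2 * l 3) ≠ 0 := by
      refine mul_ne_zero (mul_ne_zero (mul_ne_zero hζ0 hζ0) hζ0) ?_
      have hl0 : ∀ i, l i ≠ 0 := fun i h => by simpa [h] using hl i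
      exact mul_ne_zero (mul_ne_zero (mul_ne_zero (hl0 0) (hl0 1)) (hl0 2)) (hl0 3)
    calc _ = (s ^ 4 * r ^ 10) * (ζ * ζ * ζ * (l 0 * l 1 * l 2 * l 3)) := by ring
      _ = 1 := by rw [hsr, hQ, inv_mul_cancel₀ hne]
  · by_cases hs1 : s = 1
    · refine le_trans (show 3 ≤ ({3, 4, 5} : Finset (Fin 10)).card by decide)
        (Finset.card_le_card fun j hj => Finset.mem_filter.2 ⟨Finset.mem_univ _, ?_⟩)
      simp only [Finset.mem_insert, Finset.mem_singleton] at hj
      rcases hj with rfl | rfl | rfl <;> simpa [hs1] using hζ1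
    · refine le_trans (show 3 ≤ ({1, 2, 5} : Finset (Fin 10)).card by decide)
        (Finset.card_le_card fun j hj => Finset.mem_filter.2 ⟨Finset.mem_univ _, ?_⟩)
      simp only [Finset.mem_insert, Finset.mem_singleton] at hj
      rcases hj with rfl | rfl | rfl
      exacts [by simpa using hs1, by simpa using hs1, by simpa using hζ1]

/-- An odd q with q + 1 dividing ten. -/
theorem nine_of_dvd_ten (hF : Fintype.card F = q ^ 2) (h2 : (2 : F) ≠ 0) (hdvd : q + 1 ∣ 10) :
    q = 9 ∧ (3 : F) = 0 := by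
  have hq := two_le_q hF
  have h10 : q + 1 ≤ 10 := Nat.le_of_dvd (by norm_num) hdvd
  have h := FiniteField.cast_card_eq_zero F
  rw [hF] at h
  have hq49 : q = 4 ∨ q = 9 := by
    have : q ≤ 9 := by omega
    interval_cases q <;> omega
  rcases hq49 with rfl | rfl
  · exfalso
    push_cast at h
    exact h2 ((pow_eq_zero_iff (n := 4) (by norm_num)).1 (by linear_combination h))
  · push_cast at h
    exact ⟨rfl, (pow_eq_zero_iff (n := 4) (by norm_num)).1 (by linear_combination h)⟩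

/-- For q at most nine, ten norms contain three equal up to sign. -/
theorem hasTriple_of_small (hF : Fintype.card F = q ^ 2) (h2 : (2 : F) ≠ 0) (hq : q ≤ 9)
    (h3 : 3 ∣ q + 1 ∨ (3 : F) = 0) (hn : 10 ≤ n) {x : Fin n → F} (hx : ∀ j, x j ≠ 0) :
    HasTriple q x := by
  classical
  have hq2 := two_le_q hF
  have hodd : q % 2 = 1 := by
    by_contra hev
    have h := FiniteField.cast_card_eq_zero F
    rw [hF] at h
    obtain ⟨k, hk⟩ : ∃ k, q = 2 * k := ⟨q / 2, by omega⟩
    push_cast at h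
    obtain ⟨pp, hpp⟩ := CharP.exists F
    obtain ⟨kk, hprime, hcard⟩ := FiniteField.card F pp
    have h2q : 2 ∣ q ^ 2 := Dvd.dvd.pow ⟨k, hk⟩ (by norm_num)
    rw [← hF, hcard] at h2q
    have hp2 : pp = 2 := ((Nat.prime_dvd_prime_iff_eq Nat.prime_two hprime).1
      (Nat.prime_two.dvd_of_dvd_pow h2q)).symm
    exact h2 (by exact_mod_cast (CharP.cast_eq_zero_iff F pp 2).2 (by rw [hp2]))
  obtain ⟨k, hk⟩ : ∃ k, q = 2 * k + 1 := ⟨q / 2, by omega⟩
  set S := (Polynomial.nthRoots k (1 : F)).toFinset with hS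
  have hmap : ∀ j ∈ (Finset.univ : Finset (Fin n)), (x j * x j ^ q) * (x j * x j ^ q) ∈ S := by
    intro j _
    rw [hS, Multiset.mem_toFinset, Polynomial.mem_nthRoots (by omega)]
    have h := FiniteField.pow_card_sub_one_eq_one (x j) (hx j)
    rw [hF, show q ^ 2 - 1 = (q + 1) * (2 * k) by
      rw [hk, show (2 * k + 1) ^ 2 = (2 * k + 1 + 1) * (2 * k) + 1 by ring]; omega, pow_mul] at h
    rw [← sq, ← pow_succ', ← pow_mul (x j ^ (q + 1))]
    exact h
  have hlt : S.card * 2 < (Finset.univ : Finset (Fin n)).card := by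
    have := (Multiset.toFinset_card_le (Polynomial.nthRoots k (1 : F))).trans
      (Polynomial.card_nthRoots k (1 : F))
    rw [← hS] at this
    rw [Finset.card_univ, Fintype.card_fin]
    omega
  obtain ⟨y, -, hy⟩ := Finset.exists_lt_card_fiber_of_mul_lt_card_of_maps_to hmap hlt
  obtain ⟨G, hG, hGc⟩ := Finset.exists_subset_card_eq (Nat.succ_le_iff.2 hy)
  exact ⟨h3, G, hGc, fun i hi j hj => ((Finset.mem_filter.1 (hG hi)).2).trans
    (Finset.mem_filter.1 (hG hj)).2.symm⟩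

section Low

variable {M : Subgroup (Matrix.GeneralLinearGroup (Fin n) F)} (hF : Fintype.card F = q ^ 2)
  (hn : 5 ≤ n) (hHM : ∀ g ∈ suGL n F q, IsMon g → g ∈ M)
include hF hn hHM

/-- A diagonal element killing one coordinate of a full vector and keeping three. -/
theorem exists_kill_of_diag [DecidableEq F] {x : Fin n → F} (hx : ∀ j, x j ≠ 0) {κ : F} (hκ : κ ≠ 0)
    (hd : ∃ (L : Fin n → F) (ρ : F) (t : Fin n), (∀ j, L j ^ (q + 1) = 1) ∧ ρ ^ (q + 1) = 1 ∧ L t = 1 ∧
      ∑ j, x j * x j ^ q * L j = (-κ⁻¹) ^ q ∧ ∏ j, ρ * L j = 1 ∧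
      3 ≤ (Finset.univ.filter fun j => L j ≠ 1).card) :
    ∃ g ∈ M, g ∈ suGL n F q ∧ IsMon g ∧
      3 ≤ (supp (x + (κ * Cfsg.hermForm n F q x ((g : Matrix (Fin n) (Fin n) F) *ᵥ x)) •
        ((g : Matrix (Fin n) (Fin n) F) *ᵥ x))).card ∧
      (supp (x + (κ * Cfsg.hermForm n F q x ((g : Matrix (Fin n) (Fin n) F) *ᵥ x)) •
        ((g : Matrix (Fin n) (Fin n) F) *ᵥ x))).card < n := by
  classical
  have _ := hn
  obtain ⟨L, ρ, t, hL, hρ, hLt, hsum, hprod, hL3⟩ := hd
  have hN : ∀ j, (x j * x j ^ q) ^ q = x j * x j ^ q := fun j => by rw [mul_pow, pow_q_pow_q hF]; ring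
  obtain ⟨g, hgM, hg, hgm, hgx⟩ := exists_diagM hF hHM (fun j => ρ * L j)
    (fun j => by rw [mul_pow, hρ, hL, one_mul]) hprod
  have hρ' : ρ ^ q * ρ = 1 := by rw [← pow_succ, hρ]
  have hxy : Cfsg.hermForm n F q x ((g : Matrix (Fin n) (Fin n) F) *ᵥ x) = ρ ^ q * -κ⁻¹ := by
    have h0 := congrArg (fun z : F => z ^ q) hsum
    simp only [sum_pow_q hF, pow_q_pow_q hF] at h0
    rw [← h0, Finset.mul_sum]
    refine Finset.sum_congr rfl fun j _ => ?_
    rw [hgx, mul_pow _ (L j), hN j]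
    ring
  obtain ⟨x', hx'⟩ : ∃ x', x' = x + (κ * Cfsg.hermForm n F q x ((g : Matrix (Fin n) (Fin n) F) *ᵥ x)) •
      ((g : Matrix (Fin n) (Fin n) F) *ᵥ x) := ⟨_, rfl⟩
  have hval : ∀ j, x' j = x j * (1 - L j) := fun j => by
    rw [hx', Pi.add_apply, Pi.smul_apply, smul_eq_mul, hgx, hxy]
    have : κ * κ⁻¹ = 1 := mul_inv_cancel₀ hκ
    linear_combination (-(L j * x j) * ρ * ρ ^ q) * this - (L j * x j) * hρ'
  refine ⟨g, hgM, hg, hgm, ?_⟩
  rw [← hx']
  constructor
  · refine hL3.trans (Finset.card_le_card fun j hj => ?_)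
    rw [mem_supp, hval]
    exact mul_ne_zero (hx j) (sub_ne_zero.2 (Finset.mem_filter.1 hj).2.symm)
  · refine lt_of_lt_of_eq (Finset.card_lt_card ((Finset.ssubset_iff_of_subset (Finset.subset_univ _)).2
      ⟨t, Finset.mem_univ _, fun h => mem_supp.1 h (by rw [hval, hLt, sub_self, mul_zero])⟩))
      (by rw [Finset.card_univ, Fintype.card_fin])

/-- Linked columns give a good linked vector. -/
theorem exists_good {m : F} (hm : m ^ (q + 1) = 1) (hm1 : m ≠ 1)
    {g : Matrix.GeneralLinearGroup (Fin n) F} (hgM : g ∈ M) (hg : g ∈ suGL n F q) (hgm : ¬ IsMon g)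
    (hcols : ∀ i, Linked q M m ((g : Matrix (Fin n) (Fin n) F) *ᵥ Pi.single i 1)) :
    ∃ x, Linked q M m x ∧ ¬ IsMon (glRefl q x m) ∧
      ((∃ i, x = (g : Matrix (Fin n) (Fin n) F) *ᵥ Pi.single i 1) ∨ (supp x).card < n) := by
  classical
  have H := hermForm_isHerm hF n
  have o := single_orthonormal hF n
  obtain ⟨i₀, p, s, hps, hp, hs⟩ := exists_col_of_not_mon hgm
  obtain ⟨a, ha⟩ : ∃ a, a = (g : Matrix (Fin n) (Fin n) F) *ᵥ Pi.single i₀ 1 := ⟨_, rfl⟩
  rw [← ha] at hp hs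
  have haL : Linked q M m a := ha ▸ hcols i₀
  by_cases hma : IsMon (glRefl q a m)
  swap
  · exact ⟨a, haL, hma, Or.inl ⟨i₀, ha⟩⟩
  have hcard : (supp a).card ≤ 2 := by
    by_contra hc
    exact not_mon_of_three hF haL.1 hm hm1 (by omega) hma
  have hsupp : supp a = {p, s} := (Finset.eq_of_subset_of_card_le
    (by intro r hr; simp only [Finset.mem_insert, Finset.mem_singleton] at hr
        rcases hr with rfl | rfl
        · exact mem_supp.2 hp
        · exact mem_supp.2 hs) (by rw [Finset.card_pair hps]; exact hcard)).symm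
  have hoth : ∀ r, r ≠ p → r ≠ s → a r = 0 := fun r h1 h2 =>
    eq_zero_of_notMem_supp (by simp [hsupp, h1, h2])
  have hsum : a p * a p ^ q + a s * a s ^ q = 1 := by
    rw [← haL.1, herm_self_supp hF, hsupp, Finset.sum_pair hps]
  have diag : ∀ {r r' : Fin n}, r ≠ r' → a r' ≠ 0 → 1 + (m - 1) * (a r * a r ^ q) = 0 ∨ a r = 0 := by
    intro r r' hrr hr'
    by_cases har : a r = 0
    · exact Or.inr har
    left
    by_contra h0
    have hcol := refl_col hF haL.1 hm r
    refine hrr (hma.col r ?_ ?_)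
    · rw [hcol, Pi.add_apply, Pi.smul_apply, Pi.single_eq_same, smul_eq_mul]
      intro e; exact h0 (by linear_combination e)
    · rw [hcol, Pi.add_apply, Pi.smul_apply, Pi.single_eq_of_ne (Ne.symm hrr), zero_add, smul_eq_mul]
      exact mul_ne_zero (mul_ne_zero (sub_ne_zero.2 hm1) (pow_ne_zero _ har)) hr'
  have dp := (diag hps hs).resolve_right hp
  have ds := (diag hps.symm hp).resolve_right hs
  have hm_neg : m = -1 := by
    have : (1 : F) + 1 + (m - 1) = 0 := by linear_combination dp + ds - (m - 1) * hsum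
    linear_combination this
  have h2 : (2 : F) ≠ 0 := fun h => hm1 (by rw [hm_neg]; linear_combination -h)
  obtain ⟨r, hr⟩ : ∃ r, ∃ t, t ≠ p ∧ t ≠ s ∧ ((g : Matrix (Fin n) (Fin n) F) *ᵥ Pi.single r 1) t ≠ 0 := by
    obtain ⟨t, htp, hts⟩ := exists_third (i := p) (j := s) (show 3 ≤ n by omega)
    by_contra hc
    simp only [not_exists, not_and, not_not] at hc
    obtain ⟨x, hx⟩ := Matrix.mulVec_surjective_iff_isUnit.2 (Units.isUnit g) (Pi.single t 1)
    have := congrFun hx t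
    rw [mulVec_eq_sum_cols, Finset.sum_apply] at this
    rw [Pi.single_eq_same,
      Finset.sum_eq_zero (fun r _ => by rw [Pi.smul_apply, hc r t htp hts, smul_zero])] at this
    exact zero_ne_one this
  obtain ⟨t, htp, hts, ht⟩ := hr
  obtain ⟨c, hc⟩ : ∃ c, c = (g : Matrix (Fin n) (Fin n) F) *ᵥ Pi.single r 1 := ⟨_, rfl⟩
  rw [← hc] at ht
  have hcL : Linked q M m c := hc ▸ hcols r
  by_cases hmc : IsMon (glRefl q c m)
  swap
  · exact ⟨c, hcL, hmc, Or.inl ⟨r, hc⟩⟩
  have hcc : (supp c).card ≤ 2 := by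
    by_contra hc'
    exact not_mon_of_three hF hcL.1 hm hm1 (by omega) hmc
  have hir : i₀ ≠ r := fun h => ht (by rw [hc, ← h, ← ha]; exact hoth t htp hts)
  have hac : Cfsg.hermForm n F q a c = 0 := by
    rw [ha, hc]; exact (hg.1 _ _).trans (o.2 hir)
  have hsum2 : a p * c p ^ q + a s * c s ^ q = 0 := by
    rw [← hac]
    show _ = ∑ r', a r' * c r' ^ q
    rw [Finset.sum_eq_add p s hps (fun r' _ hr' => by rw [hoth r' hr'.1 hr'.2, zero_mul])
      (fun h => absurd (Finset.mem_univ p) h) (fun h => absurd (Finset.mem_univ s) h)]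
  have hcps : c p = 0 ∧ c s = 0 := by
    by_cases hcp : c p = 0
    · refine ⟨hcp, ?_⟩
      rw [hcp, zero_pow_q hF, mul_zero, zero_add] at hsum2
      exact (pow_q_eq_zero hF).1 ((mul_eq_zero.1 hsum2).resolve_left hs)
    · exfalso
      have hcs : c s = 0 := by
        by_contra hcs
        have h3 : ({t, p, s} : Finset (Fin n)) ⊆ supp c := by
          intro x hx
          simp only [Finset.mem_insert, Finset.mem_singleton] at hx
          rcases hx with rfl | rfl | rfl
          · exact mem_supp.2 ht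
          · exact mem_supp.2 hcp
          · exact mem_supp.2 hcs
        have := Finset.card_le_card h3
        simp [htp, hts, hps] at this
        omega
      rw [hcs, zero_pow_q hF, mul_zero, add_zero] at hsum2
      exact mul_ne_zero hp (pow_ne_zero _ hcp) hsum2
  obtain ⟨γ, hγ⟩ := exists_norm_eq hF (c := (2 : F)⁻¹)
    (by rw [inv_pow, show (2 : F) = 1 + 1 by norm_num, add_pow_q hF, one_pow])
  have hγ' : γ * γ ^ q = (2 : F)⁻¹ := by rw [← pow_succ', hγ]
  have hγ0 : γ ≠ 0 := fun h => by rw [h, zero_mul] at hγ'; exact inv_ne_zero h2 hγ'.symm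
  obtain ⟨u, hu⟩ : ∃ u, u = pairVec i₀ r γ (-γ) := ⟨_, rfl⟩
  have hu1 : Cfsg.hermForm n F q u u = 1 := by
    rw [hu, herm_pairVec hF (by omega) hHM hir, pairVec_left hir, pairVec_right hir, neg_pow_q hF]
    linear_combination 2 * hγ' + mul_inv_cancel₀ h2
  have hum : IsMon (glRefl q u m) := by
    refine mon_of_two hF hu1 hm hir (fun j h1 h2 => by rw [hu]; exact pairVec_other h1 h2 _ _) ?_ ?_
    · rw [hu, pairVec_left hir, hm_neg]; linear_combination (-2) * hγ' - mul_inv_cancel₀ h2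
    · rw [hu, pairVec_right hir, hm_neg, neg_pow_q hF]; linear_combination (-2) * hγ' - mul_inv_cancel₀ h2
  have huL : Linked q M m u := mon_linked hF hHM hm hu1 hum
  have hgu : (g : Matrix (Fin n) (Fin n) F) *ᵥ u = γ • (a - c) := by
    have e : u = γ • Pi.single i₀ 1 + (-γ) • Pi.single r 1 := by
      rw [hu]
      show (Pi.single i₀ γ : Fin n → F) + Pi.single r (-γ) = _
      rw [← Pi.single_smul, ← Pi.single_smul, smul_eq_mul, smul_eq_mul, mul_one, mul_one]
    rw [e, Matrix.mulVec_add, Matrix.mulVec_smul, Matrix.mulVec_smul, ← ha, ← hc]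
    module
  have hguL : Linked q M m ((g : Matrix (Fin n) (Fin n) F) *ᵥ u) :=
    Linked.of_conj hF hHM hm huL (linked_single hF hHM hm r) hgM hg.1 (hcols r)
  have h3 : 3 ≤ (supp ((g : Matrix (Fin n) (Fin n) F) *ᵥ u)).card := by
    have : ({t, p, s} : Finset (Fin n)) ⊆ supp ((g : Matrix (Fin n) (Fin n) F) *ᵥ u) := by
      intro x hx
      simp only [Finset.mem_insert, Finset.mem_singleton] at hx
      rw [mem_supp, hgu, Pi.smul_apply, smul_eq_mul, Pi.sub_apply]
      refine mul_ne_zero hγ0 ?_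
      rcases hx with rfl | rfl | rfl
      · rw [hoth x htp hts, zero_sub]; exact neg_ne_zero.2 ht
      · rw [hcps.1, sub_zero]; exact hp
      · rw [hcps.2, sub_zero]; exact hs
    exact le_trans (le_of_eq (by simp [htp, hts, hps])) (Finset.card_le_card this)
  refine ⟨_, hguL, not_mon_of_three hF hguL.1 hm hm1 h3, Or.inr ?_⟩
  have hle : supp ((g : Matrix (Fin n) (Fin n) F) *ᵥ u) ⊆ supp a ∪ supp c := by
    intro x hx
    rw [mem_supp, hgu, Pi.smul_apply, Pi.sub_apply] at hx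
    rw [Finset.mem_union, mem_supp, mem_supp]
    by_contra h
    simp only [not_or, not_not] at h
    exact hx (by rw [h.1, h.2, sub_zero, smul_zero])
  have := (Finset.card_le_card hle).trans (Finset.card_union_le _ _)
  omega

/-- An element fixing a coordinate line, not monomial, gives SU. -/
theorem mono_le_of_fix (hq : 3 ≤ q) {z : Matrix.GeneralLinearGroup (Fin n) F} (hzM : z ∈ M)
    (hz : z ∈ suGL n F q) (hzm : ¬ IsMon z) {i : Fin n} {a : F}
    (hzi : (z : Matrix (Fin n) (Fin n) F) *ᵥ Pi.single i 1 = a • Pi.single i 1) : suGL n F q ≤ M := by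
  classical
  have H := hermForm_isHerm hF n
  have o := single_orthonormal hF n
  obtain ⟨ζ, hζ, hord, hζ1⟩ := exists_gen_ne_one hF
  have ha : a ^ (q + 1) = 1 := by
    have h : Cfsg.hermForm n F q ((z : Matrix (Fin n) (Fin n) F) *ᵥ Pi.single i 1)
      ((z : Matrix (Fin n) (Fin n) F) *ᵥ Pi.single i 1) = 1 := (hz.1 _ _).trans (o.1 i)
    rwa [hzi, H.smul_left, H.smul_right, o.1, mul_one, ← pow_succ'] at h
  have hcols := cols_linked hF hHM hζ hzM hz.1 (linked_single hF hHM hζ i)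
    (hzi ▸ (linked_single hF hHM hζ i).smul hF hζ ha)
  obtain ⟨x, hx, hxm, hor⟩ := exists_good hF hn hHM hζ hζ1 hzM hz hzm hcols
  refine mono_le_of_linked_gen hF (by omega) hHM hζ hord hq hx (supp_of_not_mon hF hx.1 hζ hxm).1 ?_
  rcases hor with ⟨r, rfl⟩ | h
  swap
  · exact h
  have hri : r ≠ i := by
    rintro rfl
    have h1 : (supp ((z : Matrix (Fin n) (Fin n) F) *ᵥ Pi.single r 1)).card ≤ 1 := by
      refine Finset.card_le_one.2 fun x hx y hy => ?_
      have key : ∀ x ∈ supp ((z : Matrix (Fin n) (Fin n) F) *ᵥ Pi.single r 1), x = r := fun x hx => by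
        rw [mem_supp, hzi, Pi.smul_apply] at hx
        by_contra h
        exact hx (by rw [Pi.single_eq_of_ne h, smul_zero])
      rw [key x hx, key y hy]
    exact hxm (mon_of_one hF hx.1 hζ h1)
  refine lt_of_lt_of_eq (Finset.card_lt_card ((Finset.ssubset_iff_of_subset (Finset.subset_univ _)).2
      ⟨i, Finset.mem_univ _, fun h => mem_supp.1 h ?_⟩)) (by rw [Finset.card_univ, Fintype.card_fin])
  have h0 : Cfsg.hermForm n F q ((z : Matrix (Fin n) (Fin n) F) *ᵥ Pi.single r 1)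
      ((z : Matrix (Fin n) (Fin n) F) *ᵥ Pi.single i 1) = 0 := (hz.1 _ _).trans (o.2 hri)
  rw [hzi, H.smul_right, hermForm_single_right hF] at h0
  exact (mul_eq_zero.1 h0).resolve_left (pow_ne_zero _ fun h => by simp [h] at ha)

/-- A linked vector of weight below n with a non-monomial reflection gives SU. -/
theorem mono_le_of_linked (hq : 3 ≤ q) {m : F} (hm : m ^ (q + 1) = 1)
    {x : Fin n → F} (hx : Linked q M m x) (hxm : ¬ IsMon (glRefl q x m)) (hxn : (supp x).card < n) :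
    suGL n F q ≤ M := by
  have o := single_orthonormal hF n
  obtain ⟨p, hp⟩ := exists_notMem_of_card_lt (S := supp x) hxn
  obtain ⟨k, hk⟩ := Finset.card_pos.1
    (show 0 < (supp x).card from lt_of_lt_of_le Nat.zero_lt_two (supp_of_not_mon hF hx.1 hm hxm).1)
  refine mono_le_of_fix hF hn hHM hq (hx.2 k) (refl_pair_mem_suGL hF hx.1 (o.1 k) hm) (fun h => hxm ?_)
    (i := p) (a := 1) ?_
  · have := h.mul (glRefl_single_mon hF k hm)
    rwa [inv_mul_cancel_right] at this
  · have hpk : p ≠ k := fun h => hp (h ▸ hk)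
    have e : (glRefl q (Pi.single k 1 : Fin n → F) m : Matrix (Fin n) (Fin n) F) *ᵥ Pi.single p 1 =
        Pi.single p 1 := glRefl_fix hF (o.1 k) hm (o.2 hpk)
    conv_lhs => arg 2; rw [← e]
    rw [Matrix.mulVec_mulVec, ← Units.val_mul, inv_mul_cancel_right, one_smul]
    refine glRefl_fix hF hx.1 hm ?_
    rw [hermForm_single_left, eq_zero_of_notMem_supp hp, zero_pow_q hF]

/-- Two coordinates forming a block: an element fixing all others and not monomial. -/
theorem mono_le_of_block (hq : 4 ≤ q) (hMK : M ≤ suGL n F q) {x : Fin n → F} {k l : Fin n}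
    (hkl : k ≠ l) (hxk : x k ≠ 0) (hxl : x l ≠ 0) (hN0 : x k * x k ^ q + x l * x l ^ q ≠ 0)
    (hN1 : x k * x k ^ q + x l * x l ^ q ≠ 1) (hx : Cfsg.hermForm n F q x x = 1)
    {g : Matrix.GeneralLinearGroup (Fin n) F} (hgM : g ∈ M) {cA cB d d' : F}
    (hgu : (g : Matrix (Fin n) (Fin n) F) *ᵥ restr {k, l} x = d • restr ({k, l} : Finset (Fin n))ᶜ x)
    (hgb : (g : Matrix (Fin n) (Fin n) F) *ᵥ restr ({k, l} : Finset (Fin n))ᶜ x = d' • restr {k, l} x)
    (hgA : ∀ v, (∀ j ∉ ({k, l} : Finset (Fin n)), v j = 0) → Cfsg.hermForm n F q v x = 0 →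
      (g : Matrix (Fin n) (Fin n) F) *ᵥ v = cA • v)
    (hgB : ∀ v, (∀ j ∈ ({k, l} : Finset (Fin n)), v j = 0) → Cfsg.hermForm n F q v x = 0 →
      (g : Matrix (Fin n) (Fin n) F) *ᵥ v = cB • v)
    {ν ρ : F} (hν : ν ^ (q + 1) = 1) (hν2 : ν ^ 2 ≠ 1) (hρ0 : ρ ≠ 0)
    {T : Matrix.GeneralLinearGroup (Fin n) F} (hTM : T ∈ M) (hT : ∀ v j,
      ((T : Matrix (Fin n) (Fin n) F) *ᵥ v) j = ρ * (if j ∈ ({k, l} : Finset (Fin n)) then ν else 1) * v j) :
    suGL n F q ≤ M := by
  classical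
  have H := hermForm_isHerm hF n
  have o := single_orthonormal hF n
  set A : Finset (Fin n) := {k, l} with hA
  set u := restr A x with hu
  set b := restr Aᶜ x with hb
  have hν0 : ν ≠ 0 := fun h => by simp [h] at hν
  have hν1 : ν ≠ 1 := fun h => hν2 (by rw [h, one_pow])
  have hinj : Function.Injective (fun w => (g : Matrix (Fin n) (Fin n) F) *ᵥ w) :=
    Matrix.mulVec_injective_iff_isUnit.2 (Units.isUnit g)
  have hkA : k ∈ A := by simp [hA]
  have hlA : l ∈ A := by simp [hA]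
  set Y := g * T * g⁻¹ with hY
  have hYg : ∀ w, (Y : Matrix (Fin n) (Fin n) F) *ᵥ ((g : Matrix (Fin n) (Fin n) F) *ᵥ w) =
      (g : Matrix (Fin n) (Fin n) F) *ᵥ ((T : Matrix (Fin n) (Fin n) F) *ᵥ w) := fun w => by
    rw [Matrix.mulVec_mulVec, Matrix.mulVec_mulVec, ← Units.val_mul, ← Units.val_mul]
    congr 2
    rw [hY, inv_mul_cancel_right]
  have hne : ∀ (v : Fin n → F) (j : Fin n), v j ≠ 0 → v ≠ 0 := fun v j h e => h (by rw [e]; rfl)
  obtain ⟨j₀, hj₀⟩ : ∃ j, b j ≠ 0 := by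
    by_contra! hall
    refine hN1 ?_
    rw [← hx]
    show _ = ∑ j, x j * x j ^ q
    rw [← Finset.sum_subset (Finset.subset_univ A) fun j _ hj => by
      have := hall j
      rw [hb, restr_mem (Finset.mem_compl.2 hj)] at this
      rw [this, zero_mul], hA, Finset.sum_pair hkl]
  have hd : d ≠ 0 := fun h => hne u k (by rw [hu, restr_mem hkA]; exact hxk) (hinj (by
    show (g : Matrix (Fin n) (Fin n) F) *ᵥ u = (g : Matrix (Fin n) (Fin n) F) *ᵥ 0
    rw [hgu, h, zero_smul, Matrix.mulVec_zero]))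
  have hd' : d' ≠ 0 := fun h => hne b j₀ hj₀ (hinj (by
    show (g : Matrix (Fin n) (Fin n) F) *ᵥ b = (g : Matrix (Fin n) (Fin n) F) *ᵥ 0
    rw [hgb, h, zero_smul, Matrix.mulVec_zero]))
  have hTb : (T : Matrix (Fin n) (Fin n) F) *ᵥ b = ρ • b := funext fun j => by
    rw [hT, Pi.smul_apply, smul_eq_mul]
    by_cases hj : j ∈ A <;> simp [hb, restr, hj]
  have hTu : (T : Matrix (Fin n) (Fin n) F) *ᵥ u = (ρ * ν) • u := funext fun j => by
    rw [hT, Pi.smul_apply, smul_eq_mul]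
    by_cases hj : j ∈ A <;> simp [hu, restr, hj]
  have hYu : (Y : Matrix (Fin n) (Fin n) F) *ᵥ u = ρ • u := by
    conv_lhs => rw [← inv_smul_smul₀ hd' u, Matrix.mulVec_smul, ← hgb, hYg, hTb, Matrix.mulVec_smul, hgb,
      smul_smul, smul_smul]
    congr 1
    field_simp
  have hYb : (Y : Matrix (Fin n) (Fin n) F) *ᵥ b = (ρ * ν) • b := by
    conv_lhs => rw [← inv_smul_smul₀ hd b, Matrix.mulVec_smul, ← hgu, hYg, hTu, Matrix.mulVec_smul, hgu,
      smul_smul, smul_smul]
    congr 1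
    field_simp
  have hYA : ∀ v, (∀ j ∉ A, v j = 0) → Cfsg.hermForm n F q v x = 0 →
      (Y : Matrix (Fin n) (Fin n) F) *ᵥ v = (ρ * ν) • v := by
    intro v hv h
    rcases eq_or_ne v 0 with rfl | hv0
    · simp
    have hc : cA ≠ 0 := fun hc => hv0 (hinj (by
      show (g : Matrix (Fin n) (Fin n) F) *ᵥ v = (g : Matrix (Fin n) (Fin n) F) *ᵥ 0
      rw [hgA v hv h, hc, zero_smul, Matrix.mulVec_zero]))
    have hTv : (T : Matrix (Fin n) (Fin n) F) *ᵥ v = (ρ * ν) • v := funext fun j => by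
      rw [hT, Pi.smul_apply, smul_eq_mul]
      by_cases hj : j ∈ A
      · rw [if_pos hj]
      · rw [hv j hj, mul_zero, mul_zero]
    conv_lhs => rw [← inv_smul_smul₀ hc v, Matrix.mulVec_smul, ← hgA v hv h, hYg, hTv,
      Matrix.mulVec_smul, hgA v hv h, smul_smul, smul_smul]
    congr 1
    field_simp
  have hYB : ∀ v, (∀ j ∈ A, v j = 0) → Cfsg.hermForm n F q v x = 0 →
      (Y : Matrix (Fin n) (Fin n) F) *ᵥ v = ρ • v := by
    intro v hv h
    rcases eq_or_ne v 0 with rfl | hv0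
    · simp
    have hc : cB ≠ 0 := fun hc => hv0 (hinj (by
      show (g : Matrix (Fin n) (Fin n) F) *ᵥ v = (g : Matrix (Fin n) (Fin n) F) *ᵥ 0
      rw [hgB v hv h, hc, zero_smul, Matrix.mulVec_zero]))
    have hTv : (T : Matrix (Fin n) (Fin n) F) *ᵥ v = ρ • v := funext fun j => by
      rw [hT, Pi.smul_apply, smul_eq_mul]
      by_cases hj : j ∈ A
      · rw [hv j hj, mul_zero, mul_zero]
      · rw [if_neg hj, mul_one]
    conv_lhs => rw [← inv_smul_smul₀ hc v, Matrix.mulVec_smul, ← hgB v hv h, hYg, hTv,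
      Matrix.mulVec_smul, hgB v hv h, smul_smul, smul_smul]
    congr 1
    field_simp
  -- conjugating a diagonal element of the block
  obtain ⟨lam, hlam, hord, -⟩ := exists_gen_ne_one hF
  have hlam4 : lam ^ 4 ≠ 1 := fun h => by
    have := Nat.le_of_dvd (by norm_num) (hord ▸ orderOf_dvd_of_pow_eq_one h)
    omega
  have hlam0 : lam ≠ 0 := fun h => by simp [h] at hlam
  obtain ⟨D, hDM, hD, hDm, hDx⟩ := exists_diagM hF hHM
    (fun j => if j = k then lam else if j = l then lam⁻¹ else 1)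
    (fun j => by
      split_ifs
      exacts [hlam, inv_pow_succ _ hlam, one_pow _])
    (by
      rw [← Finset.prod_subset (Finset.subset_univ A) fun j _ hj => by
        simp only [hA, Finset.mem_insert, Finset.mem_singleton, not_or] at hj
        simp [hj.1, hj.2], hA, Finset.prod_pair hkl]
      simp [hkl.symm, hlam0])
  have hDB : ∀ v, (∀ j ∈ A, v j = 0) → (D : Matrix (Fin n) (Fin n) F) *ᵥ v = v := fun v hv =>
    funext fun j => by
      rw [hDx]
      by_cases hj : j ∈ A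
      · rw [hv j hj, mul_zero]
      · simp only [hA, Finset.mem_insert, Finset.mem_singleton, not_or] at hj
        simp [hj.1, hj.2]
  have hYM : Y ∈ M := M.mul_mem (M.mul_mem hgM hTM) (M.inv_mem hgM)
  set E := Y * D * Y⁻¹ with hE
  have hEY : ∀ w, (E : Matrix (Fin n) (Fin n) F) *ᵥ ((Y : Matrix (Fin n) (Fin n) F) *ᵥ w) =
      (Y : Matrix (Fin n) (Fin n) F) *ᵥ ((D : Matrix (Fin n) (Fin n) F) *ᵥ w) := fun w => by
    rw [Matrix.mulVec_mulVec, Matrix.mulVec_mulVec, ← Units.val_mul, ← Units.val_mul]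
    congr 2
    rw [hE, inv_mul_cancel_right]
  have hbb : Cfsg.hermForm n F q b x = 1 - (x k * x k ^ q + x l * x l ^ q) := by
    have e : Cfsg.hermForm n F q u x = x k * x k ^ q + x l * x l ^ q := by
      show ∑ j, u j * x j ^ q = _
      rw [← Finset.sum_subset (Finset.subset_univ A) fun j _ hj => by
        rw [hu, restr_notMem hj, zero_mul], hA, Finset.sum_pair hkl, hu, restr_mem hkA, restr_mem hlA]
    have h := H.add_left u b x
    rw [hu, hb, restr_add_compl, hx, ← hu, ← hb, e] at h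
    linear_combination -h
  have hEfix : ∀ j, j ∉ A → (E : Matrix (Fin n) (Fin n) F) *ᵥ Pi.single j 1 = Pi.single j 1 := by
    intro j hj
    set α := x j ^ q / (1 - (x k * x k ^ q + x l * x l ^ q)) with hα
    set v := Pi.single j 1 - α • b with hv
    have hvA : ∀ r ∈ A, v r = 0 := fun r hr => by
      have hrj : r ≠ j := fun h => hj (h ▸ hr)
      simp [hv, hb, restr, hr, hrj]
    have hvx : Cfsg.hermForm n F q v x = 0 := by
      rw [hv, H.sub_left, H.smul_left, hbb, hermForm_single_left, hα,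
        div_mul_cancel₀ _ (sub_ne_zero.2 (Ne.symm hN1)), sub_self]
    set w := (α / (ρ * ν)) • b + ρ⁻¹ • v with hw
    have hwA : ∀ r ∈ A, w r = 0 := fun r hr => by
      simp [hw, hvA r hr, hb, restr, hr]
    have hYw : (Y : Matrix (Fin n) (Fin n) F) *ᵥ w = Pi.single j 1 := by
      rw [hw, Matrix.mulVec_add, Matrix.mulVec_smul, Matrix.mulVec_smul, hYb, hYB v hvA hvx, smul_smul,
        smul_smul, div_mul_cancel₀ _ (mul_ne_zero hρ0 hν0), inv_mul_cancel₀ hρ0, one_smul, hv]
      module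
    rw [← hYw, hEY, hDB w hwA]
  set z := E * D⁻¹ with hz
  have hzM : z ∈ M :=
    M.mul_mem (M.mul_mem (M.mul_mem hYM hDM) (M.inv_mem hYM)) (M.inv_mem hDM)
  obtain ⟨i, hi⟩ : ∃ i, i ∉ A := exists_notMem_of_card_lt (lt_of_le_of_lt Finset.card_le_two (by omega))
  have hzi : (z : Matrix (Fin n) (Fin n) F) *ᵥ Pi.single i 1 = (1 : F) • Pi.single i 1 := by
    have hDi := hDB (Pi.single i (1 : F)) fun r hr => Pi.single_eq_of_ne (by rintro rfl; exact hi hr) _
    rw [one_smul, hz, Units.val_mul, ← Matrix.mulVec_mulVec]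
    conv_lhs => arg 2; rw [← hDi, Matrix.mulVec_mulVec, ← Units.val_mul, inv_mul_cancel, Units.val_one,
      Matrix.one_mulVec]
    exact hEfix i hi
  refine mono_le_of_fix hF hn hHM (by omega) hzM (hMK hzM) (fun hzm => ?_) hzi
  have hEm : IsMon E := by
    have := hzm.mul hDm
    rwa [hz, inv_mul_cancel_right] at this
  obtain ⟨π, hπ⟩ := hEm
  have hEinj : Function.Injective (fun w => (E : Matrix (Fin n) (Fin n) F) *ᵥ w) :=
    Matrix.mulVec_injective_iff_isUnit.2 (Units.isUnit E)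
  have hπA : ∀ p ∈ A, π p ∈ A := by
    intro p hp
    by_contra hpA
    obtain ⟨a, ha⟩ := hπ p
    rw [← hEfix _ hpA, ← Matrix.mulVec_smul] at ha
    have := congrFun (hEinj ha) p
    have hne' : p ≠ π p := fun h => hpA (h ▸ hp)
    simp [Pi.single_eq_of_ne hne'] at this
  -- eigenvectors of E in the block
  obtain ⟨r, hr⟩ : ∃ r, r = (Y : Matrix (Fin n) (Fin n) F) *ᵥ Pi.single k 1 := ⟨_, rfl⟩
  obtain ⟨s, hs⟩ : ∃ s, s = (Y : Matrix (Fin n) (Fin n) F) *ᵥ Pi.single l 1 := ⟨_, rfl⟩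
  set N := x k * x k ^ q + x l * x l ^ q with hN
  have col : ∀ p q' : Fin n, p ∈ A → A = {p, q'} → p ≠ q' → ∀ t,
      ((Y : Matrix (Fin n) (Fin n) F) *ᵥ Pi.single p 1) t =
        ρ * ν * (if t = p then 1 else 0) + ρ * (1 - ν) * (x p ^ q / N) * u t := by
    intro p q' hp hAp hpq t
    set v := Pi.single p 1 - (x p ^ q / N) • u with hv
    have hvA : ∀ j ∉ A, v j = 0 := fun j hj => by
      have hjp : j ≠ p := fun h => hj (h ▸ hp)
      simp [hv, hu, restr, hj, hjp]
    have hux : Cfsg.hermForm n F q u x = N := by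
      show ∑ j, u j * x j ^ q = _
      rw [← Finset.sum_subset (Finset.subset_univ A) fun j _ hj => by
        rw [hu, restr_notMem hj, zero_mul], hA, Finset.sum_pair hkl, hu, restr_mem hkA, restr_mem hlA]
    have hvx : Cfsg.hermForm n F q v x = 0 := by
      rw [hv, H.sub_left, H.smul_left, hux, hermForm_single_left, div_mul_cancel₀ _ hN0, sub_self]
    have e : Pi.single p (1 : F) = v + (x p ^ q / N) • u := by rw [hv]; module
    rw [e, Matrix.mulVec_add, Matrix.mulVec_smul, hYA v hvA hvx, hYu, hv]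
    simp only [Pi.add_apply, Pi.smul_apply, Pi.sub_apply, smul_eq_mul, Pi.single_apply]
    ring
  have key : ∀ (p q' : Fin n), x p ≠ 0 → x q' ≠ 0 → x p * x p ^ q + x q' * x q' ^ q = N →
      ν + (1 - ν) * (x p ^ q / N) * x p ≠ 0 := by
    intro p q' hp hq' hsum h
    have h' : (1 - ν) * (x q' * x q' ^ q) = N := by
      field_simp at h
      linear_combination -h + (1 - ν) * hsum
    have hfix : ∀ a : F, (a * a ^ q) ^ q = a * a ^ q := fun a => by
      rw [mul_pow, pow_q_pow_q hF, mul_comm]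
    have hν' : (1 - ν) ^ q = 1 - ν := by
      refine mul_right_cancel₀ (mul_ne_zero hq' (pow_ne_zero q hq')) ?_
      conv_lhs => rw [← hfix, ← mul_pow, h']
      rw [h', hN, add_pow_q hF, hfix, hfix]
    rw [sub_pow_q hF, one_pow] at hν'
    refine hν2 ?_
    rw [pow_succ, show ν ^ q = ν by linear_combination -hν'] at hν
    rw [sq, hν]
  have hrk : r k ≠ 0 := by
    rw [hr, col k l hkA hA hkl, hu, restr_mem hkA, if_pos rfl, mul_one,
      show ρ * ν + ρ * (1 - ν) * (x k ^ q / N) * x k = ρ * (ν + (1 - ν) * (x k ^ q / N) * x k) by ring]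
    exact mul_ne_zero hρ0 (key k l hxk hxl hN.symm)
  have hsl : s l ≠ 0 := by
    rw [hs, col l k hlA (by rw [hA, Finset.pair_comm]) hkl.symm, hu, restr_mem hlA, if_pos rfl, mul_one,
      show ρ * ν + ρ * (1 - ν) * (x l ^ q / N) * x l = ρ * (ν + (1 - ν) * (x l ^ q / N) * x l) by ring]
    exact mul_ne_zero hρ0 (key l k hxl hxk (by rw [hN, add_comm]))
  have hrl : r l ≠ 0 := by
    rw [hr, col k l hkA hA hkl, hu, restr_mem hlA, if_neg hkl.symm, mul_zero, zero_add]
    exact mul_ne_zero (mul_ne_zero (mul_ne_zero hρ0 (sub_ne_zero.2 hν1.symm))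
      (div_ne_zero (pow_ne_zero _ hxk) hN0)) hxl
  have hsk : s k ≠ 0 := by
    rw [hs, col l k hlA (by rw [hA, Finset.pair_comm]) hkl.symm, hu, restr_mem hkA, if_neg hkl, mul_zero,
      zero_add]
    exact mul_ne_zero (mul_ne_zero (mul_ne_zero hρ0 (sub_ne_zero.2 hν1.symm))
      (div_ne_zero (pow_ne_zero _ hxl) hN0)) hxk
  have supp2 : ∀ p q' : Fin n, p ∈ A → A = {p, q'} → p ≠ q' → ∀ w : Fin n → F,
      w = (Y : Matrix (Fin n) (Fin n) F) *ᵥ Pi.single p 1 →
      w = w k • Pi.single k 1 + w l • Pi.single l 1 := by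
    intro p q' hp hAp hpq w hw
    funext t
    rcases eq_or_ne t k with rfl | htk
    · simp [hkl]
    rcases eq_or_ne t l with rfl | htl
    · simp [htk]
    have htA : t ∉ A := by simp [hA, htk, htl]
    rw [hw, col p q' hp hAp hpq, hu, restr_notMem htA, mul_zero, add_zero,
      if_neg (show ¬ t = p from fun h => htA (by rw [h]; exact hp)), mul_zero]
    simp [htk, htl]
  have er : (E : Matrix (Fin n) (Fin n) F) *ᵥ r = lam • r := by
    rw [hr, hEY, ← Matrix.mulVec_smul]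
    congr 1
    funext j
    rw [hDx, Pi.smul_apply, smul_eq_mul]
    rcases eq_or_ne j k with rfl | hj <;> simp [*]
  have es : (E : Matrix (Fin n) (Fin n) F) *ᵥ s = lam⁻¹ • s := by
    rw [hs, hEY, ← Matrix.mulVec_smul]
    congr 1
    funext j
    rw [hDx, Pi.smul_apply, smul_eq_mul]
    rcases eq_or_ne j l with rfl | hj <;> simp [*, hkl.symm]
  rw [supp2 k l hkA hA hkl r hr, Matrix.mulVec_add, Matrix.mulVec_smul, Matrix.mulVec_smul] at er
  rw [supp2 l k hlA (by rw [hA, Finset.pair_comm]) hkl.symm s hs, Matrix.mulVec_add, Matrix.mulVec_smul,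
    Matrix.mulVec_smul] at es
  obtain ⟨a, ha⟩ := hπ k
  obtain ⟨a', ha'⟩ := hπ l
  rw [ha, ha'] at er es
  have hk' : π k = k ∨ π k = l := by simpa [hA] using hπA k hkA
  have hl' : π l = k ∨ π l = l := by simpa [hA] using hπA l hlA
  have hππ : π k ≠ π l := π.injective.ne hkl
  rcases hk' with e1 | e1
  · have e2 : π l = l := hl'.resolve_left fun h => hππ (e1.trans h.symm)
    rw [e1, e2] at er es
    have h1 := congrFun er k
    have h2 := congrFun es k
    simp [hkl] at h1 h2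
    have h1' : a = lam := mul_left_cancel₀ hrk (by linear_combination h1)
    have h2' : a = lam⁻¹ := mul_left_cancel₀ hsk (by linear_combination h2)
    refine hlam4 ?_
    rw [show lam ^ 4 = (lam * lam) ^ 2 by ring]
    nth_rewrite 2 [h1'.symm.trans h2']
    rw [mul_inv_cancel₀ hlam0, one_pow]
  · have e2 : π l = k := hl'.resolve_right fun h => hππ (e1.trans h.symm)
    rw [e1, e2] at er es
    have h1 := congrFun er k
    have h2 := congrFun er l
    have h3 := congrFun es k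
    have h4 := congrFun es l
    simp [hkl, hkl.symm] at h1 h2 h3 h4
    have h5 : a * a' = lam * lam :=
      mul_left_cancel₀ (mul_ne_zero hrk hrl) (by
        linear_combination (r l * a') * h2 + lam * r l * h1)
    have h6 : a * a' = lam⁻¹ * lam⁻¹ :=
      mul_left_cancel₀ (mul_ne_zero hsk hsl) (by
        linear_combination (s l * a') * h4 + lam⁻¹ * s l * h3)
    refine hlam4 ?_
    have h7 := h5.symm.trans h6
    field_simp at h7
    linear_combination h7

/-- For q + 1 ∤ n all columns of M are linked, by scalar times reflection. -/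
theorem exists_scalar_cols (hMK : M ≤ suGL n F q) (hdvd : ¬ q + 1 ∣ n) :
    ∃ ζ m : F, ζ ^ (q + 1) = 1 ∧ orderOf ζ = q + 1 ∧ m ^ (q + 1) = 1 ∧ m ≠ 1 ∧ m = (ζ ^ n)⁻¹ ∧
      ∀ g ∈ M, ∀ i : Fin n, Linked q M m ((g : Matrix (Fin n) (Fin n) F) *ᵥ Pi.single i 1) ∧
        ∃ X ∈ M, ∀ v, (X : Matrix (Fin n) (Fin n) F) *ᵥ v = ζ •
          ((glRefl q ((g : Matrix (Fin n) (Fin n) F) *ᵥ Pi.single i 1) m : Matrix (Fin n) (Fin n) F) *ᵥ v) := by
  have _ := hn
  classical
  have H := hermForm_isHerm hF n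
  have o := single_orthonormal hF n
  obtain ⟨ζ, hζ, hord, hζ1⟩ := exists_gen_ne_one hF
  obtain ⟨m, hmdef⟩ : ∃ m, m = (ζ ^ n)⁻¹ := ⟨_, rfl⟩
  have hζn : ζ ^ n ≠ 1 := fun h => hdvd (hord ▸ orderOf_dvd_of_pow_eq_one h)
  have hm : m ^ (q + 1) = 1 := hmdef ▸ inv_pow_succ _ (by rw [← pow_mul, mul_comm, pow_mul, hζ, one_pow])
  have hm1 : m ≠ 1 := fun h => hζn (inv_eq_one.1 (hmdef ▸ h))
  obtain ⟨z, hz, hzm, hzx⟩ := exists_mono hF 1 (fun _ : Fin n => ζ) (fun _ => hζ)
  have hzv : ∀ v, (z : Matrix (Fin n) (Fin n) F) *ᵥ v = ζ • v := fun v => funext fun j => by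
    rw [hzx, Pi.smul_apply]; rfl
  have hzc : ∀ A : Matrix.GeneralLinearGroup (Fin n) F, z * A = A * z := fun A =>
    gl_ext_mulVec fun v => by
      rw [Units.val_mul, Units.val_mul, ← Matrix.mulVec_mulVec, ← Matrix.mulVec_mulVec, hzv, hzv,
        Matrix.mulVec_smul]
  have hzk : ∀ k : Fin n, z * glRefl q (Pi.single k 1) m ∈ M := by
    intro k
    obtain ⟨d, hdM, -, -, hdx⟩ := exists_diagM hF hHM (fun j => if j = k then ζ * m else ζ)
      (fun j => by split_ifs <;> simp [mul_pow, hζ, hm]) (by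
        rw [← Finset.mul_prod_erase _ _ (Finset.mem_univ k), if_pos rfl,
          Finset.prod_congr rfl (g := fun _ => ζ) (fun j hj => if_neg (Finset.mem_erase.1 hj).1),
          Finset.prod_const, Finset.card_erase_of_mem (Finset.mem_univ k), Finset.card_univ,
          Fintype.card_fin]
        calc ζ * m * ζ ^ (n - 1) = m * ζ ^ (n - 1 + 1) := by ring
          _ = 1 := by
            rw [show n - 1 + 1 = n by omega, hmdef, inv_mul_cancel₀]
            intro h
            have h' := congrArg (fun w : F => w ^ (q + 1)) h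
            simp only [← pow_mul, mul_comm n (q + 1), pow_mul ζ, hζ, one_pow,
              zero_pow (Nat.succ_ne_zero q)] at h'
            exact one_ne_zero h')
    have : z * glRefl q (Pi.single k 1) m = d := gl_ext_mulVec fun v => funext fun j => by
      rw [Units.val_mul, ← Matrix.mulVec_mulVec, hzv, glRefl_apply hF (o.1 k) hm, herm_single hF,
        hdx, Pi.smul_apply, Pi.add_apply, Pi.smul_apply, smul_eq_mul, smul_eq_mul]
      rcases eq_or_ne j k with rfl | hj
      · simp; ring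
      · simp [hj]
    rw [this]; exact hdM
  have hcolM : ∀ g ∈ M, ∀ i : Fin n,
      z * glRefl q ((g : Matrix (Fin n) (Fin n) F) *ᵥ Pi.single i 1) m ∈ M := by
    intro g hgM i
    rw [← glRefl_conj hF (hMK hgM).1 (o.1 i) hm, ← mul_assoc, ← mul_assoc, hzc g, mul_assoc g]
    exact mul_mem (mul_mem hgM (hzk i)) (inv_mem hgM)
  have hcols : ∀ g ∈ M, ∀ i, Linked q M m ((g : Matrix (Fin n) (Fin n) F) *ᵥ Pi.single i 1) := by
    intro g hgM i
    refine ⟨((hMK hgM).1 _ _).trans (o.1 i), fun k => ?_⟩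
    have := mul_mem (hcolM g hgM i) (inv_mem (hzk k))
    rwa [mul_inv_rev, ← mul_assoc, mul_assoc z, hzc, mul_inv_cancel_right] at this
  exact ⟨ζ, m, hζ, hord, hm, hm1, hmdef, fun g hgM i => ⟨hcols g hgM i, _, hcolM g hgM i,
    fun v => by rw [Units.val_mul, ← Matrix.mulVec_mulVec, hzv]⟩⟩

theorem refl_neg_inv {e : Fin n → F} (he : Cfsg.hermForm n F q e e = 1) :
    (glRefl q e (-1))⁻¹ = glRefl q e (-1) := by
  have _ := hn
  have _ := hHM
  have hm : (-1 : F) ^ (q + 1) = 1 := by rw [pow_succ, neg_pow_q hF, one_pow]; ring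
  refine inv_eq_of_mul_eq_one_right (gl_ext_mulVec fun v => ?_)
  rw [Units.val_mul, ← Matrix.mulVec_mulVec, glRefl_apply hF he hm, glRefl_apply hF he hm,
    (hermForm_isHerm hF n).add_left, (hermForm_isHerm hF n).smul_left, he, Units.val_one,
    Matrix.one_mulVec]
  module

/-- A standard vector orthogonal to c on a set of non-zero coordinates. -/
theorem exists_std_perp (h2 : (2 : F) ≠ 0) {c : Fin n → F} {s : Finset (Fin n)}
    (hs : ∀ j ∈ s, c j ≠ 0) (hq : q ≤ s.card) :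
    ∃ u : Fin n → F, Cfsg.hermForm n F q u u = 1 ∧ IsMon (glRefl q u (-1)) ∧
      Cfsg.hermForm n F q c u = 0 ∧ supp u ⊆ s ∧ (supp u).card ≤ 2 := by
  classical
  have hm : (-1 : F) ^ (q + 1) = 1 := by rw [pow_succ, neg_pow_q hF, one_pow]; ring
  set K := (Finset.univ.filter fun v : F => v ^ q = v).erase 0 with hK
  have hKc : K.card = q - 1 := by
    have := card_fixed hF
    rw [Nat.card_eq_fintype_card, Fintype.card_subtype] at this
    rw [hK, Finset.card_erase_of_mem (by simp [zero_pow_q hF]), this]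
  obtain ⟨p, hp, r, hr, hpr, he⟩ := Finset.exists_ne_map_eq_of_card_lt_of_maps_to
    (f := fun j => c j * c j ^ q) (t := K) (show K.card < s.card by have := two_le_q hF; omega)
    (fun j hj => Finset.mem_coe.2 (Finset.mem_erase.2
      ⟨mul_ne_zero (hs j hj) (pow_ne_zero _ (hs j hj)), by
        simp [mul_pow, pow_q_pow_q hF, mul_comm]⟩))
  obtain ⟨γ, hγ⟩ := exists_norm_eq hF (c := (2 : F)⁻¹)
    (by rw [inv_pow, show (2 : F) = 1 + 1 by norm_num, add_pow_q hF, one_pow])
  have hγ' : γ * γ ^ q = (2 : F)⁻¹ := by rw [← pow_succ', hγ]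
  obtain ⟨α, hα⟩ : ∃ α, α = (-c p / c r) ^ q := ⟨_, rfl⟩
  have hα1 : α * α ^ q = 1 := by
    rw [hα, pow_q_pow_q hF, div_pow, neg_pow_q hF]
    have := hs r hr
    field_simp
    linear_combination he
  have hu1 : Cfsg.hermForm n F q (pairVec p r γ (γ * α)) (pairVec p r γ (γ * α)) = 1 := by
    rw [herm_pairVec hF (by omega) hHM hpr, pairVec_left hpr, pairVec_right hpr, mul_pow]
    linear_combination (γ * γ ^ q) * hα1 + 2 * hγ' + mul_inv_cancel₀ h2
  refine ⟨_, hu1, mon_of_two hF hu1 hm hpr (fun j h1 h2 => pairVec_other h1 h2 _ _) ?_ ?_, ?_, ?_, ?_⟩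
  · rw [pairVec_left hpr]; linear_combination (-2) * hγ' - mul_inv_cancel₀ h2
  · rw [pairVec_right hpr, mul_pow]
    linear_combination (-2 * (γ * γ ^ q)) * hα1 + (-2) * hγ' - mul_inv_cancel₀ h2
  · rw [herm_pairVec hF (by omega) hHM hpr, mul_pow, hα, pow_q_pow_q hF]
    have := hs r hr
    field_simp
    ring
  · intro j hj
    by_contra hjs
    exact mem_supp.1 hj (pairVec_other (fun h => hjs (by rw [h]; exact hp)) (fun h => hjs (by rw [h]; exact hr)) _ _)
  · refine (Finset.card_le_card (show supp (pairVec p r γ (γ * α)) ⊆ {p, r} from fun j hj => ?_)).trans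
      Finset.card_le_two
    by_contra hjs
    simp only [Finset.mem_insert, Finset.mem_singleton, not_or] at hjs
    exact mem_supp.1 hj (pairVec_other hjs.1 hjs.2 _ _)

omit hn hHM in
theorem supp_mon_card {g : Matrix.GeneralLinearGroup (Fin n) F} (h : IsMon g) (x : Fin n → F) :
    (supp ((g : Matrix (Fin n) (Fin n) F) *ᵥ x)).card ≤ (supp x).card := by
  classical
  have _ := hF
  obtain ⟨π, hπ⟩ := h
  refine (Finset.card_le_card (t := (supp x).image π) fun j hj => ?_).trans Finset.card_image_le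
  rw [mem_supp, mulVec_eq_sum_cols, Finset.sum_apply] at hj
  obtain ⟨r, -, hr⟩ := Finset.exists_ne_zero_of_sum_ne_zero hj
  obtain ⟨a, ha⟩ := hπ r
  rw [ha, Pi.smul_apply, Pi.smul_apply] at hr
  refine Finset.mem_image.2 ⟨r, mem_supp.2 fun h0 => hr (by rw [h0, zero_smul]), ?_⟩
  by_contra hne
  exact hr (by rw [Pi.single_eq_of_ne (Ne.symm hne), smul_zero, smul_zero])

/-- The reflection at a full linked vector keeps linked vectors linked. -/
theorem linked_refl (h2 : (2 : F) ≠ 0) (hqn : q ≤ n) {x y : Fin n → F} (hx : Linked q M (-1) x)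
    (hyL : Linked q M (-1) y) (hyall : ∀ j, y j ≠ 0) :
    Linked q M (-1) ((glRefl q y (-1) : Matrix (Fin n) (Fin n) F) *ᵥ x) := by
  classical
  have H := hermForm_isHerm hF n
  have hm : (-1 : F) ^ (q + 1) = 1 := by rw [pow_succ, neg_pow_q hF, one_pow]; ring
  obtain ⟨u, hu, hum, hyu, -, -⟩ := exists_std_perp hF hn hHM h2 (c := y) (s := Finset.univ)
    (fun j _ => hyall j) (by rw [Finset.card_univ, Fintype.card_fin]; exact hqn)
  have huL := mon_linked hF hHM hm hu hum
  let z := glRefl q y (-1) * (glRefl q u (-1))⁻¹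
  have hzM : z ∈ M := hyL.pair hF huL ⟨0, by omega⟩
  have hzU : z ∈ Cfsg.GU n F q := (Cfsg.GU n F q).mul_mem (glRefl_mem hF hyL.1 hm)
    ((Cfsg.GU n F q).inv_mem (glRefl_mem hF hu hm))
  have hzeq : z = glRefl q u (-1) * glRefl q y (-1) := by
    show _ * (glRefl q u (-1))⁻¹ = _
    rw [refl_neg_inv hF hn hHM hu]
    refine gl_ext_mulVec fun v => ?_
    rw [Units.val_mul, Units.val_mul, ← Matrix.mulVec_mulVec, ← Matrix.mulVec_mulVec,
      glRefl_apply hF hu hm, glRefl_apply hF hyL.1 hm, glRefl_apply hF hyL.1 hm, glRefl_apply hF hu hm,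
      H.add_left, H.add_left, H.smul_left, H.smul_left, hyu, (H.eq_zero_symm hF).1 hyu]
    module
  have hzu : (z : Matrix (Fin n) (Fin n) F) *ᵥ u = (-1 : F) • u := by
    rw [hzeq, Units.val_mul, ← Matrix.mulVec_mulVec,
      glRefl_fix hF hyL.1 hm ((H.eq_zero_symm hF).1 hyu), glRefl_self hF hu hm]
  have hzx : Linked q M (-1) ((z : Matrix (Fin n) (Fin n) F) *ᵥ x) :=
    Linked.of_conj hF hHM hm hx huL hzM hzU (hzu ▸ huL.smul hF hm hm)
  have hL : Linked q M (-1) ((glRefl q u (-1) : Matrix (Fin n) (Fin n) F) *ᵥ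
      ((z : Matrix (Fin n) (Fin n) F) *ᵥ x)) := by
    obtain ⟨v, hv⟩ : ∃ v, v = (z : Matrix (Fin n) (Fin n) F) *ᵥ x := ⟨_, rfl⟩
    have hvL : Linked q M (-1) v := by rw [hv]; exact hzx
    have hv1 : Cfsg.hermForm n F q v v = 1 := hvL.1
    rw [← hv]
    refine ⟨(glRefl_mem hF hu hm v v).trans hv1, fun k => ?_⟩
    rw [← glRefl_conj hF (glRefl_mem hF hu hm) hv1 hm]
    have e : glRefl q u (-1) * glRefl q v (-1) * (glRefl q u (-1))⁻¹ *
        (glRefl q (Pi.single k 1 : Fin n → F) (-1))⁻¹ =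
        (glRefl q u (-1) * (glRefl q v (-1))⁻¹) * (glRefl q u (-1) *
          (glRefl q (Pi.single k 1 : Fin n → F) (-1))⁻¹) := by
      rw [refl_neg_inv hF hn hHM hv1, refl_neg_inv hF hn hHM hu]; group
    rw [e]
    exact mul_mem (huL.pair hF hvL k) (huL.2 k)
  rw [hzeq, Units.val_mul, ← Matrix.mulVec_mulVec, Matrix.mulVec_mulVec,
    show ((glRefl q u (-1) : Matrix (Fin n) (Fin n) F) * (glRefl q u (-1) : Matrix (Fin n) (Fin n) F)) = 1 by
      rw [← Units.val_mul]
      have := refl_neg_inv hF hn hHM hu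
      rw [inv_eq_iff_mul_eq_one] at this
      rw [this, Units.val_one],
    Matrix.one_mulVec] at hL
  exact hL

/-- A monomial conjugate of a product of two standard reflections: a small standard vector. -/
theorem exists_std_small (h2 : (2 : F) ≠ 0) {g : Matrix.GeneralLinearGroup (Fin n) F}
    (hg : g ∈ Cfsg.GU n F q) {u v : Fin n → F} (hu : Cfsg.hermForm n F q u u = 1)
    (hv : Cfsg.hermForm n F q v v = 1) (huv : Cfsg.hermForm n F q u v = 0) {Q : Finset (Fin n)}
    (hQu : ∀ j ∉ Q, u j = 0) (hQv : ∀ j ∉ Q, v j = 0)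
    (hxm : IsMon (g⁻¹ * (glRefl q u (-1) * glRefl q v (-1)) * g)) :
    ∃ u', Cfsg.hermForm n F q u' u' = 1 ∧ IsMon (glRefl q u' (-1)) ∧
      (∀ r ∉ Q, ((g : Matrix (Fin n) (Fin n) F) *ᵥ u') r = 0) ∧ (supp u').card ≤ 2 := by
  classical
  have H := hermForm_isHerm hF n
  have o := single_orthonormal hF n
  have hm : (-1 : F) ^ (q + 1) = 1 := by rw [pow_succ, neg_pow_q hF, one_pow]; ring
  have hm1 : (-1 : F) ≠ 1 := fun h => h2 (by linear_combination -h)
  have hinj : Function.Injective (fun w => (g : Matrix (Fin n) (Fin n) F) *ᵥ w) :=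
    Matrix.mulVec_injective_iff_isUnit.2 (Units.isUnit g)
  obtain ⟨y, hydef⟩ : ∃ y, y = glRefl q u (-1) * glRefl q v (-1) := ⟨_, rfl⟩
  have hyw : ∀ w, (y : Matrix (Fin n) (Fin n) F) *ᵥ w =
      (glRefl q u (-1) : Matrix (Fin n) (Fin n) F) *ᵥ
        ((glRefl q v (-1) : Matrix (Fin n) (Fin n) F) *ᵥ w) := fun w => by
    rw [hydef, Units.val_mul, Matrix.mulVec_mulVec]
  have hyQ : ∀ w j, j ∉ Q → ((y : Matrix (Fin n) (Fin n) F) *ᵥ w) j = w j := fun w j hj => by
    rw [hyw, glRefl_apply hF hu hm, glRefl_apply hF hv hm]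
    simp [hQu j hj, hQv j hj]
  set x := g⁻¹ * y * g with hx
  have hgx : ∀ w, (g : Matrix (Fin n) (Fin n) F) *ᵥ ((x : Matrix (Fin n) (Fin n) F) *ᵥ w) =
      (y : Matrix (Fin n) (Fin n) F) *ᵥ ((g : Matrix (Fin n) (Fin n) F) *ᵥ w) := fun w => by
    rw [Matrix.mulVec_mulVec, Matrix.mulVec_mulVec, ← Units.val_mul, ← Units.val_mul]
    congr 2
    show g * (g⁻¹ * y * g) = y * g
    group
  rw [← hydef, ← hx] at hxm
  have hxU : x ∈ Cfsg.GU n F q := mul_mem (mul_mem (inv_mem hg)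
    (hydef ▸ mul_mem (glRefl_mem hF hu hm) (glRefl_mem hF hv hm))) hg
  obtain ⟨j, hj⟩ : ∃ j, (x : Matrix (Fin n) (Fin n) F) *ᵥ Pi.single j 1 ≠ Pi.single j 1 := by
    by_contra hc'
    simp only [not_exists, not_not] at hc'
    have hx1 : ∀ w, (x : Matrix (Fin n) (Fin n) F) *ᵥ w = w := fun w => by
      rw [mulVec_eq_sum_cols]; simp only [hc']; exact (pi_eq_sum_univ' w).symm
    obtain ⟨w, hw⟩ := Matrix.mulVec_surjective_iff_isUnit.2 (Units.isUnit g) v
    have e := hgx w
    rw [hx1, hw, hyw, glRefl_self hF hv hm, Matrix.mulVec_smul,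
      glRefl_fix hF hu hm ((H.eq_zero_symm hF).1 huv)] at e
    have h' := congrArg (fun z => Cfsg.hermForm n F q z v) e
    simp only [H.smul_left, hv, mul_one] at h'
    exact hm1 h'.symm
  obtain ⟨π, hπ⟩ := id hxm
  obtain ⟨e, he⟩ := hπ j
  have he1 : e * e ^ q = 1 := by
    have h : Cfsg.hermForm n F q ((x : Matrix (Fin n) (Fin n) F) *ᵥ Pi.single j 1)
      ((x : Matrix (Fin n) (Fin n) F) *ᵥ Pi.single j 1) = 1 := (hxU _ _).trans (o.1 j)
    rw [he, H.smul_left, H.smul_right, o.1, mul_one] at h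
    exact h
  have hdiff : ∀ r, r ∉ Q → ((g : Matrix (Fin n) (Fin n) F) *ᵥ
      (e • Pi.single (π j) 1 - Pi.single j 1)) r = 0 := fun r hr => by
    rw [← he, Matrix.mulVec_sub, Pi.sub_apply, hgx, hyQ _ r hr, sub_self]
  show ∃ u', _
  by_cases hπj : π j = j
  · refine ⟨Pi.single j 1, o.1 j, glRefl_single_mon hF j hm, fun r hr => ?_, ?_⟩
    · have h1 := hdiff r hr
      rw [hπj, show e • (Pi.single j 1 : Fin n → F) - Pi.single j 1 = (e - 1) • Pi.single j 1 by module,
        Matrix.mulVec_smul, Pi.smul_apply, smul_eq_mul] at h1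
      refine (mul_eq_zero.1 h1).resolve_left (sub_ne_zero.2 fun h => hj ?_)
      rw [he, hπj, h, one_smul]
    · refine (Finset.card_le_card (show supp (Pi.single j (1 : F)) ⊆ {j} from fun r hr => ?_)).trans (by simp)
      by_contra h
      exact mem_supp.1 hr (Pi.single_eq_of_ne (by simpa using h) _)
  · obtain ⟨γ, hγ⟩ := exists_norm_eq hF (c := (2 : F)⁻¹)
      (by rw [inv_pow, show (2 : F) = 1 + 1 by norm_num, add_pow_q hF, one_pow])
    have hγ' : γ * γ ^ q = (2 : F)⁻¹ := by rw [← pow_succ', hγ]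
    have hu1 : Cfsg.hermForm n F q (pairVec (π j) j (γ * e) (-γ)) (pairVec (π j) j (γ * e) (-γ)) = 1 := by
      rw [herm_pairVec hF (by omega) hHM hπj, pairVec_left hπj, pairVec_right hπj, mul_pow, neg_pow_q hF]
      linear_combination (γ * γ ^ q) * he1 + 2 * hγ' + mul_inv_cancel₀ h2
    refine ⟨_, hu1, mon_of_two hF hu1 hm hπj (fun r h1 h2 => pairVec_other h1 h2 _ _) ?_ ?_,
      fun r hr => ?_, ?_⟩
    · rw [pairVec_left hπj, mul_pow]
      linear_combination (-2 * (γ * γ ^ q)) * he1 + (-2) * hγ' - mul_inv_cancel₀ h2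
    · rw [pairVec_right hπj, neg_pow_q hF]; linear_combination (-2) * hγ' - mul_inv_cancel₀ h2
    · have : pairVec (π j) j (γ * e) (-γ) = γ • (e • Pi.single (π j) 1 - Pi.single j 1) := by
        rw [smul_sub, smul_smul, ← Pi.single_smul, ← Pi.single_smul, sub_eq_add_neg, ← Pi.single_neg]
        simp [pairVec]
      rw [this, Matrix.mulVec_smul, Pi.smul_apply, hdiff r hr, smul_zero]
    · refine (Finset.card_le_card (show supp (pairVec (π j) j (γ * e) (-γ)) ⊆ {π j, j} from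
        fun r hr => ?_)).trans Finset.card_le_two
      by_contra h
      simp only [Finset.mem_insert, Finset.mem_singleton, not_or] at h
      exact mem_supp.1 hr (pairVec_other h.1 h.2 _ _)
/-- q + 1 ∣ n, q odd: from the case of linked columns, by two small standard vectors. -/
theorem mono_le_of_dvd_of_cols (h6 : 6 ≤ n) (hq : 3 ≤ q) (h2 : (2 : F) ≠ 0) (hMK : M ≤ suGL n F q)
    (hdvd : q + 1 ∣ n)
    (hcols : ∀ g ∈ M, ¬ IsMon g →
      (∀ i, Linked q M (-1) ((g : Matrix (Fin n) (Fin n) F) *ᵥ Pi.single i 1)) → suGL n F q ≤ M)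
    {g : Matrix.GeneralLinearGroup (Fin n) F} (hgM : g ∈ M) (hgm : ¬ IsMon g) :
    suGL n F q ≤ M := by
  classical
  have H := hermForm_isHerm hF n
  have o := single_orthonormal hF n
  have hg := hMK hgM
  have hgU : ∀ x y, Cfsg.hermForm n F q ((g : Matrix (Fin n) (Fin n) F) *ᵥ x)
      ((g : Matrix (Fin n) (Fin n) F) *ᵥ y) = Cfsg.hermForm n F q x y := fun x y => hg.1 x y
  have hqn : q + 1 ≤ n := Nat.le_of_dvd (by omega) hdvd
  have hm : (-1 : F) ^ (q + 1) = 1 := by rw [pow_succ, neg_pow_q hF, one_pow]; ring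
  have hm1 : (-1 : F) ≠ 1 := fun h => h2 (by linear_combination -h)
  have hinj : Function.Injective (fun w => (g : Matrix (Fin n) (Fin n) F) *ᵥ w) :=
    Matrix.mulVec_injective_iff_isUnit.2 (Units.isUnit g)
  let i : Fin n := ⟨0, by omega⟩
  -- a standard vector whose image misses the coordinate i
  obtain ⟨c, hc⟩ := Matrix.mulVec_surjective_iff_isUnit.2 (Units.isUnit g) (Pi.single i (1 : F))
  obtain ⟨u₀, hu₀, hu₀m, hcu⟩ : ∃ u₀, Cfsg.hermForm n F q u₀ u₀ = 1 ∧
      IsMon (glRefl q u₀ (-1)) ∧ Cfsg.hermForm n F q c u₀ = 0 := by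
    by_cases hz : ∃ j, c j = 0
    · obtain ⟨j, hj⟩ := hz
      exact ⟨Pi.single j 1, o.1 j, glRefl_single_mon hF j hm, by rw [herm_single hF, hj]⟩
    · simp only [not_exists] at hz
      obtain ⟨u, h1, h2', h3, -, -⟩ := exists_std_perp hF hn hHM h2 (c := c) (s := Finset.univ)
        (fun j _ => hz j) (by rw [Finset.card_univ, Fintype.card_fin]; omega)
      exact ⟨u, h1, h2', h3⟩
  have hu₀L := mon_linked hF hHM hm hu₀ hu₀m
  obtain ⟨a, ha⟩ : ∃ a, a = (g : Matrix (Fin n) (Fin n) F) *ᵥ u₀ := ⟨_, rfl⟩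
  have ha1 : Cfsg.hermForm n F q a a = 1 := by rw [ha, hgU, hu₀]
  have hai : a i = 0 := by
    rw [← herm_single hF a i, ← hc, ha, hgU]; exact (H.eq_zero_symm hF).1 hcu
  by_cases hma : IsMon (glRefl q a (-1))
  · exact hcols g hgM hgm
      (cols_linked hF hHM hm hgM hg.1 hu₀L (ha ▸ mon_linked hF hHM hm ha1 hma))
  obtain ⟨u, v, hu, hum, hv, hvm, hau, hav, huv, Q, hQc, hQu, hQv⟩ : ∃ u v : Fin n → F,
      Cfsg.hermForm n F q u u = 1 ∧ IsMon (glRefl q u (-1)) ∧ Cfsg.hermForm n F q v v = 1 ∧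
      IsMon (glRefl q v (-1)) ∧ Cfsg.hermForm n F q a u = 0 ∧ Cfsg.hermForm n F q a v = 0 ∧
      Cfsg.hermForm n F q u v = 0 ∧ ∃ Q : Finset (Fin n), Q.card ≤ 3 ∧
        (∀ j ∉ Q, u j = 0) ∧ (∀ j ∉ Q, v j = 0) := by
    by_cases hz : ∃ t, t ≠ i ∧ a t = 0
    · obtain ⟨t, hti, hat⟩ := hz
      refine ⟨Pi.single t 1, Pi.single i 1, o.1 t, glRefl_single_mon hF t hm, o.1 i,
        glRefl_single_mon hF i hm, by rw [herm_single hF, hat], by rw [herm_single hF, hai], o.2 hti,
        {t, i}, Finset.card_le_two.trans (by norm_num), fun j hj => ?_, fun j hj => ?_⟩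
      all_goals
        simp only [Finset.mem_insert, Finset.mem_singleton, not_or] at hj
      · exact Pi.single_eq_of_ne hj.1 _
      · exact Pi.single_eq_of_ne hj.2 _
    · simp only [not_exists, not_and] at hz
      obtain ⟨u, h1, h2', h3, h4, h5⟩ := exists_std_perp hF hn hHM h2 (c := a)
        (s := Finset.univ.erase i) (fun j hj => hz j (Finset.mem_erase.1 hj).1)
        (by rw [Finset.card_erase_of_mem (Finset.mem_univ i), Finset.card_univ, Fintype.card_fin]; omega)
      have hui : u i = 0 := by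
        by_contra h
        exact (Finset.mem_erase.1 (h4 (mem_supp.2 h))).1 rfl
      refine ⟨u, Pi.single i 1, h1, h2', o.1 i, glRefl_single_mon hF i hm, h3,
        by rw [herm_single hF, hai], by rw [herm_single hF, hui], insert i (supp u),
        (Finset.card_insert_le _ _).trans (by omega), fun j hj => ?_, fun j hj => ?_⟩
      · exact eq_zero_of_notMem_supp fun h => hj (Finset.mem_insert_of_mem h)
      · exact Pi.single_eq_of_ne (fun h => hj (by simp [h])) _
  have huL := mon_linked hF hHM hm hu hum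
  have hvL := mon_linked hF hHM hm hv hvm
  -- a standard vector with image orthogonal to two standard vectors gives one with small image
  have step : ∀ u₀ u v : Fin n → F, Cfsg.hermForm n F q u₀ u₀ = 1 → IsMon (glRefl q u₀ (-1)) →
      Cfsg.hermForm n F q u u = 1 → IsMon (glRefl q u (-1)) → Cfsg.hermForm n F q v v = 1 →
      IsMon (glRefl q v (-1)) → Cfsg.hermForm n F q ((g : Matrix (Fin n) (Fin n) F) *ᵥ u₀) u = 0 →
      Cfsg.hermForm n F q ((g : Matrix (Fin n) (Fin n) F) *ᵥ u₀) v = 0 →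
      Cfsg.hermForm n F q u v = 0 → ∀ Q : Finset (Fin n), (∀ j ∉ Q, u j = 0) → (∀ j ∉ Q, v j = 0) →
      suGL n F q ≤ M ∨ ∃ u', Cfsg.hermForm n F q u' u' = 1 ∧ IsMon (glRefl q u' (-1)) ∧
        (∀ r ∉ Q, ((g : Matrix (Fin n) (Fin n) F) *ᵥ u') r = 0) ∧
        ¬ IsMon (glRefl q ((g : Matrix (Fin n) (Fin n) F) *ᵥ u') (-1)) := by
    intro u₀ u v hu₀ hu₀m hu hum hv hvm hau hav huv Q hQu hQv
    have hyM : glRefl q u (-1) * glRefl q v (-1) ∈ M := by
      have := (mon_linked hF hHM hm hu hum).pair hF (mon_linked hF hHM hm hv hvm) i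
      rwa [refl_neg_inv hF hn hHM hv] at this
    obtain ⟨x, hx⟩ : ∃ x, x = g⁻¹ * (glRefl q u (-1) * glRefl q v (-1)) * g := ⟨_, rfl⟩
    have hxM : x ∈ M := hx ▸ mul_mem (mul_mem (inv_mem hgM) hyM) hgM
    have hxu : (x : Matrix (Fin n) (Fin n) F) *ᵥ u₀ = u₀ := hinj (by
      show (g : Matrix (Fin n) (Fin n) F) *ᵥ _ = (g : Matrix (Fin n) (Fin n) F) *ᵥ u₀
      rw [Matrix.mulVec_mulVec, ← Units.val_mul, hx, mul_assoc g⁻¹, mul_inv_cancel_left,
        Units.val_mul, ← Matrix.mulVec_mulVec, Units.val_mul, ← Matrix.mulVec_mulVec,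
        glRefl_fix hF hv hm hav, glRefl_fix hF hu hm hau])
    by_cases hxm : IsMon x
    swap
    · have hu₀L := mon_linked hF hHM hm hu₀ hu₀m
      exact Or.inl (hcols x hxM hxm
        (cols_linked hF hHM hm hxM (hMK hxM).1 hu₀L (by rw [hxu]; exact hu₀L)))
    obtain ⟨u', hu', hu'm, hu'Q, -⟩ := exists_std_small hF hn hHM h2 hg.1 hu hv huv hQu hQv (hx ▸ hxm)
    by_cases hm' : IsMon (glRefl q ((g : Matrix (Fin n) (Fin n) F) *ᵥ u') (-1))
    · exact Or.inl (hcols g hgM hgm (cols_linked hF hHM hm hgM hg.1 (mon_linked hF hHM hm hu' hu'm)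
        (mon_linked hF hHM hm (by rw [hgU, hu']) hm')))
    · exact Or.inr ⟨u', hu', hu'm, hu'Q, hm'⟩
  obtain hdone | ⟨u₁, hu₁, hu₁m, hu₁Q, -⟩ := step u₀ u v hu₀ hu₀m hu hum hv hvm (ha ▸ hau)
    (ha ▸ hav) huv Q hQu hQv
  · exact hdone
  obtain ⟨t, ht⟩ := exists_notMem_of_card_lt (S := Q) (show Q.card < n by omega)
  obtain ⟨s, hs⟩ := exists_notMem_of_card_lt (S := insert t Q)
    (show (insert t Q).card < n from lt_of_le_of_lt (Finset.card_insert_le _ _) (by omega))
  rw [Finset.mem_insert, not_or] at hs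
  obtain hdone | ⟨u₂, hu₂, hu₂m, hu₂Q, hu₂n⟩ := step u₁ (Pi.single t 1) (Pi.single s 1) hu₁ hu₁m
    (o.1 t) (glRefl_single_mon hF t hm) (o.1 s) (glRefl_single_mon hF s hm)
    (by rw [herm_single hF, hu₁Q t ht]) (by rw [herm_single hF, hu₁Q s hs.2]) (o.2 (Ne.symm hs.1))
    {t, s} (fun j hj => Pi.single_eq_of_ne (fun h => hj (by simp [h])) _)
    (fun j hj => Pi.single_eq_of_ne (fun h => hj (by simp [h])) _)
  · exact hdone
  obtain ⟨a₁, ha₁⟩ : ∃ a₁, a₁ = (g : Matrix (Fin n) (Fin n) F) *ᵥ u₁ := ⟨_, rfl⟩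
  obtain ⟨a₂, ha₂⟩ : ∃ a₂, a₂ = (g : Matrix (Fin n) (Fin n) F) *ᵥ u₂ := ⟨_, rfl⟩
  rw [← ha₁] at hu₁Q
  rw [← ha₂] at hu₂Q hu₂n
  have h11 : Cfsg.hermForm n F q a₁ a₁ = 1 := by rw [ha₁, hgU, hu₁]
  have h22 : Cfsg.hermForm n F q a₂ a₂ = 1 := by rw [ha₂, hgU, hu₂]
  obtain ⟨W, hWdef⟩ : ∃ W, W = glRefl q a₁ (-1) * (glRefl q a₂ (-1))⁻¹ := ⟨_, rfl⟩
  have hWM : W ∈ M := by
    have h1 := mul_mem (mul_mem hgM ((mon_linked hF hHM hm hu₁ hu₁m).pair hF
      (mon_linked hF hHM hm hu₂ hu₂m) i)) (inv_mem hgM)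
    rwa [show g * (glRefl q u₁ (-1) * (glRefl q u₂ (-1))⁻¹) * g⁻¹ =
      (g * glRefl q u₁ (-1) * g⁻¹) * (g * glRefl q u₂ (-1) * g⁻¹)⁻¹ by group,
      glRefl_conj hF hg.1 hu₁ hm, glRefl_conj hF hg.1 hu₂ hm, ← ha₁, ← ha₂, ← hWdef] at h1
  have hWv : ∀ w, (W : Matrix (Fin n) (Fin n) F) *ᵥ ((glRefl q a₂ (-1) : Matrix (Fin n) (Fin n) F) *ᵥ w) =
      (glRefl q a₁ (-1) : Matrix (Fin n) (Fin n) F) *ᵥ w := fun w => by
    rw [Matrix.mulVec_mulVec, ← Units.val_mul, hWdef, inv_mul_cancel_right]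
  have hfix : ∀ {c : Fin n → F}, Cfsg.hermForm n F q c c = 1 → ∀ {r : Fin n}, c r = 0 →
      (glRefl q c (-1) : Matrix (Fin n) (Fin n) F) *ᵥ Pi.single r 1 = Pi.single r 1 := fun hc r hr =>
    glRefl_fix hF hc hm (by rw [hermForm_single_left, hr, zero_pow_q hF])
  obtain ⟨r, hr⟩ := exists_notMem_of_card_lt (S := Q ∪ {t, s})
    (show (Q ∪ {t, s}).card < n from lt_of_le_of_lt (Finset.card_union_le _ _)
      (by have := Finset.card_le_two (a := t) (b := s); omega))
  rw [Finset.mem_union, not_or] at hr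
  refine mono_le_of_fix hF hn hHM hq hWM (hMK hWM) (fun hWm => hu₂n ?_) (i := r) (a := 1) ?_
  · by_contra hnm
    obtain ⟨i₀, j₀, l₀, hjl, hj₀, hl₀⟩ := exists_col_of_not_mon hnm
    by_cases h0 : a₂ i₀ = 0
    · rw [hfix h22 h0] at hj₀ hl₀
      have key : ∀ j : Fin n, (Pi.single i₀ (1 : F) : Fin n → F) j ≠ 0 → j = i₀ := fun j hj => by
        by_contra hne
        exact hj (Pi.single_eq_of_ne hne _)
      exact hjl ((key j₀ hj₀).trans (key l₀ hl₀).symm)
    have hi₀ : i₀ ∈ ({t, s} : Finset (Fin n)) := by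
      by_contra h
      exact h0 (hu₂Q i₀ h)
    have hi₀Q : i₀ ∉ Q := by
      simp only [Finset.mem_insert, Finset.mem_singleton] at hi₀
      rcases hi₀ with rfl | rfl
      exacts [ht, hs.2]
    have e : (glRefl q a₂ (-1) : Matrix (Fin n) (Fin n) F) *ᵥ Pi.single i₀ 1 =
        ((W⁻¹ : Matrix.GeneralLinearGroup (Fin n) F) : Matrix (Fin n) (Fin n) F) *ᵥ Pi.single i₀ 1 := by
      have h := hWv (Pi.single i₀ 1)
      rw [hfix h11 (hu₁Q i₀ hi₀Q)] at h
      nth_rewrite 2 [← h]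
      rw [Matrix.mulVec_mulVec, ← Units.val_mul, inv_mul_cancel, Units.val_one, Matrix.one_mulVec]
    rw [e] at hj₀ hl₀
    exact hjl (hWm.inv.col i₀ hj₀ hl₀)
  · have h := hWv (Pi.single r 1)
    rw [hfix h22 (hu₂Q r hr.2), hfix h11 (hu₁Q r hr.1)] at h
    rw [h, one_smul]

/-- The case q + 1 ∣ n, q odd: from linked columns. -/
theorem mono_le_of_cols_of_kill (hq : 3 ≤ q) (hdvd : q + 1 ∣ n) (h2 : (2 : F) ≠ 0)
    {g : Matrix.GeneralLinearGroup (Fin n) F} (hgM : g ∈ M) (hg : g ∈ suGL n F q) (hgm : ¬ IsMon g)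
    (hcols : ∀ i, Linked q M (-1) ((g : Matrix (Fin n) (Fin n) F) *ᵥ Pi.single i 1))
    (hkill : ∀ x : Fin n → F, (∀ j, x j ≠ 0) → Cfsg.hermForm n F q x x = 1 → ∃ h ∈ M, h ∈ suGL n F q ∧
      IsMon h ∧ 3 ≤ (supp (x + ((-1 - 1 : F) * Cfsg.hermForm n F q x ((h : Matrix (Fin n) (Fin n) F) *ᵥ x)) •
        ((h : Matrix (Fin n) (Fin n) F) *ᵥ x))).card ∧
      (supp (x + ((-1 - 1 : F) * Cfsg.hermForm n F q x ((h : Matrix (Fin n) (Fin n) F) *ᵥ x)) •
        ((h : Matrix (Fin n) (Fin n) F) *ᵥ x))).card < n) :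
    suGL n F q ≤ M := by
  classical
  have H := hermForm_isHerm hF n
  have hm : (-1 : F) ^ (q + 1) = 1 := by rw [pow_succ, neg_pow_q hF, one_pow]; ring
  have hm1 : (-1 : F) ≠ 1 := fun h => h2 (by linear_combination -h)
  obtain ⟨x, hx, hxm, -⟩ := exists_good hF (by omega) hHM hm hm1 hgM hg hgm hcols
  by_cases hfull : (supp x).card < n
  · exact mono_le_of_linked hF (by omega) hHM hq hm hx hxm hfull
  have hall : ∀ j, x j ≠ 0 := fun j hj => hfull (lt_of_lt_of_eq (Finset.card_lt_card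
    ((Finset.ssubset_iff_of_subset (Finset.subset_univ _)).2
      ⟨j, Finset.mem_univ _, fun h => mem_supp.1 h hj⟩)) (by rw [Finset.card_univ, Fintype.card_fin]))
  have hqn : q ≤ n := by
    have := Nat.le_of_dvd (by omega) hdvd
    omega
  obtain ⟨h, hhM, hh, hhm, h3, hlt⟩ := hkill x hall hx.1
  obtain ⟨y, hy⟩ : ∃ y, y = (h : Matrix (Fin n) (Fin n) F) *ᵥ x := ⟨_, rfl⟩
  have hyL : Linked q M (-1) y := hy ▸ hx.mon hF hHM hm hhM hh.1 hhm
  have hyall : ∀ j, y j ≠ 0 := by
    intro j hj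
    have h1 := supp_mon_card hF hhm.inv y
    rw [hy, Matrix.mulVec_mulVec, ← Units.val_mul, inv_mul_cancel, Units.val_one, Matrix.one_mulVec,
      ← hy] at h1
    exact hfull (lt_of_le_of_lt h1 (lt_of_lt_of_eq (Finset.card_lt_card
      ((Finset.ssubset_iff_of_subset (Finset.subset_univ _)).2
        ⟨j, Finset.mem_univ _, fun h => mem_supp.1 h hj⟩)) (by rw [Finset.card_univ, Fintype.card_fin])))
  have hL := linked_refl hF (by omega) hHM h2 hqn hx hyL hyall
  rw [glRefl_apply hF hyL.1 hm, hy] at hL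
  exact mono_le_of_linked hF (by omega) hHM hq hm hL (not_mon_of_three hF hL.1 hm hm1 h3) hlt

end Low

section Cases

variable {M : Subgroup (Matrix.GeneralLinearGroup (Fin n) F)} (hF : Fintype.card F = q ^ 2)
  (hn : 10 ≤ n) (hHM : ∀ g ∈ suGL n F q, IsMon g → g ∈ M)
include hF hn hHM

/-- A full vector: a diagonal element killing one coordinate and keeping three. -/
theorem exists_kill {x : Fin n → F} (hx : ∀ j, x j ≠ 0) {κ : F} (hκ : κ ≠ 0)
    (hk : 11 ≤ n ∨ (2 : F) = 0 ∨ HasTriple q x) :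
    ∃ g ∈ M, g ∈ suGL n F q ∧ IsMon g ∧
      3 ≤ (supp (x + (κ * Cfsg.hermForm n F q x ((g : Matrix (Fin n) (Fin n) F) *ᵥ x)) •
        ((g : Matrix (Fin n) (Fin n) F) *ᵥ x))).card ∧
      (supp (x + (κ * Cfsg.hermForm n F q x ((g : Matrix (Fin n) (Fin n) F) *ᵥ x)) •
        ((g : Matrix (Fin n) (Fin n) F) *ᵥ x))).card < n := by
  classical
  exact exists_kill_of_diag hF (by omega) hHM hx hκ (exists_kill_diag hF hn hx hκ hk)

/-- The case q + 1 ∤ n. -/
theorem mono_le_of_not_dvd (hq : 3 ≤ q) (h2 : (2 : F) ≠ 0) (hMK : M ≤ suGL n F q)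
    (hdvd : ¬ q + 1 ∣ n)
    {g : Matrix.GeneralLinearGroup (Fin n) F} (hgM : g ∈ M) (hgm : ¬ IsMon g) :
    suGL n F q ≤ M := by
  classical
  have H := hermForm_isHerm hF n
  have o := single_orthonormal hF n
  obtain ⟨ζ, m, hζ, hord, hm, hm1, -, hall'⟩ := exists_scalar_cols hF (by omega) hHM hMK hdvd
  have hcols : ∀ g ∈ M, ∀ i, Linked q M m ((g : Matrix (Fin n) (Fin n) F) *ᵥ Pi.single i 1) :=
    fun g hgM i => (hall' g hgM i).1
  obtain ⟨x, hx, hxm, hor⟩ := exists_good hF (by omega) hHM hm hm1 hgM (hMK hgM) hgm (hcols g hgM)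
  by_cases hfull : (supp x).card < n
  · exact mono_le_of_linked hF (by omega) hHM hq hm hx hxm hfull
  obtain ⟨i, hi⟩ := hor.resolve_right hfull
  have hall : ∀ j, x j ≠ 0 := fun j hj => hfull (lt_of_lt_of_eq (Finset.card_lt_card
    ((Finset.ssubset_iff_of_subset (Finset.subset_univ _)).2
      ⟨j, Finset.mem_univ _, fun h => mem_supp.1 h hj⟩)) (by rw [Finset.card_univ, Fintype.card_fin]))
  by_cases hk : 11 ≤ n ∨ (2 : F) = 0 ∨ HasTriple q x
  swap
  · -- ten coordinates, q ≥ 7: a block of two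
    simp only [not_or, not_le] at hk
    obtain ⟨h11, -, hT⟩ := hk
    obtain rfl : n = 10 := by omega
    set N : Fin 10 → F := fun j => x j * x j ^ q with hNdef
    have hN0 : ∀ j, N j ≠ 0 := fun j => mul_ne_zero (hall j) (pow_ne_zero _ (hall j))
    have hNsum : ∑ j, N j = 1 := hx.1
    have hq7 : 7 ≤ q ∧ q + 1 ≠ 10 := by
      refine ⟨?_, fun h => hdvd (h ▸ dvd_rfl)⟩
      by_contra hc
      have hcard := FiniteField.cast_card_eq_zero F
      rw [hF] at hcard
      refine hT (hasTriple_of_small hF h2 (by omega) ?_ le_rfl hall)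
      interval_cases q
      · exact Or.inr ((pow_eq_zero_iff (n := 2) (by norm_num)).1 (by
          push_cast at hcard; linear_combination hcard))
      · exfalso; push_cast at hcard
        exact h2 ((pow_eq_zero_iff (n := 4) (by norm_num)).1 (by linear_combination hcard))
      · exact Or.inl (by norm_num)
      · exfalso; push_cast at hcard
        obtain ⟨pp, hpp⟩ := CharP.exists F
        obtain ⟨kk, hprime, hcardF⟩ := FiniteField.card F pp
        rw [hF] at hcardF
        have d2 : 2 ∣ pp ^ (kk : ℕ) := hcardF ▸ (by norm_num)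
        have d3 : 3 ∣ pp ^ (kk : ℕ) := hcardF ▸ (by norm_num)
        have e2 := (Nat.prime_dvd_prime_iff_eq Nat.prime_two hprime).1 (Nat.prime_two.dvd_of_dvd_pow d2)
        have e3 := (Nat.prime_dvd_prime_iff_eq Nat.prime_three hprime).1 (Nat.prime_three.dvd_of_dvd_pow d3)
        omega
    obtain ⟨k, l, hkl, hN01, hN11⟩ : ∃ k l, k ≠ l ∧ N k + N l ≠ 0 ∧ N k + N l ≠ 1 := by
      by_contra! hc
      have hor : ∀ k l, k ≠ l → N k + N l = 0 ∨ N k + N l = 1 := fun k l h =>
        Classical.or_iff_not_imp_left.2 (hc k l h)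
      have half : ∀ a b, a ≠ b → N a = N b → 2 * N a = 1 := fun a b h e => by
        rcases hor a b h with h' | h'
        · exact absurd (show N a = 0 from
            (mul_eq_zero.1 (show (2 : F) * N a = 0 by linear_combination h' + e)).resolve_left h2) (hN0 a)
        · linear_combination h' + e
      have pm : ∀ a, 2 * N a = 1 ∨ 2 * N a = -1 := by
        intro a
        obtain ⟨b, hb, c, hc', d, hd, hbc, hbd, hcd⟩ := Finset.two_lt_card.1
          (show 2 < ((Finset.univ : Finset (Fin 10)).erase a).card by simp)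
        have hb' := hor a b (Finset.ne_of_mem_erase hb).symm
        have hc'' := hor a c (Finset.ne_of_mem_erase hc').symm
        have hd' := hor a d (Finset.ne_of_mem_erase hd).symm
        obtain ⟨u, v, huv, hu, e⟩ : ∃ u v, u ≠ v ∧ u ≠ a ∧ N u = N v := by
          rcases hb' with h1 | h1 <;> rcases hc'' with h2' | h2' <;> rcases hd' with h3 | h3 <;>
            first
            | exact ⟨b, c, hbc, Finset.ne_of_mem_erase hb, by linear_combination h1 - h2'⟩
            | exact ⟨b, d, hbd, Finset.ne_of_mem_erase hb, by linear_combination h1 - h3⟩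
            | exact ⟨c, d, hcd, Finset.ne_of_mem_erase hc', by linear_combination h2' - h3⟩
        have hh := half u v huv e
        rcases hor a u hu.symm with h' | h'
        · exact Or.inr (by linear_combination 2 * h' - hh)
        · exact Or.inl (by linear_combination 2 * h' - hh)
      obtain ⟨j, hj⟩ : ∃ j, ∀ i, i ≠ j → 2 * N i = 1 := by
        by_cases hneg : ∃ j, 2 * N j = -1
        · obtain ⟨j, hj⟩ := hneg
          refine ⟨j, fun i hi => (pm i).resolve_right fun h => ?_⟩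
          rcases hor i j hi with h' | h'
          · exact h2 (by linear_combination -2 * h' + h + hj)
          · exact h2 (by
              have : (2 : F) * 2 = 0 := by linear_combination -2 * h' + h + hj
              exact (mul_eq_zero.1 this).elim id id)
        · exact ⟨0, fun i _ => (pm i).resolve_right fun h => hneg ⟨i, h⟩⟩
      have hs : 2 * N j + 9 = 2 := by
        rw [← Finset.add_sum_erase _ _ (Finset.mem_univ j)] at hNsum
        have h' := congrArg (fun v : F => 2 * v) hNsum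
        simp only [mul_add, Finset.mul_sum, mul_one,
          Finset.sum_congr rfl (fun i hi => hj i (Finset.ne_of_mem_erase hi))] at h'
        simpa using h'
      have hdom : (3 : F) = 0 := by
        rcases pm j with h | h
        · exact absurd ((pow_eq_zero_iff (n := 3) (by norm_num)).1
            (show (2 : F) ^ 3 = 0 by linear_combination hs - h)) h2
        · exact (mul_eq_zero.1 (show (2 : F) * 3 = 0 by linear_combination hs - h)).resolve_left h2
      obtain ⟨G, hG, hGc⟩ := Finset.exists_subset_card_eq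
        (show 3 ≤ ((Finset.univ : Finset (Fin 10)).erase j).card by simp)
      exact hT ⟨Or.inr hdom, G, hGc, fun i hi i' hi' => by
        have e : N i = N i' := mul_left_cancel₀ h2
          ((hj i (Finset.ne_of_mem_erase (hG hi))).trans (hj i' (Finset.ne_of_mem_erase (hG hi'))).symm)
        show N i * N i = N i' * N i'
        rw [e]⟩
    have hζe : ∀ e : ℕ, (ζ ^ e) ^ (q + 1) = 1 := fun e => by
      rw [← pow_mul, mul_comm, pow_mul, hζ, one_pow]
    have hζ0 : ζ ≠ 0 := fun h => by simp [h] at hζ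
    have hno : ∀ e : ℕ, e = 5 ∨ e = 10 ∨ e = 15 → ζ ^ e ≠ 1 := by
      intro e he h
      have hd := hord ▸ orderOf_dvd_of_pow_eq_one h
      have hle := Nat.le_of_dvd (by omega) hd
      have : q ≤ 14 := by omega
      rcases he with rfl | rfl | rfl <;> interval_cases q <;> first | omega | (
        exfalso
        obtain ⟨pp, hpp⟩ := CharP.exists F
        obtain ⟨kk, hprime, hcardF⟩ := FiniteField.card F pp
        rw [hF] at hcardF
        have d2 : 2 ∣ pp ^ (kk : ℕ) := hcardF ▸ (by norm_num)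
        have e2 := (Nat.prime_dvd_prime_iff_eq Nat.prime_two hprime).1 (Nat.prime_two.dvd_of_dvd_pow d2)
        exact h2 (by exact_mod_cast (CharP.cast_eq_zero_iff F pp 2).2 (by rw [← e2])))
    choose T hTM hT' hTm hTx using fun e : Fin 4 => exists_diagM hF hHM
      (fun j => (ζ ^ (e : ℕ))⁻¹ * if j ∈ ({k, l} : Finset (Fin 10)) then ζ ^ (5 * (e : ℕ)) else 1)
      (fun j => by
        rw [mul_pow, inv_pow, hζe, inv_one, one_mul]
        split_ifs
        exacts [hζe _, one_pow _])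
      (by
        rw [Finset.prod_mul_distrib, Finset.prod_ite_mem, Finset.univ_inter, Finset.prod_pair hkl,
          Finset.prod_const, Finset.card_univ, Fintype.card_fin, ← pow_add, inv_pow, ← pow_mul,
          show 5 * (e : ℕ) + 5 * (e : ℕ) = (e : ℕ) * 10 by ring,
          inv_mul_cancel₀ (pow_ne_zero _ hζ0)])
    have hν : Function.Injective fun e : Fin 4 => ζ ^ (5 * (e : ℕ)) := by
      intro a b h
      by_contra hne
      wlog hlt : (a : ℕ) < (b : ℕ) generalizing a b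
      · exact this h.symm (Ne.symm hne) (lt_of_le_of_ne (not_lt.1 hlt)
          fun e => hne (Fin.ext e.symm))
      refine hno (5 * ((b : ℕ) - (a : ℕ))) (by omega) (mul_left_cancel₀ (pow_ne_zero (5 * (a : ℕ)) hζ0) ?_)
      rw [← pow_add, mul_one, ← mul_add, Nat.add_sub_cancel' hlt.le]
      exact h.symm
    obtain ⟨X, hXM, hX⟩ := (hall' g hgM i).2
    rw [← hi] at hX
    have hsumA : ∑ j ∈ ({k, l} : Finset (Fin 10)), x j * x j ^ q = N k + N l := Finset.sum_pair hkl
    obtain ⟨σ, hσM, cA, cB, d, d', h1, h2', h3, h4⟩ := exists_restr_swap hF hMK hx.1 {k, l}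
      (by rw [hsumA]; exact hN01) (by rw [hsumA]; exact hN11) hm hm1 hXM hX
      T (fun e => ζ ^ (5 * (e : ℕ))) hν hTM
      (fun e => ⟨(ζ ^ (e : ℕ))⁻¹, inv_ne_zero (pow_ne_zero _ hζ0), fun v j => hTx e v j⟩)
    exact mono_le_of_block hF (by omega) hHM (by omega) hMK hkl (hall k) (hall l) hN01 hN11 hx.1 hσM h1 h2' h3 h4
      (hζe 5) (by rw [← pow_mul]; exact hno 10 (Or.inr (Or.inl rfl)))
      (inv_ne_zero (pow_ne_zero ((1 : Fin 4) : ℕ) hζ0)) (hTM 1) (fun v j => by simpa using hTx 1 v j)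
  obtain ⟨h, hhM, hh, -, h3, hlt⟩ := exists_kill hF hn hHM hall (sub_ne_zero.2 hm1) hk
  obtain ⟨X, hXM, hX⟩ := (hall' (h * g) (mul_mem hhM hgM) i).2
  rw [Units.val_mul, ← Matrix.mulVec_mulVec, ← hi] at hX
  have hy1 : Cfsg.hermForm n F q ((h : Matrix (Fin n) (Fin n) F) *ᵥ x)
      ((h : Matrix (Fin n) (Fin n) F) *ᵥ x) = 1 := (hh.1 _ _).trans hx.1
  have hL := (hcols _ (mul_mem hXM hgM) i).smul hF hm (r := ζ⁻¹) (inv_pow_succ _ hζ)
  rw [Units.val_mul, ← Matrix.mulVec_mulVec, ← hi, hX,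
    inv_smul_smul₀ (fun h => by simp [h] at hζ), glRefl_apply hF hy1 hm] at hL
  exact mono_le_of_linked hF (by omega) hHM hq hm hL (not_mon_of_three hF hL.1 hm hm1 h3) hlt

/-- The case q + 1 ∣ n, q odd: from linked columns. -/
theorem mono_le_of_cols (hq : 3 ≤ q) (hdvd : q + 1 ∣ n) (h2 : (2 : F) ≠ 0)
    {g : Matrix.GeneralLinearGroup (Fin n) F} (hgM : g ∈ M) (hg : g ∈ suGL n F q) (hgm : ¬ IsMon g)
    (hcols : ∀ i, Linked q M (-1) ((g : Matrix (Fin n) (Fin n) F) *ᵥ Pi.single i 1)) :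
    suGL n F q ≤ M := by
  have hm1 : (-1 : F) ≠ 1 := fun h => h2 (by linear_combination -h)
  refine mono_le_of_cols_of_kill hF (by omega) hHM hq hdvd h2 hgM hg hgm hcols fun x hall _ =>
    exists_kill hF hn hHM hall (sub_ne_zero.2 hm1) ?_
  rcases Nat.lt_or_ge n 11 with h10 | h11
  · obtain rfl : n = 10 := by omega
    obtain ⟨rfl, h3⟩ := nine_of_dvd_ten hF h2 hdvd
    exact Or.inr (Or.inr (hasTriple_of_small hF h2 le_rfl (Or.inr h3) le_rfl hall))
  · exact Or.inl h11

/-- The case q + 1 ∣ n, q odd. -/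
theorem mono_le_of_dvd_odd (hq : 3 ≤ q) (h2 : (2 : F) ≠ 0) (hMK : M ≤ suGL n F q)
    (hdvd : q + 1 ∣ n) {g : Matrix.GeneralLinearGroup (Fin n) F} (hgM : g ∈ M) (hgm : ¬ IsMon g) :
    suGL n F q ≤ M :=
  mono_le_of_dvd_of_cols hF (by omega) hHM (by omega) hq h2 hMK hdvd
    (fun _ hM hm hc => mono_le_of_cols hF hn hHM hq hdvd h2 hM (hMK hM) hm hc) hgM hgm

end Cases

end Cfsg.Agent.Unitary
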