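import Cfsg.Agent.Lib.Unitary.MonoEven
/-
Overgroups of the monomial subgroup of SU in dimension six, q ≥ 3.
* six_point (even q ≠ 8), six_pair (odd q ≥ 7), six_cols (q = 3, 5), six_kill_eight (q = 8), mono_le_six
-/
set_option autoImplicit false

namespace Cfsg.Agent.Unitary

open scoped Matrix

variable {F : Type*} [Field F] [Fintype F] {q : ℕ}

/-- Six norms of sum one contain a pair of sum neither 0 nor 1 in odd characteristic. -/
theorem exists_six_pair (h2 : (2 : F) ≠ 0) {N : Fin 6 → F} (hN : ∀ j, N j ≠ 0) (hs : ∑ j, N j = 1) :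
    ∃ k l, k ≠ l ∧ N k + N l ≠ 0 ∧ N k + N l ≠ 1 := by
  classical
  by_contra! hc
  have hor : ∀ k l, k ≠ l → N k + N l = 0 ∨ N k + N l = 1 := fun k l h =>
    Classical.or_iff_not_imp_left.2 (hc k l h)
  have half : ∀ a b, a ≠ b → N a = N b → 2 * N a = 1 := fun a b h e => by
    rcases hor a b h with h' | h'
    · exact absurd (show N a = 0 from
        (mul_eq_zero.1 (show (2 : F) * N a = 0 by linear_combination h' + e)).resolve_left h2) (hN a)
    · linear_combination h' + e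
  by_cases hall : ∀ b, N b = N 0
  · rw [Finset.sum_congr rfl (fun j _ => hall j), Finset.sum_const, Finset.card_univ, Fintype.card_fin,
      nsmul_eq_mul, Nat.cast_ofNat] at hs
    have h := half 0 1 (by decide) (hall 1).symm
    exact h2 (by linear_combination hs - 3 * h)
  simp only [not_forall] at hall
  obtain ⟨b, hb⟩ := hall
  have hb0 : (0 : Fin 6) ≠ b := fun h => hb (by rw [h])
  have key : ∀ c, c ≠ 0 → c ≠ b → 2 * N c = 1 - (N 0 + N b) := by
    intro c h0 hcb
    rcases hor 0 c h0.symm with e | e <;> rcases hor b c hcb.symm with e' | e'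
    · exact absurd (show N b = N 0 by linear_combination e' - e) hb
    · linear_combination e + e'
    · linear_combination e + e'
    · exact absurd (show N b = N 0 by linear_combination e' - e) hb
  set S := ({0, b} : Finset (Fin 6))ᶜ with hS
  have hSc : S.card = 4 := by rw [hS, Finset.card_compl, Fintype.card_fin, Finset.card_pair hb0]
  obtain ⟨c, hc1, c', hc1', hcc⟩ := Finset.one_lt_card.1 (show 1 < S.card by omega)
  have hmem : ∀ c ∈ S, c ≠ 0 ∧ c ≠ b := fun c hc => by
    simpa [hS, not_or] using hc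
  have e : N c = N c' := mul_left_cancel₀ h2
    ((key c (hmem c hc1).1 (hmem c hc1).2).trans (key c' (hmem c' hc1').1 (hmem c' hc1').2).symm)
  have h1 : 2 * N c = 1 := half c c' hcc e
  have hsb : N 0 + N b = 0 := by
    linear_combination key c (hmem c hc1).1 (hmem c hc1).2 - h1
  have hall' : ∀ d ∈ S, N d = N c := fun d hd => mul_left_cancel₀ h2
    ((key d (hmem d hd).1 (hmem d hd).2).trans (key c (hmem c hc1).1 (hmem c hc1).2).symm)
  rw [← Finset.sum_add_sum_compl {0, b}, Finset.sum_pair hb0, ← hS, Finset.sum_congr rfl hall',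
    Finset.sum_const, hSc, nsmul_eq_mul, Nat.cast_ofNat, hsb] at hs
  exact one_ne_zero (show (1 : F) = 0 by linear_combination hs - 2 * h1)

omit [Fintype F] in
theorem norm_fix_ne_zero {n : ℕ} {x : Fin n → F} (hx : ∀ j, x j ≠ 0) (j : Fin n) : x j * x j ^ q ≠ 0 :=
  mul_ne_zero (hx j) (pow_ne_zero _ (hx j))

section Six

variable {M : Subgroup (Matrix.GeneralLinearGroup (Fin 6) F)} (hF : Fintype.card F = q ^ 2)
  (hHM : ∀ g ∈ suGL 6 F q, IsMon g → g ∈ M)
include hF hHM

/-- One coordinate as a block. -/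
theorem six_point (hq : 3 ≤ q) (hMK : M ≤ suGL 6 F q) {ζ m : F} (hζ : ζ ^ (q + 1) = 1)
    (h6 : ∀ d : ℕ, 1 ≤ d → d ≤ 3 → ζ ^ (6 * d) ≠ 1) (hm : m ^ (q + 1) = 1) (hm1 : m ≠ 1)
    (hcols : ∀ g ∈ M, ∀ i : Fin 6, Linked q M m ((g : Matrix (Fin 6) (Fin 6) F) *ᵥ Pi.single i 1))
    {x : Fin 6 → F} (hx : Cfsg.hermForm 6 F q x x = 1) (hall : ∀ j, x j ≠ 0)
    {X : Matrix.GeneralLinearGroup (Fin 6) F} (hXM : X ∈ M)
    (hX : ∀ v, (X : Matrix (Fin 6) (Fin 6) F) *ᵥ v = ζ • ((glRefl q x m : Matrix (Fin 6) (Fin 6) F) *ᵥ v))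
    {k : Fin 6} (hk : x k * x k ^ q ≠ 1) : suGL 6 F q ≤ M := by
  classical
  have hζ0 : ζ ≠ 0 := fun h => by simp [h] at hζ
  have hζe : ∀ e : ℕ, (ζ ^ e) ^ (q + 1) = 1 := fun e => by rw [← pow_mul, mul_comm, pow_mul, hζ, one_pow]
  choose T hTM _hTU _hTm hTx using fun e : Fin 4 => exists_diagM hF hHM
    (fun j => ζ ^ (e : ℕ) * if j ∈ ({k} : Finset (Fin 6)) then (ζ ^ (6 * (e : ℕ)))⁻¹ else 1)
    (fun j => by
      rw [mul_pow, hζe, one_mul]
      split_ifs
      exacts [inv_pow_succ _ (hζe _), one_pow _])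
    (by
      rw [Finset.prod_mul_distrib, Finset.prod_ite_mem, Finset.univ_inter, Finset.prod_singleton,
        Finset.prod_const, Finset.card_univ, Fintype.card_fin, ← pow_mul, mul_comm (e : ℕ) 6,
        mul_inv_cancel₀ (pow_ne_zero _ hζ0)])
  have hν : Function.Injective fun e : Fin 4 => (ζ ^ (6 * (e : ℕ)))⁻¹ := by
    intro a b h
    by_contra hne
    wlog hlt : (a : ℕ) < (b : ℕ) generalizing a b
    · exact this h.symm (Ne.symm hne) (lt_of_le_of_ne (not_lt.1 hlt) fun e => hne (Fin.ext e.symm))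
    refine h6 ((b : ℕ) - (a : ℕ)) (by omega) (by omega)
      (mul_left_cancel₀ (pow_ne_zero (6 * (a : ℕ)) hζ0) ?_)
    rw [← pow_add, mul_one, ← mul_add, Nat.add_sub_cancel' hlt.le]
    exact (inv_injective h).symm
  have hsum : ∑ j ∈ ({k} : Finset (Fin 6)), x j * x j ^ q = x k * x k ^ q := Finset.sum_singleton _ _
  obtain ⟨g, hgM, cA, cB, d, d', h1, -, -, -⟩ := exists_restr_swap hF hMK hx {k}
    (by rw [hsum]; exact norm_fix_ne_zero hall k) (by rw [hsum]; exact hk) hm hm1 hXM hX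
    T (fun e => (ζ ^ (6 * (e : ℕ)))⁻¹) hν hTM
    (fun e => ⟨ζ ^ (e : ℕ), pow_ne_zero _ hζ0, fun v j => hTx e v j⟩)
  have e : restr ({k} : Finset (Fin 6)) x = x k • Pi.single k 1 := funext fun j => by
    rcases eq_or_ne j k with rfl | hj
    · simp [restr]
    · simp [restr, hj]
  rw [e, Matrix.mulVec_smul] at h1
  have hsupp : supp ((g : Matrix (Fin 6) (Fin 6) F) *ᵥ Pi.single k 1) = ({k} : Finset (Fin 6))ᶜ := by
    have hd : d ≠ 0 := by
      rintro rfl
      rw [zero_smul, smul_eq_zero] at h1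
      have h2 := Matrix.mulVec_injective_iff_isUnit.2 (Units.isUnit g)
        ((h1.resolve_left (hall k)).trans (Matrix.mulVec_zero _).symm)
      simpa using congrFun h2 k
    ext j
    have e1 := congrFun h1 j
    rw [Pi.smul_apply, Pi.smul_apply, smul_eq_mul, smul_eq_mul] at e1
    rw [mem_supp]
    constructor
    · intro hj
      by_contra hjk
      rw [restr_notMem hjk, mul_zero] at e1
      exact mul_ne_zero (hall k) hj e1
    · intro hj h0
      rw [restr_mem hj, h0, mul_zero] at e1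
      exact mul_ne_zero hd (hall j) e1.symm
  have hc : (supp ((g : Matrix (Fin 6) (Fin 6) F) *ᵥ Pi.single k 1)).card = 5 := by
    rw [hsupp, Finset.card_compl, Fintype.card_fin, Finset.card_singleton]
  exact mono_le_of_linked hF (by norm_num) hHM hq hm (hcols g hgM k)
    (not_mon_of_three hF (hcols g hgM k).1 hm hm1 (by omega)) (by omega)

/-- Two coordinates as a block. -/
theorem six_pair (hq : 4 ≤ q) (h2 : (2 : F) ≠ 0) (hMK : M ≤ suGL 6 F q) {ζ m : F}
    (hζ : ζ ^ (q + 1) = 1) (h3 : ∀ d : ℕ, 1 ≤ d → d ≤ 3 → ζ ^ (3 * d) ≠ 1)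
    (hm : m ^ (q + 1) = 1) (hm1 : m ≠ 1)
    {x : Fin 6 → F} (hx : Cfsg.hermForm 6 F q x x = 1) (hall : ∀ j, x j ≠ 0)
    {X : Matrix.GeneralLinearGroup (Fin 6) F} (hXM : X ∈ M)
    (hX : ∀ v, (X : Matrix (Fin 6) (Fin 6) F) *ᵥ v = ζ • ((glRefl q x m : Matrix (Fin 6) (Fin 6) F) *ᵥ v)) :
    suGL 6 F q ≤ M := by
  classical
  have hζ0 : ζ ≠ 0 := fun h => by simp [h] at hζ
  have hζe : ∀ e : ℕ, (ζ ^ e) ^ (q + 1) = 1 := fun e => by rw [← pow_mul, mul_comm, pow_mul, hζ, one_pow]
  obtain ⟨k, l, hkl, hN0, hN1⟩ := exists_six_pair h2 (norm_fix_ne_zero (q := q) hall) hx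
  choose T hTM _hTU _hTm hTx using fun e : Fin 4 => exists_diagM hF hHM
    (fun j => (ζ ^ (e : ℕ))⁻¹ * if j ∈ ({k, l} : Finset (Fin 6)) then ζ ^ (3 * (e : ℕ)) else 1)
    (fun j => by
      rw [mul_pow, inv_pow, hζe, inv_one, one_mul]
      split_ifs
      exacts [hζe _, one_pow _])
    (by
      rw [Finset.prod_mul_distrib, Finset.prod_ite_mem, Finset.univ_inter, Finset.prod_pair hkl,
        Finset.prod_const, Finset.card_univ, Fintype.card_fin, ← pow_add, inv_pow, ← pow_mul,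
        show 3 * (e : ℕ) + 3 * (e : ℕ) = (e : ℕ) * 6 by ring, inv_mul_cancel₀ (pow_ne_zero _ hζ0)])
  have hν : Function.Injective fun e : Fin 4 => ζ ^ (3 * (e : ℕ)) := by
    intro a b h
    by_contra hne
    wlog hlt : (a : ℕ) < (b : ℕ) generalizing a b
    · exact this h.symm (Ne.symm hne) (lt_of_le_of_ne (not_lt.1 hlt) fun e => hne (Fin.ext e.symm))
    refine h3 ((b : ℕ) - (a : ℕ)) (by omega) (by omega)
      (mul_left_cancel₀ (pow_ne_zero (3 * (a : ℕ)) hζ0) ?_)
    rw [← pow_add, mul_one, ← mul_add, Nat.add_sub_cancel' hlt.le]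
    exact h.symm
  have hsum : ∑ j ∈ ({k, l} : Finset (Fin 6)), x j * x j ^ q = x k * x k ^ q + x l * x l ^ q :=
    Finset.sum_pair hkl
  obtain ⟨σ, hσM, cA, cB, d, d', h1, h2', h3', h4⟩ := exists_restr_swap hF hMK hx {k, l}
    (by rw [hsum]; exact hN0) (by rw [hsum]; exact hN1) hm hm1 hXM hX
    T (fun e => ζ ^ (3 * (e : ℕ))) hν hTM
    (fun e => ⟨(ζ ^ (e : ℕ))⁻¹, inv_ne_zero (pow_ne_zero _ hζ0), fun v j => hTx e v j⟩)
  exact mono_le_of_block hF (by norm_num) hHM hq hMK hkl (hall k) (hall l) hN0 hN1 hx hσM h1 h2' h3' h4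
    (hζe 3) (by rw [← pow_mul]; exact h3 2 (by norm_num) (by norm_num))
    (inv_ne_zero (pow_ne_zero ((1 : Fin 4) : ℕ) hζ0)) (hTM 1) (fun v j => by simpa using hTx 1 v j)

/-- Replacing a full linked vector by its image under a diagonal conjugate reflection. -/
theorem six_diag [DecidableEq F] (hq : 3 ≤ q) (hq6 : q ≤ 6) (h2 : (2 : F) ≠ 0) {x : Fin 6 → F}
    (hx : Linked q M (-1) x) (hall : ∀ j, x j ≠ 0) (L : Fin 6 → F) (hL : ∀ j, L j ^ (q + 1) = 1)
    (hprod : ∏ j, L j = 1) (hsum : 2 * ∑ j, x j * x j ^ q * L j ^ q = 1)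
    (h3 : 3 ≤ (Finset.univ.filter fun j => L j ≠ 1).card) (hne : ∃ t, L t = 1) :
    suGL 6 F q ≤ M := by
  classical
  have hm : (-1 : F) ^ (q + 1) = 1 := by rw [pow_succ, neg_pow_q hF, one_pow]; ring
  have hm1 : (-1 : F) ≠ 1 := fun h => h2 (by linear_combination -h)
  obtain ⟨D, hDM, hD, hDm, hDx⟩ := exists_diagM hF hHM L hL hprod
  obtain ⟨y, hy⟩ : ∃ y, y = (D : Matrix (Fin 6) (Fin 6) F) *ᵥ x := ⟨_, rfl⟩
  have hyL : Linked q M (-1) y := hy ▸ hx.mon hF hHM hm hDM hD.1 hDm
  have hyj : ∀ j, y j = L j * x j := fun j => by rw [hy, hDx]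
  have hyall : ∀ j, y j ≠ 0 := fun j => by
    rw [hyj]; exact mul_ne_zero (fun h => by simpa [h] using hL j) (hall j)
  have hxy : 2 * Cfsg.hermForm 6 F q x y = 1 := by
    rw [← hsum]
    show 2 * ∑ j, x j * y j ^ q = _
    refine congrArg _ (Finset.sum_congr rfl fun j _ => ?_)
    rw [hyj, mul_pow]; ring
  have hz := linked_refl hF (by norm_num) hHM h2 hq6 hx hyL hyall
  obtain ⟨z, hzdef⟩ : ∃ z, z = (glRefl q y (-1) : Matrix (Fin 6) (Fin 6) F) *ᵥ x := ⟨_, rfl⟩
  rw [← hzdef] at hz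
  have hzj : ∀ j, z j = x j * (1 - L j) := fun j => by
    rw [hzdef, glRefl_apply hF hyL.1 hm, Pi.add_apply, Pi.smul_apply, smul_eq_mul, hyj]
    linear_combination (-(L j * x j)) * hxy
  have hw3 : 3 ≤ (supp z).card := h3.trans (Finset.card_le_card (t := supp z) fun j hj => by
    rw [mem_supp, hzj]
    exact mul_ne_zero (hall j) (sub_ne_zero.2 (Finset.mem_filter.1 hj).2.symm))
  obtain ⟨t, ht⟩ := hne
  refine mono_le_of_linked hF (by norm_num) hHM hq hm hz (not_mon_of_three hF hz.1 hm hm1 hw3)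
    (lt_of_lt_of_eq (Finset.card_lt_card ((Finset.ssubset_iff_of_subset (Finset.subset_univ _)).2
      ⟨t, Finset.mem_univ _, fun h => mem_supp.1 h (by rw [hzj, ht, sub_self, mul_zero])⟩))
      (by rw [Finset.card_univ, Fintype.card_fin]))

/-- The image of a coordinate vector under the reflection at a full linked vector. -/
theorem six_step (hq : 3 ≤ q) (hq6 : q ≤ 6) (h2 : (2 : F) ≠ 0) {x : Fin 6 → F}
    (hx : Linked q M (-1) x) (hall : ∀ j, x j ≠ 0) (p : Fin 6) :
    suGL 6 F q ≤ M ∨ ∃ x', Linked q M (-1) x' ∧ (∀ j, x' j ≠ 0) ∧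
      x' p * x' p ^ q = (1 - 2 * (x p * x p ^ q)) * (1 - 2 * (x p * x p ^ q)) ∧
      ∀ j, j ≠ p → x' j * x' j ^ q = 4 * (x p * x p ^ q) * (x j * x j ^ q) := by
  classical
  have hm : (-1 : F) ^ (q + 1) = 1 := by rw [pow_succ, neg_pow_q hF, one_pow]; ring
  have hm1 : (-1 : F) ≠ 1 := fun h => h2 (by linear_combination -h)
  have h2q : (2 : F) ^ q = 2 := by rw [show (2 : F) = 1 + 1 by norm_num, add_pow_q hF, one_pow]
  have hz := linked_refl hF (by norm_num) hHM h2 hq6 (linked_single hF hHM hm p) hx hall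
  obtain ⟨z, hzdef⟩ : ∃ z, z = (glRefl q x (-1) : Matrix (Fin 6) (Fin 6) F) *ᵥ Pi.single p 1 := ⟨_, rfl⟩
  rw [← hzdef] at hz
  have hzp : z p = 1 - 2 * (x p * x p ^ q) := by
    rw [hzdef, refl_col hF hx.1 hm, Pi.add_apply, Pi.smul_apply, Pi.single_eq_same, smul_eq_mul]
    ring
  have hzj : ∀ j, j ≠ p → z j = -(2 * x p ^ q * x j) := fun j hj => by
    rw [hzdef, refl_col hF hx.1 hm, Pi.add_apply, Pi.smul_apply, Pi.single_eq_of_ne hj, smul_eq_mul]
    ring
  have hne : ∀ j, j ≠ p → z j ≠ 0 := fun j hj => by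
    rw [hzj j hj, neg_ne_zero]
    exact mul_ne_zero (mul_ne_zero h2 (pow_ne_zero _ (hall p))) (hall j)
  by_cases h0 : z p = 0
  · left
    have hc : supp z = ({p} : Finset (Fin 6))ᶜ := by
      ext j
      rw [mem_supp, Finset.mem_compl, Finset.mem_singleton]
      exact ⟨fun h e => h (e ▸ h0), fun h => hne j h⟩
    have hcc : (supp z).card = 5 := by
      rw [hc, Finset.card_compl, Fintype.card_fin, Finset.card_singleton]
    exact mono_le_of_linked hF (by norm_num) hHM hq hm hz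
      (not_mon_of_three hF hz.1 hm hm1 (by omega)) (by omega)
  refine Or.inr ⟨z, hz, fun j => ?_, ?_, fun j hj => ?_⟩
  · rcases eq_or_ne j p with rfl | hj
    exacts [h0, hne j hj]
  · rw [hzp, sub_pow_q hF, one_pow, mul_pow, h2q, mul_pow, pow_q_pow_q hF]
    ring
  · rw [hzj j hj, neg_pow_q hF, mul_pow, mul_pow, h2q, pow_q_pow_q hF]
    ring

/-- Linked columns for q = 3 and q = 5. -/
theorem six_cols (hq35 : q = 3 ∨ q = 5) (h2 : (2 : F) ≠ 0) (hMK : M ≤ suGL 6 F q)
    {g : Matrix.GeneralLinearGroup (Fin 6) F} (hgM : g ∈ M) (hgm : ¬ IsMon g)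
    (hcols : ∀ i, Linked q M (-1) ((g : Matrix (Fin 6) (Fin 6) F) *ᵥ Pi.single i 1)) :
    suGL 6 F q ≤ M := by
  classical
  have hq : 3 ≤ q := by omega
  have hq6 : q ≤ 6 := by omega
  have hm : (-1 : F) ^ (q + 1) = 1 := by rw [pow_succ, neg_pow_q hF, one_pow]; ring
  have hm1 : (-1 : F) ≠ 1 := fun h => h2 (by linear_combination -h)
  obtain ⟨x, hx, hxm, -⟩ := exists_good hF (by norm_num) hHM hm hm1 hgM (hMK hgM) hgm hcols
  by_cases hfull : (supp x).card < 6
  · exact mono_le_of_linked hF (by norm_num) hHM hq hm hx hxm hfull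
  have hall : ∀ j, x j ≠ 0 := fun j hj => hfull (lt_of_lt_of_eq (Finset.card_lt_card
    ((Finset.ssubset_iff_of_subset (Finset.subset_univ _)).2
      ⟨j, Finset.mem_univ _, fun h => mem_supp.1 h hj⟩)) (by rw [Finset.card_univ, Fintype.card_fin]))
  clear hfull hxm
  have hcast : ((q ^ 2 : ℕ) : F) = 0 := hF ▸ FiniteField.cast_card_eq_zero F
  -- a norm equal to one half
  have half : ∀ y : Fin 6 → F, Linked q M (-1) y → (∀ j, y j ≠ 0) →
      (∃ p, 2 * (y p * y p ^ q) = 1) → suGL 6 F q ≤ M := by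
    rintro y hy hyall ⟨p, hp⟩
    rcases six_step hF hHM hq hq6 h2 hy hyall p with h | ⟨y', -, hy', hy'p, -⟩
    · exact h
    · exfalso
      rw [hp, sub_self, mul_zero] at hy'p
      exact norm_fix_ne_zero hy' p hy'p
  have hN0 : ∀ y : Fin 6 → F, (∀ j, y j ≠ 0) → ∀ j, (y j * y j ^ q) ^ (q - 1) = 1 := fun y hy j =>
    (fixed_iff hF (norm_fix_ne_zero hy j)).1 (by rw [mul_pow, pow_q_pow_q hF, mul_comm])
  rcases hq35 with rfl | rfl
  · have h3 : (3 : F) = 0 := (pow_eq_zero_iff (n := 2) (by norm_num)).1 (by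
      push_cast at hcast; linear_combination hcast)
    refine half x hx hall ?_
    by_contra! hc
    have h1 : ∀ j, x j * x j ^ 3 = 1 := fun j => by
      have e := hN0 x hall j
      have : (x j * x j ^ 3 - 1) * (2 * (x j * x j ^ 3) - 1) = 0 := by
        rw [show 3 - 1 = 2 from rfl] at e
        linear_combination 2 * e - (x j * x j ^ 3 - 1) * h3
      exact sub_eq_zero.1 ((mul_eq_zero.1 this).resolve_right (sub_ne_zero.2 (hc j)))
    have hs : ∑ j, x j * x j ^ 3 = 1 := hx.1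
    rw [Finset.sum_congr rfl (fun j _ => h1 j), Finset.sum_const, Finset.card_univ, Fintype.card_fin,
      nsmul_eq_mul, Nat.cast_ofNat, mul_one] at hs
    exact one_ne_zero (show (1 : F) = 0 by linear_combination 2 * h3 - hs)
  -- q = 5
  have h5 : (5 : F) = 0 := (pow_eq_zero_iff (n := 2) (by norm_num)).1 (by
    push_cast at hcast; linear_combination hcast)
  have cases4 : ∀ y : Fin 6 → F, (∀ j, y j ≠ 0) → ∀ j, y j * y j ^ 5 = 1 ∨ y j * y j ^ 5 = 2 ∨
      2 * (y j * y j ^ 5) = 1 ∨ y j * y j ^ 5 = 4 := fun y hy j => by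
    have e := hN0 y hy j
    generalize y j * y j ^ 5 = v at e ⊢
    norm_num at e
    have : (v - 1) * ((v - 2) * ((2 * v - 1) * (v - 4))) = 0 := by
      linear_combination 2 * e + (-3 * v ^ 3 + 7 * v ^ 2 - 6 * v + 2) * h5
    simpa [sub_eq_zero] using this
  -- all norms one
  have ones : ∀ y : Fin 6 → F, Linked 5 M (-1) y → (∀ j, y j ≠ 0) → (∀ j, y j * y j ^ 5 = 1) →
      suGL 6 F 5 ≤ M := fun y hy hyall h1 => by
    refine six_diag hF hHM hq hq6 h2 hy hyall (fun j => if j.1 < 4 then -1 else 1)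
      (fun j => by split_ifs; exacts [hm, one_pow _]) ?_ ?_ ?_ ⟨5, by simp⟩
    · simp [Fin.prod_univ_succ]
    · simp [Fin.sum_univ_succ, h1, neg_pow_q hF]
      linear_combination (-1 : F) * h5
    · refine le_trans (show 3 ≤ ({0, 1, 2} : Finset (Fin 6)).card by decide)
        (Finset.card_le_card fun j hj => Finset.mem_filter.2 ⟨Finset.mem_univ _, ?_⟩)
      simp only [Finset.mem_insert, Finset.mem_singleton] at hj
      rcases hj with rfl | rfl | rfl <;> simpa using hm1
  by_cases hhalf : ∃ p, 2 * (x p * x p ^ 5) = 1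
  · exact half x hx hall hhalf
  simp only [not_exists] at hhalf
  have hcase : ∀ j, x j * x j ^ 5 = 1 ∨ x j * x j ^ 5 = 2 ∨ x j * x j ^ 5 = 4 := fun j => by
    rcases cases4 x hall j with h | h | h | h
    exacts [Or.inl h, Or.inr (Or.inl h), absurd h (hhalf j), Or.inr (Or.inr h)]
  have hs : ∑ j, x j * x j ^ 5 = 1 := hx.1
  by_cases hone : ∃ p, x p * x p ^ 5 = 1
  · obtain ⟨p, hp⟩ := hone
    rcases six_step hF hHM hq hq6 h2 hx hall p with h | ⟨x', hx', hall', hx'p, hx'j⟩
    · exact h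
    by_cases htwo : ∃ j, x j * x j ^ 5 = 2
    · obtain ⟨j, hj⟩ := htwo
      have hjp : j ≠ p := fun h => one_ne_zero (show (1 : F) = 0 by
        rw [h] at hj; linear_combination hp - hj)
      exact half x' hx' hall' ⟨j, by rw [hx'j j hjp, hp, hj]; linear_combination 3 * h5⟩
    simp only [not_exists] at htwo
    by_cases hfour : ∀ j, x j * x j ^ 5 = 1
    · exact ones x hx hall hfour
    -- one norm one and five norms four
    obtain ⟨S, hS⟩ : ∃ S, S = Finset.univ.filter (fun j => x j * x j ^ 5 = 4) := ⟨_, rfl⟩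
    have h14 : (4 : F) ≠ 1 := fun h => one_ne_zero (show (1 : F) = 0 by linear_combination 2 * h - h5)
    have hval : ∀ j, x j * x j ^ 5 = 1 + 3 * (if j ∈ S then (1 : F) else 0) := fun j => by
      rcases hcase j with h | h | h
      · rw [if_neg (fun hm => h14 (((Finset.mem_filter.1 (hS ▸ hm)).2).symm.trans h)), h]; ring
      · exact absurd h (htwo j)
      · rw [if_pos (by rw [hS]; exact Finset.mem_filter.2 ⟨Finset.mem_univ _, h⟩), h]; ring
    rw [Finset.sum_congr rfl (fun j _ => hval j), Finset.sum_add_distrib, ← Finset.mul_sum,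
      Finset.sum_boole, Finset.sum_const, Finset.card_univ, Fintype.card_fin, nsmul_eq_mul,
      Finset.filter_univ_mem] at hs
    have hk0 : S.card ≠ 0 := fun h => by
      simp only [not_forall] at hfour
      obtain ⟨j, hj⟩ := hfour
      refine hj ?_
      rw [hval j, if_neg (by simp [Finset.card_eq_zero.1 h]), mul_zero, add_zero]
    have hkle : S.card ≤ 5 := by
      refine Nat.le_of_lt_succ (lt_of_lt_of_eq (Finset.card_lt_card
        ((Finset.ssubset_iff_of_subset (Finset.subset_univ _)).2 ⟨p, Finset.mem_univ _, fun hm => ?_⟩))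
        (by rw [Finset.card_univ, Fintype.card_fin]))
      exact h14 (((Finset.mem_filter.1 (hS ▸ hm)).2).symm.trans hp)
    have hk5 : S.card = 5 := by
      obtain ⟨r, hr⟩ : ∃ r, r = S.card := ⟨_, rfl⟩
      rw [← hr] at hs hk0 hkle ⊢
      interval_cases r <;> first
        | rfl
        | omega
        | (exfalso; norm_num at hs; first
            | exact one_ne_zero (show (1 : F) = 0 by linear_combination (2 : F) * hs - 3 * h5)
            | exact one_ne_zero (show (1 : F) = 0 by linear_combination hs - 2 * h5)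
            | exact one_ne_zero (show (1 : F) = 0 by linear_combination -hs + 3 * h5)
            | exact one_ne_zero (show (1 : F) = 0 by linear_combination (-2 : F) * hs + 7 * h5))
    have hS' : ∀ j, j ≠ p → x j * x j ^ 5 = 4 := fun j hj => by
      rcases hcase j with h | h | h
      · exfalso
        have : S ⊆ ({p, j} : Finset (Fin 6))ᶜ := fun r hr => by
          have hr4 := (Finset.mem_filter.1 (hS ▸ hr)).2
          rw [Finset.mem_compl, Finset.mem_insert, Finset.mem_singleton]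
          rintro (rfl | rfl)
          exacts [h14 (hr4.symm.trans hp), h14 (hr4.symm.trans h)]
        have := Finset.card_le_card this
        rw [Finset.card_compl, Fintype.card_fin, Finset.card_pair hj.symm, hk5] at this
        omega
      · exact absurd h (htwo j)
      · exact h
    refine ones x' hx' hall' fun j => ?_
    rcases eq_or_ne j p with rfl | hj
    · rw [hx'p, hp]; ring
    · rw [hx'j j hj, hp, hS' j hj]; linear_combination 3 * h5
  simp only [not_exists] at hone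
  -- four norms two and two norms four
  obtain ⟨S, hS⟩ : ∃ S, S = Finset.univ.filter (fun j => x j * x j ^ 5 = 2) := ⟨_, rfl⟩
  have h24 : (2 : F) ≠ 4 := fun h => h2 (by linear_combination -h)
  have hval : ∀ j, x j * x j ^ 5 = 4 - 2 * (if j ∈ S then (1 : F) else 0) := fun j => by
    rcases hcase j with h | h | h
    · exact absurd h (hone j)
    · rw [if_pos (by rw [hS]; exact Finset.mem_filter.2 ⟨Finset.mem_univ _, h⟩), h]; ring
    · rw [if_neg (fun hm => h24 (((Finset.mem_filter.1 (hS ▸ hm)).2).symm.trans h)), h]; ring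
  rw [Finset.sum_congr rfl (fun j _ => hval j), Finset.sum_sub_distrib, ← Finset.mul_sum,
    Finset.sum_boole, Finset.sum_const, Finset.card_univ, Fintype.card_fin, nsmul_eq_mul,
    Finset.filter_univ_mem] at hs
  have hk4 : S.card = 4 := by
    have hkle : S.card ≤ 6 := (Finset.card_le_univ S).trans_eq (Fintype.card_fin 6)
    obtain ⟨r, hr⟩ : ∃ r, r = S.card := ⟨_, rfl⟩
    rw [← hr] at hs hkle ⊢
    interval_cases r <;> first
      | rfl
      | (exfalso; norm_num at hs; first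
          | exact one_ne_zero (show (1 : F) = 0 by linear_combination 2 * hs - 9 * h5)
          | exact one_ne_zero (show (1 : F) = 0 by linear_combination hs - 4 * h5)
          | exact one_ne_zero (show (1 : F) = 0 by linear_combination (-2 : F) * hs + 7 * h5)
          | exact one_ne_zero (show (1 : F) = 0 by linear_combination (-1 : F) * hs + 4 * h5)
          | exact one_ne_zero (show (1 : F) = 0 by linear_combination (2 : F) * hs - 5 * h5)
          | exact one_ne_zero (show (1 : F) = 0 by linear_combination hs - 2 * h5))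
  let f : Fin 4 ≃ S := (Fintype.equivFinOfCardEq (by rw [Fintype.card_coe, hk4])).symm
  obtain ⟨ζ, hζ, hord, hζ1⟩ := exists_gen_ne_one hF
  have hne : ∀ i : ℕ, 0 < i → i < 6 → ζ ^ i ≠ 1 := fun i h0 h6 h => by
    have := Nat.le_of_dvd h0 (hord ▸ orderOf_dvd_of_pow_eq_one h)
    omega
  have hζ6 : ζ ^ 6 = 1 := hζ
  have hζc : ζ ^ 3 = -1 := by
    have : (ζ ^ 3 - 1) * (ζ ^ 3 + 1) = 0 := by linear_combination hζ6
    exact eq_neg_of_add_eq_zero_left
      ((mul_eq_zero.1 this).resolve_left (sub_ne_zero.2 (hne 3 (by norm_num) (by norm_num))))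
  have hζq : ζ ^ 2 - ζ + 1 = 0 := by
    refine (mul_eq_zero.1 (show (ζ + 1) * (ζ ^ 2 - ζ + 1) = 0 by linear_combination hζc)).resolve_left
      fun h => hne 2 (by norm_num) (by norm_num) (by linear_combination (ζ - 1) * h)
  let l4 : Fin 4 → F := ![ζ, ζ ^ 5, ζ ^ 2, ζ ^ 4]
  let L : Fin 6 → F := fun j => if h : j ∈ S then l4 (f.symm ⟨j, h⟩) else 1
  have hsumS : ∀ φ : Fin 6 → F, ∑ j, φ j = ∑ i : Fin 4, φ (f i) + ∑ j ∈ Sᶜ, φ j := fun φ => by
    rw [← Finset.sum_add_sum_compl S, ← Finset.sum_coe_sort S, ← f.sum_comp]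
  have hLf : ∀ i, L (f i) = l4 i := fun i => by simp [L]
  have hLc : ∀ j ∈ Sᶜ, L j = 1 := fun j hj => dif_neg (Finset.mem_compl.1 hj)
  refine six_diag hF hHM hq hq6 h2 hx hall L (fun j => ?_) ?_ ?_ ?_ ?_
  · simp only [L]
    split_ifs with h
    · generalize f.symm ⟨j, h⟩ = i
      have hp : ∀ k : ℕ, (ζ ^ k) ^ (5 + 1) = 1 := fun k => by
        rw [← pow_mul, mul_comm, pow_mul, hζ, one_pow]
      fin_cases i
      exacts [hζ, hp 5, hp 2, hp 4]
    · exact one_pow _
  · rw [← Finset.prod_mul_prod_compl S, Finset.prod_eq_one hLc, mul_one, ← Finset.prod_coe_sort S,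
      ← f.prod_comp, Fin.prod_univ_four]
    simp only [hLf, l4, Matrix.cons_val_zero, Matrix.cons_val_one, Matrix.cons_val]
    linear_combination (ζ ^ 6 + 1) * hζ6
  · rw [hsumS, Finset.sum_congr rfl (s₁ := Sᶜ) (g := fun _ => (4 : F)) (fun j hj => by
        rw [hLc j hj, one_pow, mul_one, hval j, if_neg (Finset.mem_compl.1 hj)]; ring),
      Finset.sum_const, Finset.card_compl, Fintype.card_fin, hk4, Fin.sum_univ_four]
    simp only [hLf, fun i => hval (f i : Fin 6), Finset.coe_mem, if_true]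
    simp only [l4, Matrix.cons_val_zero, Matrix.cons_val_one, Matrix.cons_val]
    rw [show (6 - 4 : ℕ) = 2 from rfl, nsmul_eq_mul, Nat.cast_ofNat, ← pow_mul, ← pow_mul, ← pow_mul,
      show (ζ : F) ^ (5 * 5) = ζ by linear_combination (ζ ^ 19 + ζ ^ 13 + ζ ^ 7 + ζ) * hζ6,
      show (ζ : F) ^ (2 * 5) = ζ ^ 4 by linear_combination ζ ^ 4 * hζ6,
      show (ζ : F) ^ (4 * 5) = ζ ^ 2 by linear_combination (ζ ^ 14 + ζ ^ 8 + ζ ^ 2) * hζ6]
    linear_combination (4 * ζ ^ 3 + 8 * ζ ^ 2 + 4 * ζ) * hζq + 3 * h5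
  · refine le_trans ?_ (Finset.card_le_card (show S ⊆ _ from fun j hj =>
      Finset.mem_filter.2 ⟨Finset.mem_univ _, ?_⟩))
    · omega
    · simp only [L, dif_pos hj]
      generalize f.symm ⟨j, hj⟩ = i
      fin_cases i
      exacts [hζ1, hne 5 (by norm_num) (by norm_num), hne 2 (by norm_num) (by norm_num),
        hne 4 (by norm_num) (by norm_num)]
  · obtain ⟨j, hj⟩ := exists_notMem_of_card_lt (S := S) (by omega)
    exact ⟨j, dif_neg hj⟩

/-- q = 8: a full isotropic vector loses a coordinate, keeping three. -/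
theorem six_kill_eight (hq8 : q = 8) (h2 : (2 : F) = 0) (v : Fin 6 → F) (hall : ∀ r, v r ≠ 0)
    (hv : Cfsg.hermForm 6 F q v v = 0) : ∃ h ∈ M, h ∈ suGL 6 F q ∧
      3 ≤ (supp (v + Cfsg.hermForm 6 F q v ((h : Matrix (Fin 6) (Fin 6) F) *ᵥ v) •
        ((h : Matrix (Fin 6) (Fin 6) F) *ᵥ v))).card ∧
      (supp (v + Cfsg.hermForm 6 F q v ((h : Matrix (Fin 6) (Fin 6) F) *ᵥ v) •
        ((h : Matrix (Fin 6) (Fin 6) F) *ᵥ v))).card < 6 := by
  classical
  subst hq8
  suffices hd : ∃ (L : Fin 6 → F) (ρ : F) (t : Fin 6), (∀ j, L j ^ (8 + 1) = 1) ∧ ρ ^ (8 + 1) = 1 ∧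
      L t = 1 ∧ ∑ j, v j * v j ^ 8 * L j = (-(1 : F)⁻¹) ^ 8 ∧ ∏ j, ρ * L j = 1 ∧
      3 ≤ (Finset.univ.filter fun j => L j ≠ 1).card by
    obtain ⟨h, hhM, hh, -, h3', hlt'⟩ :=
      exists_kill_of_diag hF (by norm_num) hHM hall (one_ne_zero (α := F)) hd
    rw [one_mul] at h3' hlt'
    exact ⟨h, hhM, hh, h3', hlt'⟩
  have hT : (-(1 : F)⁻¹) ^ 8 = 1 := by rw [inv_one]; norm_num
  rw [hT]
  set N : Fin 6 → F := fun j => v j * v j ^ 8 with hNdef
  have hNfix : ∀ j, N j ^ 8 = N j := fun j => by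
    simp only [hNdef]; rw [mul_pow, pow_q_pow_q hF, mul_comm]
  have hN0 : ∀ j, N j ≠ 0 := norm_fix_ne_zero hall
  have hNs : ∑ j, N j = 0 := hv
  obtain ⟨a, b, hab, heq⟩ : ∃ a b, a ≠ b ∧ N a = N b := by
    by_contra! hc
    have hinj : Function.Injective N := fun a b e => by
      by_contra h
      exact hc a b h e
    set K := (Finset.univ.filter fun x : F => x ^ 8 = x).erase 0 with hK
    have hKc : K.card = 7 := by
      have := card_fixed hF
      rw [Nat.card_eq_fintype_card, Fintype.card_subtype] at this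
      rw [hK, Finset.card_erase_of_mem (by simp), this]
    have hsub : Finset.univ.image N ⊆ K := fun x hx => by
      obtain ⟨j, -, rfl⟩ := Finset.mem_image.1 hx
      exact Finset.mem_erase.2 ⟨hN0 j, Finset.mem_filter.2 ⟨Finset.mem_univ _, hNfix j⟩⟩
    have h6 : (Finset.univ.image N).card = 6 := by
      rw [Finset.card_image_of_injective _ hinj, Finset.card_univ, Fintype.card_fin]
    obtain ⟨r, hr⟩ := Finset.card_eq_one.1 (show (K \ Finset.univ.image N).card = 1 by
      rw [Finset.card_sdiff_of_subset hsub, hKc, h6])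
    obtain ⟨c, hc', hc1⟩ := Finset.exists_mem_ne (show 1 < K.card by omega) 1
    obtain ⟨hc0, hcf⟩ := Finset.mem_erase.1 hc'
    have hsum0 : ∑ x ∈ K, x = 0 := by
      have himg : K.image (fun x => c * x) = K := Finset.eq_of_subset_of_card_le (fun x hx => by
        obtain ⟨y, hy, rfl⟩ := Finset.mem_image.1 hx
        obtain ⟨hy0, hyf⟩ := Finset.mem_erase.1 hy
        refine Finset.mem_erase.2 ⟨mul_ne_zero hc0 hy0, Finset.mem_filter.2 ⟨Finset.mem_univ _, ?_⟩⟩
        rw [mul_pow, (Finset.mem_filter.1 hcf).2, (Finset.mem_filter.1 hyf).2])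
        (by rw [Finset.card_image_of_injective _ (mul_right_injective₀ hc0)])
      have e : ∑ x ∈ K, x = c * ∑ x ∈ K, x := by
        conv_lhs => rw [← himg]
        rw [Finset.sum_image fun x _ y _ e => mul_left_cancel₀ hc0 e, Finset.mul_sum]
      exact (mul_eq_zero.1 (show (c - 1) * ∑ x ∈ K, x = 0 by linear_combination -e)).resolve_left
        (sub_ne_zero.2 hc1)
    have hrK : r ∈ K := (Finset.mem_sdiff.1 (hr ▸ Finset.mem_singleton_self r)).1
    rw [← Finset.sum_sdiff hsub, hr, Finset.sum_singleton, Finset.sum_image fun x _ y _ e => hinj e,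
      hNs, add_zero] at hsum0
    exact (Finset.mem_erase.1 hrK).1 hsum0
  obtain ⟨t, htab, htz⟩ : ∃ t, t ∉ ({a, b} : Finset (Fin 6)) ∧
      (1 - N t ≠ 0 ∨ ∀ i ∉ ({a, b} : Finset (Fin 6)), N i = 1) := by
    by_cases hex : ∃ t, t ∉ ({a, b} : Finset (Fin 6)) ∧ 1 - N t ≠ 0
    · obtain ⟨t, ht, h⟩ := hex
      exact ⟨t, ht, Or.inl h⟩
    simp only [not_exists, not_and, not_not] at hex
    obtain ⟨t, ht⟩ := exists_notMem_of_card_lt (S := ({a, b} : Finset (Fin 6)))
      (lt_of_le_of_lt Finset.card_le_two (by norm_num))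
    exact ⟨t, ht, Or.inr fun i hi => (sub_eq_zero.1 (hex i hi)).symm⟩
  set B := insert t ({a, b} : Finset (Fin 6)) with hB
  have hBc : Bᶜ.card = 3 := by
    rw [Finset.card_compl, Fintype.card_fin, hB, Finset.card_insert_of_notMem htab, Finset.card_pair hab]
  have hnot : ∀ i ∈ Bᶜ, i ≠ t ∧ i ∉ ({a, b} : Finset (Fin 6)) := fun i hi => by
    have := Finset.mem_compl.1 hi
    rwa [hB, Finset.mem_insert, not_or] at this
  obtain ⟨l, hl, hls⟩ := exists_sum_three hF hBc N (fun i _ => hN0 i) (z := 1 - N t) (by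
    rcases htz with h | h
    · exact Or.inl h
    · exact Or.inr ⟨Or.inl (by norm_num), fun i hi j hj => by rw [h i (hnot i hi).2, h j (hnot j hj).2]⟩)
  obtain ⟨ζ, hζ, hord, hζ1⟩ := exists_gen_ne_one hF
  obtain ⟨P, hP⟩ : ∃ P, P = ∏ i ∈ Bᶜ, l i := ⟨_, rfl⟩
  have hP9 : P ^ 9 = 1 := by rw [hP, ← Finset.prod_pow]; exact Finset.prod_eq_one fun i _ => hl i
  obtain ⟨ρ, s, hρ, hs, hs1, hsp⟩ : ∃ ρ s : F, ρ ^ (8 + 1) = 1 ∧ s ^ (8 + 1) = 1 ∧ s ≠ 1 ∧
      ρ ^ 6 * (s * s) * P = 1 := by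
    by_cases hP1 : P ^ 4 = 1
    · have hPone : P = 1 := by linear_combination hP9 - P * (P ^ 4 + 1) * hP1
      refine ⟨ζ, ζ ^ 6, hζ, by rw [← pow_mul, mul_comm, pow_mul, hζ, one_pow], fun h => ?_, ?_⟩
      · have := Nat.le_of_dvd (by norm_num) (hord ▸ orderOf_dvd_of_pow_eq_one h)
        omega
      · rw [hPone]; linear_combination (ζ ^ 9 + 1) * hζ
    · refine ⟨1, P ^ 4, one_pow _, by rw [← pow_mul, mul_comm, pow_mul, hP9, one_pow], hP1, ?_⟩
      linear_combination hP9
  have hta : t ≠ a := fun h => htab (by simp [h])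
  have htb : t ≠ b := fun h => htab (by simp [h])
  let L : Fin 6 → F := fun j => if j = t then 1 else if j = a ∨ j = b then s else l j
  have hLt : L t = 1 := if_pos rfl
  have hLa : L a = s := by simp [L, hta.symm]
  have hLb : L b = s := by simp [L, htb.symm]
  have hLc : ∀ i ∈ Bᶜ, L i = l i := fun i hi => by
    have h := hnot i hi
    simp only [Finset.mem_insert, Finset.mem_singleton] at h
    simp [L, h.1, h.2]
  have hsplit : ∀ φ : Fin 6 → F, ∑ j, φ j = φ t + (φ a + φ b) + ∑ i ∈ Bᶜ, φ i := fun φ => by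
    rw [← Finset.sum_add_sum_compl B, hB, Finset.sum_insert htab, Finset.sum_pair hab]
  have hsum : ∑ j, N j * L j = 1 := by
    rw [hsplit, hLt, hLa, hLb, Finset.sum_congr rfl (fun i hi => by rw [hLc i hi]), hls, heq]
    linear_combination (N b * s) * h2
  refine ⟨L, ρ, t, fun j => ?_, hρ, hLt, hsum, ?_, ?_⟩
  · simp only [L]; split_ifs
    exacts [one_pow _, hs, hl j]
  · rw [Finset.prod_mul_distrib, Finset.prod_const, Finset.card_univ, Fintype.card_fin,
      ← Finset.prod_mul_prod_compl B, hB, Finset.prod_insert htab, Finset.prod_pair hab, hLt, hLa, hLb,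
      ← hB, Finset.prod_congr rfl hLc, ← hP]
    linear_combination hsp
  · obtain ⟨c, hc, hc1⟩ : ∃ c ∈ Bᶜ, l c ≠ 1 := by
      by_contra! hone
      have e := hsplit N
      rw [hNs, heq] at e
      rw [Finset.sum_congr rfl (fun i hi => by rw [hone i hi, mul_one])] at hls
      exact one_ne_zero (show (1 : F) = 0 by linear_combination -e - hls - N b * h2)
    refine le_trans (le_of_eq ?_) (Finset.card_le_card (show ({a, b, c} : Finset (Fin 6)) ⊆ _ from
      fun j hj => Finset.mem_filter.2 ⟨Finset.mem_univ _, ?_⟩))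
    · have h := (hnot c hc).2
      simp only [Finset.mem_insert, Finset.mem_singleton, not_or] at h
      rw [Finset.card_insert_of_notMem (by simp [hab, Ne.symm h.1]), Finset.card_pair (Ne.symm h.2)]
    · simp only [Finset.mem_insert, Finset.mem_singleton] at hj
      rcases hj with rfl | rfl | rfl
      · rw [hLa]; exact hs1
      · rw [hLb]; exact hs1
      · rw [hLc _ hc]; exact hc1

/-- The monomial subgroup of SU in dimension six is maximal for q ≥ 3. -/
theorem mono_le_six (hq : 3 ≤ q) (hMK : M ≤ suGL 6 F q) {g : Matrix.GeneralLinearGroup (Fin 6) F}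
    (hgM : g ∈ M) (hgm : ¬ IsMon g) : suGL 6 F q ≤ M := by
  classical
  have hcast : ((q ^ 2 : ℕ) : F) = 0 := hF ▸ FiniteField.cast_card_eq_zero F
  by_cases hq5 : q = 5
  · subst hq5
    have h2 : (2 : F) ≠ 0 := fun h => one_ne_zero (show (1 : F) = 0 by
      push_cast at hcast; linear_combination hcast - 12 * h)
    exact mono_le_of_dvd_of_cols hF (by norm_num) hHM le_rfl hq h2 hMK (by norm_num)
      (fun _ hM hm hc => six_cols hF hHM (Or.inr rfl) h2 hMK hM hm hc) hgM hgm
  by_cases hq8 : q = 8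
  · have h2 : (2 : F) = 0 := by
      subst hq8
      refine (pow_eq_zero_iff (n := 6) (by norm_num)).1 ?_
      push_cast at hcast; linear_combination hcast
    exact mono_le_even_big hF (by norm_num) hHM hq h2 (six_kill_eight hF hHM hq8 h2) hgM (hMK hgM) hgm
  have hdvd : ¬ q + 1 ∣ 6 := fun h => by
    have := Nat.le_of_dvd (by norm_num) h
    have : q = 3 ∨ q = 4 := by omega
    rcases this with rfl | rfl <;> norm_num at h
  obtain ⟨ζ, m, hζ, hord, hm, hm1, hmdef, hall'⟩ :=
    exists_scalar_cols hF (by norm_num) hHM hMK hdvd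
  have hcols : ∀ g ∈ M, ∀ i, Linked q M m ((g : Matrix (Fin 6) (Fin 6) F) *ᵥ Pi.single i 1) :=
    fun g hgM i => (hall' g hgM i).1
  by_cases hq3 : q = 3
  · subst hq3
    have h2 : (2 : F) ≠ 0 := fun h => one_ne_zero (show (1 : F) = 0 by
      push_cast at hcast; linear_combination hcast - 4 * h)
    have hneg : m = -1 := by
      rw [hmdef]
      have hz4 : ζ ^ 4 = 1 := hζ
      have hz2 : ζ ^ 2 ≠ 1 := fun h => by
        have := Nat.le_of_dvd (by norm_num) (hord ▸ orderOf_dvd_of_pow_eq_one h)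
        omega
      have : (ζ ^ 2 - 1) * (ζ ^ 2 + 1) = 0 := by linear_combination hz4
      have h' := eq_neg_of_add_eq_zero_left ((mul_eq_zero.1 this).resolve_left (sub_ne_zero.2 hz2))
      rw [show ζ ^ 6 = ζ ^ 4 * ζ ^ 2 by ring, hz4, h', one_mul, inv_neg, inv_one]
    exact six_cols hF hHM (Or.inl rfl) h2 hMK hgM hgm (fun i => hneg ▸ hcols g hgM i)
  obtain ⟨x, hx, hxm, hor⟩ := exists_good hF (by norm_num) hHM hm hm1 hgM (hMK hgM) hgm (hcols g hgM)
  by_cases hfull : (supp x).card < 6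
  · exact mono_le_of_linked hF (by norm_num) hHM hq hm hx hxm hfull
  obtain ⟨i, hi⟩ := hor.resolve_right hfull
  have hall : ∀ j, x j ≠ 0 := fun j hj => hfull (lt_of_lt_of_eq (Finset.card_lt_card
    ((Finset.ssubset_iff_of_subset (Finset.subset_univ _)).2
      ⟨j, Finset.mem_univ _, fun h => mem_supp.1 h hj⟩)) (by rw [Finset.card_univ, Fintype.card_fin]))
  obtain ⟨X, hXM, hX⟩ := (hall' g hgM i).2
  rw [← hi] at hX
  by_cases h2 : (2 : F) = 0
  · obtain ⟨k, hk⟩ : ∃ k, x k * x k ^ q ≠ 1 := by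
      by_contra! hone
      have hs : ∑ j, x j * x j ^ q = 1 := hx.1
      rw [Finset.sum_congr rfl (fun j _ => hone j), Finset.sum_const, Finset.card_univ, Fintype.card_fin,
        nsmul_eq_mul, Nat.cast_ofNat, mul_one] at hs
      exact one_ne_zero (show (1 : F) = 0 by linear_combination 3 * h2 - hs)
    refine six_point hF hHM hq hMK hζ (fun d h1 h3 h => ?_) hm hm1 hcols hx.1 hall hXM hX hk
    have hd : q + 1 ∣ 6 * d := hord ▸ orderOf_dvd_of_pow_eq_one h
    have hodd := not_two_dvd_of_two_eq_zero hF h2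
    have := Nat.le_of_dvd (by omega) hd
    interval_cases d <;> (have : q ≤ 17 := by omega) <;> interval_cases q <;> omega
  · refine six_pair hF hHM (by omega) h2 hMK hζ (fun d h1 h3 h => ?_) hm hm1 hx.1 hall hXM hX
    have hd : q + 1 ∣ 3 * d := hord ▸ orderOf_dvd_of_pow_eq_one h
    have := Nat.le_of_dvd (by omega) hd
    interval_cases d <;> (have : q ≤ 8 := by omega) <;> interval_cases q <;> omega

end Six

end Cfsg.Agent.Unitary
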