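import Cfsg.Agent.Lib.Unitary.LagPair
import Cfsg.Agent.Lib.Unitary.IsoVec
/-
The orthogonal subfield subgroup of the special unitary group is maximal (q odd).
* RatData (rational structure), RatData.mem_of_map, isMaximalIn_orth_subfield
-/
set_option autoImplicit false

namespace Cfsg.Agent.Unitary

open scoped Matrix

variable {F : Type*} [Field F] [Fintype F] {q n : ℕ}

theorem mem_subfield_iff_pow (hF : Fintype.card F = q ^ 2) {F₀ : Subfield F}
    (hcard : Fintype.card F = Nat.card F₀ ^ 2) {x : F} : x ∈ F₀ ↔ x ^ q = x := by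
  have hc : Nat.card F₀ = q := Nat.pow_left_injective (n := 2) (by norm_num) (hcard.symm.trans hF)
  have hle : ∀ y ∈ F₀, y ^ q = y := by
    intro y hy
    classical
    have h := FiniteField.pow_card (⟨y, hy⟩ : F₀)
    rw [← Nat.card_eq_fintype_card, hc] at h
    exact congrArg Subtype.val h
  refine ⟨hle x, fun hx => ?_⟩
  have hsub : (F₀ : Set F) ⊆ {y | y ^ q = y} := hle
  have heq : (F₀ : Set F) = {y | y ^ q = y} := by
    refine Set.eq_of_subset_of_ncard_le hsub ?_ (Set.toFinite _)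
    rw [← Nat.card_coe_set_eq, ← Nat.card_coe_set_eq]
    show Nat.card {y : F // y ^ q = y} ≤ Nat.card F₀
    rw [card_fixed hF, hc]
  show x ∈ (F₀ : Set F)
  rw [heq]; exact hx

/-- g is x ↦ x + h(x,a) b - h(x,b) a + γ h(x,a) a. -/
def IsEichG (q : ℕ) (g : Matrix.GeneralLinearGroup (Fin n) F) (a b : Fin n → F) (γ : F) : Prop :=
  ∀ x, (g : Matrix (Fin n) (Fin n) F) *ᵥ x =
    x + Cfsg.hermForm n F q x a • b - Cfsg.hermForm n F q x b • a +
      (γ * Cfsg.hermForm n F q x a) • a

theorem IsEich.general {g : Matrix.GeneralLinearGroup (Fin n) F} {a b : Fin n → F}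
    (h : IsEich q g a b) : IsEichG q g a b 0 := fun x => by
  rw [h x, zero_mul, zero_smul, add_zero]

theorem IsEichG.mul (hF : Fintype.card F = q ^ 2) {g g' : Matrix.GeneralLinearGroup (Fin n) F}
    {a b b' : Fin n → F} {γ γ' : F} (h : IsEichG q g a b γ) (h' : IsEichG q g' a b' γ')
    (ha : Cfsg.hermForm n F q a a = 0) (hb : Cfsg.hermForm n F q a b = 0)
    (hb' : Cfsg.hermForm n F q a b' = 0) :
    IsEichG q (g * g') a (b + b') (γ + γ' - Cfsg.hermForm n F q b' b) := by
  have H := hermForm_isHerm hF n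
  intro x
  rw [Units.val_mul, ← Matrix.mulVec_mulVec, h', h]
  simp only [H.add_left, H.sub_left, H.smul_left, H.add_right hF, ha, hb, hb',
    (H.eq_zero_symm hF).1 hb, (H.eq_zero_symm hF).1 hb']
  module

theorem IsEichG.inv (hF : Fintype.card F = q ^ 2) {g : Matrix.GeneralLinearGroup (Fin n) F}
    {a b : Fin n → F} {γ : F} (h : IsEichG q g a b γ)
    (ha : Cfsg.hermForm n F q a a = 0) (hb : Cfsg.hermForm n F q a b = 0) :
    IsEichG q g⁻¹ a (-b) (-γ - Cfsg.hermForm n F q b b) := by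
  have H := hermForm_isHerm hF n
  intro x
  obtain ⟨y, rfl⟩ : ∃ y, (g : Matrix (Fin n) (Fin n) F) *ᵥ y = x :=
    Matrix.mulVec_surjective_iff_isUnit.2 (Units.isUnit g) x
  rw [Matrix.mulVec_mulVec, ← Units.val_mul, inv_mul_cancel, Units.val_one, Matrix.one_mulVec, h]
  simp only [H.add_left, H.sub_left, H.smul_left, H.neg_right hF, ha, hb,
    (H.eq_zero_symm hF).1 hb]
  module

theorem IsEichG.conj (hF : Fintype.card F = q ^ 2) {g e : Matrix.GeneralLinearGroup (Fin n) F}
    {a b : Fin n → F} {γ : F} (hg : g ∈ suGL n F q) (he : IsEichG q e a b γ)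
    (ha : (g : Matrix (Fin n) (Fin n) F) *ᵥ a = a) :
    IsEichG q (g * e * g⁻¹) a ((g : Matrix (Fin n) (Fin n) F) *ᵥ b) γ := by
  have _ := hF
  intro x
  obtain ⟨y, rfl⟩ : ∃ y, (g : Matrix (Fin n) (Fin n) F) *ᵥ y = x :=
    Matrix.mulVec_surjective_iff_isUnit.2 (Units.isUnit g) x
  rw [Matrix.mulVec_mulVec, ← Units.val_mul, inv_mul_cancel_right, Units.val_mul,
    ← Matrix.mulVec_mulVec, he, Matrix.mulVec_add, Matrix.mulVec_sub, Matrix.mulVec_add,
    Matrix.mulVec_smul, Matrix.mulVec_smul, Matrix.mulVec_smul, ha, mem_suGL_herm hg,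
    show Cfsg.hermForm n F q ((g : Matrix (Fin n) (Fin n) F) *ᵥ y) a = Cfsg.hermForm n F q y a by
      conv_lhs => rw [← ha]
      rw [mem_suGL_herm hg]]

/-- A rational structure on which the form is F₀-valued, and a skew element. -/
structure RatData (q : ℕ) (F₀ : Subfield F) (P : Matrix.GeneralLinearGroup (Fin n) F) (δ : F) : Prop where
  card : Fintype.card F = q ^ 2
  odd : (2 : F) ≠ 0
  mem : ∀ {x : F}, x ∈ F₀ ↔ x ^ q = x
  rat : ∀ u v : Fin n → F, (∀ i, u i ∈ F₀) → (∀ i, v i ∈ F₀) →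
    Cfsg.hermForm n F q ((P : Matrix (Fin n) (Fin n) F) *ᵥ u) ((P : Matrix (Fin n) (Fin n) F) *ᵥ v) ∈ F₀
  skew0 : δ ≠ 0
  skew : δ ^ q = -δ

variable {F₀ : Subfield F} {P : Matrix.GeneralLinearGroup (Fin n) F} {δ : F}

/-- The embedding of the rational structure. -/
def ratEmb (P : Matrix.GeneralLinearGroup (Fin n) F) (F₀ : Subfield F) :
    (Fin n → F₀) →ₗ[F₀] (Fin n → F) where
  toFun u := (P : Matrix (Fin n) (Fin n) F) *ᵥ fun i => (u i : F)
  map_add' u v := by rw [← Matrix.mulVec_add]; rfl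
  map_smul' c u := by
    rw [RingHom.id_apply, ← Matrix.mulVec_smul]; rfl

theorem ratEmb_smul (c : F₀) (u : Fin n → F₀) : ratEmb P F₀ (c • u) = (c : F) • ratEmb P F₀ u :=
  map_smul (ratEmb P F₀) c u

namespace RatData

variable (D : RatData q F₀ P δ)
include D

theorem val_pow (c : F₀) : (c : F) ^ q = c := D.mem.1 c.2

theorem coeff_unique {a b : F₀} (h : (a : F) + δ * b = 0) : a = 0 ∧ b = 0 := by
  have h' := congrArg (fun z : F => z ^ q) h
  simp only [add_pow_q D.card, mul_pow, D.val_pow, D.skew, zero_pow_q D.card] at h'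
  have ha : (a : F) = 0 := (mul_eq_zero.1 (show (2 : F) * (a : F) = 0 by linear_combination h + h')).resolve_left D.odd
  refine ⟨Subtype.ext ha, Subtype.ext ?_⟩
  rw [ha, zero_add, mul_eq_zero] at h
  exact h.resolve_left D.skew0

theorem coeff_exists (x : F) : ∃ a b : F₀, x = a + δ * b := by
  refine ⟨⟨(x + x ^ q) / 2, D.mem.2 ?_⟩, ⟨(x - x ^ q) / (2 * δ), D.mem.2 ?_⟩, ?_⟩
  · rw [div_pow, trace_fixed D.card]
    congr 1
    rw [show (2 : F) = 1 + 1 by norm_num, add_pow_q D.card, one_pow]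
  · rw [div_pow, mul_pow, sub_pow_q D.card, pow_q_pow_q D.card, D.skew,
      show (2 : F) ^ q = 2 by rw [show (2 : F) = 1 + 1 by norm_num, add_pow_q D.card, one_pow],
      mul_neg, div_neg, ← neg_div, neg_sub]
  · have := D.odd
    have := D.skew0
    show x = (x + x ^ q) / 2 + δ * ((x - x ^ q) / (2 * δ))
    field_simp
    ring

theorem emb_inj {u : Fin n → F₀} (h : ratEmb P F₀ u = 0) : u = 0 := by
  have _ := D
  have h' : (fun i => (u i : F)) = 0 :=
    Matrix.mulVec_injective_iff_isUnit.2 (Units.isUnit P) (h.trans (Matrix.mulVec_zero _).symm)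
  exact funext fun i => Subtype.ext (congrFun h' i)

theorem split (v : Fin n → F) : ∃ x y, v = ratEmb P F₀ x + δ • ratEmb P F₀ y := by
  obtain ⟨w, hw⟩ := Matrix.mulVec_surjective_iff_isUnit.2 (Units.isUnit P) v
  choose a b hab using fun i => D.coeff_exists (w i)
  refine ⟨a, b, ?_⟩
  rw [← hw]
  show _ = (P : Matrix (Fin n) (Fin n) F) *ᵥ _ + δ • ((P : Matrix (Fin n) (Fin n) F) *ᵥ _)
  rw [← Matrix.mulVec_smul, ← Matrix.mulVec_add]
  congr 1
  funext i
  simp [hab i]

theorem split_unique {x y x' y' : Fin n → F₀}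
    (h : ratEmb P F₀ x + δ • ratEmb P F₀ y = ratEmb P F₀ x' + δ • ratEmb P F₀ y') :
    x = x' ∧ y = y' := by
  have h' : (fun i => (x i : F) + δ * y i) = fun i => (x' i : F) + δ * y' i := by
    apply Matrix.mulVec_injective_iff_isUnit.2 (Units.isUnit P)
    have e : ∀ a b : Fin n → F₀, (P : Matrix (Fin n) (Fin n) F) *ᵥ (fun i => (a i : F) + δ * b i) =
        ratEmb P F₀ a + δ • ratEmb P F₀ b := fun a b => by
      show _ = (P : Matrix (Fin n) (Fin n) F) *ᵥ _ + δ • ((P : Matrix (Fin n) (Fin n) F) *ᵥ _)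
      rw [← Matrix.mulVec_smul, ← Matrix.mulVec_add]; rfl
    rw [e, e, h]
  have hi := fun i => D.coeff_unique (a := x i - x' i) (b := y i - y' i) (by
    push_cast
    linear_combination congrFun h' i)
  exact ⟨funext fun i => sub_eq_zero.1 (hi i).1, funext fun i => sub_eq_zero.1 (hi i).2⟩

/-- The symmetric form on the rational structure. -/
noncomputable def bil : LinearMap.BilinForm F₀ (Fin n → F₀) :=
  LinearMap.mk₂ F₀
    (fun u v => ⟨Cfsg.hermForm n F q (ratEmb P F₀ u) (ratEmb P F₀ v),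
      D.rat _ _ (fun i => (u i).2) (fun i => (v i).2)⟩)
    (fun u u' v => Subtype.ext (by simp [(hermForm_isHerm D.card n).add_left]))
    (fun c u v => Subtype.ext (by
      show Cfsg.hermForm n F q _ _ = (c : F) * Cfsg.hermForm n F q _ _
      rw [ratEmb_smul, (hermForm_isHerm D.card n).smul_left]))
    (fun u v v' => Subtype.ext (by simp [(hermForm_isHerm D.card n).add_right D.card]))
    (fun c u v => Subtype.ext (by
      show Cfsg.hermForm n F q _ _ = (c : F) * Cfsg.hermForm n F q _ _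
      rw [ratEmb_smul, (hermForm_isHerm D.card n).smul_right, D.val_pow]))

theorem bil_val (u v : Fin n → F₀) :
    (D.bil u v : F) = Cfsg.hermForm n F q (ratEmb P F₀ u) (ratEmb P F₀ v) := rfl

theorem bil_symm (u v : Fin n → F₀) : D.bil u v = D.bil v u := by
  refine Subtype.ext ?_
  rw [bil_val, bil_val, (hermForm_isHerm D.card n).conj_symm (ratEmb P F₀ v), ← D.bil_val, D.val_pow]

theorem herm_right (u x y : Fin n → F₀) :
    Cfsg.hermForm n F q (ratEmb P F₀ x + δ • ratEmb P F₀ y) (ratEmb P F₀ u) =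
      (D.bil x u : F) + δ * D.bil y u := by
  rw [(hermForm_isHerm D.card n).add_left, (hermForm_isHerm D.card n).smul_left, bil_val, bil_val]

theorem herm_left (u x y : Fin n → F₀) :
    Cfsg.hermForm n F q (ratEmb P F₀ u) (ratEmb P F₀ x + δ • ratEmb P F₀ y) =
      (D.bil x u : F) - δ * D.bil y u := by
  rw [(hermForm_isHerm D.card n).add_right D.card, (hermForm_isHerm D.card n).smul_right, D.skew,
    ← D.bil_val, ← D.bil_val, D.bil_symm u x, D.bil_symm u y]
  ring

theorem bil_nondeg (u : Fin n → F₀) (h : ∀ v, D.bil u v = 0) : u = 0 := by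
  refine D.emb_inj (hermForm_nondeg D.card n _ fun z => ?_)
  obtain ⟨x, y, rfl⟩ := D.split z
  rw [D.herm_left, D.bil_symm x, D.bil_symm y, h, h]
  simp

theorem iso_iff (x y : Fin n → F₀) :
    Cfsg.hermForm n F q (ratEmb P F₀ x + δ • ratEmb P F₀ y)
        (ratEmb P F₀ x + δ • ratEmb P F₀ y) = 0 ↔
      (D.bil x x : F) - δ ^ 2 * D.bil y y = 0 := by
  have H := hermForm_isHerm D.card n
  have e : Cfsg.hermForm n F q (ratEmb P F₀ x + δ • ratEmb P F₀ y)
        (ratEmb P F₀ x + δ • ratEmb P F₀ y) = (D.bil x x : F) - δ ^ 2 * D.bil y y := by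
    simp only [H.add_left, H.add_right D.card, H.smul_left, H.smul_right, D.skew, ← D.bil_val,
      D.bil_symm y x]
    ring
  rw [e]

theorem two_ne : (2 : F₀) ≠ 0 := fun h => D.odd (congrArg Subtype.val h)

/-- An element mapping the rational structure to a multiple of itself lies in the subfield subgroup. -/
theorem mem_of_map {g : Matrix.GeneralLinearGroup (Fin n) F} {l : F} (hl : l ≠ 0)
    (h : ∀ u, ∃ v, (g : Matrix (Fin n) (Fin n) F) *ᵥ ratEmb P F₀ u = l • ratEmb P F₀ v) :
    g ∈ Cfsg.Geo.subfieldSubgroup F₀ P := by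
  choose v hv using fun j : Fin n => h (Pi.single j 1)
  let A : Matrix (Fin n) (Fin n) F₀ := Matrix.of fun i j => v j i
  let s : Matrix.GeneralLinearGroup (Fin n) F :=
    Units.map (Matrix.scalar (Fin n) : F →+* Matrix (Fin n) (Fin n) F).toMonoidHom (Units.mk0 l hl)
  let X : Matrix.GeneralLinearGroup (Fin n) F := s⁻¹ * (P⁻¹ * g * P)
  have hsv : ∀ w : Fin n → F, (s : Matrix (Fin n) (Fin n) F) *ᵥ w = l • w := fun w => by
    show Matrix.scalar (Fin n) l *ᵥ w = _
    ext i; simp [Matrix.mulVec_diagonal]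
  have hX : (X : Matrix (Fin n) (Fin n) F) = A.map (fun z : F₀ => (z : F)) := by
    refine Matrix.ext_of_mulVec_single fun j => ?_
    apply Matrix.mulVec_injective_iff_isUnit.2 (Units.isUnit s)
    apply Matrix.mulVec_injective_iff_isUnit.2 (Units.isUnit P)
    conv_lhs => rw [Matrix.mulVec_mulVec, Matrix.mulVec_mulVec, ← Units.val_mul, ← Units.val_mul,
      show P * s * X = g * P by simp [X, mul_assoc], Units.val_mul, ← Matrix.mulVec_mulVec]
    rw [hsv, Matrix.mulVec_smul]
    have e1 : (fun i => ((Pi.single j 1 : Fin n → F₀) i : F)) = Pi.single j 1 := by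
      funext i; by_cases hij : i = j
      · subst hij; simp
      · simp [hij]
    have e2 : A.map (fun z : F₀ => (z : F)) *ᵥ Pi.single j 1 = fun i => (v j i : F) := by
      rw [Matrix.mulVec_single_one]; rfl
    rw [e2, ← e1]
    exact hv j
  have hdet : IsUnit A.det := by
    rw [isUnit_iff_ne_zero]
    intro h0
    have h1 : (X : Matrix (Fin n) (Fin n) F).det = (A.det : F) := by
      rw [hX]; exact (RingHom.map_det F₀.subtype A).symm
    exact (X.isUnit.map Matrix.detMonoidHom).ne_zero (h1.trans (by rw [h0]; rfl))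
  have hXr : X ∈ (Matrix.GeneralLinearGroup.map (F₀.subtype : F₀ →+* F)).range :=
    ⟨Matrix.GeneralLinearGroup.mk'' A hdet, Units.ext hX.symm⟩
  have hs : s ∈ Cfsg.Geo.scalars (Fin n) F := ⟨_, rfl⟩
  refine ⟨s * X, mul_mem (Subgroup.mem_sup_right hs) (Subgroup.mem_sup_left hXr), ?_⟩
  show P * (s * X) * P⁻¹ = g
  simp [X]; group

/-- The subfield subgroup maps the rational structure to a multiple of itself. -/
theorem map_of_mem {g : Matrix.GeneralLinearGroup (Fin n) F}
    (hg : g ∈ Cfsg.Geo.subfieldSubgroup F₀ P) :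
    ∃ l : F, ∀ u, ∃ v, (g : Matrix (Fin n) (Fin n) F) *ᵥ ratEmb P F₀ u = l • ratEmb P F₀ v := by
  have _ := D
  let S : Subgroup (Matrix.GeneralLinearGroup (Fin n) F) :=
    (Matrix.GeneralLinearGroup.map (F₀.subtype : F₀ →+* F)).range
  obtain ⟨y, hy, rfl⟩ := hg
  let T : Submonoid (Matrix.GeneralLinearGroup (Fin n) F) :=
    { carrier := {y | ∃ l : F, ∀ u : Fin n → F₀, ∃ v : Fin n → F₀,
        (y : Matrix (Fin n) (Fin n) F) *ᵥ (fun i => (u i : F)) = l • fun i => (v i : F)}
      one_mem' := ⟨1, fun u => ⟨u, by simp⟩⟩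
      mul_mem' := by
        rintro a b ⟨la, ha⟩ ⟨lb, hb⟩
        refine ⟨lb * la, fun u => ?_⟩
        obtain ⟨v, hv⟩ := hb u
        obtain ⟨w, hw⟩ := ha v
        exact ⟨w, by rw [Units.val_mul, ← Matrix.mulVec_mulVec, hv, Matrix.mulVec_smul, hw, smul_smul]⟩ }
  have hyT : y ∈ T := by
    rw [Subgroup.sup_eq_closure] at hy
    induction hy using Subgroup.closure_induction_left with
    | one => exact T.one_mem
    | mul_left a ha b _ ihb =>
      refine T.mul_mem ?_ ihb
      rcases ha with ⟨A, rfl⟩ | ⟨c, rfl⟩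
      · refine ⟨1, fun u => ⟨(A : Matrix (Fin n) (Fin n) F₀) *ᵥ u, ?_⟩⟩
        rw [one_smul]
        funext i
        exact (RingHom.map_mulVec F₀.subtype _ u i).symm
      · exact ⟨c, fun u => ⟨u, by
          show Matrix.scalar (Fin n) (c : F) *ᵥ _ = _
          ext i; simp [Matrix.mulVec_diagonal]⟩⟩
    | inv_mul_cancel a ha b _ ihb =>
      refine T.mul_mem ?_ ihb
      rcases ha with ⟨A, rfl⟩ | ⟨c, rfl⟩
      · rw [← map_inv]
        refine ⟨1, fun u => ⟨((A⁻¹ : Matrix.GeneralLinearGroup (Fin n) F₀) :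
          Matrix (Fin n) (Fin n) F₀) *ᵥ u, ?_⟩⟩
        rw [one_smul]
        funext i
        exact (RingHom.map_mulVec F₀.subtype _ u i).symm
      · rw [← map_inv]
        exact ⟨((c⁻¹ : Fˣ) : F), fun u => ⟨u, by
          show Matrix.scalar (Fin n) ((c⁻¹ : Fˣ) : F) *ᵥ _ = _
          ext i; simp [Matrix.mulVec_diagonal]⟩⟩
  obtain ⟨l, hl⟩ := hyT
  refine ⟨l, fun u => ?_⟩
  obtain ⟨v, hv⟩ := hl u
  refine ⟨v, ?_⟩
  show ((P * y * P⁻¹ : Matrix.GeneralLinearGroup (Fin n) F) : Matrix (Fin n) (Fin n) F) *ᵥ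
    ((P : Matrix (Fin n) (Fin n) F) *ᵥ _) = l • ((P : Matrix (Fin n) (Fin n) F) *ᵥ _)
  rw [Matrix.mulVec_mulVec, ← Units.val_mul, inv_mul_cancel_right, Units.val_mul,
    ← Matrix.mulVec_mulVec, hv, Matrix.mulVec_smul]

/-- Eichler elements of orthogonal singular rational vectors are in the subfield subgroup. -/
theorem exists_rat_eich {r s : Fin n → F₀} (hr : D.bil r r = 0) (hs : D.bil s s = 0)
    (hrs : D.bil r s = 0) :
    ∃ g ∈ Cfsg.Geo.subfieldSubgroup F₀ P ⊓ suGL n F q,
      IsEich q g (ratEmb P F₀ r) (ratEmb P F₀ s) := by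
  obtain ⟨g, hg, he⟩ := eich_exists D.card (a := ratEmb P F₀ r) (b := ratEmb P F₀ s)
    (congrArg Subtype.val hr) (congrArg Subtype.val hs) (congrArg Subtype.val hrs)
  refine ⟨g, ⟨D.mem_of_map one_ne_zero fun u => ⟨u + D.bil u r • s - D.bil u s • r, ?_⟩, hg⟩, he⟩
  rw [he, one_smul, map_sub, map_add, ratEmb_smul, ratEmb_smul, ← D.bil_val, ← D.bil_val]

section Overgroup

variable {M : Subgroup (Matrix.GeneralLinearGroup (Fin n) F)}
  (hHM : Cfsg.Geo.subfieldSubgroup F₀ P ⊓ suGL n F q ≤ M) (hn : 6 ≤ n)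
include hHM hn

theorem exists_pairing {m : ℕ} (hm : m ≤ 1) (T : Fin m → Fin n → F₀) {z : Fin n → F₀}
    (hz : z ∉ Submodule.span F₀ (Set.range T)) :
    ∃ s, D.bil s s = 0 ∧ (∀ i, D.bil (T i) s = 0) ∧ D.bil z s = 1 := by
  have _ := hHM
  exact exists_singular_pairing D.bil_symm D.bil_nondeg D.two_ne T
    (by rw [Module.finrank_fin_fun]; omega) hz

theorem exists_outside {m : ℕ} (hm : m ≤ 1) (T : Fin m → Fin n → F₀) :
    ∃ r, D.bil r r = 0 ∧ (∀ i, D.bil (T i) r = 0) ∧ r ∉ Submodule.span F₀ (Set.range T) := by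
  obtain ⟨z, hz1, hz⟩ := exists_ortho_outside D.bil_symm D.bil_nondeg T
    (by rw [Module.finrank_fin_fun]; omega)
  obtain ⟨s, hss, hTs, hzs⟩ := D.exists_pairing hHM hn hm T hz
  refine ⟨s, hss, hTs, fun hmem => one_ne_zero (hzs.symm.trans ?_)⟩
  rw [D.bil_symm]
  exact (Submodule.span_le (p := LinearMap.ker ((LinearMap.flip D.bil) z))).2
    (by rintro _ ⟨i, rfl⟩; exact hz1 i) hmem

/-- From an element outside, a rational centre. -/
theorem exists_centre {g : Matrix.GeneralLinearGroup (Fin n) F} (hgM : g ∈ M)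
    (hg : g ∈ suGL n F q) (hgH : g ∉ Cfsg.Geo.subfieldSubgroup F₀ P) :
    ∃ r, r ≠ 0 ∧ D.bil r r = 0 ∧ ratEmb P F₀ r ∈ centres q M := by
  have hF := D.card
  have H := hermForm_isHerm hF n
  have hG := mem_suGL_herm hg
  let G := (g : Matrix (Fin n) (Fin n) F)
  have hinj : Function.Injective (fun w => G *ᵥ w) :=
    Matrix.mulVec_injective_iff_isUnit.2 (Units.isUnit g)
  -- a singular vector with irrational image
  obtain ⟨r, hr, x, y, hgr, hxy⟩ : ∃ r, D.bil r r = 0 ∧ ∃ x y,
      G *ᵥ ratEmb P F₀ r = ratEmb P F₀ x + δ • ratEmb P F₀ y ∧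
      LinearIndependent F₀ ![x, y] := by
    by_contra hc
    simp only [not_exists, not_and] at hc
    have line : ∀ r, D.bil r r = 0 → ∃ (l : F) (v : Fin n → F₀),
        G *ᵥ ratEmb P F₀ r = l • ratEmb P F₀ v := by
      intro r hr
      obtain ⟨x, y, hxy⟩ := D.split (G *ᵥ ratEmb P F₀ r)
      have h := hc r hr x y hxy
      rw [LinearIndependent.pair_iff] at h
      simp only [not_forall] at h
      obtain ⟨a, b, hab, h⟩ := h
      rw [hxy]
      rcases eq_or_ne b 0 with rfl | hb
      · have ha : a ≠ 0 := fun ha => h ⟨ha, rfl⟩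
        rw [zero_smul, add_zero, smul_eq_zero] at hab
        exact ⟨δ, y, by rw [hab.resolve_left ha, map_zero, zero_add]⟩
      · refine ⟨1 + δ * ((-(b⁻¹ * a) : F₀) : F), x, ?_⟩
        have hy : y = (-(b⁻¹ * a) : F₀) • x := by
          rw [← inv_smul_smul₀ hb y, eq_neg_of_add_eq_zero_right hab]
          module
        rw [hy, ratEmb_smul]
        module
    obtain ⟨r1, hr1, -, hr10⟩ := D.exists_outside hHM hn (m := 0) (by omega) Fin.elim0
    have hr10' : r1 ≠ 0 := fun h => hr10 (by simp [h])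
    obtain ⟨l1, v1, h1⟩ := line r1 hr1
    have hl1 : l1 ≠ 0 := by
      rintro rfl
      rw [zero_smul] at h1
      exact hr10' (D.emb_inj (hinj (h1.trans (Matrix.mulVec_zero _).symm)))
    let L : Submodule F₀ (Fin n → F₀) :=
      { carrier := {u | ∃ v, G *ᵥ ratEmb P F₀ u = l1 • ratEmb P F₀ v}
        zero_mem' := ⟨0, by simp⟩
        add_mem' := by
          rintro a b ⟨va, ha⟩ ⟨vb, hb⟩
          exact ⟨va + vb, by rw [map_add, Matrix.mulVec_add, ha, hb, map_add, smul_add]⟩
        smul_mem' := by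
          rintro c a ⟨va, ha⟩
          exact ⟨c • va, by rw [ratEmb_smul, ratEmb_smul, Matrix.mulVec_smul, ha, smul_comm]⟩ }
    have step : ∀ a b, a ∈ L → D.bil b b = 0 → D.bil a b ≠ 0 → b ∈ L := by
      rintro a b ⟨va, ha⟩ hb hab
      obtain ⟨l, v, h⟩ := line b hb
      have e := hG (ratEmb P F₀ b) (ratEmb P F₀ a)
      rw [show (g : Matrix (Fin n) (Fin n) F) = G from rfl, h, ha, H.smul_left, H.smul_right,
        ← D.bil_val, ← D.bil_val] at e
      have hne : D.bil v va ≠ 0 := fun h0 => hab (by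
        rw [D.bil_symm]; refine Subtype.ext ?_
        rw [← e, h0]; simp)
      have hN : (l1 ^ (q + 1)) ^ q = l1 ^ (q + 1) := pow_q_succ_fixed hF l1
      refine ⟨(⟨D.bil b a / (l1 ^ (q + 1) * D.bil v va), D.mem.2 (by
        rw [div_pow, mul_pow, hN, D.val_pow, D.val_pow])⟩ : F₀) • v, ?_⟩
      have hne' : (D.bil v va : F) ≠ 0 := fun h0 => hne (Subtype.ext h0)
      have key : l = l1 * ((D.bil b a : F) / (l1 ^ (q + 1) * D.bil v va)) := by
        rw [← e, pow_succ]
        field_simp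
      rw [h, ratEmb_smul, smul_smul]
      exact congrArg (· • ratEmb P F₀ v) key
    have hall : ∀ b, D.bil b b = 0 → b ∈ L := by
      intro b hb
      rcases eq_or_ne b 0 with rfl | hb0
      · exact L.zero_mem
      by_cases hdep : b ∈ Submodule.span F₀ (Set.range ![r1])
      · obtain ⟨c, rfl⟩ : ∃ c : F₀, c • r1 = b := by
          simpa [Submodule.mem_span_singleton] using hdep
        exact L.smul_mem c ⟨v1, h1⟩
      obtain ⟨z, hz⟩ : ∃ z, z = b - r1 := ⟨_, rfl⟩
      have hr1z : r1 ∉ Submodule.span F₀ (Set.range ![z]) := by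
        intro h
        obtain ⟨c, hc'⟩ : ∃ c : F₀, c • z = r1 := by
          simpa [Submodule.mem_span_singleton] using h
        rcases eq_or_ne c 0 with rfl | hc0
        · exact hr10' (by simpa using hc'.symm)
        · refine hdep ?_
          have : b = (1 + c⁻¹) • r1 := by
            have := congrArg (fun w => c⁻¹ • w) hc'
            simp only [inv_smul_smul₀ hc0, hz] at this
            rw [add_smul, one_smul, ← this]; abel
          rw [this]
          exact Submodule.smul_mem _ _ (Submodule.subset_span ⟨0, rfl⟩)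
      obtain ⟨s, hs, hzs, h1s⟩ := D.exists_pairing hHM hn (by omega) ![z] hr1z
      have hbs : D.bil b s = 1 := by
        have := hzs 0
        rw [Matrix.cons_val_zero, hz, map_sub, LinearMap.sub_apply, h1s, sub_eq_zero] at this
        exact this
      refine step s b (step r1 s ⟨v1, h1⟩ hs (by rw [h1s]; exact one_ne_zero)) hb ?_
      rw [D.bil_symm, hbs]; exact one_ne_zero
    refine hgH (D.mem_of_map hl1 fun u => ?_)
    show u ∈ L
    by_contra hu
    obtain ⟨z, hzL, huz⟩ := exists_bilin_dual D.bil_symm D.bil_nondeg hu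
    have : z = 0 := eq_zero_of_singular D.bil_symm D.bil_nondeg D.two_ne
      (by rw [Module.finrank_fin_fun]; omega) fun s hs => by rw [D.bil_symm]; exact hzL s (hall s hs)
    rw [this, map_zero] at huz
    exact zero_ne_one huz
  have hr0 : r ≠ 0 := by
    rintro rfl
    have : ratEmb P F₀ x + δ • ratEmb P F₀ y = ratEmb P F₀ 0 + δ • ratEmb P F₀ (0 : Fin n → F₀) := by
      rw [← hgr]; simp
    exact hxy.ne_zero 0 (D.split_unique this).1
  set a := G *ᵥ ratEmb P F₀ r with ha_def
  have ha : Cfsg.hermForm n F q a a = 0 := (hG _ _).trans (congrArg Subtype.val hr)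
  -- the only vectors orthogonal to every image are on the line of a
  have detect : ∀ w : Fin n → F₀, (∀ s, D.bil s s = 0 → D.bil r s = 0 →
      Cfsg.hermForm n F q (G *ᵥ ratEmb P F₀ s) (ratEmb P F₀ w) = 0) →
      ∃ c : F, ratEmb P F₀ w = c • a := by
    intro w hw
    obtain ⟨Z, hZ⟩ : ∃ Z, G *ᵥ Z = ratEmb P F₀ w :=
      Matrix.mulVec_surjective_iff_isUnit.2 (Units.isUnit g) _
    obtain ⟨z1, z2, hZs⟩ := D.split Z
    have hall : ∀ s, D.bil s s = 0 → D.bil r s = 0 → D.bil z1 s = 0 ∧ D.bil z2 s = 0 := by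
      intro s hs hrs
      have h := hw s hs hrs
      rw [← hZ, hG, H.eq_zero_symm hF, hZs, D.herm_right] at h
      exact D.coeff_unique h
    have hz : ∀ z : Fin n → F₀, (∀ s, D.bil s s = 0 → D.bil r s = 0 → D.bil z s = 0) →
        ∃ c : F₀, c • r = z := by
      intro z hz
      by_contra hzr
      obtain ⟨s, hs, hTs, hzs⟩ := D.exists_pairing hHM hn (by omega) ![r]
        (show z ∉ Submodule.span F₀ (Set.range ![r]) by
          simpa [Submodule.mem_span_singleton] using hzr)
      exact one_ne_zero (hzs.symm.trans (hz s hs (hTs 0)))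
    obtain ⟨c1, rfl⟩ := hz z1 fun s a b => (hall s a b).1
    obtain ⟨c2, rfl⟩ := hz z2 fun s a b => (hall s a b).2
    refine ⟨(c1 : F) + δ * c2, ?_⟩
    rw [← hZ, hZs, ha_def, ← Matrix.mulVec_smul, ratEmb_smul, ratEmb_smul, smul_smul, ← add_smul]
  -- such a line contains no nonzero rational vector
  have irrat : ∀ w : Fin n → F₀, w ≠ 0 → ∀ c : F, ratEmb P F₀ w ≠ c • a := by
    intro w hw c he'
    obtain ⟨c1, c2, rfl⟩ := D.coeff_exists c
    obtain ⟨e, he⟩ : ∃ e : F₀, (e : F) = δ ^ 2 :=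
      ⟨⟨δ ^ 2, D.mem.2 (by rw [← pow_mul, mul_comm, pow_mul, D.skew, neg_sq])⟩, rfl⟩
    have e1 : ratEmb P F₀ w + δ • ratEmb P F₀ (0 : Fin n → F₀) =
        ratEmb P F₀ (c1 • x + (e * c2) • y) + δ • ratEmb P F₀ (c2 • x + c1 • y) := by
      rw [map_zero, smul_zero, add_zero, he', hgr, map_add, map_add, ratEmb_smul, ratEmb_smul,
        ratEmb_smul, ratEmb_smul, Subfield.coe_mul, he]
      module
    obtain ⟨h1, h2⟩ := D.split_unique e1
    obtain ⟨h3, h4⟩ := LinearIndependent.pair_iff.1 hxy c2 c1 h2.symm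
    exact hw (by rw [h1, h3, h4]; simp)
  have hiso : D.bil x x = ⟨δ ^ 2, D.mem.2 (by rw [← pow_mul, mul_comm, pow_mul, D.skew, neg_sq])⟩ *
      D.bil y y := Subtype.ext (by
    rw [Subfield.coe_mul]
    exact sub_eq_zero.1 ((D.iso_iff x y).1 (hgr ▸ ha)))
  -- a singular r' orthogonal to x and y, an anisotropic w orthogonal to x, y, r', and the image of some s
  obtain ⟨r', w, s, c, d, hr', hxr, hyr, hxw, hyw, hr'w, hww, hs, hrs, hν0, hcd, hr'0, hy'0'⟩ :
      ∃ (r' w s : Fin n → F₀) (c d : F₀), D.bil r' r' = 0 ∧ D.bil x r' = 0 ∧ D.bil y r' = 0 ∧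
        D.bil x w = 0 ∧ D.bil y w = 0 ∧ D.bil r' w = 0 ∧ D.bil w w ≠ 0 ∧
        D.bil s s = 0 ∧ D.bil r s = 0 ∧
        Cfsg.hermForm n F q (G *ᵥ ratEmb P F₀ s) (ratEmb P F₀ r') ≠ 0 ∧
        Cfsg.hermForm n F q (G *ᵥ ratEmb P F₀ s) (ratEmb P F₀ r') ^ q = (c : F) + δ * d ∧
        r' ≠ 0 ∧ d • x + c • y ∉ Submodule.span F₀ (Set.range ![r']) := by
    have aniso : ∀ {m : ℕ} (T : Fin m → Fin n → F₀), 2 * m ≤ n →
        (2 * m = n → ¬ ∀ i j, D.bil (T i) (T j) = 0) →
        ∃ w, (∀ i, D.bil (T i) w = 0) ∧ D.bil w w ≠ 0 := by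
      intro m T hm hm'
      by_contra hc
      simp only [not_exists, not_and, not_not] at hc
      let f : (Fin n → F₀) →ₗ[F₀] (Fin m → F₀) := LinearMap.pi fun i => D.bil (T i)
      have hKK : ∀ u ∈ LinearMap.ker f, ∀ v ∈ LinearMap.ker f, D.bil u v = 0 := by
        intro u hu v hv
        have h := hc (u + v) fun i => congrFun (LinearMap.mem_ker.1 (add_mem hu hv)) i
        simp only [map_add, LinearMap.add_apply, hc u fun i => congrFun (LinearMap.mem_ker.1 hu) i,
          hc v fun i => congrFun (LinearMap.mem_ker.1 hv) i, D.bil_symm v u, zero_add, add_zero] at h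
        have h2 : (2 : F₀) * D.bil u v = 0 := by linear_combination h
        exact (mul_eq_zero.1 h2).resolve_left D.two_ne
      have hle : LinearMap.ker f ≤ Submodule.span F₀ (Set.range T) := by
        intro u hu
        by_contra hu'
        obtain ⟨v, hv, huv⟩ := exists_bilin_dual D.bil_symm D.bil_nondeg hu'
        exact one_ne_zero (huv.symm.trans (hKK u hu v (LinearMap.mem_ker.2 (funext fun i =>
          hv _ (Submodule.subset_span ⟨i, rfl⟩)))))
      have h2 := LinearMap.finrank_range_add_finrank_ker f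
      have h3 : Module.finrank F₀ (LinearMap.range f) ≤ m :=
        (Submodule.finrank_le _).trans (by simp)
      have h4 : Module.finrank F₀ (Submodule.span F₀ (Set.range T)) ≤ m := by
        simpa [Set.finrank] using finrank_range_le_card (R := F₀) T
      have h1 := Submodule.finrank_mono hle
      rw [Module.finrank_fin_fun] at h2
      refine hm' (by omega) fun i j => ?_
      have hTk : ∀ i, T i ∈ LinearMap.ker f := fun i => by
        rw [Submodule.eq_of_le_of_finrank_le hle (by omega)]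
        exact Submodule.subset_span ⟨i, rfl⟩
      exact hKK _ (hTk i) _ (hTk j)
    have some_s : ∀ w : Fin n → F₀, w ≠ 0 → ∃ s, D.bil s s = 0 ∧ D.bil r s = 0 ∧
        Cfsg.hermForm n F q (G *ᵥ ratEmb P F₀ s) (ratEmb P F₀ w) ≠ 0 := by
      intro w hw
      by_contra! hc
      obtain ⟨c, hc'⟩ := detect w fun s h1 h2 => hc s h1 h2
      exact irrat w hw c hc'
    by_cases hTS : D.bil x y = 0 ∧ D.bil y y = 0
    · obtain ⟨hxy0, hyy⟩ := hTS
      have hxx : D.bil x x = 0 := by rw [hiso, hyy, mul_zero]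
      obtain ⟨w, hw, hww⟩ := aniso ![x, y] (by omega) (fun h => absurd h (by omega))
      have hxw : D.bil x w = 0 := hw 0
      have hyw : D.bil y w = 0 := hw 1
      obtain ⟨s, hs, hrs, hη⟩ := some_s y (hxy.ne_zero 1)
      obtain ⟨c, d, hcd⟩ := D.coeff_exists
        (Cfsg.hermForm n F q (G *ᵥ ratEmb P F₀ s) (ratEmb P F₀ y) ^ q)
      have hyx : D.bil y x = 0 := by rw [D.bil_symm, hxy0]
      by_cases hd : d = 0
      swap
      · refine ⟨y, w, s, c, d, hyy, hxy0, hyy, hxw, hyw, hyw, hww, hs, hrs, hη, hcd,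
          hxy.ne_zero 1, fun h => ?_⟩
        obtain ⟨t, ht⟩ : ∃ t : F₀, t • y = d • x + c • y := by
          simpa [Submodule.mem_span_singleton] using h
        exact hd (LinearIndependent.pair_iff.1 hxy d (c - t) (by rw [sub_smul, ht]; module)).1
      subst hd
      rw [ZeroMemClass.coe_zero, mul_zero, add_zero] at hcd
      have hreal : Cfsg.hermForm n F q (G *ᵥ ratEmb P F₀ s) (ratEmb P F₀ y) = c := by
        rw [← pow_q_pow_q hF (Cfsg.hermForm n F q (G *ᵥ ratEmb P F₀ s) (ratEmb P F₀ y)), hcd,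
          D.val_pow]
      have hc0 : c ≠ 0 := fun h => hη (by rw [hreal, h]; rfl)
      have hab : Cfsg.hermForm n F q (G *ᵥ ratEmb P F₀ s) a = 0 := by
        rw [ha_def, hG, ← D.bil_val, D.bil_symm, hrs]; rfl
      have hbx : Cfsg.hermForm n F q (G *ᵥ ratEmb P F₀ s) (ratEmb P F₀ x) = δ * c := by
        rw [hgr, H.add_right hF, H.smul_right, D.skew, hreal] at hab
        linear_combination hab
      have hsum : Cfsg.hermForm n F q (G *ᵥ ratEmb P F₀ s) (ratEmb P F₀ (x + y)) =
          δ * c + c := by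
        rw [map_add, H.add_right hF, hbx, hreal]
      refine ⟨x + y, w, s, c, -c, by simp [hxx, hyy, hxy0, hyx], by simp [hxx, hxy0],
        by simp [hyy, hyx], hxw, hyw, by simp [hxw, hyw], hww, hs, hrs, ?_, ?_, ?_, fun h => ?_⟩
      · rw [hsum]
        intro h
        exact hc0 (D.coeff_unique (a := c) (b := c) (by linear_combination h)).1
      · rw [hsum, add_pow_q hF, mul_pow, D.skew, D.val_pow]
        push_cast
        ring
      · intro h
        exact one_ne_zero (LinearIndependent.pair_iff.1 hxy 1 1 (by rw [one_smul, one_smul, h])).1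
      · obtain ⟨t, ht⟩ : ∃ t : F₀, t • (x + y) = (-c) • x + c • y := by
          simpa [Submodule.mem_span_singleton] using h
        obtain ⟨h1, h2⟩ := LinearIndependent.pair_iff.1 hxy (-c - t) (c - t) (by
          rw [sub_smul, sub_smul]; rw [smul_add] at ht
          linear_combination (norm := module) -ht)
        have h3 : (2 : F₀) * c = 0 := by linear_combination h2 - h1
        exact hc0 ((mul_eq_zero.1 h3).resolve_left D.two_ne)
    · obtain ⟨r', hr', hr'T, hr'S⟩ := exists_singular_outside D.bil_symm D.bil_nondeg ![x, y]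
        (R := ⊥) (fun z h hz => by
          obtain ⟨c, rfl⟩ := (Submodule.mem_span_range_iff_exists_fun F₀).1 h
          have h1 := hz 0
          have h2 := hz 1
          simp only [Fin.sum_univ_two, Matrix.cons_val_zero, Matrix.cons_val_one, map_add,
            map_smul, smul_eq_mul, hiso, D.bil_symm y x] at h1 h2
          generalize hedef : (⟨δ ^ 2, _⟩ : F₀) = e at h1 hiso
          have hdet : D.bil x y * D.bil x y - e * D.bil y y * D.bil y y ≠ 0 := by
            intro h0
            rcases eq_or_ne (D.bil y y) 0 with hy0 | hy0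
            · rw [hy0, mul_zero, sub_zero] at h0
              exact hTS ⟨mul_self_eq_zero.1 h0, hy0⟩
            · have he : (e : F) = δ ^ 2 := by rw [← hedef]
              have h4 : ((D.bil x y : F) / D.bil y y - δ) * ((D.bil x y : F) / D.bil y y + δ) = 0 := by
                have hy0' : (D.bil y y : F) ≠ 0 := fun h => hy0 (Subtype.ext h)
                have h5 := congrArg Subtype.val h0
                push_cast at h5
                rw [he] at h5
                field_simp
                linear_combination h5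
              rcases mul_eq_zero.1 h4 with h5 | h5
              · exact one_ne_zero (neg_eq_zero.1 (D.coeff_unique (a := D.bil x y / D.bil y y)
                  (b := -1) (by push_cast; linear_combination h5)).2)
              · exact one_ne_zero (D.coeff_unique (a := D.bil x y / D.bil y y)
                  (b := 1) (by push_cast; linear_combination h5)).2
          have e1 : c 0 * (D.bil x y * D.bil x y - e * D.bil y y * D.bil y y) = 0 := by
            linear_combination D.bil x y * h2 - D.bil y y * h1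
          have e2 : c 1 * (D.bil x y * D.bil x y - e * D.bil y y * D.bil y y) = 0 := by
            linear_combination D.bil x y * h1 - e * D.bil y y * h2
          rw [Submodule.mem_bot, Fin.sum_univ_two, (mul_eq_zero.1 e1).resolve_right hdet,
            (mul_eq_zero.1 e2).resolve_right hdet, zero_smul, zero_smul, add_zero])
        (by rw [finrank_bot, Module.finrank_fin_fun]; omega)
      obtain ⟨w, hw, hww⟩ := aniso ![x, y, r'] (by omega) fun _ h =>
        hTS ⟨h 0 1, h 1 1⟩
      have hr'0 : r' ≠ 0 := fun h => hr'S (by rw [h]; exact zero_mem _)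
      obtain ⟨s, hs, hrs, hν⟩ := some_s r' hr'0
      obtain ⟨c, d, hcd⟩ := D.coeff_exists
        (Cfsg.hermForm n F q (G *ᵥ ratEmb P F₀ s) (ratEmb P F₀ r') ^ q)
      refine ⟨r', w, s, c, d, hr', hr'T 0, hr'T 1, hw 0, hw 1, hw 2, hww, hs, hrs, hν, hcd, hr'0,
        fun h => ?_⟩
      obtain ⟨t, ht⟩ : ∃ t : F₀, t • r' = d • x + c • y := by
        simpa [Submodule.mem_span_singleton] using h
      rcases eq_or_ne t 0 with rfl | ht0
      · rw [zero_smul] at ht
        obtain ⟨rfl, rfl⟩ := LinearIndependent.pair_iff.1 hxy d c ht.symm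
        exact hν ((pow_q_eq_zero hF).1 (by rw [hcd]; simp))
      · refine hr'S ?_
        rw [← inv_smul_smul₀ ht0 r', ht]
        exact Submodule.smul_mem _ _ (add_mem (Submodule.smul_mem _ _ (Submodule.subset_span ⟨0, rfl⟩))
          (Submodule.smul_mem _ _ (Submodule.subset_span ⟨1, rfl⟩)))
  set b := G *ᵥ ratEmb P F₀ s with hb_def
  set ν := Cfsg.hermForm n F q b (ratEmb P F₀ r') with hν
  have hab : Cfsg.hermForm n F q a b = 0 := (hG _ _).trans (congrArg Subtype.val hrs)
  have hb : Cfsg.hermForm n F q b b = 0 := (hG _ _).trans (congrArg Subtype.val hs)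
  -- w is a sum of two singular vectors orthogonal to r'
  obtain ⟨t₁, ht₁, htT, hwt⟩ := D.exists_pairing hHM hn (by omega) ![r']
    (show w ∉ Submodule.span F₀ (Set.range ![r']) from fun h => by
      obtain ⟨t, ht⟩ : ∃ t : F₀, t • r' = w := by
        simpa [Submodule.mem_span_singleton] using h
      exact hww (by rw [← ht]; simp [hr']))
  have hr't₁ : D.bil r' t₁ = 0 := htT 0
  obtain ⟨κ, hκ⟩ : ∃ κ, κ = D.bil w w / 2 := ⟨_, rfl⟩
  have two0 := D.two_ne
  have hκ2 : 2 * κ = D.bil w w := by rw [hκ]; field_simp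
  set s1 := κ • t₁ with hs1
  set s2 := w - s1 with hs2
  have hs11 : D.bil s1 s1 = 0 := by simp [hs1, ht₁]
  have hs22 : D.bil s2 s2 = 0 := by
    simp only [hs2, hs1, map_sub, LinearMap.sub_apply, map_smul, LinearMap.smul_apply, smul_eq_mul,
      ht₁, D.bil_symm t₁ w, hwt, ← hκ2]
    ring
  have hs21 : D.bil s2 s1 = κ := by simp [hs2, hs1, ht₁, hwt]
  have hr1 : D.bil r' s1 = 0 := by simp [hs1, hr't₁]
  have hr2 : D.bil r' s2 = 0 := by simp [hs2, hr'w, hr1]
  obtain ⟨R₁, hR₁H, hR₁⟩ := D.exists_rat_eich hr' hs11 hr1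
  obtain ⟨R₂, hR₂H, hR₂⟩ := D.exists_rat_eich hr' hs22 hr2
  have hr00 : Cfsg.hermForm n F q (ratEmb P F₀ r') (ratEmb P F₀ r') = 0 := congrArg Subtype.val hr'
  have he1 : Cfsg.hermForm n F q (ratEmb P F₀ r') (ratEmb P F₀ s1) = 0 := congrArg Subtype.val hr1
  have he2 : Cfsg.hermForm n F q (ratEmb P F₀ r') (ratEmb P F₀ s2) = 0 := congrArg Subtype.val hr2
  have hsum : ratEmb P F₀ s1 + ratEmb P F₀ s2 = ratEmb P F₀ w := by
    rw [← map_add, hs2, add_sub_cancel]
  have hRG : IsEichG q (R₁ * R₂) (ratEmb P F₀ r') (ratEmb P F₀ w) (-(κ : F)) := by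
    have := hR₁.general.mul hF hR₂.general hr00 he1 he2
    rwa [hsum, add_zero, zero_sub, ← D.bil_val, hs21] at this
  have he3 : Cfsg.hermForm n F q (ratEmb P F₀ r') (ratEmb P F₀ w) = 0 := congrArg Subtype.val hr'w
  have hRG' := hRG.inv hF hr00 he3
  have hww' : Cfsg.hermForm n F q (ratEmb P F₀ w) (ratEmb P F₀ w) = 2 * (κ : F) := by
    rw [← D.bil_val, ← hκ2]; push_cast; rfl
  rw [hww', show -(-(κ : F)) - 2 * (κ : F) = -(κ : F) by ring] at hRG'
  have hRH : R₁ * R₂ ∈ Cfsg.Geo.subfieldSubgroup F₀ P ⊓ suGL n F q := mul_mem hR₁H hR₂H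
  have haw : Cfsg.hermForm n F q a (ratEmb P F₀ w) = 0 := by
    rw [hgr, D.herm_right, hxw, hyw]; simp
  have har : Cfsg.hermForm n F q a (ratEmb P F₀ r') = 0 := by
    rw [hgr, D.herm_right, hxr, hyr]; simp
  have hfix : ((R₁ * R₂ : Matrix.GeneralLinearGroup (Fin n) F) : Matrix (Fin n) (Fin n) F) *ᵥ a = a := by
    rw [hRG, haw, har]; simp
  have hfix' : (((R₁ * R₂)⁻¹ : Matrix.GeneralLinearGroup (Fin n) F) :
      Matrix (Fin n) (Fin n) F) *ᵥ a = a := by
    rw [hRG', H.neg_right hF, haw, har]; simp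
  obtain ⟨A₀, hA₀H, hA₀⟩ := D.exists_rat_eich hr hs hrs
  obtain ⟨A, hAdef⟩ : ∃ A, A = g * A₀ * g⁻¹ := ⟨_, rfl⟩
  have hA : IsEich q A a b := hAdef ▸ eich_conj hF hg hA₀
  have hAM : A ∈ M := hAdef ▸ mul_mem (mul_mem hgM (hHM hA₀H)) (inv_mem hgM)
  set u := (-2 * (κ : F) * ν) • ratEmb P F₀ r' with hu
  have hau : Cfsg.hermForm n F q a u = 0 := by rw [hu, H.smul_right, har, mul_zero]
  have huu : Cfsg.hermForm n F q u u = 0 := by
    rw [hu, H.smul_left, H.smul_right, hr00, mul_zero, mul_zero]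
  have hC1 : ∀ X Y : Matrix.GeneralLinearGroup (Fin n) F, ∀ b' : Fin n → F,
      IsEichG q X a b' 0 → IsEichG q Y a (-b') 0 → Cfsg.hermForm n F q a b' = 0 →
      Cfsg.hermForm n F q b' b' = 0 →
      ∀ c₁ c₂ : Fin n → F,
      c₁ = ((R₁ * R₂ : Matrix.GeneralLinearGroup (Fin n) F) : Matrix (Fin n) (Fin n) F) *ᵥ b' →
      c₂ = (((R₁ * R₂)⁻¹ : Matrix.GeneralLinearGroup (Fin n) F) : Matrix (Fin n) (Fin n) F) *ᵥ b' →
      IsEichG q ((R₁ * R₂) * X * (R₁ * R₂)⁻¹ * ((R₁ * R₂)⁻¹ * X * ((R₁ * R₂)⁻¹)⁻¹) * (Y * Y)) a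
        (c₁ + c₂ + (-b' + -b'))
        (-Cfsg.hermForm n F q c₂ c₁ - Cfsg.hermForm n F q (-b' + -b') (c₁ + c₂)) := by
    intro X Y b' hX hY hb' hb'' c₁ c₂ e1 e2
    have h1 := hX.conj hF hRH.2 hfix
    have h2 := hX.conj hF (inv_mem hRH.2) hfix'
    rw [← e1] at h1
    rw [← e2] at h2
    have p1 : Cfsg.hermForm n F q a c₁ = 0 := by
      rw [e1]; nth_rewrite 1 [← hfix]; rw [mem_suGL_herm hRH.2]; exact hb'
    have p2 : Cfsg.hermForm n F q a c₂ = 0 := by
      rw [e2]; nth_rewrite 1 [← hfix']; rw [mem_suGL_herm (inv_mem hRH.2)]; exact hb'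
    have p3 : Cfsg.hermForm n F q a (-b') = 0 := by rw [H.neg_right hF, hb', neg_zero]
    have h3 := (h1.mul hF h2 ha p1 p2).mul hF (hY.mul hF hY ha p3 p3) ha
      (by rw [H.add_right hF, p1, p2, add_zero]) (by rw [H.add_right hF, p3, add_zero])
    rw [H.neg_left, H.neg_right hF, hb''] at h3
    simpa using h3
  have hAi : IsEichG q A⁻¹ a (-b) 0 := by
    have := hA.general.inv hF ha hab
    rwa [hb, neg_zero, sub_zero] at this
  have e1 : ((R₁ * R₂ : Matrix.GeneralLinearGroup (Fin n) F) : Matrix (Fin n) (Fin n) F) *ᵥ b +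
      (((R₁ * R₂)⁻¹ : Matrix.GeneralLinearGroup (Fin n) F) : Matrix (Fin n) (Fin n) F) *ᵥ b +
      (-b + -b) = u := by
    rw [hRG b, hRG' b, H.neg_right hF, ← hν, hu]
    module
  have hP1 := hC1 A A⁻¹ b hA.general hAi hab hb _ _ rfl rfl
  have hP2 := hC1 A⁻¹ A (-b) hAi (by simpa using hA.general)
    (by rw [H.neg_right hF, hab, neg_zero]) (by rw [H.neg_left, H.neg_right hF, hb]; simp) _ _ rfl rfl
  rw [e1] at hP1
  simp only [Matrix.mulVec_neg, neg_neg, H.neg_left, H.neg_right hF, H.add_left, H.add_right hF] at hP1 hP2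
  generalize hγ : -Cfsg.hermForm n F q _ _ - _ = γ₁ at hP1
  have hP2' : IsEichG q ((R₁ * R₂) * A⁻¹ * (R₁ * R₂)⁻¹ *
      ((R₁ * R₂)⁻¹ * A⁻¹ * ((R₁ * R₂)⁻¹)⁻¹) * (A * A)) a (-u) γ₁ := by
    convert hP2 using 1
    · rw [← e1]; module
    · rw [← hγ]; ring
  have hD := hP1.mul hF (hP2'.inv hF ha (by rw [H.neg_right hF, hau, neg_zero])) ha hau
    (by rw [H.neg_right hF, H.neg_right hF, hau]; simp)
  simp only [H.neg_left, H.neg_right hF, neg_neg, huu] at hD
  rw [show γ₁ + (-γ₁ - 0) - 0 = (0 : F) by ring] at hD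
  generalize hCdef : _ * (_ * (A * A))⁻¹ = C at hD
  have hCM : C ∈ M := by
    have hR := hHM hRH
    rw [← hCdef]
    exact mul_mem (mul_mem (mul_mem (mul_mem (mul_mem hR hAM) (inv_mem hR))
      (mul_mem (mul_mem (inv_mem hR) hAM) (inv_mem (inv_mem hR)))) (mul_mem (inv_mem hAM) (inv_mem hAM)))
      (inv_mem (mul_mem (mul_mem (mul_mem (mul_mem hR (inv_mem hAM)) (inv_mem hR))
        (mul_mem (mul_mem (inv_mem hR) (inv_mem hAM)) (inv_mem (inv_mem hR)))) (mul_mem hAM hAM)))
  have hκ0 : κ ≠ 0 := fun h => hww (by rw [← hκ2, h, mul_zero])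
  obtain ⟨c', hc'⟩ : ∃ c', c' = 4 * κ * c := ⟨_, rfl⟩
  obtain ⟨d', hd'⟩ : ∃ d', d' = 4 * κ * d := ⟨_, rfl⟩
  obtain ⟨e, he⟩ : ∃ e : F₀, (e : F) = δ ^ 2 :=
    ⟨⟨δ ^ 2, D.mem.2 (by rw [← pow_mul, mul_comm, pow_mul, D.skew, neg_sq])⟩, rfl⟩
  set y' := d' • x + c' • y with hy'
  set x' := c' • x + (e * d') • y with hx'
  have hC' : IsEich q C (ratEmb P F₀ r') (ratEmb P F₀ x' + δ • ratEmb P F₀ y') := by
    have h4 : (4 : F) ^ q = 4 := by
      rw [show (4 : F) = 1 + 1 + 1 + 1 by norm_num, add_pow_q hF, add_pow_q hF, add_pow_q hF,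
        one_pow]
    have hae : (4 * (κ : F) * ν ^ q) • a = ratEmb P F₀ x' + δ • ratEmb P F₀ y' := by
      rw [hgr, hcd, hx', hy', map_add, map_add, ratEmb_smul, ratEmb_smul, ratEmb_smul, ratEmb_smul,
        Subfield.coe_mul, he, hc', hd']
      push_cast
      simp only [show ((4 : F₀) : F) = (4 : F) from map_ofNat F₀.subtype 4]
      module
    intro z
    rw [hD z, ← hae, hu]
    simp only [H.add_right hF, H.smul_right, mul_pow, pow_q_pow_q hF, h4, D.val_pow, neg_pow_q hF,
      show (2 : F) ^ q = 2 by rw [show (2 : F) = 1 + 1 by norm_num, add_pow_q hF, one_pow],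
      zero_mul, zero_smul, add_zero]
    module
  have hy'0 : y' ∉ Submodule.span F₀ (Set.range ![r']) := by
    have h40 : (4 : F₀) * κ ≠ 0 := mul_ne_zero
      (by rw [show (4 : F₀) = 2 * 2 by norm_num]; exact mul_ne_zero two0 two0) hκ0
    intro h
    refine hy'0' ?_
    rw [← inv_smul_smul₀ h40 (d • x + c • y), show (4 * κ) • (d • x + c • y) = y' by
      rw [hy', hc', hd']; module]
    exact Submodule.smul_mem _ _ h
  obtain ⟨t, hts, hrt, hyt⟩ := D.exists_pairing hHM hn (by omega) ![r'] hy'0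
  have hr't : D.bil r' t = 0 := hrt 0
  refine ⟨r', hr'0, hr', hr00, fun T γ hγ hT => ?_⟩
  obtain ⟨γ0, hγ0⟩ : ∃ γ0 : F₀, (γ0 : F) = γ / (2 * δ) := ⟨⟨γ / (2 * δ), D.mem.2 (by
    rw [div_pow, mul_pow, D.skew, eq_neg_of_add_eq_zero_right hγ,
      show (2 : F) ^ q = 2 by rw [show (2 : F) = 1 + 1 by norm_num, add_pow_q hF, one_pow],
      mul_neg, neg_div_neg_eq])⟩, rfl⟩
  obtain ⟨B, hBH, hB⟩ := D.exists_rat_eich hr' (show D.bil (γ0 • t) (γ0 • t) = 0 by simp [hts])
    (show D.bil r' (γ0 • t) = 0 by simp [hr't])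
  have hra' : Cfsg.hermForm n F q (ratEmb P F₀ r') (ratEmb P F₀ x' + δ • ratEmb P F₀ y') = 0 := by
    rw [D.herm_left, hx', hy']; simp [hxr, hyr]
  have hT' := eich_comm_same hF hC' hB hr00 hra'
    (show Cfsg.hermForm n F q (ratEmb P F₀ r') (ratEmb P F₀ (γ0 • t)) = 0 by
      rw [← D.bil_val]; simp [hr't])
  rw [D.herm_right, D.herm_left] at hT'
  have hcoef : ((D.bil x' (γ0 • t) : F) + δ * D.bil y' (γ0 • t)) -
      ((D.bil x' (γ0 • t) : F) - δ * D.bil y' (γ0 • t)) = γ := by
    rw [map_smul, map_smul, hyt, smul_eq_mul, smul_eq_mul, mul_one, hγ0]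
    have := D.odd
    have := D.skew0
    field_simp
    ring
  rw [hcoef] at hT'
  have e0 : T = C * B *
      C⁻¹ * B⁻¹ :=
    gl_ext_mulVec fun z => by rw [hT', hT, transvection_mulVec]
  rw [e0]
  exact mul_mem (mul_mem (mul_mem hCM (hHM hBH)) (inv_mem hCM)) (inv_mem (hHM hBH))

/-- All rational singular vectors are centres. -/
theorem rat_centres {r : Fin n → F₀} (hr0 : r ≠ 0) (hr : D.bil r r = 0)
    (hC : ratEmb P F₀ r ∈ centres q M) {v : Fin n → F₀} (hv : D.bil v v = 0) :
    ratEmb P F₀ v ∈ centres q M := by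
  have hF := D.card
  have step : ∀ a b : Fin n → F₀, D.bil a a = 0 → D.bil b b = 0 → D.bil a b = 0 →
      a ∉ Submodule.span F₀ (Set.range ![b]) → ratEmb P F₀ a ∈ centres q M →
      ratEmb P F₀ b ∈ centres q M := by
    intro a b ha hb hab hind hac
    rcases eq_or_ne b 0 with rfl | hb0
    · rw [map_zero, ← zero_smul F (ratEmb P F₀ a)]; exact centres_smul hF hac 0
    have hz : a ∉ Submodule.span F₀ (Set.range ![b - a]) := by
      intro h
      obtain ⟨c, hc⟩ : ∃ c : F₀, c • (b - a) = a := by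
        simpa [Submodule.mem_span_singleton] using h
      rcases eq_or_ne c 0 with rfl | hc0
      · exact hind (by rw [← hc, zero_smul]; exact zero_mem _)
      refine hind ?_
      have h1 : (1 + c) • a = c • b := by
        rw [add_smul, one_smul]
        nth_rewrite 1 [← hc]
        rw [smul_sub, sub_add_cancel]
      rcases eq_or_ne (1 + c) 0 with h0 | h0
      · rw [h0, zero_smul] at h1
        exact absurd ((smul_eq_zero.1 h1.symm).resolve_left hc0) hb0
      · rw [← inv_smul_smul₀ h0 a, h1, smul_smul]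
        exact Submodule.smul_mem _ _ (Submodule.subset_span ⟨0, rfl⟩)
    obtain ⟨p, hp, hpT, hap⟩ := D.exists_pairing hHM hn (by omega) ![b - a] hz
    have hp1 : D.bil p (b - a) = 0 := by rw [D.bil_symm]; exact hpT 0
    have hd : D.bil (b - a) (b - a) = 0 := by
      simp [ha, hb, hab, D.bil_symm b a]
    obtain ⟨g, hgH, hg⟩ := D.exists_rat_eich hp hd hp1
    have h := centres_conj (hHM hgH) hgH.2 hac
    rw [hg, ← D.bil_val, ← D.bil_val, hap, map_sub, map_sub, hab, ha] at h
    simpa using h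
  rcases eq_or_ne v 0 with rfl | hv0
  · rw [map_zero, ← zero_smul F (ratEmb P F₀ r)]; exact centres_smul hF hC 0
  by_cases hrv : D.bil r v = 0
  · by_cases hdep : r ∈ Submodule.span F₀ (Set.range ![v])
    · obtain ⟨c, hc⟩ : ∃ c : F₀, c • v = r := by simpa [Submodule.mem_span_singleton] using hdep
      have hc0 : c ≠ 0 := fun h => hr0 (by rw [← hc, h, zero_smul])
      rw [← inv_smul_smul₀ hc0 v, hc, ratEmb_smul]
      exact centres_smul hF hC _
    · exact step r v hr hv hrv hdep hC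
  obtain ⟨m, hm, hmT, hmS⟩ := exists_singular_outside D.bil_symm D.bil_nondeg ![r, v] (R := ⊥)
    (fun z h hz => by
      obtain ⟨c, rfl⟩ := (Submodule.mem_span_range_iff_exists_fun F₀).1 h
      have h1 := hz 0
      have h2 := hz 1
      simp only [Fin.sum_univ_two, Matrix.cons_val_zero, Matrix.cons_val_one, map_add, map_smul,
        smul_eq_mul, hr, hv, D.bil_symm v r, mul_zero, add_zero, zero_add, mul_eq_zero, hrv,
        or_false] at h1 h2
      simp [Fin.sum_univ_two, h1, h2])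
    (by rw [finrank_bot, Module.finrank_fin_fun]; omega)
  have hrm : D.bil r m = 0 := hmT 0
  have hvm : D.bil v m = 0 := hmT 1
  have h1 : r ∉ Submodule.span F₀ (Set.range ![m]) := by
    intro h
    obtain ⟨c, hc⟩ : ∃ c : F₀, c • m = r := by simpa [Submodule.mem_span_singleton] using h
    rcases eq_or_ne c 0 with rfl | hc0
    · exact hr0 (by rw [← hc, zero_smul])
    refine hmS ?_
    rw [← inv_smul_smul₀ hc0 m, hc]
    exact Submodule.smul_mem _ _ (Submodule.subset_span ⟨0, rfl⟩)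
  have h2 : m ∉ Submodule.span F₀ (Set.range ![v]) := fun h => hmS (by
    obtain ⟨c, hc⟩ : ∃ c : F₀, c • v = m := by simpa [Submodule.mem_span_singleton] using h
    rw [← hc]; exact Submodule.smul_mem _ _ (Submodule.subset_span ⟨1, rfl⟩))
  exact step m v hm hv (by rw [D.bil_symm, hvm]) h2 (step r m hr hm hrm h1 hC)

theorem le_of_rat_centres (hR : ∀ v, D.bil v v = 0 → ratEmb P F₀ v ∈ centres q M) :
    suGL n F q ≤ M := by
  have hF := D.card
  have H := hermForm_isHerm hF n
  -- undo a transvection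
  have back : ∀ (r : Fin n → F₀) (a : F₀) (x y : Fin n → F₀), D.bil r r = 0 →
      ratEmb P F₀ (x + ((⟨δ ^ 2, D.mem.2 (by rw [← pow_mul, mul_comm, pow_mul, D.skew, neg_sq])⟩ : F₀)
        * a * D.bil y r) • r) + δ • ratEmb P F₀ (y + (a * D.bil x r) • r) ∈ centres q M →
      ratEmb P F₀ x + δ • ratEmb P F₀ y ∈ centres q M := by
    intro r a x y hr h
    have hc : -(δ * a) + (-(δ * (a : F))) ^ q = 0 := by
      rw [neg_pow_q hF, mul_pow, D.skew, D.val_pow]; ring
    have := centres_step hF (hR r hr) h hc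
    convert this using 1
    rw [D.herm_right]
    simp only [map_add, LinearMap.add_apply, map_smul, LinearMap.smul_apply,
      smul_eq_mul, hr, mul_zero, add_zero, Subfield.smul_def, Subfield.coe_mul]
    match_scalars <;> ring
  have good : ∀ x y : Fin n → F₀, D.bil y y = 0 → D.bil x x = 0 → D.bil x y ≠ 0 →
      ratEmb P F₀ x + δ • ratEmb P F₀ y ∈ centres q M := by
    intro x y hy hx hxy
    refine back y (-(D.bil x y)⁻¹) x y hy ?_
    rw [hy, mul_zero, zero_smul, add_zero, neg_mul, inv_mul_cancel₀ hxy, neg_smul, one_smul,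
      add_neg_cancel, map_zero, smul_zero, add_zero]
    exact hR x hx
  refine le_of_centres hF (Or.inl (by omega)) fun v hv => ?_
  obtain ⟨x, y, rfl⟩ := D.split v
  rw [D.iso_iff] at hv
  set e : F₀ := ⟨δ ^ 2, D.mem.2 (by rw [← pow_mul, mul_comm, pow_mul, D.skew, neg_sq])⟩ with he
  have hiso : D.bil x x = e * D.bil y y := Subtype.ext (by
    rw [Subfield.coe_mul]; exact sub_eq_zero.1 hv)
  have he0 : e ≠ 0 := fun h => pow_ne_zero 2 D.skew0 (congrArg Subtype.val h)
  by_cases hind : LinearIndependent F₀ ![x, y]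
  swap
  · rw [LinearIndependent.pair_iff] at hind
    simp only [not_forall] at hind
    obtain ⟨a, b, hab, h⟩ := hind
    rcases eq_or_ne b 0 with rfl | hb
    · have ha : a ≠ 0 := fun ha => h ⟨ha, rfl⟩
      rw [zero_smul, add_zero, smul_eq_zero] at hab
      obtain rfl := hab.resolve_left ha
      simp only [map_zero, zero_add]
      refine centres_smul hF (hR y ?_) δ
      simpa [he0] using hiso
    · have hy : y = (-(b⁻¹ * a)) • x := by
        rw [← inv_smul_smul₀ hb y, eq_neg_of_add_eq_zero_right hab]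
        module
      generalize -(b⁻¹ * a) = c at hy
      subst hy
      have hx : D.bil x x = 0 := by
        by_contra hx
        simp only [map_smul, LinearMap.smul_apply, smul_eq_mul] at hiso
        have h1 : (1 : F₀) = e * (c * c) := mul_right_cancel₀ hx (by rw [one_mul]; linear_combination hiso)
        have h2 : (δ * (c : F)) ^ 2 = 1 := by
          have := congrArg Subtype.val h1
          simp [he] at this
          linear_combination -this
        have h3 : (δ * (c : F)) ^ q = -(δ * c) := by rw [mul_pow, D.skew, D.val_pow, neg_mul]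
        rcases sq_eq_one_iff.1 h2 with h4 | h4
        · rw [h4, one_pow] at h3
          exact D.odd (by linear_combination h3)
        · rw [h4, neg_pow_q hF, one_pow] at h3
          exact D.odd (by linear_combination -h3)
      rw [ratEmb_smul, smul_smul, ← one_smul F (ratEmb P F₀ x), smul_smul, mul_one, ← add_smul]
      exact centres_smul hF (hR x hx) _
  have hx0 : x ∉ Submodule.span F₀ (Set.range ![y]) := by
    intro h
    obtain ⟨c, hc⟩ : ∃ c : F₀, c • y = x := by simpa [Submodule.mem_span_singleton] using h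
    exact one_ne_zero (LinearIndependent.pair_iff.1 hind 1 (-c) (by rw [← hc]; module)).1
  by_cases hyy : D.bil y y = 0
  · have hxx : D.bil x x = 0 := by rw [hiso, hyy, mul_zero]
    by_cases hxy : D.bil x y = 0
    swap
    · exact good x y hyy hxx hxy
    obtain ⟨r, hr, hyr, hxr⟩ := D.exists_pairing hHM hn (by omega) ![y] hx0
    have hyr' : D.bil y r = 0 := hyr 0
    refine back r 1 x y hr ?_
    rw [hyr', mul_zero, zero_smul, add_zero]
    refine good _ _ ?_ hxx ?_
    · simp [hyy, hr, hyr', D.bil_symm r y]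
    · simp [hxy, hxr]
  · have hz : x ∉ Submodule.span F₀ (Set.range ![y - x]) := by
      intro h
      obtain ⟨c, hc⟩ : ∃ c : F₀, c • (y - x) = x := by
        simpa [Submodule.mem_span_singleton] using h
      obtain ⟨h1, h2⟩ := LinearIndependent.pair_iff.1 hind (-c - 1) c (by
        rw [sub_smul, neg_smul, one_smul]; nth_rewrite 2 [← hc]; module)
      rw [h2] at h1; simp at h1
    obtain ⟨r, hr, hT, hxr⟩ := D.exists_pairing hHM hn (by omega) ![y - x] hz
    have hyr : D.bil y r = 1 := by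
      have := hT 0
      rw [Matrix.cons_val_zero, map_sub, LinearMap.sub_apply, hxr, sub_eq_zero] at this
      exact this
    -- choose r or its dilation so that the new pairing is nonzero
    have two0 := D.two_ne
    have reduce : ∀ r, D.bil r r = 0 → D.bil x r ≠ 0 → D.bil y r ≠ 0 →
        ratEmb P F₀ x + δ • ratEmb P F₀ y ∈ centres q M := by
      intro r hr hxr hyr
      set a : F₀ := -(D.bil y y) / (2 * D.bil x r * D.bil y r) with ha
      set X := x + (e * a * D.bil y r) • r with hX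
      set Y := y + (a * D.bil x r) • r with hY
      have hYY : D.bil Y Y = 0 := by
        simp only [hY, map_add, LinearMap.add_apply, map_smul, LinearMap.smul_apply, smul_eq_mul,
          hr, D.bil_symm r y, ha]
        field_simp
        ring
      have hXX : D.bil X X = 0 := by
        simp only [hX, map_add, LinearMap.add_apply, map_smul, LinearMap.smul_apply, smul_eq_mul,
          hr, D.bil_symm r x, hiso, ha]
        field_simp
        ring
      refine back r a x y hr ?_
      show ratEmb P F₀ X + δ • ratEmb P F₀ Y ∈ centres q M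
      by_cases hXY : D.bil X Y = 0
      swap
      · exact good X Y hYY hXX hXY
      by_cases hindXY : X ∈ Submodule.span F₀ (Set.range ![Y])
      · obtain ⟨c, hc⟩ : ∃ c : F₀, c • Y = X := by
          simpa [Submodule.mem_span_singleton] using hindXY
        rw [← hc, ratEmb_smul, ← add_smul]
        exact centres_smul hF (hR Y hYY) _
      obtain ⟨p, hp, hpT, hXp⟩ := D.exists_pairing hHM hn (by omega) ![Y] hindXY
      have hYp : D.bil Y p = 0 := hpT 0
      refine back p 1 X Y hp ?_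
      rw [hYp, mul_zero, zero_smul, add_zero]
      refine good _ _ ?_ hXX ?_
      · simp [hYY, hp, hYp, D.bil_symm p Y]
      · simp [hXY, hXp]
    exact reduce r hr (by rw [hxr]; exact one_ne_zero) (by rw [hyr]; exact one_ne_zero)

end Overgroup

end RatData

/-- The orthogonal subfield subgroup is maximal in SU. -/
theorem isMaximalIn_orth_subfield (hF : Fintype.card F = q ^ 2) (hn : 6 ≤ n) (hodd : Odd q)
    {F₀ : Subfield F} (hcard : Fintype.card F = Nat.card F₀ ^ 2)
    {P : Matrix.GeneralLinearGroup (Fin n) F}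
    (hP : Cfsg.Geo.IsFormRationalStructure (Cfsg.hermForm n F q) F₀ 1 P) :
    Cfsg.Geo.IsMaximalIn (suGL n F q) (Cfsg.Geo.subfieldSubgroup F₀ P ⊓ suGL n F q) := by
  obtain ⟨δ, hδ0, hδ⟩ := exists_skew hF
  have h2 : (2 : F) ≠ 0 := by
    intro h
    have hc := (CharTwo.two_eq_zero (R := ZMod 2))
    obtain ⟨p, hp⟩ := CharP.exists F
    obtain ⟨k, hpp, hk⟩ := FiniteField.card F p
    have : p = 2 := by
      have := (CharP.cast_eq_zero_iff F p 2).1 (by exact_mod_cast h)
      exact (Nat.prime_dvd_prime_iff_eq hpp Nat.prime_two).1 this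
    subst this
    rw [hF] at hk
    have : 2 ∣ q ^ 2 := hk ▸ dvd_pow_self 2 k.ne_zero
    exact (Nat.not_even_iff_odd.2 hodd) (even_iff_two_dvd.2 (Nat.prime_two.dvd_of_dvd_pow this))
  have D : RatData q F₀ P δ :=
    ⟨hF, h2, mem_subfield_iff_pow hF hcard, fun u v hu hv => by simpa using hP u v hu hv, hδ0, hδ⟩
  refine isMaximalIn_of_forall inf_le_right ?_ fun M hHM hMK g hgM hgH => ?_
  · -- a transvection outside
    obtain ⟨r, hr, -, hr0⟩ := D.exists_outside
      (M := ⊤) le_top hn (m := 0) (by omega) Fin.elim0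
    have hc : δ + δ ^ q = 0 := by rw [hδ, add_neg_cancel]
    refine ⟨glTransvection hF (ratEmb P F₀ r) (congrArg Subtype.val hr) δ hc,
      suToGU_mem_suGL _, fun hmem => ?_⟩
    obtain ⟨l, hl⟩ := D.map_of_mem hmem.1
    obtain ⟨s, -, -, hs1⟩ := D.exists_pairing (M := ⊤) le_top hn (m := 0) (by omega) Fin.elim0
      (z := r) hr0
    obtain ⟨v, hv⟩ := hl r
    obtain ⟨w, hw⟩ := hl s
    have ev : ∀ u, ((glTransvection hF (ratEmb P F₀ r) (congrArg Subtype.val hr) δ hc :
        Matrix.GeneralLinearGroup (Fin n) F) : Matrix (Fin n) (Fin n) F) *ᵥ ratEmb P F₀ u =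
        ratEmb P F₀ u + (δ * D.bil u r) • ratEmb P F₀ r := fun u => transvection_mulVec _ _ _
    rw [ev, hr, ZeroMemClass.coe_zero, mul_zero, zero_smul, add_zero] at hv
    rw [ev, D.bil_symm, hs1, OneMemClass.coe_one, mul_one] at hw
    obtain ⟨c, d, hcd⟩ := D.coeff_exists l
    have e1 : ratEmb P F₀ r + δ • ratEmb P F₀ (0 : Fin n → F₀) =
        ratEmb P F₀ (c • v) + δ • ratEmb P F₀ (d • v) := by
      rw [map_zero, smul_zero, add_zero, hv, hcd, ratEmb_smul, ratEmb_smul]
      module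
    obtain ⟨h3, h4⟩ := D.split_unique e1
    have hd : d = 0 := by
      refine (smul_eq_zero.1 h4.symm).resolve_right fun h => hr0 ?_
      rw [h3, h, smul_zero]; exact zero_mem _
    have e2 : ratEmb P F₀ s + δ • ratEmb P F₀ r =
        ratEmb P F₀ (c • w) + δ • ratEmb P F₀ (0 : Fin n → F₀) := by
      rw [map_zero, smul_zero, add_zero, hw, hcd, hd, ratEmb_smul, ZeroMemClass.coe_zero, mul_zero,
        add_zero]
    exact hr0 (by rw [(D.split_unique e2).2]; exact zero_mem _)
  · obtain ⟨r, hr0, hr, hC⟩ := D.exists_centre hHM hn hgM (hMK hgM) fun h => hgH ⟨h, hMK hgM⟩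
    exact D.le_of_rat_centres hHM hn fun v hv => D.rat_centres hHM hn hr0 hr hC hv

end Cfsg.Agent.Unitary
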