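import Cfsg.Agent.Lib.Unitary.OrthFourNorm
/-
The orthogonal subfield subgroup of the special unitary group in dimension four is maximal (q odd, q ≥ 5).
* isMaximalIn_orth_subfield_four
-/
set_option autoImplicit false

namespace Cfsg.Agent.Unitary

open scoped Matrix

variable {F : Type*} [Field F] [Fintype F] {q : ℕ}

namespace RatData

variable {F₀ : Subfield F} {P : Matrix.GeneralLinearGroup (Fin 4) F} {δ : F}
  (D : RatData q F₀ P δ)
include D

variable {M : Subgroup (Matrix.GeneralLinearGroup (Fin 4) F)}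
  (hHM : Cfsg.Geo.subfieldSubgroup F₀ P ⊓ suGL 4 F q ≤ M) (hq : 5 ≤ q)
include hHM hq

theorem exists_centre_four (hMK : M ≤ suGL 4 F q) {g : Matrix.GeneralLinearGroup (Fin 4) F}
    (hgM : g ∈ M) (hgH : g ∉ Cfsg.Geo.subfieldSubgroup F₀ P) :
    ∃ r, r ≠ 0 ∧ D.bil r r = 0 ∧ ratEmb P F₀ r ∈ centres q M := by
  by_contra hno
  simp only [not_exists, not_and] at hno
  have hF := D.card
  have H := hermForm_isHerm hF 4
  have hG := mem_suGL_herm (hMK hgM)
  let G := (g : Matrix (Fin 4) (Fin 4) F)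
  have hinj : Function.Injective (fun w => G *ᵥ w) :=
    Matrix.mulVec_injective_iff_isUnit.2 (Units.isUnit g)
  have line : ∀ r, D.bil r r = 0 → ∃ (l : F) (v : Fin 4 → F₀),
      G *ᵥ ratEmb P F₀ r = l • ratEmb P F₀ v := by
    intro r hr
    obtain ⟨x, y, hxy⟩ := D.split (G *ᵥ ratEmb P F₀ r)
    have h : ¬ LinearIndependent F₀ ![x, y] := fun h =>
      D.no_irrational hHM hq hMK hno hgM hr hxy h
    rw [LinearIndependent.pair_iff] at h
    simp only [not_forall] at h
    obtain ⟨a, b, hab, h⟩ := h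
    rw [hxy]
    rcases eq_or_ne b 0 with rfl | hb
    · have ha : a ≠ 0 := fun ha => h ⟨ha, rfl⟩
      rw [zero_smul, add_zero, smul_eq_zero] at hab
      exact ⟨δ, y, by rw [hab.resolve_left ha, map_zero, zero_add]⟩
    · refine ⟨1 + δ * ((-(b⁻¹ * a) : F₀) : F), x, ?_⟩
      have hy : y = (-(b⁻¹ * a) : F₀) • x := by
        rw [← inv_smul_smul₀ hb y, eq_neg_of_add_eq_zero_right hab]
        module
      rw [hy, ratEmb_smul]
      module
  obtain ⟨r1, hr10, hr1⟩ := D.exists_sing_ne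
  obtain ⟨l1, v1, h1⟩ := line r1 hr1
  have hl1 : l1 ≠ 0 := by
    rintro rfl
    rw [zero_smul] at h1
    exact hr10 (D.emb_inj (hinj (h1.trans (Matrix.mulVec_zero _).symm)))
  let L : Submodule F₀ (Fin 4 → F₀) :=
    { carrier := {u | ∃ v, G *ᵥ ratEmb P F₀ u = l1 • ratEmb P F₀ v}
      zero_mem' := ⟨0, by simp⟩
      add_mem' := by
        rintro a b ⟨va, ha⟩ ⟨vb, hb⟩
        exact ⟨va + vb, by rw [map_add, Matrix.mulVec_add, ha, hb, map_add, smul_add]⟩
      smul_mem' := by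
        rintro c a ⟨va, ha⟩
        exact ⟨c • va, by rw [ratEmb_smul, ratEmb_smul, Matrix.mulVec_smul, ha, smul_comm]⟩ }
  have step : ∀ a b, a ∈ L → D.bil b b = 0 → D.bil a b ≠ 0 → b ∈ L := by
    rintro a b ⟨va, ha⟩ hb hab
    obtain ⟨l, v, h⟩ := line b hb
    have e := hG (ratEmb P F₀ b) (ratEmb P F₀ a)
    rw [show (g : Matrix (Fin 4) (Fin 4) F) = G from rfl, h, ha, H.smul_left, H.smul_right,
      ← D.bil_val, ← D.bil_val] at e
    have hne : D.bil v va ≠ 0 := fun h0 => hab (by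
      rw [D.bil_symm]; refine Subtype.ext ?_
      rw [← e, h0]; simp)
    have hN : (l1 ^ (q + 1)) ^ q = l1 ^ (q + 1) := pow_q_succ_fixed hF l1
    refine ⟨(⟨D.bil b a / (l1 ^ (q + 1) * D.bil v va), D.mem.2 (by
      rw [div_pow, mul_pow, hN, D.val_pow, D.val_pow])⟩ : F₀) • v, ?_⟩
    have hne' : (D.bil v va : F) ≠ 0 := fun h0 => hne (Subtype.ext h0)
    have key : l = l1 * ((D.bil b a : F) / (l1 ^ (q + 1) * D.bil v va)) := by
      rw [← e, pow_succ]
      field_simp
    rw [h, ratEmb_smul, smul_smul]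
    exact congrArg (· • ratEmb P F₀ v) key
  have hall : ∀ b, D.bil b b = 0 → b ∈ L := by
    intro b hb
    rcases eq_or_ne b 0 with rfl | hb0
    · exact L.zero_mem
    obtain ⟨s, hs, h1s, hbs⟩ := D.exists_both hq hr10 hb0
    exact step s b (step r1 s ⟨v1, h1⟩ hs h1s) hb (by rwa [D.bil_symm])
  refine hgH (D.mem_of_map hl1 fun u => ?_)
  show u ∈ L
  by_contra hu
  obtain ⟨z, hzL, huz⟩ := exists_bilin_dual D.bil_symm D.bil_nondeg hu
  have hz : z ≠ 0 := fun h => by rw [h, map_zero] at huz; exact zero_ne_one huz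
  obtain ⟨s, hs, hzs⟩ := D.exists_sing hz
  rw [D.bil_symm, hzL s (hall s hs)] at hzs
  exact zero_ne_one hzs

theorem rat_centres_four {r : Fin 4 → F₀} (hr0 : r ≠ 0) (hr : D.bil r r = 0)
    (hC : ratEmb P F₀ r ∈ centres q M) {v : Fin 4 → F₀} (hv : D.bil v v = 0) :
    ratEmb P F₀ v ∈ centres q M := by
  rcases eq_or_ne v 0 with rfl | hv0
  · rw [map_zero, ← zero_smul F (ratEmb P F₀ r)]; exact centres_smul D.card hC 0
  obtain ⟨g, hg, hgr⟩ := D.exists_moves hq hr hv hr0 hv0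
  exact hgr ▸ centres_conj (hHM hg) hg.2 hC

theorem le_of_rat_centres_four (hR : ∀ v, D.bil v v = 0 → ratEmb P F₀ v ∈ centres q M) :
    suGL 4 F q ≤ M := by
  have _ := hHM
  have hF := D.card
  have H := hermForm_isHerm hF 4
  obtain ⟨e, he⟩ : ∃ e : F₀, (e : F) = δ ^ 2 := ⟨⟨δ ^ 2, D.eps_mem⟩, rfl⟩
  -- undo a transvection
  have back : ∀ (r : Fin 4 → F₀) (a : F₀) (x y : Fin 4 → F₀), D.bil r r = 0 →
      ratEmb P F₀ (x + (e * a * D.bil y r) • r) + δ • ratEmb P F₀ (y + (a * D.bil x r) • r) ∈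
        centres q M →
      ratEmb P F₀ x + δ • ratEmb P F₀ y ∈ centres q M := by
    intro r a x y hr h
    have hc : -(δ * a) + (-(δ * (a : F))) ^ q = 0 := by
      rw [neg_pow_q hF, mul_pow, D.skew, D.val_pow]; ring
    have := centres_step hF (hR r hr) h hc
    convert this using 1
    rw [D.herm_right]
    simp only [map_add, LinearMap.add_apply, map_smul, LinearMap.smul_apply,
      smul_eq_mul, hr, mul_zero, add_zero, Subfield.smul_def, Subfield.coe_mul, he]
    match_scalars <;> ring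
  have good : ∀ x y : Fin 4 → F₀, D.bil y y = 0 → D.bil x x = 0 → D.bil x y ≠ 0 →
      ratEmb P F₀ x + δ • ratEmb P F₀ y ∈ centres q M := by
    intro x y hy hx hxy
    refine back y (-(D.bil x y)⁻¹) x y hy ?_
    rw [hy, mul_zero, zero_smul, add_zero, neg_mul, inv_mul_cancel₀ hxy, neg_smul, one_smul,
      add_neg_cancel, map_zero, smul_zero, add_zero]
    exact hR x hx
  refine le_of_centres hF (Or.inl (by omega)) fun v hv => ?_
  obtain ⟨x, y, rfl⟩ := D.split v
  have hiso := D.bil_iso he hv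
  have he0 : e ≠ 0 := fun h => pow_ne_zero 2 D.skew0 (he.symm.trans (congrArg Subtype.val h))
  have two0 := D.two_ne
  by_cases hyy : D.bil y y = 0
  · have hxx : D.bil x x = 0 := by rw [hiso, hyy, mul_zero]
    by_cases hxy : D.bil x y = 0
    swap
    · exact good x y hyy hxx hxy
    by_cases hdep : x ∈ Submodule.span F₀ {y}
    · obtain ⟨c, rfl⟩ := Submodule.mem_span_singleton.1 hdep
      rw [ratEmb_smul, ← add_smul]
      exact centres_smul hF (hR y hyy) _
    obtain ⟨r, hr, hyr, hxr⟩ := D.exists_pairing_sing hxx (by rw [D.bil_symm, hxy]) hdep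
    refine back r 1 x y hr ?_
    rw [hyr, mul_zero, zero_smul, add_zero]
    refine good _ _ ?_ hxx ?_
    · simp [hyy, hr, hyr, D.bil_symm r y]
    · simp [hxy, hxr]
  have hy0 : y ≠ 0 := fun h => hyy (by rw [h]; simp)
  have hx0 : x ≠ 0 := fun h => mul_ne_zero he0 hyy (by rw [← hiso, h]; simp)
  obtain ⟨r, hr, hxr, hyr⟩ := D.exists_both hq hx0 hy0
  set a : F₀ := -(D.bil y y) / (2 * D.bil x r * D.bil y r) with ha
  set X := x + (e * a * D.bil y r) • r with hX
  set Y := y + (a * D.bil x r) • r with hY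
  have hYY : D.bil Y Y = 0 := by
    simp only [hY, map_add, LinearMap.add_apply, map_smul, LinearMap.smul_apply, smul_eq_mul,
      hr, D.bil_symm r y, ha]
    field_simp
    ring
  have hXX : D.bil X X = 0 := by
    simp only [hX, map_add, LinearMap.add_apply, map_smul, LinearMap.smul_apply, smul_eq_mul,
      hr, D.bil_symm r x, hiso, ha]
    field_simp
    ring
  refine back r a x y hr ?_
  show ratEmb P F₀ X + δ • ratEmb P F₀ Y ∈ centres q M
  by_cases hXY : D.bil X Y = 0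
  swap
  · exact good X Y hYY hXX hXY
  by_cases hindXY : X ∈ Submodule.span F₀ {Y}
  · obtain ⟨c, hc⟩ := Submodule.mem_span_singleton.1 hindXY
    rw [← hc, ratEmb_smul, ← add_smul]
    exact centres_smul hF (hR Y hYY) _
  obtain ⟨p, hp, hYp, hXp⟩ := D.exists_pairing_sing hXX (by rw [D.bil_symm, hXY]) hindXY
  refine back p 1 X Y hp ?_
  rw [hYp, mul_zero, zero_smul, add_zero]
  refine good _ _ ?_ hXX ?_
  · simp [hYY, hp, hYp, D.bil_symm p Y]
  · simp [hXY, hXp]

end RatData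

/-- The orthogonal subfield subgroup is maximal in SU_4 for odd q ≥ 5. -/
theorem isMaximalIn_orth_subfield_four (hF : Fintype.card F = q ^ 2) (hodd : Odd q) (hq : 5 ≤ q)
    {F₀ : Subfield F} (hcard : Fintype.card F = Nat.card F₀ ^ 2)
    {P : Matrix.GeneralLinearGroup (Fin 4) F}
    (hP : Cfsg.Geo.IsFormRationalStructure (Cfsg.hermForm 4 F q) F₀ 1 P) :
    Cfsg.Geo.IsMaximalIn (suGL 4 F q) (Cfsg.Geo.subfieldSubgroup F₀ P ⊓ suGL 4 F q) := by
  obtain ⟨δ, hδ0, hδ⟩ := exists_skew hF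
  have h2 : (2 : F) ≠ 0 := by
    intro h
    obtain ⟨p, hp⟩ := CharP.exists F
    obtain ⟨k, hpp, hk⟩ := FiniteField.card F p
    have : p = 2 := by
      have := (CharP.cast_eq_zero_iff F p 2).1 (by exact_mod_cast h)
      exact (Nat.prime_dvd_prime_iff_eq hpp Nat.prime_two).1 this
    subst this
    rw [hF] at hk
    have : 2 ∣ q ^ 2 := hk ▸ dvd_pow_self 2 k.ne_zero
    exact (Nat.not_even_iff_odd.2 hodd) (even_iff_two_dvd.2 (Nat.prime_two.dvd_of_dvd_pow this))
  have D : RatData q F₀ P δ :=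
    ⟨hF, h2, mem_subfield_iff_pow hF hcard, fun u v hu hv => by simpa using hP u v hu hv, hδ0, hδ⟩
  refine isMaximalIn_of_forall inf_le_right ?_ fun M hHM hMK g hgM hgH => ?_
  · -- a transvection outside
    obtain ⟨r, hr0, hr⟩ := D.exists_sing_ne
    obtain ⟨s, hs, hrs⟩ := D.exists_sing hr0
    have hc : δ + δ ^ q = 0 := by rw [hδ, add_neg_cancel]
    refine ⟨glTransvection hF (ratEmb P F₀ r) (congrArg Subtype.val hr) δ hc,
      suToGU_mem_suGL _, fun hmem => ?_⟩
    obtain ⟨l, hl⟩ := D.map_of_mem hmem.1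
    obtain ⟨v, hv⟩ := hl r
    obtain ⟨w, hw⟩ := hl s
    have ev : ∀ u, ((glTransvection hF (ratEmb P F₀ r) (congrArg Subtype.val hr) δ hc :
        Matrix.GeneralLinearGroup (Fin 4) F) : Matrix (Fin 4) (Fin 4) F) *ᵥ ratEmb P F₀ u =
        ratEmb P F₀ u + (δ * D.bil u r) • ratEmb P F₀ r := fun u => transvection_mulVec _ _ _
    rw [ev, hr, ZeroMemClass.coe_zero, mul_zero, zero_smul, add_zero] at hv
    rw [ev, D.bil_symm, hrs, OneMemClass.coe_one, mul_one] at hw
    obtain ⟨c, d, hcd⟩ := D.coeff_exists l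
    have e1 : ratEmb P F₀ r + δ • ratEmb P F₀ (0 : Fin 4 → F₀) =
        ratEmb P F₀ (c • v) + δ • ratEmb P F₀ (d • v) := by
      rw [map_zero, smul_zero, add_zero, hv, hcd, ratEmb_smul, ratEmb_smul]
      module
    obtain ⟨h3, h4⟩ := D.split_unique e1
    have hd : d = 0 := (smul_eq_zero.1 h4.symm).resolve_right fun h => hr0 (by rw [h3, h, smul_zero])
    have e2 : ratEmb P F₀ s + δ • ratEmb P F₀ r =
        ratEmb P F₀ (c • w) + δ • ratEmb P F₀ (0 : Fin 4 → F₀) := by
      rw [map_zero, smul_zero, add_zero, hw, hcd, hd, ratEmb_smul, ZeroMemClass.coe_zero, mul_zero,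
        add_zero]
    exact hr0 (D.split_unique e2).2
  · obtain ⟨r, hr0, hr, hC⟩ := D.exists_centre_four hHM hq hMK hgM fun h => hgH ⟨h, hMK hgM⟩
    exact D.le_of_rat_centres_four hHM hq fun v hv => D.rat_centres_four hHM hq hr0 hr hC hv

end Cfsg.Agent.Unitary
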