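import Cfsg.Agent.Lib.Unitary.OrthInU
import Cfsg.Agent.Lib.Unitary.Decomp
/-
Tools for the orthogonal subfield subgroup in dimension four.
* eichG_exists, IsEichG.quot/.shift, Siegel elements and products of two reflections in the subfield subgroup
* RatData.exists_both, exists_moves, gram_square, exists_quad
-/
set_option autoImplicit false

namespace Cfsg.Agent.Unitary

open scoped Matrix

variable {F : Type*} [Field F] [Fintype F] {q n : ℕ}

theorem det_one_add_cube {N : Matrix (Fin n) (Fin n) F} (h : N ^ 3 = 0) : (1 + N).det = 1 := by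
  classical
  obtain ⟨p, hp⟩ := CharP.exists F
  have : Fact p.Prime := ⟨CharP.char_is_prime F p⟩
  obtain ⟨k, hk⟩ : ∃ k, 3 ≤ p ^ k := ⟨2, by nlinarith [(Fact.out : p.Prime).two_le]⟩
  rcases Nat.eq_zero_or_pos n with rfl | hn
  · simp
  have : Nonempty (Fin n) := ⟨⟨0, hn⟩⟩
  have h1 : (1 + N) ^ p ^ k = 1 := by
    rw [add_pow_char_pow_of_commute p k (Commute.one_left N), one_pow]
    obtain ⟨m, hm⟩ := Nat.exists_eq_add_of_le hk
    rw [hm, pow_add, h, zero_mul, add_zero]
  have h2 := congrArg Matrix.det h1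
  rw [Matrix.det_pow, Matrix.det_one] at h2
  refine (frobenius_inj F p).iterate k ?_
  rw [← coe_iterateFrobenius, iterateFrobenius_def, iterateFrobenius_def, h2, one_pow]

/-- Siegel elements exist in the special unitary group. -/
theorem eichG_exists (hF : Fintype.card F = q ^ 2) {a b : Fin n → F} {γ : F}
    (ha : Cfsg.hermForm n F q a a = 0) (hab : Cfsg.hermForm n F q a b = 0)
    (hγ : γ + γ ^ q + Cfsg.hermForm n F q b b = 0) :
    ∃ g ∈ suGL n F q, IsEichG q g a b γ := by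
  have H := hermForm_isHerm hF n
  let f : (Fin n → F) →ₗ[F] (Fin n → F) :=
    { toFun := fun x => Cfsg.hermForm n F q x a • b - Cfsg.hermForm n F q x b • a +
        (γ * Cfsg.hermForm n F q x a) • a
      map_add' := fun x y => by simp only [H.add_left]; module
      map_smul' := fun c x => by simp only [H.smul_left, RingHom.id_apply]; module }
  have hv : ∀ x, LinearMap.toMatrix' f *ᵥ x = f x := fun x => LinearMap.toMatrix'_mulVec f x
  have hba := (H.eq_zero_symm hF).1 hab
  have hcube : LinearMap.toMatrix' f ^ 3 = 0 := by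
    refine Matrix.ext_iff_mulVec.2 fun x => ?_
    rw [pow_three, ← Matrix.mulVec_mulVec, ← Matrix.mulVec_mulVec, hv, hv, hv, Matrix.zero_mulVec]
    simp only [f, LinearMap.coe_mk, AddHom.coe_mk, H.add_left, H.sub_left, H.smul_left, ha, hab, hba]
    module
  have hM : IsUnitary q (1 + LinearMap.toMatrix' f) := fun x y => by
    rw [Matrix.add_mulVec, Matrix.add_mulVec, hv, hv, Matrix.one_mulVec, Matrix.one_mulVec]
    simp only [f, LinearMap.coe_mk, AddHom.coe_mk, H.add_left, H.add_right hF, H.sub_left,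
      H.sub_right hF, H.smul_left, H.smul_right, mul_pow, ha, hab, hba, ← H.conj_symm]
    linear_combination Cfsg.hermForm n F q x a * Cfsg.hermForm n F q a y * hγ
  have hd := det_one_add_cube hcube
  obtain ⟨g, hg⟩ : ∃ g : Matrix.GeneralLinearGroup (Fin n) F,
      (g : Matrix (Fin n) (Fin n) F) = 1 + LinearMap.toMatrix' f :=
    ⟨Matrix.GeneralLinearGroup.mk'' _ (by rw [hd]; exact isUnit_one), rfl⟩
  refine ⟨g, ⟨?_, MonoidHom.mem_ker.2 (Units.ext ?_)⟩, fun x => ?_⟩
  · show g ∈ Cfsg.GU n F q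
    rw [mem_GU_iff, hg]; exact hM
  · simpa [hg] using hd
  · rw [hg, Matrix.add_mulVec, hv, Matrix.one_mulVec]
    simp only [f, LinearMap.coe_mk, AddHom.coe_mk]
    module

/-- Two Siegel elements with the same vectors differ by a transvection. -/
theorem IsEichG.quot (hF : Fintype.card F = q ^ 2) {g g' : Matrix.GeneralLinearGroup (Fin n) F}
    {a b : Fin n → F} {γ γ' : F} (h : IsEichG q g a b γ) (h' : IsEichG q g' a b γ')
    (ha : Cfsg.hermForm n F q a a = 0) (hb : Cfsg.hermForm n F q a b = 0) :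
    IsTrans q (g * g'⁻¹) a (γ - γ') := by
  have H := hermForm_isHerm hF n
  intro x
  obtain ⟨y, rfl⟩ : ∃ y, (g' : Matrix (Fin n) (Fin n) F) *ᵥ y = x :=
    Matrix.mulVec_surjective_iff_isUnit.2 (Units.isUnit g') x
  rw [Matrix.mulVec_mulVec, ← Units.val_mul, inv_mul_cancel_right, h, h']
  simp only [H.add_left, H.sub_left, H.smul_left, ha, (H.eq_zero_symm hF).1 hb]
  module

theorem IsEichG.shift (hF : Fintype.card F = q ^ 2) {g : Matrix.GeneralLinearGroup (Fin n) F}
    {a b : Fin n → F} {γ t : F} (h : IsEichG q g a (b + t • a) γ) :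
    IsEichG q g a b (γ + t - t ^ q) := by
  have H := hermForm_isHerm hF n
  intro x
  rw [h x, H.add_right hF, H.smul_right]
  module

theorem IsTrans.mul (hF : Fintype.card F = q ^ 2) {g g' : Matrix.GeneralLinearGroup (Fin n) F}
    {v : Fin n → F} {c c' : F} (h : IsTrans q g v c) (h' : IsTrans q g' v c')
    (hv : Cfsg.hermForm n F q v v = 0) : IsTrans q (g * g') v (c + c') := by
  have H := hermForm_isHerm hF n
  intro x
  rw [Units.val_mul, ← Matrix.mulVec_mulVec, h', h, H.add_left, H.smul_left, hv]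
  module

theorem IsTrans.inv (hF : Fintype.card F = q ^ 2) {g : Matrix.GeneralLinearGroup (Fin n) F}
    {v : Fin n → F} {c : F} (h : IsTrans q g v c) (hv : Cfsg.hermForm n F q v v = 0) :
    IsTrans q g⁻¹ v (-c) := by
  have H := hermForm_isHerm hF n
  intro x
  obtain ⟨y, rfl⟩ : ∃ y, (g : Matrix (Fin n) (Fin n) F) *ᵥ y = x :=
    Matrix.mulVec_surjective_iff_isUnit.2 (Units.isUnit g) x
  rw [Matrix.mulVec_mulVec, ← Units.val_mul, inv_mul_cancel, Units.val_one, Matrix.one_mulVec, h,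
    H.add_left, H.smul_left, hv]
  module

namespace RatData

section General

variable {F₀ : Subfield F} {P : Matrix.GeneralLinearGroup (Fin n) F} {δ : F}
  (D : RatData q F₀ P δ)
include D

theorem card_base : Nat.card F₀ = q :=
  (Nat.card_congr (Equiv.subtypeEquivRight fun _ => D.mem)).trans (card_fixed D.card)

theorem two_pow : (2 : F) ^ q = 2 := by
  rw [show (2 : F) = 1 + 1 by norm_num, add_pow_q D.card, one_pow]

theorem eps_mem : δ ^ 2 ∈ F₀ :=
  D.mem.2 (by rw [← pow_mul, mul_comm, pow_mul, D.skew, neg_sq])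

theorem not_square {e : F₀} (he : (e : F) = δ ^ 2) (a : F₀) : a * a ≠ e := by
  intro h
  have h' : ((a : F) - δ) * ((a : F) + δ) = 0 := by
    have := congrArg Subtype.val h
    rw [Subfield.coe_mul, he] at this
    linear_combination this
  rcases mul_eq_zero.1 h' with h1 | h1
  · exact one_ne_zero (neg_eq_zero.1 (D.coeff_unique (a := a) (b := -1)
      (by push_cast; linear_combination h1)).2)
  · exact one_ne_zero (D.coeff_unique (a := a) (b := 1) (by push_cast; linear_combination h1)).2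

theorem exists_siegel {r w : Fin n → F₀} (hr : D.bil r r = 0) (hrw : D.bil r w = 0) :
    ∃ g ∈ Cfsg.Geo.subfieldSubgroup F₀ P ⊓ suGL n F q,
      IsEichG q g (ratEmb P F₀ r) (ratEmb P F₀ w) (-(D.bil w w : F) / 2) := by
  have h2 := D.odd
  obtain ⟨g, hg, he⟩ := eichG_exists D.card (a := ratEmb P F₀ r) (b := ratEmb P F₀ w)
    (γ := -(D.bil w w : F) / 2) (congrArg Subtype.val hr) (congrArg Subtype.val hrw) (by
      rw [div_pow, neg_pow_q D.card, D.val_pow, D.two_pow, ← D.bil_val]; field_simp; ring)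
  refine ⟨g, ⟨D.mem_of_map one_ne_zero fun u =>
    ⟨u + D.bil u r • w - D.bil u w • r + ((-D.bil w w / 2) * D.bil u r) • r, ?_⟩, hg⟩, he⟩
  rw [he, one_smul, map_add, map_sub, map_add, ratEmb_smul, ratEmb_smul, ratEmb_smul, ← D.bil_val,
    ← D.bil_val]
  push_cast
  simp only [show ((2 : F₀) : F) = (2 : F) from map_ofNat F₀.subtype 2]

/-- The reflection in an anisotropic rational vector. -/
noncomputable def brefl (u x : Fin n → F₀) : Fin n → F₀ := x - (2 * D.bil x u / D.bil u u) • u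

theorem brefl_fix {u x : Fin n → F₀} (h : D.bil x u = 0) : D.brefl u x = x := by
  simp [brefl, h]

theorem exists_refl_rat {u : Fin n → F₀} (hu : D.bil u u ≠ 0) :
    ∃ g ∈ Cfsg.GU n F q, (g : Matrix (Fin n) (Fin n) F).det = -1 ∧
      ∀ x, (g : Matrix (Fin n) (Fin n) F) *ᵥ ratEmb P F₀ x = ratEmb P F₀ (D.brefl u x) := by
  have hF := D.card
  have H := hermForm_isHerm hF n
  have hu' : (D.bil u u : F) ≠ 0 := fun h => hu (Subtype.ext h)
  obtain ⟨c, hc⟩ := exists_norm_eq hF (c := ((D.bil u u : F))⁻¹) (by rw [inv_pow, D.val_pow])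
  have he : Cfsg.hermForm n F q (c • ratEmb P F₀ u) (c • ratEmb P F₀ u) = 1 := by
    rw [H.smul_left, H.smul_right, ← D.bil_val, ← mul_assoc, ← pow_succ', hc, inv_mul_cancel₀ hu']
  obtain ⟨g, hg, hd, hx⟩ := exists_refl hF he (m := -1)
    (by rw [pow_succ, neg_pow_q hF, one_pow, neg_mul_neg, mul_one])
  refine ⟨g, hg, hd, fun x => ?_⟩
  have e : ((-1 - 1) * (c ^ q * (D.bil x u : F))) * c =
      -((2 * D.bil x u / D.bil u u : F₀) : F) := by
    push_cast
    simp only [show ((2 : F₀) : F) = (2 : F) from map_ofNat F₀.subtype 2]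
    rw [pow_succ] at hc
    field_simp at hc ⊢
    linear_combination (-2 : F) * (D.bil x u : F) * hc
  rw [hx, H.smul_right, ← D.bil_val, brefl, map_sub, ratEmb_smul, smul_smul, e, neg_smul,
    sub_eq_add_neg]

theorem exists_refl_pair {u v : Fin n → F₀} (hu : D.bil u u ≠ 0) (hv : D.bil v v ≠ 0) :
    ∃ g ∈ Cfsg.Geo.subfieldSubgroup F₀ P ⊓ suGL n F q,
      ∀ x, (g : Matrix (Fin n) (Fin n) F) *ᵥ ratEmb P F₀ x =
        ratEmb P F₀ (D.brefl u (D.brefl v x)) := by
  obtain ⟨g, hg, hgd, hgx⟩ := D.exists_refl_rat hu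
  obtain ⟨k, hk, hkd, hkx⟩ := D.exists_refl_rat hv
  have e : ∀ x, ((g * k : Matrix.GeneralLinearGroup (Fin n) F) : Matrix (Fin n) (Fin n) F) *ᵥ
      ratEmb P F₀ x = ratEmb P F₀ (D.brefl u (D.brefl v x)) := fun x => by
    rw [Units.val_mul, ← Matrix.mulVec_mulVec, hkx, hgx]
  refine ⟨g * k, ⟨D.mem_of_map one_ne_zero fun x => ⟨_, (e x).trans (one_smul F _).symm⟩,
    mul_mem hg hk, MonoidHom.mem_ker.2 (Units.ext ?_)⟩, e⟩
  simp [Matrix.det_mul, hgd, hkd]

/-- A vector orthogonal to all of the orthogonal of e is a multiple of e. -/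
theorem eq_smul_of_perp {e Y : Fin n → F₀} (h : ∀ w, D.bil e w = 0 → D.bil Y w = 0) :
    ∃ k : F₀, Y = k • e := by
  by_cases hY : Y ∈ Submodule.span F₀ {e}
  · obtain ⟨k, hk⟩ := Submodule.mem_span_singleton.1 hY
    exact ⟨k, hk.symm⟩
  obtain ⟨v, h1, h2⟩ := exists_bilin_dual D.bil_symm D.bil_nondeg hY
  exact absurd (h2.symm.trans (h v (h1 e (Submodule.mem_span_singleton_self e)))) one_ne_zero

theorem bil_iso {x y : Fin n → F₀} {e : F₀} (he : (e : F) = δ ^ 2)
    (h : Cfsg.hermForm n F q (ratEmb P F₀ x + δ • ratEmb P F₀ y)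
        (ratEmb P F₀ x + δ • ratEmb P F₀ y) = 0) : D.bil x x = e * D.bil y y :=
  Subtype.ext (by rw [Subfield.coe_mul, he]; exact sub_eq_zero.1 ((D.iso_iff x y).1 h))

theorem li_of_iso {x y : Fin n → F₀} {e : F₀} (he : (e : F) = δ ^ 2)
    (h : D.bil x x = e * D.bil y y) (hy : D.bil y y ≠ 0) : LinearIndependent F₀ ![x, y] := by
  rw [LinearIndependent.pair_iff]
  intro s t hst
  have hy' : t • y = -(s • x) := eq_neg_of_add_eq_zero_right hst
  have h1 : t * t * D.bil y y = s * s * D.bil x x := by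
    have := congrArg (fun v => D.bil v v) hy'
    simp only [map_smul, map_neg, LinearMap.smul_apply, LinearMap.neg_apply, smul_eq_mul, neg_neg] at this
    linear_combination this
  rw [h] at h1
  have h2 : t * t = s * s * e := mul_right_cancel₀ hy (by linear_combination h1)
  rcases eq_or_ne s 0 with rfl | hs
  · exact ⟨rfl, mul_self_eq_zero.1 (h2.trans (by ring))⟩
  · exact absurd (show (t / s) * (t / s) = e by field_simp; linear_combination h2) (D.not_square he _)

end General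

variable {F₀ : Subfield F} {P : Matrix.GeneralLinearGroup (Fin 4) F} {δ : F}
  (D : RatData q F₀ P δ)
include D

theorem exists_perp {m : ℕ} (hm : m < 4) (T : Fin m → Fin 4 → F₀) :
    ∃ z, z ≠ 0 ∧ ∀ i, D.bil (T i) z = 0 := by
  let f : (Fin 4 → F₀) →ₗ[F₀] (Fin m → F₀) := LinearMap.pi fun i => D.bil (T i)
  by_contra hc
  simp only [not_exists, not_and] at hc
  have hinj : Function.Injective f := by
    rw [← LinearMap.ker_eq_bot, LinearMap.ker_eq_bot']
    intro z hz
    by_contra h0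
    exact hc z h0 fun i => congrFun hz i
  have := LinearMap.finrank_le_finrank_of_injective hinj
  simp only [Module.finrank_fin_fun] at this
  omega

theorem exists_sing {x : Fin 4 → F₀} (hx : x ≠ 0) : ∃ s, D.bil s s = 0 ∧ D.bil x s = 1 := by
  obtain ⟨s, h1, -, h2⟩ := exists_singular_pairing D.bil_symm D.bil_nondeg D.two_ne (m := 0)
    Fin.elim0 (by rw [Module.finrank_fin_fun]; omega) (z := x) (by simpa using hx)
  exact ⟨s, h1, h2⟩

theorem exists_sing_ne : ∃ r, r ≠ 0 ∧ D.bil r r = 0 := by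
  obtain ⟨x, hx, -⟩ := D.exists_perp (m := 0) (by omega) Fin.elim0
  obtain ⟨s, h1, h2⟩ := D.exists_sing hx
  exact ⟨s, fun h => by rw [h, map_zero] at h2; exact zero_ne_one h2, h1⟩

theorem exists_pairing_sing {x y : Fin 4 → F₀} (hx : D.bil x x = 0) (hyx : D.bil y x = 0)
    (h : x ∉ Submodule.span F₀ {y}) :
    ∃ p, D.bil p p = 0 ∧ D.bil y p = 0 ∧ D.bil x p = 1 := by
  obtain ⟨z, hz1, hz2⟩ := exists_bilin_dual D.bil_symm D.bil_nondeg h
  have hyz := hz1 y (Submodule.mem_span_singleton_self y)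
  refine ⟨z - (D.bil z z / 2) • x, ?_, ?_, ?_⟩
  · have := D.two_ne
    simp only [map_sub, map_smul, LinearMap.sub_apply, LinearMap.smul_apply, smul_eq_mul, hx, hz2,
      D.bil_symm z x]
    field_simp
    ring
  · simp [hyz, hyx]
  · simp [hz2, hx]

theorem exists_aniso_perp {r s : Fin 4 → F₀} (hr : D.bil r r = 0) (hs : D.bil s s = 0)
    (hrs : D.bil r s ≠ 0) : ∃ w, D.bil r w = 0 ∧ D.bil s w = 0 ∧ D.bil w w ≠ 0 := by
  obtain ⟨z, hz0, hz⟩ := D.exists_perp (m := 2) (by omega) ![r, s]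
  have h1 : D.bil r z = 0 := hz 0
  have h2 : D.bil s z = 0 := hz 1
  by_cases hzz : D.bil z z = 0
  swap
  · exact ⟨z, h1, h2, hzz⟩
  have hzS : z ∉ Submodule.span F₀ (Set.range ![r, s]) := by
    intro h
    obtain ⟨c, hc⟩ := (Submodule.mem_span_range_iff_exists_fun F₀).1 h
    simp only [Fin.sum_univ_two, Matrix.cons_val_zero, Matrix.cons_val_one] at hc
    rw [← hc] at h1 h2
    simp only [map_add, map_smul, smul_eq_mul, hr, hs, D.bil_symm s r, mul_zero, zero_add, add_zero,
      mul_eq_zero, hrs, or_false] at h1 h2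
    rw [← hc, h1, h2, zero_smul, zero_smul, add_zero] at hz0
    exact hz0 rfl
  obtain ⟨v, hv, hzv⟩ := exists_bilin_dual D.bil_symm D.bil_nondeg hzS
  have hrv : D.bil r v = 0 := hv r (Submodule.subset_span ⟨0, rfl⟩)
  have hsv : D.bil s v = 0 := hv s (Submodule.subset_span ⟨1, rfl⟩)
  by_cases hvv : D.bil v v = 0
  · refine ⟨z + v, by simp [h1, hrv], by simp [h2, hsv], ?_⟩
    simpa [hzz, hvv, hzv, D.bil_symm v z, one_add_one_eq_two] using D.two_ne
  · exact ⟨v, hrv, hsv, hvv⟩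

theorem exists_both (hq : 5 ≤ q) {x y : Fin 4 → F₀} (hx : x ≠ 0) (hy : y ≠ 0) :
    ∃ r, D.bil r r = 0 ∧ D.bil x r ≠ 0 ∧ D.bil y r ≠ 0 := by
  classical
  obtain ⟨a, ha, hxa⟩ := D.exists_sing hx
  obtain ⟨b, hb, hyb⟩ := D.exists_sing hy
  by_cases hya : D.bil y a = 0
  swap
  · exact ⟨a, ha, by rw [hxa]; exact one_ne_zero, hya⟩
  by_cases hxb : D.bil x b = 0
  swap
  · exact ⟨b, hb, hxb, by rw [hyb]; exact one_ne_zero⟩
  by_cases hab : D.bil a b = 0
  · exact ⟨a + b, by simp [ha, hb, hab, D.bil_symm b a], by simp [hxa, hxb], by simp [hya, hyb]⟩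
  obtain ⟨w, haw, hbw, hww⟩ := D.exists_aniso_perp ha hb hab
  obtain ⟨κ, hκ⟩ : ∃ κ, κ = D.bil w w / (2 * D.bil a b) := ⟨_, rfl⟩
  have h2 := D.two_ne
  have hκ0 : κ ≠ 0 := by rw [hκ]; exact div_ne_zero hww (mul_ne_zero h2 hab)
  haveI : Fintype F₀ := Fintype.ofFinite _
  obtain ⟨t, ht⟩ : ∃ t, t ∉ ({0, -(D.bil x w)⁻¹, D.bil y w / κ} : Finset F₀) := by
    obtain ⟨t, -, ht⟩ := Finset.exists_mem_notMem_of_card_lt_card (t := (Finset.univ : Finset F₀))
      (s := ({0, -(D.bil x w)⁻¹, D.bil y w / κ} : Finset F₀))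
      ((Finset.card_le_three).trans_lt (by
        rw [Finset.card_univ, ← Nat.card_eq_fintype_card, D.card_base]; omega))
    exact ⟨t, ht⟩
  simp only [Finset.mem_insert, Finset.mem_singleton, not_or] at ht
  refine ⟨a + t • w - (t * t * κ) • b, ?_, ?_, ?_⟩
  · simp only [map_add, map_sub, map_smul, LinearMap.add_apply, LinearMap.sub_apply,
      LinearMap.smul_apply, smul_eq_mul, ha, hb, haw, hbw, D.bil_symm b a, D.bil_symm w a,
      D.bil_symm w b, hκ]
    field_simp
    ring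
  · intro h
    simp only [map_add, map_sub, map_smul, smul_eq_mul, hxa, hxb, mul_zero, sub_zero] at h
    have h0 : D.bil x w ≠ 0 := fun h0 => one_ne_zero (by rw [h0, mul_zero, add_zero] at h; exact h)
    exact ht.2.1 (by field_simp; linear_combination h)
  · intro h
    simp only [map_add, map_sub, map_smul, smul_eq_mul, hya, hyb, mul_one, zero_add] at h
    exact ht.2.2 (by field_simp; exact mul_left_cancel₀ ht.1 (by linear_combination -h))

/-- Two singular vectors with nonzero pairing are exchanged by the subfield subgroup. -/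
theorem exists_move {r v : Fin 4 → F₀} (hr : D.bil r r = 0) (hv : D.bil v v = 0)
    (hrv : D.bil r v ≠ 0) :
    ∃ g ∈ Cfsg.Geo.subfieldSubgroup F₀ P ⊓ suGL 4 F q,
      (g : Matrix (Fin 4) (Fin 4) F) *ᵥ ratEmb P F₀ r = ratEmb P F₀ v := by
  obtain ⟨w, hrw, -, hww⟩ := D.exists_aniso_perp hr hv hrv
  have h2 := D.two_ne
  have hd : D.bil (r - v) (r - v) = -(2 * D.bil r v) := by simp [hr, hv, D.bil_symm v r]; ring
  have hd0 : D.bil (r - v) (r - v) ≠ 0 := by
    rw [hd]; exact neg_ne_zero.2 (mul_ne_zero h2 hrv)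
  obtain ⟨g, hg, hgx⟩ := D.exists_refl_pair hd0 hww
  refine ⟨g, hg, ?_⟩
  rw [hgx, D.brefl_fix hrw]
  congr 1
  have e : 2 * D.bil r (r - v) / D.bil (r - v) (r - v) = 1 := by
    rw [hd, map_sub, hr, zero_sub, mul_neg, div_self (neg_ne_zero.2 (mul_ne_zero h2 hrv))]
  rw [brefl, e, one_smul, sub_sub_cancel]

theorem exists_moves (hq : 5 ≤ q) {r v : Fin 4 → F₀} (hr : D.bil r r = 0) (hv : D.bil v v = 0)
    (hr0 : r ≠ 0) (hv0 : v ≠ 0) :
    ∃ g ∈ Cfsg.Geo.subfieldSubgroup F₀ P ⊓ suGL 4 F q,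
      (g : Matrix (Fin 4) (Fin 4) F) *ᵥ ratEmb P F₀ r = ratEmb P F₀ v := by
  obtain ⟨m, hm, hrm, hvm⟩ := D.exists_both hq hr0 hv0
  obtain ⟨g, hg, hgr⟩ := D.exists_move hr hm hrm
  obtain ⟨k, hk, hkm⟩ := D.exists_move hm hv (by rwa [D.bil_symm])
  exact ⟨k * g, mul_mem hk hg, by rw [Units.val_mul, ← Matrix.mulVec_mulVec, hgr, hkm]⟩

theorem exists_orth_pair {r s : Fin 4 → F₀} (hr : D.bil r r = 0) (hs : D.bil s s = 0)
    (hrs : D.bil r s = 1) :
    ∃ wa wb, D.bil r wa = 0 ∧ D.bil s wa = 0 ∧ D.bil r wb = 0 ∧ D.bil s wb = 0 ∧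
      D.bil wa wb = 0 ∧ D.bil wa wa ≠ 0 ∧ D.bil wb wb ≠ 0 := by
  obtain ⟨wa, hra, hsa, haa⟩ := D.exists_aniso_perp hr hs (by rw [hrs]; exact one_ne_zero)
  obtain ⟨z, hz0, hz⟩ := D.exists_perp (m := 3) (by omega) ![r, s, wa]
  have hrz : D.bil r z = 0 := hz 0
  have hsz : D.bil s z = 0 := hz 1
  have haz : D.bil wa z = 0 := hz 2
  refine ⟨wa, z, hra, hsa, hrz, hsz, haz, haa, fun hzz => ?_⟩
  have hli : LinearIndependent F₀ ![r, s, wa, z] := by
    rw [Fintype.linearIndependent_iff]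
    intro c hc
    simp [Fin.sum_univ_four] at hc
    have e := fun v => congrArg (fun u => D.bil u v) hc
    have h0 : c 0 = 0 := by
      simpa [hs, hrs, hsa, hsz, D.bil_symm wa s, D.bil_symm z s] using e s
    have h1 : c 1 = 0 := by
      simpa [hr, D.bil_symm s r, hrs, hra, hrz, D.bil_symm wa r, D.bil_symm z r] using e r
    have h2 : c 2 = 0 := by
      simpa [hra, hsa, haz, D.bil_symm z wa, haa] using e wa
    have h3 : c 3 = 0 := by
      have := hc
      simp only [h0, h1, h2, zero_smul, zero_add] at this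
      exact (smul_eq_zero.1 this).resolve_right hz0
    intro i
    fin_cases i <;> assumption
  refine hz0 (D.bil_nondeg z fun v => ?_)
  obtain ⟨c, rfl⟩ : ∃ c : Fin 4 → F₀, ∑ i, c i • ![r, s, wa, z] i = v := by
    rw [← Submodule.mem_span_range_iff_exists_fun,
      hli.span_eq_top_of_card_eq_finrank (by simp)]
    trivial
  simp [Fin.sum_univ_four, D.bil_symm z r, D.bil_symm z s, D.bil_symm z wa, hrz, hsz, haz, hzz]

/-- The products of the norms of two orthogonal frames differ by a square. -/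
theorem gram_square {v w : Fin 4 → Fin 4 → F₀} (hv : ∀ i j, i ≠ j → D.bil (v i) (v j) = 0)
    (hw : ∀ i j, i ≠ j → D.bil (w i) (w j) = 0) :
    ∃ s, (∏ i, D.bil (v i) (v i)) * (∏ i, D.bil (w i) (w i)) = s * s := by
  have key : ∀ v : Fin 4 → Fin 4 → F₀, (∀ i j, i ≠ j → D.bil (v i) (v j) = 0) →
      (∏ i, D.bil (v i) (v i)) = (Matrix.of v).det * (Matrix.of v).det *
        (LinearMap.toMatrix₂' F₀ D.bil).det := by
    intro v hv
    let l := Matrix.toLin' (Matrix.of v)ᵀ
    have h := LinearMap.toMatrix₂'_compl₁₂ D.bil l l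
    have hl : ∀ i, l (Pi.single i 1) = v i := fun i => by
      show Matrix.toLin' (Matrix.of v)ᵀ (Pi.single i 1) = v i
      rw [Matrix.toLin'_apply, Matrix.mulVec_single_one]; rfl
    have hd : LinearMap.toMatrix₂' F₀ (D.bil.compl₁₂ l l) =
        Matrix.diagonal fun i => D.bil (v i) (v i) := by
      ext i j
      rw [LinearMap.toMatrix₂'_apply, LinearMap.compl₁₂_apply, hl, hl]
      rcases eq_or_ne i j with rfl | hij
      · rw [Matrix.diagonal_apply_eq]
      · rw [Matrix.diagonal_apply_ne _ hij, hv i j hij]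
    rw [hd] at h
    have := congrArg Matrix.det h
    simp only [l, LinearMap.toMatrix'_toLin', Matrix.transpose_transpose, Matrix.det_mul,
      Matrix.det_transpose, Matrix.det_diagonal] at this
    rw [this]; ring
  exact ⟨(Matrix.of v).det * (Matrix.of w).det * (LinearMap.toMatrix₂' F₀ D.bil).det,
    by rw [key v hv, key w hw]; ring⟩

omit D in
theorem exists_quad {a b : F₀} (ha : a ≠ 0) (hb : b ≠ 0) (h2 : (2 : F₀) ≠ 0) (c : F₀) :
    ∃ s t : F₀, s * s * a + t * t * b = c := by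
  classical
  haveI : Fintype F₀ := Fintype.ofFinite _
  open Polynomial in
  obtain ⟨s, t, h⟩ := FiniteField.exists_root_sum_quadratic (f := C a * X ^ 2) (g := C b * X ^ 2 - C c)
    (degree_C_mul_X_pow 2 ha)
    (by rw [degree_sub_eq_left_of_degree_lt] <;> rw [degree_C_mul_X_pow 2 hb]
        · rfl
        · exact degree_C_le.trans_lt (by norm_num))
    (by
      have hc : ringChar F₀ ≠ 2 := fun h => h2 (by
        have := ringChar.Nat.cast_ringChar (R := F₀)
        rw [h] at this; exact_mod_cast this)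
      rw [← Nat.odd_iff, Nat.odd_iff]; exact FiniteField.odd_card_of_char_ne_two hc)
  refine ⟨s, t, ?_⟩
  simp at h
  linear_combination h

end RatData

end Cfsg.Agent.Unitary
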