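import Cfsg.Agent.Lib.Unitary.OrthFourBase
/-
Overgroups of the orthogonal subfield subgroup in dimension four contain a rational transvection centre.
* centre_of_trans, centre_of_fix, centre_of_perp, RatData.exists_centre_four
-/
set_option autoImplicit false

namespace Cfsg.Agent.Unitary

open scoped Matrix

variable {F : Type*} [Field F] [Fintype F] {q : ℕ}

theorem isTrans_conj {n : ℕ} {g T : Matrix.GeneralLinearGroup (Fin n) F} (hg : g ∈ suGL n F q)
    {v : Fin n → F} {c : F}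
    (hT : IsTrans q T ((g : Matrix (Fin n) (Fin n) F) *ᵥ v) c) : IsTrans q (g⁻¹ * T * g) v c := by
  intro x
  rw [Units.val_mul, Units.val_mul, ← Matrix.mulVec_mulVec, ← Matrix.mulVec_mulVec, hT,
    mem_suGL_herm hg, Matrix.mulVec_add, Matrix.mulVec_smul, Matrix.mulVec_mulVec,
    Matrix.mulVec_mulVec, ← Units.val_mul, inv_mul_cancel, Units.val_one, Matrix.one_mulVec,
    Matrix.one_mulVec]

/-- Some element has fourth power outside the subfield. -/
theorem exists_pow_four (hF : Fintype.card F = q ^ 2) (hq : 5 ≤ q) :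
    ∃ κ : F, κ ≠ 0 ∧ (κ ^ 4) ^ q ≠ κ ^ 4 := by
  obtain ⟨g, hg⟩ := IsCyclic.exists_ofOrder_eq_natCard (α := Fˣ)
  rw [card_units hF] at hg
  refine ⟨(g : F), g.ne_zero, fun h => ?_⟩
  have h1 : g ^ (4 * q - 4) * g ^ 4 = 1 * g ^ 4 := by
    rw [← pow_add, Nat.sub_add_cancel (by omega), one_mul, pow_mul]
    exact Units.ext (by simpa using h)
  have h2 := Nat.le_of_dvd (by omega) (orderOf_dvd_of_pow_eq_one (mul_right_cancel h1))
  rw [hg] at h2
  have h3 : 5 * q ≤ q ^ 2 := by rw [sq]; exact Nat.mul_le_mul_right q hq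
  omega

namespace RatData

variable {F₀ : Subfield F} {P : Matrix.GeneralLinearGroup (Fin 4) F} {δ : F}
  (D : RatData q F₀ P δ)
include D

/-- An element of the subfield subgroup with an eigenvector among rational vectors. -/
theorem pow_four_mem {m : Matrix.GeneralLinearGroup (Fin 4) F}
    (hm : m ∈ Cfsg.Geo.subfieldSubgroup F₀ P) (hm' : m ∈ suGL 4 F q) {e : Fin 4 → F₀} (he : e ≠ 0)
    {κ : F} (hκ : κ ≠ 0)
    (h : (m : Matrix (Fin 4) (Fin 4) F) *ᵥ ratEmb P F₀ e = κ • ratEmb P F₀ e) :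
    κ ^ 4 ∈ F₀ := by
  obtain ⟨l, hl⟩ := D.map_of_mem hm
  obtain ⟨v, hv⟩ := hl e
  have hl0 : l ≠ 0 := by
    rintro rfl
    rw [zero_smul] at hv
    refine he (D.emb_inj ((smul_eq_zero.1 (h.symm.trans hv)).resolve_left hκ))
  obtain ⟨c, d, hcd⟩ := D.coeff_exists (κ / l)
  have hv' : ratEmb P F₀ v = (κ / l) • ratEmb P F₀ e := by
    rw [h] at hv
    rw [div_eq_inv_mul, mul_smul, hv, inv_smul_smul₀ hl0]
  have e1 : ratEmb P F₀ v + δ • ratEmb P F₀ (0 : Fin 4 → F₀) =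
      ratEmb P F₀ (c • e) + δ • ratEmb P F₀ (d • e) := by
    rw [map_zero, smul_zero, add_zero, hv', hcd, ratEmb_smul, ratEmb_smul]
    module
  obtain ⟨-, hd⟩ := D.split_unique e1
  have hd0 : d = 0 := (smul_eq_zero.1 hd.symm).resolve_right he
  rw [hd0, ZeroMemClass.coe_zero, mul_zero, add_zero] at hcd
  have hc0 : (c : F) ≠ 0 := hcd ▸ div_ne_zero hκ hl0
  have hκl : κ = l * c := by rw [← hcd]; field_simp
  choose w hw using fun j : Fin 4 => hl (Pi.single j 1)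
  let A : Matrix (Fin 4) (Fin 4) F₀ := Matrix.of fun i j => (c⁻¹ • w j) i
  have key : (m : Matrix (Fin 4) (Fin 4) F) * (P : Matrix (Fin 4) (Fin 4) F) =
      κ • ((P : Matrix (Fin 4) (Fin 4) F) * A.map (fun z : F₀ => (z : F))) := by
    refine Matrix.ext_of_mulVec_single fun j => ?_
    rw [Matrix.smul_mulVec, ← Matrix.mulVec_mulVec, ← Matrix.mulVec_mulVec, Matrix.mulVec_single_one,
      Matrix.mulVec_single_one]
    have e2 : (fun i => (A.map fun z : F₀ => (z : F)) i j) = (c : F)⁻¹ • fun i => (w j i : F) := by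
      funext i; simp [A]
    have e3 : ((P : Matrix (Fin 4) (Fin 4) F).col j) = ratEmb P F₀ (Pi.single j 1) := by
      show _ = (P : Matrix (Fin 4) (Fin 4) F) *ᵥ fun i => (((Pi.single j 1 : Fin 4 → F₀) i) : F)
      rw [← Matrix.mulVec_single_one]
      congr 1
      funext i
      by_cases hij : i = j
      · subst hij; simp
      · simp [hij]
    rw [show (A.map fun z : F₀ => (z : F)).col j = (c : F)⁻¹ • fun i => (w j i : F) from e2,
      Matrix.mulVec_smul, smul_smul, hκl, mul_assoc, mul_inv_cancel₀ hc0, mul_one, e3, hw j]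
    rfl
  have hd := congrArg Matrix.det key
  rw [Matrix.det_mul, Matrix.det_smul, Matrix.det_mul, Fintype.card_fin,
    show (m : Matrix (Fin 4) (Fin 4) F).det = 1 from congrArg Units.val (MonoidHom.mem_ker.1 hm'.2),
    one_mul, show (A.map fun z : F₀ => (z : F)).det = (A.det : F) from
      (RingHom.map_det F₀.subtype A).symm] at hd
  have hP : (P : Matrix (Fin 4) (Fin 4) F).det ≠ 0 :=
    (P.isUnit.map Matrix.detMonoidHom).ne_zero
  have h4 : κ ^ 4 * (A.det : F) = 1 :=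
    mul_right_cancel₀ hP (by rw [one_mul]; linear_combination -hd)
  rw [eq_inv_of_mul_eq_one_left h4]
  exact F₀.inv_mem A.det.2

theorem eq_of_rat_herm {b c : Fin 4 → F}
    (h : ∀ u, Cfsg.hermForm 4 F q (ratEmb P F₀ u) b = Cfsg.hermForm 4 F q (ratEmb P F₀ u) c) :
    b = c := by
  have H := hermForm_isHerm D.card 4
  refine sub_eq_zero.1 (hermForm_nondeg D.card 4 _ fun z => (H.eq_zero_symm D.card).1 ?_)
  obtain ⟨x, y, rfl⟩ := D.split z
  rw [H.add_left, H.smul_left, H.sub_right D.card, H.sub_right D.card, h, h, sub_self, sub_self,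
    mul_zero, add_zero]

/-- A Siegel element of the subfield subgroup on an irrational line is trivial. -/
theorem eq_smul_of_eich_mem {X : Matrix.GeneralLinearGroup (Fin 4) F}
    (hX : X ∈ Cfsg.Geo.subfieldSubgroup F₀ P) {a b : Fin 4 → F} {γ : F}
    (hXe : IsEichG q X a b γ) (hγ : γ ^ q = γ) {e : Fin 4 → F₀} (he : e ≠ 0)
    (hfix : (X : Matrix (Fin 4) (Fin 4) F) *ᵥ ratEmb P F₀ e = ratEmb P F₀ e)
    {x y : Fin 4 → F₀} (ha : a = ratEmb P F₀ x + δ • ratEmb P F₀ y)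
    (hxy : LinearIndependent F₀ ![x, y]) : ∃ k : F, b = k • a := by
  have hF := D.card
  have H := hermForm_isHerm hF 4
  obtain ⟨l, hl⟩ := D.map_of_mem hX
  obtain ⟨v, hv⟩ := hl e
  obtain ⟨c, d, hcd⟩ := D.coeff_exists l
  rw [hfix, hcd] at hv
  have e1 : ratEmb P F₀ e + δ • ratEmb P F₀ (0 : Fin 4 → F₀) =
      ratEmb P F₀ (c • v) + δ • ratEmb P F₀ (d • v) := by
    rw [map_zero, smul_zero, add_zero, hv, ratEmb_smul, ratEmb_smul]
    module
  obtain ⟨h1, h2⟩ := D.split_unique e1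
  have hd : d = 0 := (smul_eq_zero.1 h2.symm).resolve_right fun h => he (by rw [h1, h, smul_zero])
  rw [hd, ZeroMemClass.coe_zero, mul_zero, add_zero] at hcd
  have hreal : ∀ u, Cfsg.hermForm 4 F q (ratEmb P F₀ u) b ^ q *
      Cfsg.hermForm 4 F q (ratEmb P F₀ u) a =
      Cfsg.hermForm 4 F q (ratEmb P F₀ u) b * Cfsg.hermForm 4 F q (ratEmb P F₀ u) a ^ q := by
    intro u
    obtain ⟨w, hw⟩ := hl u
    have hr : Cfsg.hermForm 4 F q ((X : Matrix (Fin 4) (Fin 4) F) *ᵥ ratEmb P F₀ u) (ratEmb P F₀ u) ^ q =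
        Cfsg.hermForm 4 F q ((X : Matrix (Fin 4) (Fin 4) F) *ᵥ ratEmb P F₀ u) (ratEmb P F₀ u) := by
      rw [hw, hcd, H.smul_left, ← D.bil_val, mul_pow, D.val_pow, D.val_pow]
    rw [hXe] at hr
    simp only [H.add_left, H.sub_left, H.smul_left, ← D.bil_val, add_pow_q hF, sub_pow_q hF,
      mul_pow, H.conj_symm b (ratEmb P F₀ u), H.conj_symm a (ratEmb P F₀ u), pow_q_pow_q hF, hγ,
      D.val_pow] at hr
    refine mul_left_cancel₀ D.odd ?_
    rw [H.conj_symm b (ratEmb P F₀ u), H.conj_symm a (ratEmb P F₀ u), pow_q_pow_q hF,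
      pow_q_pow_q hF]
    linear_combination -hr
  have hS : ∀ u : Fin 4 → F₀, Cfsg.hermForm 4 F q (ratEmb P F₀ u) a =
      (D.bil x u : F) - δ * D.bil y u := fun u => by rw [ha, D.herm_left]
  obtain ⟨hli, hxy'⟩ := linearIndependent_fin2.1 hxy
  simp only [Matrix.cons_val_zero, Matrix.cons_val_one] at hli hxy'
  obtain ⟨u1, hu1, hu1'⟩ := exists_bilin_dual D.bil_symm D.bil_nondeg (S := Submodule.span F₀ {y})
    (x := x) (fun h => by
      obtain ⟨t, ht⟩ := Submodule.mem_span_singleton.1 h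
      exact hxy' t ht)
  obtain ⟨u2, hu2, hu2'⟩ := exists_bilin_dual D.bil_symm D.bil_nondeg (S := Submodule.span F₀ {x})
    (x := y) (fun h => by
      obtain ⟨t, ht⟩ := Submodule.mem_span_singleton.1 h
      exact one_ne_zero (LinearIndependent.pair_iff.1 hxy (-t) 1
        (by rw [← ht]; module)).2)
  have hy1 := hu1 y (Submodule.mem_span_singleton_self y)
  have hx2 := hu2 x (Submodule.mem_span_singleton_self x)
  have a1 : Cfsg.hermForm 4 F q (ratEmb P F₀ u1) a = 1 := by rw [hS, hu1', hy1]; simp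
  have a2 : Cfsg.hermForm 4 F q (ratEmb P F₀ u2) a = -δ := by rw [hS, hx2, hu2']; simp
  obtain ⟨k, hk⟩ : ∃ k, k = Cfsg.hermForm 4 F q (ratEmb P F₀ u1) b := ⟨_, rfl⟩
  obtain ⟨β, hβ⟩ : ∃ β, β = Cfsg.hermForm 4 F q (ratEmb P F₀ u2) b := ⟨_, rfl⟩
  have hkk : k ^ q = k := by
    have := hreal u1
    rw [a1, ← hk, one_pow, mul_one, mul_one] at this
    exact this
  have hδ := D.skew0
  have hβq : β ^ q = -β := by
    have := hreal u2
    rw [a2, ← hβ, neg_pow_q hF, D.skew, neg_neg] at this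
    exact mul_right_cancel₀ hδ (by linear_combination -this)
  have hβk : β = -(δ * k) := by
    have := hreal (u1 + u2)
    simp only [map_add, H.add_left, a1, a2, ← hk, ← hβ, add_pow_q hF, one_pow, neg_pow_q hF,
      D.skew, hkk, hβq] at this
    exact mul_left_cancel₀ D.odd (by linear_combination -this)
  refine ⟨k, D.eq_of_rat_herm fun u => ?_⟩
  rw [H.smul_right, hkk]
  obtain ⟨u', hu'⟩ : ∃ u', u' = u - D.bil x u • u1 - D.bil y u • u2 := ⟨_, rfl⟩
  have a0 : Cfsg.hermForm 4 F q (ratEmb P F₀ u') a = 0 := by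
    rw [hS, hu']; simp [hu1', hy1, hx2, hu2']
  obtain ⟨β', hβ'⟩ : ∃ β', β' = Cfsg.hermForm 4 F q (ratEmb P F₀ u') b := ⟨_, rfl⟩
  have hb1 : β' ^ q = β' := by
    have := hreal (u' + u1)
    simp only [map_add, H.add_left, a0, a1, ← hk, ← hβ', zero_add, add_pow_q hF, one_pow, hkk,
      mul_one] at this
    linear_combination this
  have hb2 : β' = 0 := by
    have := hreal (u' + u2)
    simp only [map_add, H.add_left, a0, a2, ← hβ, ← hβ', zero_add, add_pow_q hF, neg_pow_q hF,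
      D.skew, hβq, hb1] at this
    exact mul_left_cancel₀ (mul_ne_zero D.odd hδ) (by linear_combination -this)
  have hu : u = u' + D.bil x u • u1 + D.bil y u • u2 := by rw [hu']; abel
  conv_lhs => rw [hu]
  rw [hS u]
  simp only [map_add, ratEmb_smul, H.add_left, H.smul_left, ← hk, ← hβ, ← hβ', hb2, hβk, zero_add]
  ring

variable {M : Subgroup (Matrix.GeneralLinearGroup (Fin 4) F)}

section Overgroup

variable (hHM : Cfsg.Geo.subfieldSubgroup F₀ P ⊓ suGL 4 F q ≤ M) (hq : 5 ≤ q)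
include hHM hq

/-- One transvection at a rational singular vector gives a centre. -/
theorem centre_of_trans {r : Fin 4 → F₀} (hr0 : r ≠ 0) (hr : D.bil r r = 0)
    {T : Matrix.GeneralLinearGroup (Fin 4) F} (hTM : T ∈ M) {c : F} (hc0 : c ≠ 0)
    (hc : c + c ^ q = 0) (hT : IsTrans q T (ratEmb P F₀ r) c) :
    ratEmb P F₀ r ∈ centres q M := by
  have hF := D.card
  have H := hermForm_isHerm hF 4
  have hrr : Cfsg.hermForm 4 F q (ratEmb P F₀ r) (ratEmb P F₀ r) = 0 := congrArg Subtype.val hr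
  have scale : ∀ s : F₀, ∃ T' ∈ M, IsTrans q T' (ratEmb P F₀ r) ((s : F) * s * c) := by
    intro s
    rcases eq_or_ne s 0 with rfl | hs
    · exact ⟨1, one_mem _, fun x => by simp⟩
    obtain ⟨g, hg, hgr⟩ := D.exists_moves hq hr (show D.bil (s • r) (s • r) = 0 by simp [hr]) hr0
      (smul_ne_zero hs hr0)
    rw [ratEmb_smul] at hgr
    refine ⟨g * T * g⁻¹, mul_mem (mul_mem (hHM hg) hTM) (inv_mem (hHM hg)), fun x => ?_⟩
    obtain ⟨y, rfl⟩ : ∃ y, (g : Matrix (Fin 4) (Fin 4) F) *ᵥ y = x :=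
      Matrix.mulVec_surjective_iff_isUnit.2 (Units.isUnit g) x
    have hh : Cfsg.hermForm 4 F q y (ratEmb P F₀ r) =
        (s : F) * Cfsg.hermForm 4 F q ((g : Matrix (Fin 4) (Fin 4) F) *ᵥ y) (ratEmb P F₀ r) := by
      rw [← mem_suGL_herm hg.2 y (ratEmb P F₀ r), hgr, H.smul_right, D.val_pow]
    rw [Matrix.mulVec_mulVec, ← Units.val_mul, inv_mul_cancel_right, Units.val_mul,
      ← Matrix.mulVec_mulVec, hT, Matrix.mulVec_add, Matrix.mulVec_smul, hgr, smul_smul, hh]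
    congr 2
    ring
  refine ⟨hrr, fun t c' hc' ht => ?_⟩
  obtain ⟨x0, hx0⟩ : ∃ x0 : F₀, (x0 : F) = c' / c :=
    ⟨⟨c' / c, D.mem.2 (by
      rw [div_pow, eq_neg_of_add_eq_zero_right hc, eq_neg_of_add_eq_zero_right hc',
        neg_div_neg_eq])⟩, rfl⟩
  obtain ⟨T1, h1M, h1⟩ := scale ((x0 + 1) / 2)
  obtain ⟨T2, h2M, h2⟩ := scale ((x0 - 1) / 2)
  have h3 := h1.mul hF (h2.inv hF hrr) hrr
  have ht' : t = T1 * T2⁻¹ := gl_ext_mulVec fun x => by
    rw [h3, ht, transvection_mulVec]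
    have h2 := D.odd
    congr 2
    push_cast
    simp only [show ((2 : F₀) : F) = (2 : F) from map_ofNat F₀.subtype 2, hx0]
    field_simp
    ring
  exact ht' ▸ mul_mem h1M (inv_mem h2M)

/-- An element outside fixing the line of a rational singular vector gives a centre. -/
theorem centre_of_fix (hMK : M ≤ suGL 4 F q) {m : Matrix.GeneralLinearGroup (Fin 4) F} (hm : m ∈ M)
    {e : Fin 4 → F₀} (he0 : e ≠ 0) (he : D.bil e e = 0) {κ : F}
    (hfix : (m : Matrix (Fin 4) (Fin 4) F) *ᵥ ratEmb P F₀ e = κ • ratEmb P F₀ e)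
    (hmH : m ∉ Cfsg.Geo.subfieldSubgroup F₀ P) : ratEmb P F₀ e ∈ centres q M := by
  by_contra hcen
  have hT : ∀ T ∈ M, ∀ c : F, c + c ^ q = 0 → IsTrans q T (ratEmb P F₀ e) c → c = 0 :=
    fun T hT c hc h => by_contra fun hc0 => hcen (D.centre_of_trans hHM hq he0 he hT hc0 hc h)
  have hF := D.card
  have H := hermForm_isHerm hF 4
  have hee : Cfsg.hermForm 4 F q (ratEmb P F₀ e) (ratEmb P F₀ e) = 0 := congrArg Subtype.val he
  have image : ∀ (m : Matrix.GeneralLinearGroup (Fin 4) F), m ∈ M → ∀ κ : F, κ ≠ 0 →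
      (m : Matrix (Fin 4) (Fin 4) F) *ᵥ ratEmb P F₀ e = κ • ratEmb P F₀ e →
      ∀ z, D.bil e z = 0 →
        ∃ v, κ ^ q • ((m : Matrix (Fin 4) (Fin 4) F) *ᵥ ratEmb P F₀ z) = ratEmb P F₀ v := by
    intro m hm κ hκ hfix z hz
    have hmK := hMK hm
    obtain ⟨S, hS, hSe⟩ := D.exists_siegel he hz
    set b := κ ^ q • ((m : Matrix (Fin 4) (Fin 4) F) *ᵥ ratEmb P F₀ z) with hb_def
    have hX : IsEichG q (m * S * m⁻¹) (ratEmb P F₀ e) b
        (κ ^ (q + 1) * (-(D.bil z z : F) / 2)) := by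
      intro x
      obtain ⟨y, rfl⟩ : ∃ y, (m : Matrix (Fin 4) (Fin 4) F) *ᵥ y = x :=
        Matrix.mulVec_surjective_iff_isUnit.2 (Units.isUnit m) x
      have h1 : Cfsg.hermForm 4 F q y (ratEmb P F₀ e) =
          κ ^ q * Cfsg.hermForm 4 F q ((m : Matrix (Fin 4) (Fin 4) F) *ᵥ y) (ratEmb P F₀ e) := by
        rw [← mem_suGL_herm hmK y (ratEmb P F₀ e), hfix, H.smul_right]
      rw [Matrix.mulVec_mulVec, ← Units.val_mul, inv_mul_cancel_right, Units.val_mul,
        ← Matrix.mulVec_mulVec, hSe, Matrix.mulVec_add, Matrix.mulVec_sub, Matrix.mulVec_add,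
        Matrix.mulVec_smul, Matrix.mulVec_smul, Matrix.mulVec_smul, hfix, hb_def, H.smul_right,
        pow_q_pow_q hF, h1, ← mem_suGL_herm hmK y (ratEmb P F₀ z), pow_succ]
      module
    have hXM : m * S * m⁻¹ ∈ M := mul_mem (mul_mem hm (hHM hS)) (inv_mem hm)
    have heb : Cfsg.hermForm 4 F q (ratEmb P F₀ e) b = 0 := by
      rw [hb_def, H.smul_right, pow_q_pow_q hF, ← H.smul_left, ← hfix, mem_suGL_herm hmK,
        ← D.bil_val, hz]; rfl
    obtain ⟨X, Y, hXY⟩ := D.split b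
    have hY : ∀ w, D.bil e w = 0 → D.bil Y w = 0 := by
      intro w hw
      obtain ⟨S', hS', hSe'⟩ := D.exists_siegel he hw
      have hew : Cfsg.hermForm 4 F q (ratEmb P F₀ e) (ratEmb P F₀ w) = 0 := congrArg Subtype.val hw
      have h1 := hX.mul hF hSe' hee heb hew
      have h2 := hSe'.mul hF hX hee hew heb
      rw [add_comm (ratEmb P F₀ w) b] at h2
      have h3 := h1.quot hF h2 hee (by rw [H.add_right hF, heb, hew, add_zero])
      have h4 := hT _ (mul_mem (mul_mem hXM (hHM hS')) (inv_mem (mul_mem (hHM hS') hXM))) _ (by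
        simp only [sub_pow_q hF, add_pow_q hF, ← H.conj_symm]
        ring) h3
      have h5 : Cfsg.hermForm 4 F q b (ratEmb P F₀ w) - Cfsg.hermForm 4 F q (ratEmb P F₀ w) b = 0 := by
        linear_combination h4
      rw [hXY, D.herm_right, D.herm_left] at h5
      refine Subtype.ext (mul_left_cancel₀ (mul_ne_zero D.odd D.skew0) ?_)
      rw [ZeroMemClass.coe_zero, mul_zero]
      linear_combination h5
    obtain ⟨k, rfl⟩ := D.eq_smul_of_perp hY
    have hXe : D.bil X e = 0 := by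
      rw [hXY, D.herm_left] at heb
      refine (D.coeff_unique (a := D.bil X e) (b := -D.bil (k • e) e) ?_).1
      push_cast
      linear_combination heb
    have hbb : Cfsg.hermForm 4 F q b b = (D.bil X X : F) := by
      rw [hXY, ratEmb_smul]
      simp only [H.add_left, H.add_right hF, H.smul_left, H.smul_right, ← D.bil_val,
        D.bil_symm e X, hXe, he, mul_zero, ZeroMemClass.coe_zero, add_zero]
    have hbb' : Cfsg.hermForm 4 F q b b = κ ^ (q + 1) * (D.bil z z : F) := by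
      rw [hb_def, H.smul_left, H.smul_right, mem_suGL_herm hmK, ← D.bil_val, pow_q_pow_q hF,
        pow_succ]
      ring
    obtain ⟨S', hS', hSe'⟩ := D.exists_siegel he (show D.bil e X = 0 by rw [D.bil_symm, hXe])
    have hX' : IsEichG q (m * S * m⁻¹) (ratEmb P F₀ e)
        (ratEmb P F₀ X + (δ * k) • ratEmb P F₀ e) (κ ^ (q + 1) * (-(D.bil z z : F) / 2)) := by
      rw [mul_smul, ← ratEmb_smul, ← hXY]; exact hX
    have h6 := (hX'.shift hF).quot hF hSe' hee
      (show Cfsg.hermForm 4 F q (ratEmb P F₀ e) (ratEmb P F₀ X) = 0 by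
        rw [← D.bil_val, D.bil_symm, hXe]; rfl)
    have ec : κ ^ (q + 1) * (-(D.bil z z : F) / 2) + δ * k - (δ * k) ^ q - -(D.bil X X : F) / 2 =
        2 * (δ * k) := by
      rw [mul_pow, D.skew, D.val_pow]
      have := D.odd
      field_simp
      linear_combination hbb' - hbb
    rw [ec] at h6
    have h7 := hT _ (mul_mem hXM (inv_mem (hHM hS'))) _
      (by simp only [mul_pow, D.skew, D.val_pow, D.two_pow]; ring) h6
    have hk : (k : F) = 0 :=
      (mul_eq_zero.1 ((mul_eq_zero.1 h7).resolve_left D.odd)).resolve_left D.skew0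
    exact ⟨X, by rw [hXY, ratEmb_smul, hk, zero_smul, smul_zero, add_zero]⟩
  have hmK := hMK hm
  have hκ : κ ≠ 0 := by
    rintro rfl
    rw [zero_smul] at hfix
    refine he0 (D.emb_inj (Matrix.mulVec_injective_iff_isUnit.2 (Units.isUnit m) ?_))
    rw [hfix, Matrix.mulVec_zero]
  have hfix' : ((m⁻¹ : Matrix.GeneralLinearGroup (Fin 4) F) : Matrix (Fin 4) (Fin 4) F) *ᵥ
      ratEmb P F₀ e = κ⁻¹ • ratEmb P F₀ e := by
    apply Matrix.mulVec_injective_iff_isUnit.2 (Units.isUnit m)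
    rw [Matrix.mulVec_mulVec, ← Units.val_mul, mul_inv_cancel, Units.val_one, Matrix.one_mulVec,
      Matrix.mulVec_smul, hfix, smul_smul, inv_mul_cancel₀ hκ, one_smul]
  obtain ⟨f, hf, hef⟩ := D.exists_sing he0
  have hfe : D.bil f e = 1 := by rw [D.bil_symm, hef]
  obtain ⟨X, Y, hXY⟩ := D.split (κ ^ q • ((m : Matrix (Fin 4) (Fin 4) F) *ᵥ ratEmb P F₀ f))
  have hY : ∀ w, D.bil e w = 0 → D.bil Y w = 0 := by
    intro w hw
    obtain ⟨z, hz⟩ := image _ (inv_mem hm) _ (inv_ne_zero hκ) hfix' w hw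
    have hmz : κ ^ q • ((m : Matrix (Fin 4) (Fin 4) F) *ᵥ ratEmb P F₀ z) = ratEmb P F₀ w := by
      rw [← hz, Matrix.mulVec_smul, Matrix.mulVec_mulVec, ← Units.val_mul, mul_inv_cancel,
        Units.val_one, Matrix.one_mulVec, smul_smul, ← mul_pow, mul_inv_cancel₀ hκ, one_pow,
        one_smul]
    have h1 : Cfsg.hermForm 4 F q (ratEmb P F₀ w)
        (ratEmb P F₀ X + δ • ratEmb P F₀ Y) = κ ^ q * κ * (D.bil z f : F) := by
      rw [← hmz, ← hXY, H.smul_left, H.smul_right, mem_suGL_herm hmK, pow_q_pow_q hF, ← D.bil_val]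
      ring
    rw [D.herm_left] at h1
    have h2 : ((D.bil X w : F) - δ * D.bil Y w) ^ q = (D.bil X w : F) - δ * D.bil Y w := by
      rw [h1, mul_pow, mul_pow, pow_q_pow_q hF, D.val_pow]; ring
    rw [sub_pow_q hF, mul_pow, D.skew, D.val_pow, D.val_pow] at h2
    refine Subtype.ext (mul_left_cancel₀ (mul_ne_zero D.odd D.skew0) ?_)
    rw [ZeroMemClass.coe_zero, mul_zero]
    linear_combination h2
  obtain ⟨k, rfl⟩ := D.eq_smul_of_perp hY
  have hXe : D.bil X e = 1 := by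
    have h1 : Cfsg.hermForm 4 F q (ratEmb P F₀ X + δ • ratEmb P F₀ (k • e)) (ratEmb P F₀ e) = 1 := by
      rw [← hXY, H.smul_left]
      have h2 : Cfsg.hermForm 4 F q ((m : Matrix (Fin 4) (Fin 4) F) *ᵥ ratEmb P F₀ f)
          ((m : Matrix (Fin 4) (Fin 4) F) *ᵥ ratEmb P F₀ e) = 1 := by
        rw [mem_suGL_herm hmK, ← D.bil_val, hfe]; rfl
      rw [hfix, H.smul_right] at h2
      exact h2
    rw [D.herm_right] at h1
    refine sub_eq_zero.1 (D.coeff_unique (a := D.bil X e - 1) (b := D.bil (k • e) e) ?_).1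
    push_cast
    linear_combination h1
  have hc : -(δ * (k : F)) + (-(δ * (k : F))) ^ q = 0 := by
    rw [neg_pow_q hF, mul_pow, D.skew, D.val_pow]; ring
  obtain ⟨T, hT0⟩ : ∃ T, T = glTransvection hF (ratEmb P F₀ e) hee (-(δ * k)) hc := ⟨_, rfl⟩
  have hTK : T ∈ suGL 4 F q := hT0 ▸ suToGU_mem_suGL _
  have hTe : IsTrans q T (ratEmb P F₀ e) (-(δ * k)) := isTrans_of_eq (by rw [hT0]; rfl)
  have hrat : T * m ∈ Cfsg.Geo.subfieldSubgroup F₀ P := by
    refine D.mem_of_map (l := (κ ^ q)⁻¹) (inv_ne_zero (pow_ne_zero _ hκ)) fun u => ?_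
    obtain ⟨t, ht⟩ : ∃ t, t = D.bil u e := ⟨_, rfl⟩
    have hz : D.bil e (u - t • f) = 0 := by simp [hef, ht, D.bil_symm e u]
    obtain ⟨v, hv⟩ := image m hm κ hκ hfix _ hz
    have hve : Cfsg.hermForm 4 F q (ratEmb P F₀ v) (ratEmb P F₀ e) = 0 := by
      rw [← hv, H.smul_left]
      have h2 : Cfsg.hermForm 4 F q ((m : Matrix (Fin 4) (Fin 4) F) *ᵥ ratEmb P F₀ (u - t • f))
          ((m : Matrix (Fin 4) (Fin 4) F) *ᵥ ratEmb P F₀ e) = 0 := by
        rw [mem_suGL_herm hmK, ← D.bil_val, D.bil_symm, hz]; rfl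
      rw [hfix, H.smul_right] at h2
      exact h2
    have e1 : ((T * m : Matrix.GeneralLinearGroup (Fin 4) F) : Matrix (Fin 4) (Fin 4) F) *ᵥ
        (κ ^ q • ratEmb P F₀ (u - t • f)) = ratEmb P F₀ v := by
      rw [Units.val_mul, ← Matrix.mulVec_mulVec, Matrix.mulVec_smul, hv, hTe, hve, mul_zero,
        zero_smul, add_zero]
    have e2 : ((T * m : Matrix.GeneralLinearGroup (Fin 4) F) : Matrix (Fin 4) (Fin 4) F) *ᵥ
        (κ ^ q • ratEmb P F₀ f) = ratEmb P F₀ X := by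
      rw [Units.val_mul, ← Matrix.mulVec_mulVec, Matrix.mulVec_smul, hXY, hTe, D.herm_right, hXe,
        ratEmb_smul, map_smul, LinearMap.smul_apply, he]
      simp only [smul_zero, ZeroMemClass.coe_zero, OneMemClass.coe_one, mul_zero, add_zero, mul_one]
      module
    refine ⟨v + t • X, ?_⟩
    rw [eq_inv_smul_iff₀ (pow_ne_zero _ hκ), map_add, ratEmb_smul, ← e1, ← e2,
      ← Matrix.mulVec_smul, ← Matrix.mulVec_smul, ← Matrix.mulVec_add, map_sub, ratEmb_smul]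
    congr 1
    module
  have hTM : T ∈ M := by
    have := mul_mem (hHM ⟨hrat, mul_mem hTK hmK⟩) (inv_mem hm)
    rwa [mul_inv_cancel_right] at this
  have h0 := hT T hTM _ hc hTe
  have hT1 : T = 1 := gl_ext_mulVec fun x => by
    rw [hTe x, h0, zero_mul, zero_smul, add_zero, Units.val_one, Matrix.one_mulVec]
  rw [hT1, one_mul] at hrat
  exact hmH hrat

variable (hMK : M ≤ suGL 4 F q)
  (hno : ∀ r : Fin 4 → F₀, r ≠ 0 → D.bil r r = 0 → ratEmb P F₀ r ∉ centres q M)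
include hMK hno

/-- An irrational image orthogonal to a rational singular vector gives a centre. -/
theorem no_perp {g : Matrix.GeneralLinearGroup (Fin 4) F} (hgM : g ∈ M) {r x y : Fin 4 → F₀}
    (hr : D.bil r r = 0)
    (hgr : (g : Matrix (Fin 4) (Fin 4) F) *ᵥ ratEmb P F₀ r = ratEmb P F₀ x + δ • ratEmb P F₀ y)
    (hxy : LinearIndependent F₀ ![x, y]) {e : Fin 4 → F₀} (he0 : e ≠ 0) (he : D.bil e e = 0)
    (hxe : D.bil x e = 0) (hye : D.bil y e = 0) : False := by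
  have hF := D.card
  have H := hermForm_isHerm hF 4
  have hgK := hMK hgM
  have fix : ∀ (m : Matrix.GeneralLinearGroup (Fin 4) F), m ∈ M → ∀ κ : F,
      (m : Matrix (Fin 4) (Fin 4) F) *ᵥ ratEmb P F₀ e = κ • ratEmb P F₀ e →
      m ∈ Cfsg.Geo.subfieldSubgroup F₀ P :=
    fun m hm κ h => by_contra fun hn => hno e he0 he (D.centre_of_fix hHM hq hMK hm he0 he h hn)
  set a := (g : Matrix (Fin 4) (Fin 4) F) *ᵥ ratEmb P F₀ r with ha_def
  have ha : Cfsg.hermForm 4 F q a a = 0 := (mem_suGL_herm hgK _ _).trans (congrArg Subtype.val hr)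
  have hea : Cfsg.hermForm 4 F q (ratEmb P F₀ e) a = 0 := by rw [hgr, D.herm_left, hxe, hye]; simp
  have hae := (H.eq_zero_symm hF).1 hea
  have hr0 : r ≠ 0 := by
    rintro rfl
    have : ratEmb P F₀ x + δ • ratEmb P F₀ y = ratEmb P F₀ 0 + δ • ratEmb P F₀ (0 : Fin 4 → F₀) := by
      rw [← hgr, ha_def]; simp
    exact hxy.ne_zero 0 (D.split_unique this).1
  let μ : (Fin 4 → F₀) → F := fun w =>
    Cfsg.hermForm 4 F q (ratEmb P F₀ e) ((g : Matrix (Fin 4) (Fin 4) F) *ᵥ ratEmb P F₀ w)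
  have hμadd : ∀ (s t : F₀) (v w : Fin 4 → F₀), μ (s • v + t • w) = (s : F) * μ v + (t : F) * μ w := by
    intro s t v w
    simp only [μ, map_add, ratEmb_smul, Matrix.mulVec_add, Matrix.mulVec_smul, H.add_right hF,
      H.smul_right, D.val_pow]
  have hX : ∀ w, D.bil r w = 0 → ∃ X ∈ M,
      IsEichG q X a ((g : Matrix (Fin 4) (Fin 4) F) *ᵥ ratEmb P F₀ w) (-(D.bil w w : F) / 2) ∧
      (X : Matrix (Fin 4) (Fin 4) F) *ᵥ a = a ∧
      (X : Matrix (Fin 4) (Fin 4) F) *ᵥ ratEmb P F₀ e = ratEmb P F₀ e - μ w • a := by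
    intro w hw
    obtain ⟨S, hS, hSe⟩ := D.exists_siegel hr hw
    have h1 : IsEichG q (g * S * g⁻¹) a ((g : Matrix (Fin 4) (Fin 4) F) *ᵥ ratEmb P F₀ w)
        (-(D.bil w w : F) / 2) := by
      intro z
      obtain ⟨u, rfl⟩ : ∃ u, (g : Matrix (Fin 4) (Fin 4) F) *ᵥ u = z :=
        Matrix.mulVec_surjective_iff_isUnit.2 (Units.isUnit g) z
      rw [Matrix.mulVec_mulVec, ← Units.val_mul, inv_mul_cancel_right, Units.val_mul,
        ← Matrix.mulVec_mulVec, hSe, Matrix.mulVec_add, Matrix.mulVec_sub, Matrix.mulVec_add,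
        Matrix.mulVec_smul, Matrix.mulVec_smul, Matrix.mulVec_smul, ha_def, mem_suGL_herm hgK,
        mem_suGL_herm hgK]
    have hab : Cfsg.hermForm 4 F q a ((g : Matrix (Fin 4) (Fin 4) F) *ᵥ ratEmb P F₀ w) = 0 :=
      (mem_suGL_herm hgK _ _).trans (congrArg Subtype.val hw)
    refine ⟨_, mul_mem (mul_mem hgM (hHM hS)) (inv_mem hgM), h1, ?_, ?_⟩
    · rw [h1, ha, hab]; simp
    · rw [h1, hea]; simp [μ]
  obtain ⟨s, hs, hrs⟩ := D.exists_sing hr0
  obtain ⟨wa, wb, hra, hsa, hrb, hsb, hab, haa, hbb⟩ := D.exists_orth_pair hr hs hrs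
  have hker : ∀ w, D.bil r w = 0 → μ w = 0 → D.bil wa w = 0 ∧ D.bil wb w = 0 := by
    intro w hw hμ
    obtain ⟨X, hXM, hXE, -, hXe⟩ := hX w hw
    rw [hμ, zero_smul, sub_zero] at hXe
    have hXH := fix X hXM 1 (by rw [one_smul]; exact hXe)
    obtain ⟨k, hk⟩ := D.eq_smul_of_eich_mem hXH hXE
      (by rw [div_pow, neg_pow_q hF, D.val_pow, D.two_pow]) he0 hXe hgr hxy
    have h1 : ∀ u, D.bil r u = 0 → D.bil u w = 0 := by
      intro u hu
      refine Subtype.ext ?_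
      rw [D.bil_val, ← mem_suGL_herm hgK, hk, H.smul_right, ha_def, mem_suGL_herm hgK, ← D.bil_val,
        D.bil_symm, hu, ZeroMemClass.coe_zero, mul_zero]
    exact ⟨h1 wa hra, h1 wb hrb⟩
  obtain ⟨a0, a1, hμa⟩ := D.coeff_exists (μ wa)
  obtain ⟨b0, b1, hμb⟩ := D.coeff_exists (μ wb)
  have hcomb : ∀ s t : F₀, s * a0 + t * b0 = 0 → s * a1 + t * b1 = 0 → s = 0 ∧ t = 0 := by
    intro s t h1 h2
    have h3 : μ (s • wa + t • wb) = 0 := by
      rw [hμadd, hμa, hμb]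
      have h1' := congrArg Subtype.val h1
      have h2' := congrArg Subtype.val h2
      push_cast at h1' h2'
      linear_combination h1' + δ * h2'
    obtain ⟨h4, h5⟩ := hker _ (by simp [hra, hrb]) h3
    simp only [map_add, map_smul, smul_eq_mul, hab, D.bil_symm wb wa, mul_zero, add_zero, zero_add,
      mul_eq_zero, haa, hbb, or_false] at h4 h5
    exact ⟨h4, h5⟩
  have hdet : a0 * b1 - a1 * b0 ≠ 0 := by
    intro h0
    obtain ⟨hb1, ha1⟩ := hcomb b1 (-a1) (by linear_combination h0) (by ring)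
    obtain ⟨hb0, ha0⟩ := hcomb b0 (-a0) (by ring) (by linear_combination -h0)
    exact one_ne_zero (hcomb 1 0 (by rw [neg_eq_zero.1 ha0]; ring)
      (by rw [neg_eq_zero.1 ha1]; ring)).1
  have hsurj : ∀ z : F, ∃ w, D.bil r w = 0 ∧ μ w = z := by
    intro z
    obtain ⟨z0, z1, hz⟩ := D.coeff_exists z
    refine ⟨((z0 * b1 - z1 * b0) / (a0 * b1 - a1 * b0)) • wa +
      ((a0 * z1 - a1 * z0) / (a0 * b1 - a1 * b0)) • wb, by simp [hra, hrb], ?_⟩
    have hdet' : (a0 : F) * b1 - a1 * b0 ≠ 0 := fun h => hdet (Subtype.ext (by push_cast; exact h))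
    rw [hμadd, hμa, hμb, hz]
    push_cast
    rw [div_mul_eq_mul_div, div_mul_eq_mul_div, ← add_div, div_eq_iff hdet']
    ring
  -- a rational Siegel element at e moving a
  obtain ⟨z, hez, hν0⟩ : ∃ z, D.bil e z = 0 ∧ Cfsg.hermForm 4 F q a (ratEmb P F₀ z) ≠ 0 := by
    by_contra! hc
    have h1 : ∀ z, D.bil e z = 0 → D.bil x z = 0 ∧ D.bil y z = 0 := fun z hz =>
      D.coeff_unique (by rw [← D.herm_right, ← hgr]; exact hc z hz)
    obtain ⟨k1, hk1⟩ := D.eq_smul_of_perp fun z hz => (h1 z hz).1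
    obtain ⟨k2, hk2⟩ := D.eq_smul_of_perp fun z hz => (h1 z hz).2
    obtain ⟨h2, h3⟩ := LinearIndependent.pair_iff.1 hxy k2 (-k1) (by rw [hk1, hk2]; module)
    exact hxy.ne_zero 0 (by show x = 0; rw [hk1, neg_eq_zero.1 h3, zero_smul])
  obtain ⟨ν, hν⟩ : ∃ ν, ν = Cfsg.hermForm 4 F q a (ratEmb P F₀ z) := ⟨_, rfl⟩
  rw [← hν] at hν0
  obtain ⟨S, hS, hSe⟩ := D.exists_siegel he hez
  have hee : Cfsg.hermForm 4 F q (ratEmb P F₀ e) (ratEmb P F₀ e) = 0 := congrArg Subtype.val he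
  have hSfe : (S : Matrix (Fin 4) (Fin 4) F) *ᵥ ratEmb P F₀ e = ratEmb P F₀ e := by
    rw [hSe, hee, ← D.bil_val, hez]; simp
  have hSa : (S : Matrix (Fin 4) (Fin 4) F) *ᵥ a = a - ν • ratEmb P F₀ e := by
    rw [hSe, hae, ← hν]; simp
  obtain ⟨κ, hκ0, hκ⟩ := exists_pow_four hF hq
  obtain ⟨w', hw', hμ'⟩ := hsurj ((κ - 1) / ν)
  obtain ⟨w, hw, hμw⟩ := hsurj (-((κ - 1) / ν) / κ)
  obtain ⟨X', hX'M, -, -, hX'e⟩ := hX w' hw'
  obtain ⟨X, hXM, -, hXa, hXe⟩ := hX w hw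
  have hm : ((X * S * X' : Matrix.GeneralLinearGroup (Fin 4) F) : Matrix (Fin 4) (Fin 4) F) *ᵥ
      ratEmb P F₀ e = κ • ratEmb P F₀ e := by
    rw [Units.val_mul, Units.val_mul, ← Matrix.mulVec_mulVec, ← Matrix.mulVec_mulVec, hX'e,
      Matrix.mulVec_sub, Matrix.mulVec_smul, hSfe, hSa, Matrix.mulVec_sub, Matrix.mulVec_smul,
      Matrix.mulVec_sub, Matrix.mulVec_smul, hXa, hXe, hμ', hμw]
    match_scalars
    · field_simp; ring
    · field_simp; ring
  have hmM : X * S * X' ∈ M := mul_mem (mul_mem hXM (hHM hS)) hX'M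
  exact hκ (D.mem.1 (D.pow_four_mem (fix _ hmM κ hm) (hMK hmM) he0 hκ0 hm))

end Overgroup

end RatData

end Cfsg.Agent.Unitary
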