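import Cfsg.Agent.Lib.Unitary.OrthFourCentre
/-
Irrational images of rational singular vectors give a rational centre (dimension four, orthogonal subfield subgroup).
* RatData.norm_structure, RatData.no_irrational
-/
set_option autoImplicit false

namespace Cfsg.Agent.Unitary

open scoped Matrix

variable {F : Type*} [Field F] [Fintype F] {q : ℕ}

namespace RatData

variable {F₀ : Subfield F} {P : Matrix.GeneralLinearGroup (Fin 4) F} {δ : F}
  (D : RatData q F₀ P δ)
include D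

theorem orth_four {a b c d : Fin 4 → F₀} (hab : D.bil a b = 0) (hac : D.bil a c = 0)
    (had : D.bil a d = 0) (hbc : D.bil b c = 0) (hbd : D.bil b d = 0) (hcd : D.bil c d = 0) :
    ∀ i j : Fin 4, i ≠ j → D.bil (![a, b, c, d] i) (![a, b, c, d] j) = 0 := by
  have hba := (D.bil_symm b a).trans hab
  have hca := (D.bil_symm c a).trans hac
  have hda := (D.bil_symm d a).trans had
  have hcb := (D.bil_symm c b).trans hbc
  have hdb := (D.bil_symm d b).trans hbd
  have hdc := (D.bil_symm d c).trans hcd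
  intro i j hij
  fin_cases i <;> fin_cases j <;> first | exact absurd rfl hij | assumption

variable {M : Subgroup (Matrix.GeneralLinearGroup (Fin 4) F)}
  (hHM : Cfsg.Geo.subfieldSubgroup F₀ P ⊓ suGL 4 F q ≤ M) (hq : 5 ≤ q) (hMK : M ≤ suGL 4 F q)
  (hno : ∀ r : Fin 4 → F₀, r ≠ 0 → D.bil r r = 0 → ratEmb P F₀ r ∉ centres q M)
include hHM hq hMK hno

/-- An irrational image spans a hyperbolic plane; the Siegel elements at it act on its orthogonal by a common factor. -/
theorem norm_structure {g : Matrix.GeneralLinearGroup (Fin 4) F} (hgM : g ∈ M) {r x y : Fin 4 → F₀}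
    (hr : D.bil r r = 0)
    (hgr : (g : Matrix (Fin 4) (Fin 4) F) *ᵥ ratEmb P F₀ r = ratEmb P F₀ x + δ • ratEmb P F₀ y)
    (hxy : LinearIndependent F₀ ![x, y]) {ε : F₀} (hε : (ε : F) = δ ^ 2) :
    D.bil x y * D.bil x y - ε * D.bil y y * D.bil y y ≠ 0 ∧
    (∃ ρ, D.bil x y * D.bil x y - ε * D.bil y y * D.bil y y = ρ * ρ) ∧
    ∃ lam : F, lam ≠ 0 ∧ ∀ n : F₀, n ≠ 0 → ∃ X ∈ M, ∃ w1, D.bil x w1 = 0 ∧ D.bil y w1 = 0 ∧
      D.bil w1 w1 = n ∧
      IsEichG q X ((g : Matrix (Fin 4) (Fin 4) F) *ᵥ ratEmb P F₀ r) (lam • ratEmb P F₀ w1)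
        (-(lam ^ (q + 1) * (n : F)) / 2) := by
  have hF := D.card
  have H := hermForm_isHerm hF 4
  have hgK := hMK hgM
  have two0 := D.two_ne
  set a := (g : Matrix (Fin 4) (Fin 4) F) *ᵥ ratEmb P F₀ r with ha_def
  have ha : Cfsg.hermForm 4 F q a a = 0 := (mem_suGL_herm hgK _ _).trans (congrArg Subtype.val hr)
  have hxx : D.bil x x = ε * D.bil y y := D.bil_iso hε (hgr ▸ ha)
  have hx0 : x ≠ 0 := hxy.ne_zero 0
  have hr0 : r ≠ 0 := by
    rintro rfl
    have : ratEmb P F₀ x + δ • ratEmb P F₀ y = ratEmb P F₀ 0 + δ • ratEmb P F₀ (0 : Fin 4 → F₀) := by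
      rw [← hgr, ha_def]; simp
    exact hx0 (D.split_unique this).1
  have perp : ∀ z, z ≠ 0 → D.bil x z = 0 → D.bil y z = 0 → D.bil z z ≠ 0 := fun z h0 h1 h2 hz =>
    D.no_perp hHM hq hMK hno hgM hr hgr hxy h0 hz h1 h2
  have noT : ∀ T ∈ M, ∀ c : F, c + c ^ q = 0 → IsTrans q T a c → c = 0 := fun T hT c hc h =>
    by_contra fun hc0 => hno r hr0 hr (D.centre_of_trans hHM hq hr0 hr
      (mul_mem (mul_mem (inv_mem hgM) hT) hgM) hc0 hc (isTrans_conj hgK h))
  have hdet : D.bil x y * D.bil x y - ε * D.bil y y * D.bil y y ≠ 0 := by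
    intro h0
    rcases eq_or_ne (D.bil y y) 0 with hy0 | hy0
    · rw [hy0, mul_zero, sub_zero] at h0
      exact perp x hx0 (by rw [hxx, hy0, mul_zero]) (by rw [D.bil_symm]; exact mul_self_eq_zero.1 h0)
        (by rw [hxx, hy0, mul_zero])
    · exact D.not_square hε (D.bil x y / D.bil y y) (by field_simp; linear_combination h0)
  obtain ⟨u1, hu10, hu1⟩ := D.exists_perp (m := 2) (by omega) ![x, y]
  have hx1 : D.bil x u1 = 0 := hu1 0
  have hy1 : D.bil y u1 = 0 := hu1 1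
  obtain ⟨u2, hu20, hu2⟩ := D.exists_perp (m := 3) (by omega) ![x, y, u1]
  have hx2 : D.bil x u2 = 0 := hu2 0
  have hy2 : D.bil y u2 = 0 := hu2 1
  have h12 : D.bil u1 u2 = 0 := hu2 2
  have hN1 := perp u1 hu10 hx1 hy1
  have hN2 := perp u2 hu20 hx2 hy2
  have hli : LinearIndependent F₀ ![x, y, u1, u2] := by
    rw [Fintype.linearIndependent_iff]
    intro c hc
    simp [Fin.sum_univ_four] at hc
    have e := fun v => congrArg (fun u => D.bil u v) hc
    have h2 : c 2 = 0 := by simpa [hx1, hy1, D.bil_symm u2 u1, h12, hN1] using e u1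
    have h3 : c 3 = 0 := by simpa [hx2, hy2, h12, hN2] using e u2
    rw [h2, h3, zero_smul, zero_smul, add_zero, add_zero] at hc
    obtain ⟨h0, h1⟩ := LinearIndependent.pair_iff.1 hxy _ _ hc
    intro i
    fin_cases i <;> assumption
  have hspan : ∀ v, ∃ c : Fin 4 → F₀, c 0 • x + c 1 • y + c 2 • u1 + c 3 • u2 = v := by
    intro v
    obtain ⟨c, hc⟩ : ∃ c : Fin 4 → F₀, ∑ i, c i • ![x, y, u1, u2] i = v := by
      rw [← Submodule.mem_span_range_iff_exists_fun,
        hli.span_eq_top_of_card_eq_finrank (by simp)]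
      trivial
    exact ⟨c, by simpa [Fin.sum_univ_four] using hc⟩
  let p1 : (Fin 4 → F₀) → F := fun w =>
    Cfsg.hermForm 4 F q ((g : Matrix (Fin 4) (Fin 4) F) *ᵥ ratEmb P F₀ w) (ratEmb P F₀ u1) /
      (D.bil u1 u1 : F)
  let p2 : (Fin 4 → F₀) → F := fun w =>
    Cfsg.hermForm 4 F q ((g : Matrix (Fin 4) (Fin 4) F) *ᵥ ratEmb P F₀ w) (ratEmb P F₀ u2) /
      (D.bil u2 u2 : F)
  let β : (Fin 4 → F₀) → (Fin 4 → F) := fun w => p1 w • ratEmb P F₀ u1 + p2 w • ratEmb P F₀ u2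
  have hβadd : ∀ (s t : F₀) (v w : Fin 4 → F₀),
      β (s • v + t • w) = (s : F) • β v + (t : F) • β w := by
    intro s t v w
    simp only [β, p1, p2, map_add, ratEmb_smul, Matrix.mulVec_add, Matrix.mulVec_smul, H.add_left,
      H.smul_left]
    module
  have ha1 : Cfsg.hermForm 4 F q a (ratEmb P F₀ u1) = 0 := by rw [hgr, D.herm_right, hx1, hy1]; simp
  have ha2 : Cfsg.hermForm 4 F q a (ratEmb P F₀ u2) = 0 := by rw [hgr, D.herm_right, hx2, hy2]; simp
  have h1a := (H.eq_zero_symm hF).1 ha1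
  have h2a := (H.eq_zero_symm hF).1 ha2
  have haβ : ∀ w, Cfsg.hermForm 4 F q a (β w) = 0 := fun w => by
    simp [β, H.add_right hF, H.smul_right, ha1, ha2]
  have hN1' : (D.bil u1 u1 : F) ≠ 0 := fun h => hN1 (Subtype.ext h)
  have hN2' : (D.bil u2 u2 : F) ≠ 0 := fun h => hN2 (Subtype.ext h)
  have hdec : ∀ w, D.bil r w = 0 → ∃ k : F,
      (g : Matrix (Fin 4) (Fin 4) F) *ᵥ ratEmb P F₀ w = β w + k • a := by
    intro w hw
    obtain ⟨bx, by', hb⟩ := D.split ((g : Matrix (Fin 4) (Fin 4) F) *ᵥ ratEmb P F₀ w)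
    obtain ⟨c, hc⟩ := hspan bx
    obtain ⟨d, hd⟩ := hspan by'
    obtain ⟨s, hs⟩ : ∃ s, s = (c 0 : F) + δ * d 0 := ⟨_, rfl⟩
    obtain ⟨t, ht⟩ : ∃ t, t = (c 1 : F) + δ * d 1 := ⟨_, rfl⟩
    obtain ⟨u, hu⟩ : ∃ u, u = (c 2 : F) + δ * d 2 := ⟨_, rfl⟩
    obtain ⟨v, hv⟩ : ∃ v, v = (c 3 : F) + δ * d 3 := ⟨_, rfl⟩
    have hb' : (g : Matrix (Fin 4) (Fin 4) F) *ᵥ ratEmb P F₀ w = s • ratEmb P F₀ x +
        t • ratEmb P F₀ y + u • ratEmb P F₀ u1 + v • ratEmb P F₀ u2 := by
      rw [hb, ← hc, ← hd, hs, ht, hu, hv]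
      simp only [map_add, ratEmb_smul]
      module
    have hba : Cfsg.hermForm 4 F q ((g : Matrix (Fin 4) (Fin 4) F) *ᵥ ratEmb P F₀ w) a = 0 :=
      (mem_suGL_herm hgK _ _).trans (congrArg Subtype.val (show D.bil w r = 0 by rwa [D.bil_symm]))
    have hts : t = δ * s := by
      simp only [hb', H.add_left, H.smul_left, h1a, h2a, mul_zero, add_zero] at hba
      rw [hgr, D.herm_left, D.herm_left, hxx, D.bil_symm y x] at hba
      push_cast at hba
      rw [hε] at hba
      have h0 : (t - δ * s) * ((D.bil x y : F) - δ * D.bil y y) = 0 := by linear_combination hba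
      refine sub_eq_zero.1 ((mul_eq_zero.1 h0).resolve_right fun h => hdet ?_)
      obtain ⟨e1, e2⟩ := D.coeff_unique (a := D.bil x y) (b := -D.bil y y)
        (by push_cast; linear_combination h)
      rw [e1, neg_eq_zero.1 e2]; ring
    refine ⟨s, ?_⟩
    have e1 : p1 w = u := by
      simp only [p1, hb', H.add_left, H.smul_left, ← D.bil_val, hx1, hy1, D.bil_symm u2 u1, h12,
        ZeroMemClass.coe_zero, mul_zero, zero_add, add_zero]
      field_simp
    have e2 : p2 w = v := by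
      simp only [p2, hb', H.add_left, H.smul_left, ← D.bil_val, hx2, hy2, h12,
        ZeroMemClass.coe_zero, mul_zero, zero_add]
      field_simp
    simp only [β, e1, e2, hb', hts, hgr]
    module
  obtain ⟨ι, hι, hιx⟩ := D.exists_refl_pair hN1 hN2
  have hv0 : u1 + u2 ≠ 0 := fun h => hN1 (by
    have := congrArg (D.bil u1) h
    simpa [h12] using this)
  have hSN := perp (u1 + u2) hv0 (by simp [hx1, hx2]) (by simp [hy1, hy2])
  obtain ⟨R, hR, hRx⟩ := D.exists_refl_pair hN1 hSN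
  obtain ⟨S, hS⟩ : ∃ S, S = D.bil u1 u1 + D.bil u2 u2 := ⟨_, rfl⟩
  have hS' : D.bil (u1 + u2) (u1 + u2) = S := by simp [hS, h12, D.bil_symm u2 u1]
  have hS0 : S ≠ 0 := hS' ▸ hSN
  have hrefl : ∀ u : Fin 4 → F₀, D.bil u u ≠ 0 → D.brefl u u = -u := fun u hu => by
    rw [brefl, mul_div_assoc, div_self hu, mul_one]; module
  have hιa : (ι : Matrix (Fin 4) (Fin 4) F) *ᵥ a = a := by
    rw [hgr, Matrix.mulVec_add, Matrix.mulVec_smul, hιx, hιx, D.brefl_fix hx2, D.brefl_fix hx1,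
      D.brefl_fix hy2, D.brefl_fix hy1]
  have hRa : (R : Matrix (Fin 4) (Fin 4) F) *ᵥ a = a := by
    rw [hgr, Matrix.mulVec_add, Matrix.mulVec_smul, hRx, hRx,
      D.brefl_fix (u := u1 + u2) (x := x) (by simp [hx1, hx2]), D.brefl_fix hx1,
      D.brefl_fix (u := u1 + u2) (x := y) (by simp [hy1, hy2]), D.brefl_fix hy1]
  have hιβ : ∀ w, (ι : Matrix (Fin 4) (Fin 4) F) *ᵥ β w = -β w := fun w => by
    simp only [β, Matrix.mulVec_add, Matrix.mulVec_smul, hιx]
    rw [D.brefl_fix h12, hrefl u1 hN1, hrefl u2 hN2,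
      D.brefl_fix (u := u1) (x := -u2) (by simp [D.bil_symm u2 u1, h12])]
    simp only [map_neg]
    module
  have hR1 : D.brefl u1 (D.brefl (u1 + u2) u1) =
      ((D.bil u1 u1 - D.bil u2 u2) / S) • u1 + (-(2 * D.bil u1 u1) / S) • u2 := by
    simp only [brefl, hS']
    simp only [map_add, map_sub, map_smul, LinearMap.sub_apply, LinearMap.smul_apply,
      LinearMap.add_apply, smul_eq_mul, h12, D.bil_symm u2 u1, add_zero]
    match_scalars
    · field_simp; rw [hS]; ring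
    · field_simp
  have hR2 : D.brefl u1 (D.brefl (u1 + u2) u2) =
      ((2 * D.bil u2 u2) / S) • u1 + ((D.bil u1 u1 - D.bil u2 u2) / S) • u2 := by
    simp only [brefl, hS']
    simp only [map_add, map_sub, map_smul, LinearMap.sub_apply, LinearMap.smul_apply,
      LinearMap.add_apply, smul_eq_mul, h12, D.bil_symm u2 u1, add_zero, zero_add]
    match_scalars
    · field_simp; rw [hS]; ring
    · field_simp; rw [hS]; ring
  have hstep : ∀ w, D.bil r w = 0 →
      (∃ X ∈ M, IsEichG q X a (β w) (-(D.bil w w : F) / 2)) ∧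
      Cfsg.hermForm 4 F q (β w) (β w) = D.bil w w ∧
      ∃ (l : F) (w1 : Fin 4 → F₀), D.bil x w1 = 0 ∧ D.bil y w1 = 0 ∧ β w = l • ratEmb P F₀ w1 := by
    intro w hw
    obtain ⟨k, hk⟩ := hdec w hw
    obtain ⟨S₀, hS₀, hSe⟩ := D.exists_siegel hr hw
    obtain ⟨X, hXdef⟩ : ∃ X, X = g * S₀ * g⁻¹ := ⟨_, rfl⟩
    have hXM : X ∈ M := hXdef ▸ mul_mem (mul_mem hgM (hHM hS₀)) (inv_mem hgM)
    have h0 : IsEichG q X a (β w + k • a) (-(D.bil w w : F) / 2) := by
      intro z
      obtain ⟨u, rfl⟩ : ∃ u, (g : Matrix (Fin 4) (Fin 4) F) *ᵥ u = z :=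
        Matrix.mulVec_surjective_iff_isUnit.2 (Units.isUnit g) z
      rw [← hk, hXdef, Matrix.mulVec_mulVec, ← Units.val_mul, inv_mul_cancel_right, Units.val_mul,
        ← Matrix.mulVec_mulVec, hSe, Matrix.mulVec_add, Matrix.mulVec_sub, Matrix.mulVec_add,
        Matrix.mulVec_smul, Matrix.mulVec_smul, Matrix.mulVec_smul, ha_def, mem_suGL_herm hgK,
        mem_suGL_herm hgK]
    have hββ : Cfsg.hermForm 4 F q (β w) (β w) = D.bil w w := by
      rw [D.bil_val, ← mem_suGL_herm hgK (ratEmb P F₀ w) (ratEmb P F₀ w), hk]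
      simp only [H.add_left, H.add_right hF, H.smul_left, H.smul_right, haβ,
        (H.eq_zero_symm hF).1 (haβ w), ha, mul_zero, add_zero]
    have h1 := h0.shift hF
    have h2 := h1.conj hF hι.2 hιa
    rw [hιβ] at h2
    have h3 := h2.mul hF h1 ha (by rw [H.neg_right hF, haβ, neg_zero]) (haβ w)
    rw [H.neg_right hF, hββ, neg_add_cancel] at h3
    have h4 : IsTrans q (ι * X * ι⁻¹ * X) a (2 * (k - k ^ q)) := by
      intro z
      rw [h3 z, H.zero_right hF]
      have := D.odd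
      match_scalars
      · simp
      · field_simp
        ring
    have hτ := noT _ (mul_mem (mul_mem (mul_mem (hHM hι) hXM) (inv_mem (hHM hι))) hXM) _
      (by rw [mul_pow, D.two_pow, sub_pow_q hF, pow_q_pow_q hF]; ring) h4
    have hX : IsEichG q X a (β w) (-(D.bil w w : F) / 2) := by
      have e : -(D.bil w w : F) / 2 + k - k ^ q = -(D.bil w w : F) / 2 := by
        linear_combination (mul_eq_zero.1 hτ).resolve_left D.odd
      rwa [e] at h1
    refine ⟨⟨X, hXM, hX⟩, hββ, ?_⟩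
    have h5 := hX.conj hF hR.2 hRa
    have haR : Cfsg.hermForm 4 F q a ((R : Matrix (Fin 4) (Fin 4) F) *ᵥ β w) = 0 := by
      nth_rewrite 1 [← hRa]
      rw [mem_suGL_herm hR.2, haβ]
    have h6 := hX.mul hF h5 ha (haβ w) haR
    have h7 := h5.mul hF hX ha haR (haβ w)
    rw [add_comm ((R : Matrix (Fin 4) (Fin 4) F) *ᵥ β w) (β w)] at h7
    have h8 := h6.quot hF h7 ha (by rw [H.add_right hF, haβ, haR, add_zero])
    have hXR := mul_mem (mul_mem (hHM hR) hXM) (inv_mem (hHM hR))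
    have hc := noT _ (mul_mem (mul_mem hXM hXR) (inv_mem (mul_mem hXR hXM))) _ (by
        simp only [sub_pow_q hF, add_pow_q hF, ← H.conj_symm]
        ring) h8
    have hpp : p1 w * p2 w ^ q = p2 w * p1 w ^ q := by
      simp only [β, Matrix.mulVec_add, Matrix.mulVec_smul, hRx, hR1, hR2, map_add, ratEmb_smul,
        H.add_left, H.add_right hF, H.smul_left, H.smul_right, ← D.bil_val, h12, D.bil_symm u2 u1,
        D.val_pow, ZeroMemClass.coe_zero, mul_zero, add_zero, zero_add] at hc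
      push_cast at hc
      simp only [show ((2 : F₀) : F) = (2 : F) from map_ofNat F₀.subtype 2] at hc
      have hS0' : (S : F) ≠ 0 := fun h => hS0 (Subtype.ext h)
      field_simp at hc
      refine mul_left_cancel₀ (mul_ne_zero (mul_ne_zero (mul_ne_zero D.odd D.odd) hN1') hN2') ?_
      linear_combination hc
    rcases eq_or_ne (p1 w) 0 with h0 | h0
    · exact ⟨p2 w, u2, hx2, hy2, by simp [β, h0]⟩
    · obtain ⟨t, ht⟩ : ∃ t : F₀, (t : F) = p2 w / p1 w := ⟨⟨p2 w / p1 w, D.mem.2 (by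
        rw [div_pow, div_eq_div_iff (pow_ne_zero _ h0) h0]; linear_combination hpp)⟩, rfl⟩
      refine ⟨p1 w, u1 + t • u2, by simp [hx1, hx2], by simp [hy1, hy2], ?_⟩
      rw [map_add, ratEmb_smul, ht]
      simp only [β]
      match_scalars <;> field_simp
  obtain ⟨s, hs, hrs⟩ := D.exists_sing hr0
  obtain ⟨wa, wb, hra, hsa, hrb, hsb, hab, haa, hbb⟩ := D.exists_orth_pair hr hs hrs
  obtain ⟨-, hna, la, w1a, hxa, hya, hβa⟩ := hstep wa hra
  obtain ⟨-, hnb, lb, w1b, hxb, hyb, hβb⟩ := hstep wb hrb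
  rw [hβa, H.smul_left, H.smul_right, ← D.bil_val] at hna
  rw [hβb, H.smul_left, H.smul_right, ← D.bil_val] at hnb
  have hla : la ≠ 0 := fun h => haa (Subtype.ext (by rw [← hna, h]; simp))
  have hlb : lb ≠ 0 := fun h => hbb (Subtype.ext (by rw [← hnb, h]; simp))
  have ha0 : D.bil w1a w1a ≠ 0 := fun h => haa (Subtype.ext (by rw [← hna, h]; simp))
  have hb0 : D.bil w1b w1b ≠ 0 := fun h => hbb (Subtype.ext (by rw [← hnb, h]; simp))
  have hab1 : D.bil w1a w1b = 0 := by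
    obtain ⟨ka, hka⟩ := hdec wa hra
    obtain ⟨kb, hkb⟩ := hdec wb hrb
    have h := mem_suGL_herm hgK (ratEmb P F₀ wa) (ratEmb P F₀ wb)
    rw [hka, hkb, ← D.bil_val, hab] at h
    simp only [H.add_left, H.add_right hF, H.smul_left, H.smul_right, haβ,
      (H.eq_zero_symm hF).1 (haβ wa), ha, mul_zero, add_zero] at h
    rw [hβa, hβb, H.smul_left, H.smul_right, ← D.bil_val, ZeroMemClass.coe_zero, mul_eq_zero,
      mul_eq_zero, pow_q_eq_zero hF] at h
    exact Subtype.ext ((h.resolve_left hla).resolve_left hlb)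
  obtain ⟨-, -, lc, w1c, -, -, hβc⟩ := hstep (wa + wb) (by simp [hra, hrb])
  have hsum : la • ratEmb P F₀ w1a + lb • ratEmb P F₀ w1b = lc • ratEmb P F₀ w1c := by
    have := hβadd 1 1 wa wb
    simp only [one_smul, OneMemClass.coe_one] at this
    rw [← hβa, ← hβb, ← hβc, this]
  have ea := congrArg (fun v => Cfsg.hermForm 4 F q v (ratEmb P F₀ w1a)) hsum
  have eb := congrArg (fun v => Cfsg.hermForm 4 F q v (ratEmb P F₀ w1b)) hsum
  simp only [H.add_left, H.smul_left, ← D.bil_val, hab1, D.bil_symm w1b w1a, ZeroMemClass.coe_zero,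
    mul_zero, add_zero, zero_add] at ea eb
  have hca : (D.bil w1c w1a : F) ≠ 0 := fun h => by
    rw [h, mul_zero, mul_eq_zero] at ea
    exact ea.elim hla fun h' => ha0 (Subtype.ext h')
  have hb0' : (D.bil w1b w1b : F) ≠ 0 := fun h => hb0 (Subtype.ext h)
  obtain ⟨t, ht⟩ : ∃ t : F₀,
      t = D.bil w1c w1b * D.bil w1a w1a / (D.bil w1b w1b * D.bil w1c w1a) := ⟨_, rfl⟩
  have hlt : lb = la * t := by
    rw [ht]; push_cast; field_simp
    linear_combination (D.bil w1c w1a : F) * eb - (D.bil w1c w1b : F) * ea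
  have ht0 : t ≠ 0 := fun h => hlb (by rw [hlt, h]; simp)
  obtain ⟨N, hN⟩ : ∃ N : F₀, (N : F) = la ^ (q + 1) :=
    ⟨⟨la ^ (q + 1), D.mem.2 (pow_q_succ_fixed hF la)⟩, rfl⟩
  have hWa : D.bil wa wa = N * D.bil w1a w1a := Subtype.ext (by
    push_cast; rw [hN, ← hna, pow_succ]; ring)
  have hWb : D.bil wb wb = N * (t * t * D.bil w1b w1b) := Subtype.ext (by
    push_cast; rw [hN, ← hnb, hlt, pow_succ, mul_pow, D.val_pow]; ring)
  have hN0 : N ≠ 0 := fun h => haa (by rw [hWa, h, zero_mul])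
  refine ⟨hdet, ?_, la, hla, fun n hn => ?_⟩
  · rcases eq_or_ne (D.bil y y) 0 with hy0 | hy0
    · exact ⟨D.bil x y, by rw [hy0]; ring⟩
    obtain ⟨z, hz⟩ := D.gram_square (v := ![r + s, r - s, wa, wb])
      (w := ![y, D.bil y y • x - D.bil x y • y, w1a, t • w1b])
      (D.orth_four (by simp [hr, hs, D.bil_symm s r]) (by simp [hra, hsa]) (by simp [hrb, hsb])
        (by simp [hra, hsa]) (by simp [hrb, hsb]) hab)
      (D.orth_four (by simp [D.bil_symm y x, mul_comm]) hya (by simp [hyb]) (by simp [hxa, hya])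
        (by simp [hxb, hyb]) (by simp [hab1]))
    simp [Fin.prod_univ_four, hr, hs, hrs, D.bil_symm s r, D.bil_symm y x, hxx, hWa, hWb,
      one_add_one_eq_two] at hz
    refine ⟨z / (2 * N * D.bil y y * (D.bil w1a w1a * (t * t * D.bil w1b w1b))), ?_⟩
    rw [div_mul_div_comm, eq_div_iff]
    · linear_combination hz
    · simp [two0, hN0, hy0, ha0, hb0, ht0]
  · obtain ⟨σ, τ, hst⟩ := RatData.exists_quad ha0
      (mul_ne_zero (mul_ne_zero ht0 ht0) hb0 : t * t * D.bil w1b w1b ≠ 0) two0 n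
    obtain ⟨⟨X, hXM, hX⟩, -, -⟩ := hstep (σ • wa + τ • wb) (by simp [hra, hrb])
    refine ⟨X, hXM, σ • w1a + (τ * t) • w1b, by simp [hxa, hxb], by simp [hya, hyb], ?_, ?_⟩
    · simp [hab1, D.bil_symm w1b w1a]
      linear_combination hst
    · have e : β (σ • wa + τ • wb) = la • ratEmb P F₀ (σ • w1a + (τ * t) • w1b) := by
        rw [hβadd, hβa, hβb, hlt, map_add, ratEmb_smul, ratEmb_smul, Subfield.coe_mul]
        module
      have e2 : D.bil (σ • wa + τ • wb) (σ • wa + τ • wb) = N * n := by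
        simp [hab, D.bil_symm wb wa, hWa, hWb]
        linear_combination N * hst
      rw [e, e2, Subfield.coe_mul, hN] at hX
      exact hX

/-- Every image of a rational singular vector is rational. -/
theorem no_irrational {g : Matrix.GeneralLinearGroup (Fin 4) F} (hgM : g ∈ M) {r x y : Fin 4 → F₀}
    (hr : D.bil r r = 0)
    (hgr : (g : Matrix (Fin 4) (Fin 4) F) *ᵥ ratEmb P F₀ r = ratEmb P F₀ x + δ • ratEmb P F₀ y)
    (hxy : LinearIndependent F₀ ![x, y]) : False := by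
  classical
  have hF := D.card
  have H := hermForm_isHerm hF 4
  have two0 := D.two_ne
  obtain ⟨ε, hε⟩ : ∃ ε : F₀, (ε : F) = δ ^ 2 := ⟨⟨δ ^ 2, D.eps_mem⟩, rfl⟩
  have hεF : (ε : F) = δ * δ := by rw [hε, sq]
  obtain ⟨hdet, ⟨ρ, hρ⟩, lam, hlam, hX⟩ := D.norm_structure hHM hq hMK hno hgM hr hgr hxy hε
  set a := (g : Matrix (Fin 4) (Fin 4) F) *ᵥ ratEmb P F₀ r with ha_def
  have ha : Cfsg.hermForm 4 F q a a = 0 :=
    (mem_suGL_herm (hMK hgM) _ _).trans (congrArg Subtype.val hr)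
  have hxx : D.bil x x = ε * D.bil y y := D.bil_iso hε (hgr ▸ ha)
  -- two independent singular vectors in the plane
  obtain ⟨s1, t1, s2, t2, hq1, hq2, hind⟩ : ∃ s1 t1 s2 t2 : F₀,
      D.bil (s1 • x + t1 • y) (s1 • x + t1 • y) = 0 ∧
      D.bil (s2 • x + t2 • y) (s2 • x + t2 • y) = 0 ∧ s1 * t2 - t1 * s2 ≠ 0 := by
    rcases eq_or_ne (D.bil y y) 0 with hy0 | hy0
    · exact ⟨1, 0, 0, 1, by simp [hxx, hy0], by simp [hy0], by simp⟩
    refine ⟨D.bil y y, -D.bil x y + ρ, D.bil y y, -D.bil x y - ρ, ?_, ?_, ?_⟩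
    · simp [hxx, D.bil_symm y x]
      linear_combination -(D.bil y y) * hρ
    · simp [hxx, D.bil_symm y x]
      linear_combination -(D.bil y y) * hρ
    · have hρ0 : ρ ≠ 0 := fun h => hdet (by rw [hρ, h, mul_zero])
      intro h
      exact mul_ne_zero (mul_ne_zero two0 hy0) hρ0 (by linear_combination -h)
  have hη : ∀ s t : F₀, Cfsg.hermForm 4 F q (ratEmb P F₀ (s • x + t • y)) a =
      ((s * ε * D.bil y y + t * D.bil x y : F₀) : F) -
        δ * ((s * D.bil x y + t * D.bil y y : F₀) : F) := by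
    intro s t
    rw [hgr, D.herm_left]
    simp [hxx, D.bil_symm y x]
    ring
  obtain ⟨s, t, hu, L0, L1, hz, hL1⟩ : ∃ s t : F₀, D.bil (s • x + t • y) (s • x + t • y) = 0 ∧
      ∃ L0 L1 : F₀, Cfsg.hermForm 4 F q (ratEmb P F₀ (s • x + t • y)) a * lam = L0 + δ * L1 ∧
        L1 ≠ 0 := by
    by_contra! hc
    obtain ⟨A1, B1, e1⟩ := D.coeff_exists
      (Cfsg.hermForm 4 F q (ratEmb P F₀ (s1 • x + t1 • y)) a * lam)
    obtain ⟨A2, B2, e2⟩ := D.coeff_exists
      (Cfsg.hermForm 4 F q (ratEmb P F₀ (s2 • x + t2 • y)) a * lam)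
    rw [hc s1 t1 hq1 A1 B1 e1, hη] at e1
    rw [hc s2 t2 hq2 A2 B2 e2, hη] at e2
    push_cast at e1 e2
    have e3 : ((((A2 * s1 - A1 * s2) * ε * D.bil y y + (A2 * t1 - A1 * t2) * D.bil x y : F₀) : F) +
        δ * ((-((A2 * s1 - A1 * s2) * D.bil x y + (A2 * t1 - A1 * t2) * D.bil y y) : F₀) : F)) *
          lam = 0 := by
      push_cast
      linear_combination (A2 : F) * e1 - (A1 : F) * e2
    obtain ⟨f1, f2⟩ := D.coeff_unique ((mul_eq_zero.1 e3).resolve_right hlam)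
    have g1 : (A2 * t1 - A1 * t2) * (D.bil x y * D.bil x y - ε * D.bil y y * D.bil y y) = 0 := by
      linear_combination D.bil x y * f1 + ε * D.bil y y * f2
    have g2 : (A2 * s1 - A1 * s2) * (D.bil x y * D.bil x y - ε * D.bil y y * D.bil y y) = 0 := by
      linear_combination -(D.bil y y) * f1 - D.bil x y * f2
    have g1' := (mul_eq_zero.1 g1).resolve_right hdet
    have g2' := (mul_eq_zero.1 g2).resolve_right hdet
    have hA1 : A1 = 0 := (mul_eq_zero.1 (show A1 * (s1 * t2 - t1 * s2) = 0 by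
      linear_combination t1 * g2' - s1 * g1')).resolve_right hind
    have h0 : ((s1 * ε * D.bil y y + t1 * D.bil x y : F₀) : F) +
        δ * ((-(s1 * D.bil x y + t1 * D.bil y y) : F₀) : F) = 0 := by
      refine (mul_eq_zero.1 ?_).resolve_right hlam
      rw [hA1] at e1
      simp only [ZeroMemClass.coe_zero, mul_zero, add_zero] at e1
      push_cast
      linear_combination e1
    obtain ⟨k1, k2⟩ := D.coeff_unique h0
    have ht1 : t1 = 0 := (mul_eq_zero.1 (show t1 *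
        (D.bil x y * D.bil x y - ε * D.bil y y * D.bil y y) = 0 by
      linear_combination D.bil x y * k1 + ε * D.bil y y * k2)).resolve_right hdet
    have hs1 : s1 = 0 := (mul_eq_zero.1 (show s1 *
        (D.bil x y * D.bil x y - ε * D.bil y y * D.bil y y) = 0 by
      linear_combination -(D.bil y y) * k1 - D.bil x y * k2)).resolve_right hdet
    exact hind (by rw [hs1, ht1]; ring)
  obtain ⟨u, hu'⟩ : ∃ u, u = s • x + t • y := ⟨_, rfl⟩
  obtain ⟨η0, hη0⟩ : ∃ η0, η0 = s * ε * D.bil y y + t * D.bil x y := ⟨_, rfl⟩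
  obtain ⟨η1, hη1⟩ : ∃ η1, η1 = -(s * D.bil x y + t * D.bil y y) := ⟨_, rfl⟩
  have hηv : Cfsg.hermForm 4 F q (ratEmb P F₀ u) a = (η0 : F) + δ * η1 := by
    rw [hu', hη, hη0, hη1]; push_cast; ring
  rw [← hu'] at hz hu
  rw [hηv] at hz
  have hq0 : s * s * ε * D.bil y y + 2 * s * t * D.bil x y + t * t * D.bil y y = 0 := by
    rw [hu'] at hu
    simp [hxx, D.bil_symm y x] at hu
    linear_combination hu
  have hI : η0 * η0 * D.bil y y + 2 * η0 * η1 * D.bil x y + ε * η1 * η1 * D.bil y y = 0 := by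
    rw [hη0, hη1]
    linear_combination -(D.bil x y * D.bil x y - ε * D.bil y y * D.bil y y) * hq0
  obtain ⟨R, hR⟩ : ∃ R, R = (η0 * η0 + ε * η1 * η1) * D.bil x y + 2 * ε * η0 * η1 * D.bil y y :=
    ⟨_, rfl⟩
  have hR0 : R ≠ 0 := by
    intro h0
    have h1 : ((η0 : F) + δ * η1) * ((η0 : F) + δ * η1) *
        ((D.bil x y : F) + δ * D.bil y y) = 0 := by
      have hR' := congrArg Subtype.val (h0.symm.trans hR)
      have hI' := congrArg Subtype.val hI
      push_cast at hR' hI'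
      simp only [show ((2 : F₀) : F) = (2 : F) from map_ofNat F₀.subtype 2, hεF] at hR' hI'
      linear_combination δ * hI' - hR'
    rcases mul_eq_zero.1 h1 with h2 | h2
    · rw [mul_self_eq_zero] at h2
      rw [h2, zero_mul] at hz
      exact hL1 (D.coeff_unique hz.symm).2
    · obtain ⟨e1, e2⟩ := D.coeff_unique h2
      exact hdet (by rw [e1, e2]; ring)
  obtain ⟨N, hN⟩ : ∃ N : F₀, (N : F) = lam ^ (q + 1) :=
    ⟨⟨lam ^ (q + 1), D.mem.2 (pow_q_succ_fixed hF lam)⟩, rfl⟩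
  have hN0 : N ≠ 0 := fun h => pow_ne_zero (q + 1) hlam (by rw [← hN, h]; rfl)
  -- the norm of the image of u under the Siegel element with parameter n
  have key : ∀ n : F₀, n ≠ 0 → ∃ S : F₀,
      (n * (N * N * R / 4) + L0 * L1) * (n * (N * N * R / 4) + L0 * L1) -
        ε * (L1 * L1) * (L1 * L1) = S * S := by
    intro n hn
    obtain ⟨X, hXM, w1, hxw, hyw, hnw, hXe⟩ := hX n hn
    have huw : D.bil u w1 = 0 := by simp [hu', hxw, hyw]
    obtain ⟨g0, hg0⟩ : ∃ g0 : F₀, g0 = -(N * n) / 2 := ⟨_, rfl⟩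
    obtain ⟨xt, hxt⟩ : ∃ xt, xt = u + L0 • w1 + g0 • (η0 • x + (ε * η1) • y) := ⟨_, rfl⟩
    obtain ⟨yt, hyt⟩ : ∃ yt, yt = L1 • w1 + g0 • (η0 • y + η1 • x) := ⟨_, rfl⟩
    have hg0' : (g0 : F) = -(lam ^ (q + 1) * (n : F)) / 2 := by
      rw [hg0]; push_cast
      simp only [show ((2 : F₀) : F) = (2 : F) from map_ofNat F₀.subtype 2, hN]
    have hXu : (X : Matrix (Fin 4) (Fin 4) F) *ᵥ ratEmb P F₀ u =
        ratEmb P F₀ xt + δ • ratEmb P F₀ yt := by
      rw [hXe, hηv, H.smul_right, ← D.bil_val, huw, ZeroMemClass.coe_zero, mul_zero, zero_smul,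
        sub_zero, smul_smul, hz, hgr, ← hg0', hxt, hyt]
      simp only [map_add, ratEmb_smul, Subfield.coe_mul, hεF]
      module
    have hY : D.bil yt yt = n * (L1 * L1) := by
      simp [hyt, hnw, hxx, D.bil_symm y x, hxw, hyw, D.bil_symm w1 x, D.bil_symm w1 y]
      linear_combination g0 * g0 * hI
    have hB : D.bil xt yt = n * (n * (N * N * R / 4) + L0 * L1) := by
      simp [hxt, hyt, hu', hnw, hxx, D.bil_symm y x, hxw, hyw, D.bil_symm w1 x, D.bil_symm w1 y,
        hR, hη0, hη1, hg0]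
      have h4 : (4 : F₀) ≠ 0 := by
        rw [show (4 : F₀) = 2 * 2 by norm_num]; exact mul_ne_zero two0 two0
      field_simp
      ring
    have hiso : D.bil xt xt = ε * D.bil yt yt := D.bil_iso hε (by
      rw [← hXu, mem_suGL_herm (hMK hXM), ← D.bil_val, hu]; rfl)
    have hY0 : D.bil yt yt ≠ 0 := by rw [hY]; exact mul_ne_zero hn (mul_ne_zero hL1 hL1)
    obtain ⟨-, ⟨S, hS⟩, -⟩ := D.norm_structure hHM hq hMK hno hXM hu hXu
      (D.li_of_iso hε hiso hY0) hε
    rw [hY, hB] at hS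
    refine ⟨S / n, ?_⟩
    rw [div_mul_div_comm, eq_div_iff (mul_ne_zero hn hn)]
    linear_combination hS
  have hA : N * N * R / 4 ≠ 0 := by
    refine div_ne_zero (mul_ne_zero (mul_ne_zero hN0 hN0) hR0) ?_
    rw [show (4 : F₀) = 2 * 2 by norm_num]; exact mul_ne_zero two0 two0
  have all : ∀ j : F₀, j ≠ L0 * L1 → ∃ S : F₀, j * j - ε * (L1 * L1) * (L1 * L1) = S * S := by
    intro j hj
    obtain ⟨n, hn⟩ : ∃ n, n = (j - L0 * L1) / (N * N * R / 4) := ⟨_, rfl⟩
    obtain ⟨S, hS⟩ := key n (by rw [hn]; exact div_ne_zero (sub_ne_zero.2 hj) hA)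
    rw [hn, div_mul_cancel₀ _ hA, sub_add_cancel] at hS
    exact ⟨S, hS⟩
  -- too many squares
  choose S hS using all
  have hS0 : ∀ j hj, S j hj ≠ 0 := fun j hj h => by
    have h' := hS j hj
    rw [h, mul_zero] at h'
    exact D.not_square hε (j / (L1 * L1)) (by field_simp; linear_combination h')
  let _ : Fintype F₀ := Fintype.ofFinite _
  let f : {j : F₀ // j ≠ L0 * L1} × Bool → {v : F₀ // v ≠ 0} := fun p =>
    ⟨p.1.1 + if p.2 then S p.1.1 p.1.2 else -S p.1.1 p.1.2, fun h => by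
      have h' := hS p.1.1 p.1.2
      refine mul_ne_zero (mul_ne_zero (fun h => D.skew0 (mul_self_eq_zero.1
        ((hεF.symm.trans (congrArg Subtype.val h)))) : ε ≠ 0) (mul_ne_zero hL1 hL1))
        (mul_ne_zero hL1 hL1) ?_
      rcases p with ⟨⟨j, hj⟩, _ | _⟩
      · simp only [Bool.false_eq_true, if_false] at h h'
        linear_combination (j + S j hj) * h - h'
      · simp only [if_true] at h h'
        linear_combination (j - S j hj) * h - h'⟩
  have hf : Function.Injective f := by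
    rintro ⟨⟨j, hj⟩, b⟩ ⟨⟨k, hk⟩, c⟩ h
    have h' := congrArg Subtype.val h
    obtain ⟨A, hA'⟩ : ∃ A, A = if b then S j hj else -S j hj := ⟨_, rfl⟩
    obtain ⟨B, hB'⟩ : ∃ B, B = if c then S k hk else -S k hk := ⟨_, rfl⟩
    have e : j + A = k + B := by simpa [f, ← hA', ← hB'] using h'
    have eA : j * j - ε * (L1 * L1) * (L1 * L1) = A * A := by
      rw [hS j hj, hA']; split <;> ring
    have eB : k * k - ε * (L1 * L1) * (L1 * L1) = B * B := by
      rw [hS k hk, hB']; split <;> ring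
    have hv : j + A ≠ 0 := by
      have := (f (⟨j, hj⟩, b)).2
      simpa [f, ← hA'] using this
    have hjk : j = k := by
      have h2 : (2 : F₀) * (j + A) * (j - k) = 0 := by
        linear_combination eA - eB + (j - k + A + B) * e
      exact sub_eq_zero.1 ((mul_eq_zero.1 h2).resolve_left (mul_ne_zero two0 hv))
    subst hjk
    have hAB : A = B := add_left_cancel e
    have hbc : b = c := by
      rw [hA', hB'] at hAB
      have h2 := mul_ne_zero two0 (hS0 j hj)
      cases b <;> cases c <;> simp at hAB ⊢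
      · exact h2 (by linear_combination -hAB)
      · exact h2 (by linear_combination hAB)
    subst hbc
    rfl
  have h1 := Nat.card_le_card_of_injective f hf
  rw [Nat.card_prod, Nat.card_eq_fintype_card, Nat.card_eq_fintype_card (α := {v : F₀ // v ≠ 0}),
    Fintype.card_subtype_compl, Fintype.card_subtype_compl, Fintype.card_subtype_eq,
    Fintype.card_subtype_eq, Nat.card_eq_fintype_card, Fintype.card_bool,
    ← Nat.card_eq_fintype_card (α := F₀), D.card_base] at h1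
  omega

end RatData

end Cfsg.Agent.Unitary
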