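import Cfsg.Agent.Lib.Unitary.DecompTypes
/-
Maximality of the stabiliser of an orthogonal pair of nondegenerate planes in SU, q ≥ 3.
* blockPair, exists_block_elt, aniso_move, diag_move, aniso_of_iso, iso_of_aniso,
  isMaximalIn_plane_pair_stabilizer
-/
set_option autoImplicit false

namespace Cfsg.Agent.Unitary

open scoped Matrix

variable {F : Type*} [Field F] [Fintype F] {q n : ℕ}

/-- The vector with the two given components. -/
def blockPair (b : Fin 2 × Fin 2 → (Fin n → F)) (a c : Fin 2 → F) : Fin n → F :=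
  frameVec b ![a, c]

section Pair

variable {b : Fin 2 × Fin 2 → (Fin n → F)} {M S : Subgroup (Matrix.GeneralLinearGroup (Fin n) F)}
  (hF : Fintype.card F = q ^ 2) (hb : IsFrame q b)
  (hS : ∀ g, g ∈ S ↔ InStab b g) (hSM : S ⊓ suGL n F q ≤ M)
include hF hb hS hSM

local notation "𝔥" => Cfsg.hermForm 2 F q
local notation "ℍ" => Cfsg.hermForm n F q
local notation "pv" => blockPair b

omit hF hb hS hSM in
theorem pair_single_zero (a : Fin 2 → F) : frameVec b (Pi.single 0 a) = pv a 0 := by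
  unfold blockPair; congr 1; funext i; fin_cases i <;> simp

omit hF hb hS hSM in
theorem pair_single_one (c : Fin 2 → F) : frameVec b (Pi.single 1 c) = pv 0 c := by
  unfold blockPair; congr 1; funext i; fin_cases i <;> simp

omit hS hSM in
theorem pair_inner (a c a' c' : Fin 2 → F) : ℍ (pv a c) (pv a' c') = 𝔥 a a' + 𝔥 c c' := by
  simp [blockPair, hb.inner hF, Fin.sum_univ_two]

omit hF hb hS hSM in
theorem pair_add (a c a' c' : Fin 2 → F) : pv a c + pv a' c' = pv (a + a') (c + c') := by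
  rw [blockPair, blockPair, blockPair, ← map_add]; simp

omit hF hb hS hSM in
theorem pair_smul (l : F) (a c : Fin 2 → F) : l • pv a c = pv (l • a) (l • c) := by
  rw [blockPair, blockPair, ← map_smul]; simp

omit hS hSM in
theorem pair_exists (x : Fin n → F) : ∃ a c, x = pv a c := by
  obtain ⟨v, rfl⟩ := hb.exists_coord hF x
  refine ⟨v 0, v 1, ?_⟩
  unfold blockPair; congr 1; funext i; fin_cases i <;> simp

/-- An element of the stabiliser with the given blocks. -/
theorem exists_block_elt (U V : Cfsg.GU 2 F q) :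
    ∃ g ∈ S ⊓ Cfsg.GU n F q, ∀ a c, (g : Matrix (Fin n) (Fin n) F) *ᵥ pv a c =
      pv (((U : Matrix.GeneralLinearGroup (Fin 2) F) : Matrix (Fin 2) (Fin 2) F) *ᵥ a)
        (((V : Matrix.GeneralLinearGroup (Fin 2) F) : Matrix (Fin 2) (Fin 2) F) *ᵥ c) := by
  have _ := hSM
  obtain ⟨g, hg, hgc⟩ := hb.exists_block_perm hF 1
    ![((U : Matrix.GeneralLinearGroup (Fin 2) F) : Matrix (Fin 2) (Fin 2) F),
      ((V : Matrix.GeneralLinearGroup (Fin 2) F) : Matrix (Fin 2) (Fin 2) F)]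
    (fun i => by fin_cases i <;> [exact U.2; exact V.2])
  have key : ∀ a c, (g : Matrix (Fin n) (Fin n) F) *ᵥ pv a c =
      pv (((U : Matrix.GeneralLinearGroup (Fin 2) F) : Matrix (Fin 2) (Fin 2) F) *ᵥ a)
        (((V : Matrix.GeneralLinearGroup (Fin 2) F) : Matrix (Fin 2) (Fin 2) F) *ᵥ c) := fun a c => by
    unfold blockPair; rw [hgc]; congr 1; funext j; fin_cases j <;> simp [Equiv.Perm.inv_def, Equiv.Perm.one_def] <;> rfl
  refine ⟨g, ⟨(hS g).2 ⟨1, fun i y => ?_⟩, hg⟩, key⟩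
  fin_cases i
  · exact ⟨_, by simp [pair_single_zero, pair_single_one, key]; rfl⟩
  · exact ⟨_, by simp [pair_single_zero, pair_single_one, key]; rfl⟩

/-- An element exchanging the blocks through the given maps. -/
theorem exists_swap_elt (U V : Cfsg.GU 2 F q) :
    ∃ g ∈ S ⊓ Cfsg.GU n F q, ∀ a c, (g : Matrix (Fin n) (Fin n) F) *ᵥ pv a c =
      pv (((V : Matrix.GeneralLinearGroup (Fin 2) F) : Matrix (Fin 2) (Fin 2) F) *ᵥ c)
        (((U : Matrix.GeneralLinearGroup (Fin 2) F) : Matrix (Fin 2) (Fin 2) F) *ᵥ a) := by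
  have _ := hSM
  obtain ⟨g, hg, hgc⟩ := hb.exists_block_perm hF (Equiv.swap 0 1)
    ![((U : Matrix.GeneralLinearGroup (Fin 2) F) : Matrix (Fin 2) (Fin 2) F),
      ((V : Matrix.GeneralLinearGroup (Fin 2) F) : Matrix (Fin 2) (Fin 2) F)]
    (fun i => by fin_cases i <;> [exact U.2; exact V.2])
  have key : ∀ a c, (g : Matrix (Fin n) (Fin n) F) *ᵥ pv a c =
      pv (((V : Matrix.GeneralLinearGroup (Fin 2) F) : Matrix (Fin 2) (Fin 2) F) *ᵥ c)
        (((U : Matrix.GeneralLinearGroup (Fin 2) F) : Matrix (Fin 2) (Fin 2) F) *ᵥ a) := fun a c => by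
    unfold blockPair; rw [hgc]; congr 1; funext j; fin_cases j <;> simp [Equiv.Perm.inv_def, Equiv.Perm.one_def] <;> rfl
  refine ⟨g, ⟨(hS g).2 ⟨Equiv.swap 0 1, fun i y => ?_⟩, hg⟩, key⟩
  fin_cases i
  · exact ⟨_, by simp [pair_single_zero, pair_single_one, key]; rfl⟩
  · exact ⟨_, by simp [pair_single_zero, pair_single_one, key]; rfl⟩

omit hS hSM in
theorem inner_two (x y : Fin 2 → F) (l : F) : 𝔥 (l • x) (l • y) = l ^ (q + 1) * 𝔥 x y := by
  have H := hermForm_isHerm hF 2
  rw [H.smul_left, H.smul_right, pow_succ]; ring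

omit hb hS hSM in
theorem exists_map_two {a a' : Fin 2 → F} (ha : a ≠ 0) (ha' : a' ≠ 0) (h : 𝔥 a' a' = 𝔥 a a) :
    ∃ G : Cfsg.GU 2 F q, ((G : Matrix.GeneralLinearGroup (Fin 2) F) : Matrix (Fin 2) (Fin 2) F) *ᵥ a = a' := by
  obtain ⟨G, hG⟩ := exists_gu_witt hF (u := fun _ : Fin 1 => a) (w := fun _ => a')
    (linearIndependent_unique_iff.2 ha) (linearIndependent_unique_iff.2 ha') (fun _ _ => h)
  exact ⟨G, hG 0⟩

omit hF hb hS hSM in
theorem inv_mulVec_eq {g : Matrix.GeneralLinearGroup (Fin n) F} {v w : Fin n → F}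
    (h : (g : Matrix (Fin n) (Fin n) F) *ᵥ v = w) : ((g⁻¹ : Matrix.GeneralLinearGroup (Fin n) F) :
      Matrix (Fin n) (Fin n) F) *ᵥ w = v := by
  rw [← h, Matrix.mulVec_mulVec, ← Units.val_mul, inv_mul_cancel, Units.val_one, Matrix.one_mulVec]

/-- Multiplying isotropic components by inverse scalars. -/
theorem diag_move {a c : Fin 2 → F} (ha : a ≠ 0) (hc : c ≠ 0) (ha0 : 𝔥 a a = 0) (hc0 : 𝔥 c c = 0)
    {l : F} (hl : l ≠ 0) (hC : pv a c ∈ centres q M) : pv (l • a) (l⁻¹ • c) ∈ centres q M := by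
  obtain ⟨U, hU⟩ := exists_map_two hF ha (smul_ne_zero hl ha) (by rw [inner_two hF hb, ha0, mul_zero])
  obtain ⟨W, hW⟩ := exists_map_two hF ha hc (by rw [ha0, hc0])
  obtain ⟨W', hW'⟩ := exists_map_two hF hc ha (by rw [ha0, hc0])
  obtain ⟨x, hx, hxc⟩ := exists_block_elt hF hb hS hSM U 1
  obtain ⟨s, hs, hsc⟩ := exists_swap_elt hF hb hS hSM W W'
  obtain ⟨g, hg⟩ : ∃ g, g = x * s * x⁻¹ * s⁻¹ := ⟨_, rfl⟩
  have hgG : g ∈ S ⊓ Cfsg.GU n F q :=
    hg ▸ mul_mem (mul_mem (mul_mem hx hs) (inv_mem hx)) (inv_mem hs)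
  have hgs : g ∈ suGL n F q := by
    refine ⟨hgG.2, MonoidHom.mem_ker.2 ?_⟩
    rw [hg, map_mul, map_mul, map_mul, map_inv, map_inv]
    exact mul_inv_eq_one.2 (by rw [mul_comm, inv_mul_cancel_left])
  have e1 : (g : Matrix (Fin n) (Fin n) F) *ᵥ pv a c = pv (l • a) (l⁻¹ • c) := by
    have i1 := inv_mulVec_eq (hsc a c)
    rw [hW, hW'] at i1
    have i2 := inv_mulVec_eq (hxc (l⁻¹ • a) c)
    rw [Matrix.mulVec_smul, hU, smul_smul, inv_mul_cancel₀ hl, one_smul] at i2
    simp only [OneMemClass.coe_one, Units.val_one, Matrix.one_mulVec] at i2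
    rw [hg, Units.val_mul, Units.val_mul, Units.val_mul, ← Matrix.mulVec_mulVec,
      ← Matrix.mulVec_mulVec, ← Matrix.mulVec_mulVec, i1, i2, hsc, hxc, Matrix.mulVec_smul,
      hW, hW', hU]
    simp
  rw [← e1]
  exact centres_conj (hSM ⟨hgG.1, hgs⟩) hgs hC

/-- Transitivity on anisotropic pairs. -/
theorem aniso_move {a c a' c' : Fin 2 → F} (ha : 𝔥 a a ≠ 0) (ha' : 𝔥 a' a' ≠ 0)
    (hC : pv a c ∈ centres q M) (h0 : 𝔥 a' a' + 𝔥 c' c' = 0) :
    pv a' c' ∈ centres q M := by
  have H := hermForm_isHerm hF 2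
  obtain ⟨l, hl⟩ := exists_norm_eq hF (c := 𝔥 a' a' / 𝔥 a a) (by rw [div_pow, H.self_fixed, H.self_fixed])
  have hl0 : l ≠ 0 := fun h => ha' (by
    rw [h, zero_pow (Nat.succ_ne_zero q), eq_comm, div_eq_zero_iff] at hl
    exact hl.resolve_right ha)
  have hC' := centres_smul hF hC l
  rw [pair_smul] at hC'
  have h0' := hC'.1
  rw [pair_inner hF hb, inner_two hF hb, hl, div_mul_cancel₀ _ ha] at h0'
  have nz : ∀ {x : Fin 2 → F}, 𝔥 x x ≠ 0 → x ≠ 0 := fun {x} hx h => hx (by rw [h, H.zero_left])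
  have hna : 𝔥 (l • a) (l • a) = 𝔥 a' a' := by rw [inner_two hF hb, hl, div_mul_cancel₀ _ ha]
  have hnc : 𝔥 (l • c) (l • c) = 𝔥 c' c' := by linear_combination h0' - h0
  have hc' : 𝔥 c' c' ≠ 0 := fun h => ha' (by rw [h, add_zero] at h0; exact h0)
  obtain ⟨U, hU⟩ := exists_map_two hF (nz (by rwa [hna])) (nz ha') hna.symm
  obtain ⟨V, hV⟩ := exists_map_two hF (nz (by rwa [hnc])) (nz hc') hnc.symm
  obtain ⟨g, hg, hgc⟩ := exists_block_elt hF hb hS hSM U V
  have hd : (g : Matrix (Fin n) (Fin n) F).det ^ (q + 1) = 1 :=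
    IsUnitary.det_norm hF (hg.2 : IsUnitary q _)
  have hd0 : (g : Matrix (Fin n) (Fin n) F).det ≠ 0 := fun h => by simp [h] at hd
  obtain ⟨e, hae, -, hee⟩ := exists_perp_norm hF le_rfl ha' (κ := (1 : F)) (one_pow q)
  obtain ⟨r, hr, hrd, hrx⟩ := exists_refl hF (e := pv e 0)
    (by rw [pair_inner hF hb, hee, H.zero_left, add_zero]) (inv_pow_succ _ hd)
  have hrS : r ∈ S := (hS r).2 ⟨1, fun i y => by
    fin_cases i
    · refine ⟨y + (((g : Matrix (Fin n) (Fin n) F).det⁻¹ - 1) * ℍ (pv y 0) (pv e 0)) • e, ?_⟩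
      simp [pair_single_zero, hrx, pair_smul, pair_add]
    · refine ⟨y, ?_⟩
      simp [pair_single_one, hrx, pair_inner hF hb, H.zero_left, H.zero_right hF]⟩
  have hsu : r * g ∈ suGL n F q := by
    refine ⟨mul_mem hr hg.2, MonoidHom.mem_ker.2 (Units.ext ?_)⟩
    show ((r : Matrix (Fin n) (Fin n) F) * _).det = 1
    rw [Matrix.det_mul, hrd, inv_mul_cancel₀ hd0]
  have hfix : ((r * g : Matrix.GeneralLinearGroup (Fin n) F) : Matrix (Fin n) (Fin n) F) *ᵥ
      pv (l • a) (l • c) = pv a' c' := by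
    rw [Units.val_mul, ← Matrix.mulVec_mulVec, hgc, hU, hV, hrx, pair_inner hF hb, hae,
      H.zero_right hF, add_zero, mul_zero, zero_smul, add_zero]
  rw [← hfix]
  exact centres_conj (hSM ⟨mul_mem hrS hg.1, hsu⟩) hsu hC'

/-- Isotropic vectors inside a block. -/
theorem block_centre {x : Fin 2 → F} (hx : 𝔥 x x = 0) :
    pv x 0 ∈ centres q M ∧ pv 0 x ∈ centres q M := by
  have H := hermForm_isHerm hF 2
  have mk : ∀ v, ℍ v v = 0 → (∀ (i : Fin 2) (y : Fin 2 → F), ∃ y' : F → (Fin 2 → F), ∀ c : F,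
      frameVec b (Pi.single i y) + (c * ℍ (frameVec b (Pi.single i y)) v) • v =
        frameVec b (Pi.single i (y' c))) → v ∈ centres q M := by
    intro v h0 hv
    refine ⟨h0, fun g c hc hg => hSM ⟨(hS g).2 ⟨1, fun i y => ?_⟩, ?_, ?_⟩⟩
    · obtain ⟨y', hy'⟩ := hv i y
      exact ⟨y' c, by rw [hg, transvection_mulVec, Equiv.Perm.one_apply]; exact hy' c⟩
    · show g ∈ Cfsg.GU n F q
      rw [mem_GU_iff, hg]; exact transvection_isUnitary hF _ h0 hc
    · refine MonoidHom.mem_ker.2 (Units.ext ?_)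
      simpa [hg] using transvection_det (q := q) _ h0 c
  constructor
  · refine mk _ (by rw [pair_inner hF hb, hx, H.zero_left, add_zero]) fun i y => ?_
    fin_cases i
    · exact ⟨fun c => y + (c * ℍ (pv y 0) (pv x 0)) • x, fun c => by
        simp [pair_single_zero, pair_smul, pair_add]⟩
    · exact ⟨fun _ => y, fun c => by
        simp [pair_single_one, pair_inner hF hb, H.zero_left, H.zero_right hF]⟩
  · refine mk _ (by rw [pair_inner hF hb, hx, H.zero_left, zero_add]) fun i y => ?_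
    fin_cases i
    · exact ⟨fun _ => y, fun c => by
        simp [pair_single_zero, pair_inner hF hb, H.zero_left, H.zero_right hF]⟩
    · exact ⟨fun c => y + (c * ℍ (pv 0 y) (pv 0 x)) • x, fun c => by
        simp [pair_single_one, pair_smul, pair_add]⟩

/-- An isotropic mixed centre gives an anisotropic one. -/
theorem aniso_of_iso {a c : Fin 2 → F} (ha : a ≠ 0) (hc : c ≠ 0) (ha0 : 𝔥 a a = 0) (hc0 : 𝔥 c c = 0)
    (hC : pv a c ∈ centres q M) : ∃ a' c', pv a' c' ∈ centres q M ∧ 𝔥 a' a' ≠ 0 := by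
  have H := hermForm_isHerm hF 2
  obtain ⟨δ, hδ0, hδ⟩ := exists_skew hF
  obtain ⟨f, hf, haf, hfa⟩ := exists_block_partner hF ha ha0
  obtain ⟨f', hf', hcf, hfc⟩ := exists_block_partner hF hc hc0
  obtain ⟨l, hl0, hl⟩ : ∃ l : F, l ≠ 0 ∧ l ^ q * l ^ q ≠ l * l := by
    by_contra hall
    simp only [not_exists, not_and, not_not] at hall
    obtain ⟨u, hu⟩ := IsCyclic.exists_generator (α := Fˣ)
    have hq := two_le_q hF
    have h2 : (u : F) ^ (2 * (q - 1)) = 1 := by
      have h3 := hall u u.ne_zero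
      apply mul_right_cancel₀ (mul_ne_zero u.ne_zero u.ne_zero)
      rw [one_mul]
      conv_rhs => rw [← h3]
      rw [← pow_two, ← pow_add, ← pow_add]
      congr 1
      omega
    have h4 : u ^ (2 * (q - 1)) = 1 := Units.ext (by simpa using h2)
    have h5 := Nat.le_of_dvd (by omega) (orderOf_dvd_of_pow_eq_one h4)
    rw [orderOf_eq_card_of_forall_mem_zpowers hu, Nat.card_units, Nat.card_eq_fintype_card, hF] at h5
    have : 2 * q ≤ q ^ 2 := by nlinarith
    omega
  have hδs : δ + δ ^ q = 0 := by rw [hδ, add_neg_cancel]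
  have h1 := diag_move hF hb hS hSM ha hc ha0 hc0 hl0 hC
  have h2 := centres_step hF (block_centre hF hb hS hSM hf).1 h1 hδs
  rw [pair_inner hF hb, H.smul_left, haf, H.zero_right hF, add_zero, mul_one, pair_smul, smul_zero,
    pair_add, add_zero] at h2
  have h3 := centres_step hF (block_centre hF hb hS hSM hf').2 h2 hδs
  rw [pair_inner hF hb, H.smul_left, hcf, H.zero_right hF, zero_add, mul_one, pair_smul, smul_zero,
    pair_add, add_zero] at h3
  have h4 := centres_step hF hC h3 hδs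
  rw [pair_inner hF hb] at h4
  obtain ⟨W, hW⟩ : ∃ W, W = δ * l + δ * l⁻¹ := ⟨_, rfl⟩
  have hWv : 𝔥 (l • a + (δ * l) • f) a + 𝔥 (l⁻¹ • c + (δ * l⁻¹) • f') c = W := by
    simp only [H.add_left, H.smul_left, ha0, hc0, hfa, hfc, hW]; ring
  rw [hWv, pair_smul, pair_add] at h4
  refine ⟨_, _, h4, fun h0 => ?_⟩
  simp only [H.add_left, H.add_right hF, H.smul_left, H.smul_right, ha0, hf, haf, hfa, hW,
    add_pow_q hF, mul_pow, inv_pow, hδ] at h0
  apply hl
  have hlq : l ^ q ≠ 0 := pow_ne_zero _ hl0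
  field_simp at h0
  have h9 : δ ^ 3 * (l ^ q * l ^ q - l * l) = 0 := by linear_combination -h0
  exact sub_eq_zero.1 ((mul_eq_zero.1 h9).resolve_left (pow_ne_zero _ hδ0))

/-- Anisotropic mixed centres give all mixed centres. -/
theorem iso_of_aniso (hq : 3 ≤ q) {a c : Fin 2 → F} (ha : 𝔥 a a ≠ 0) (hC : pv a c ∈ centres q M)
    {a' c' : Fin 2 → F} (ha' : a' ≠ 0) (hc' : c' ≠ 0) (h0 : 𝔥 a' a' + 𝔥 c' c' = 0) :
    pv a' c' ∈ centres q M := by
  have H := hermForm_isHerm hF 2
  by_cases ha0 : 𝔥 a' a' = 0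
  swap
  · exact aniso_move hF hb hS hSM ha ha0 hC h0
  have hc0 : 𝔥 c' c' = 0 := by rwa [ha0, zero_add] at h0
  obtain ⟨δ, hδ0, hδ⟩ := exists_skew hF
  have hδs : δ + δ ^ q = 0 := by rw [hδ, add_neg_cancel]
  obtain ⟨w, hw, hw0, hw1⟩ : ∃ w : F, w ^ q = w ∧ w ≠ 0 ∧ w ≠ 1 := by
    classical
    by_contra hall
    simp only [not_exists, not_and, not_not] at hall
    have hs : (Finset.univ.filter fun x : F => x ^ q = x) ⊆ {0, 1} := by
      intro x hx
      by_cases h : x = 0
      · simp [h]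
      · simp [hall x (Finset.mem_filter.1 hx).2 h]
    have h1 := (Finset.card_le_card hs).trans Finset.card_le_two
    have h2 := card_fixed hF
    rw [Nat.card_eq_fintype_card, Fintype.card_subtype] at h2
    omega
  have mk : ∀ {u : Fin 2 → F}, u ≠ 0 → 𝔥 u u = 0 → ∀ {r κ : F}, r ≠ 0 → r ^ q = r → κ ^ q = κ →
      ∃ y, 𝔥 y y = κ ∧ 𝔥 u y = r ∧ 𝔥 y u = r := by
    intro u hu hu0 r κ hr hrq hκ
    obtain ⟨f, hf, huf, hfu⟩ := exists_block_partner hF hu hu0
    obtain ⟨s, hs⟩ := exists_trace_eq hF (c := κ / r) (by rw [div_pow, hκ, hrq])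
    refine ⟨r • f + s • u, ?_, ?_, ?_⟩
    · simp only [H.add_left, H.add_right hF, H.smul_left, H.smul_right, hf, huf, hfu, hu0, hrq]
      rw [eq_div_iff hr] at hs
      linear_combination hs
    · simp only [H.add_right hF, H.smul_right, huf, hu0, hrq]; ring
    · simp only [H.add_left, H.smul_left, hfu, hu0]; ring
  have hw' : (1 - w) ^ q = 1 - w := by rw [sub_pow_q hF, one_pow, hw]
  obtain ⟨y, hy, hay, hya⟩ := mk ha' ha0 hw0 hw (κ := 1) (one_pow q)
  obtain ⟨z, hz, hcz, hzc⟩ := mk hc' hc0 (sub_ne_zero.2 (Ne.symm hw1)) hw' (κ := -1)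
    (by rw [neg_pow_q hF, one_pow])
  have hY : pv y z ∈ centres q M :=
    aniso_move hF hb hS hSM ha (by rw [hy]; exact one_ne_zero) hC (by rw [hy, hz, add_neg_cancel])
  have hn : ∀ u v r, 𝔥 u u = 0 → 𝔥 u v = r → 𝔥 v u = r → r ^ q = r →
      𝔥 (u + δ • v) (u + δ • v) = δ ^ (q + 1) * 𝔥 v v := by
    intro u v r hu huv hvu hr
    simp only [H.add_left, H.add_right hF, H.smul_left, H.smul_right, hu, huv, hvu, pow_succ]
    linear_combination r * hδs
  have hV : pv (a' + δ • y) (c' + δ • z) ∈ centres q M := by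
    refine aniso_move hF hb hS hSM ha ?_ hC ?_
    · rw [hn _ _ w ha0 hay hya hw, hy, mul_one]; exact pow_ne_zero _ hδ0
    · rw [hn _ _ w ha0 hay hya hw, hn _ _ _ hc0 hcz hzc hw', hy, hz]; ring
  have h5 := centres_step hF hY hV (c := -δ) (by rw [neg_pow_q hF]; linear_combination -hδs)
  have e : 𝔥 (a' + δ • y) y + 𝔥 (c' + δ • z) z = 1 := by
    simp only [H.add_left, H.smul_left, hay, hcz, hy, hz]; ring
  rw [pair_inner hF hb, e, mul_one, pair_smul, pair_add] at h5
  simpa using h5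

/-- An overgroup with an element outside contains SU. -/
theorem plane_pair_overgroup (hq : 3 ≤ q) {g : Matrix.GeneralLinearGroup (Fin n) F} (hgM : g ∈ M)
    (hg : g ∈ suGL n F q) (hgS : g ∉ S) : suGL n F q ≤ M := by
  classical
  have H := hermForm_isHerm hF 2
  have hn : n = 4 := by have := hb.card; omega
  set G := (g : Matrix (Fin n) (Fin n) F)
  suffices ∃ a c, a ≠ 0 ∧ c ≠ 0 ∧ pv a c ∈ centres q M by
    obtain ⟨a, c, ha, hc, hC⟩ := this
    obtain ⟨a, c, hC, ha⟩ : ∃ a c, pv a c ∈ centres q M ∧ 𝔥 a a ≠ 0 := by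
      by_cases h : 𝔥 a a = 0
      · refine aniso_of_iso hF hb hS hSM ha hc h ?_ hC
        have := hC.1
        rwa [pair_inner hF hb, h, zero_add] at this
      · exact ⟨a, c, hC, h⟩
    refine le_of_centres hF (Or.inl hn.ge) fun v hv => ?_
    obtain ⟨a', c', rfl⟩ := pair_exists hF hb v
    rw [pair_inner hF hb] at hv
    by_cases ha' : a' = 0
    · subst ha'
      rw [H.zero_left, zero_add] at hv
      exact (block_centre hF hb hS hSM hv).2
    by_cases hc' : c' = 0
    · subst hc'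
      rw [H.zero_left, add_zero] at hv
      exact (block_centre hF hb hS hSM hv).1
    exact iso_of_aniso hF hb hS hSM hq ha hC ha' hc' hv
  by_contra hno
  simp only [not_exists, not_and] at hno
  apply hgS
  have block : ∀ i, ∃ j, ∀ x, ∃ y, G *ᵥ frameVec b (Pi.single i x) = frameVec b (Pi.single j y) := by
    intro i
    let P : Fin 2 → Submodule F (Fin 2 → F) := fun j =>
      { carrier := {x | ∃ y, G *ᵥ frameVec b (Pi.single i x) = frameVec b (Pi.single j y)}
        zero_mem' := ⟨0, by simp⟩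
        add_mem' := by
          rintro x x' ⟨y, hy⟩ ⟨y', hy'⟩
          exact ⟨y + y', by rw [Pi.single_add, map_add, Matrix.mulVec_add, hy, hy', ← map_add, ← Pi.single_add]⟩
        smul_mem' := by
          rintro a x ⟨y, hy⟩
          exact ⟨a • y, by rw [Pi.single_smul, map_smul, Matrix.mulVec_smul, hy, ← map_smul, ← Pi.single_smul]⟩ }
    have one : ∀ x, 𝔥 x x = 0 → x ∈ P 0 ∨ x ∈ P 1 := by
      intro x hx
      have hc : G *ᵥ frameVec b (Pi.single i x) ∈ centres q M := by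
        refine centres_conj hgM hg ?_
        fin_cases i
        · simpa [pair_single_zero] using (block_centre hF hb hS hSM hx).1
        · simpa [pair_single_one] using (block_centre hF hb hS hSM hx).2
      obtain ⟨a, c, hac⟩ := pair_exists hF hb (G *ᵥ frameVec b (Pi.single i x))
      rw [hac] at hc
      by_cases ha : a = 0
      · exact Or.inr ⟨c, by rw [hac, ha, pair_single_one]⟩
      by_cases hc0 : c = 0
      · exact Or.inl ⟨a, by rw [hac, hc0, pair_single_zero]⟩
      exact absurd hc (hno a c ha hc0)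
    suffices ∃ j, ∀ x, 𝔥 x x = 0 → x ∈ P j by
      obtain ⟨j, hj⟩ := this
      exact ⟨j, fun x => span_isotropic_block hF le_rfl (P j) hj x⟩
    by_contra hc
    simp only [not_exists, not_forall] at hc
    obtain ⟨x, hx, hx0⟩ := hc 0
    obtain ⟨z, hz, hz1⟩ := hc 1
    obtain ⟨y, hy⟩ := (one x hx).resolve_left hx0
    obtain ⟨y', hy'⟩ := (one z hz).resolve_right hz1
    have hxz : 𝔥 x z = 0 := by
      have e := mem_suGL_herm hg (frameVec b (Pi.single i x)) (frameVec b (Pi.single i z))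
      rw [show (g : Matrix (Fin n) (Fin n) F) = G from rfl, hy, hy', hb.inner_single hF,
        hb.inner_single hF, Pi.single_eq_of_ne (by decide), Pi.single_eq_same, H.zero_left] at e
      exact e.symm
    have hx' : x ≠ 0 := fun h => hx0 (h ▸ (P 0).zero_mem)
    obtain ⟨f, hf, hxf, hfx⟩ := exists_block_partner hF hx' hx
    have hli : LinearIndependent F ![x, f] := by
      refine LinearIndependent.pair_iff.2 fun s t hst => ?_
      have e1 := congrArg (fun v => 𝔥 v f) hst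
      have e2 := congrArg (fun v => 𝔥 v x) hst
      simp only [H.add_left, H.smul_left, hxf, hf, hfx, hx, H.zero_left] at e1 e2
      constructor
      · linear_combination e1
      · linear_combination e2
    have hz' : z ∈ Submodule.span F (Set.range ![x, f]) := by
      rw [hli.span_eq_top_of_card_eq_finrank' (by simp)]; trivial
    obtain ⟨α, hα⟩ := (Submodule.mem_span_range_iff_exists_fun F).1 hz'
    simp only [Fin.sum_univ_two, Matrix.cons_val_zero, Matrix.cons_val_one] at hα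
    have h1 : α 1 = 0 := by
      have e := congrArg (fun v => 𝔥 v x) hα
      simp only [H.add_left, H.smul_left, hx, hfx, mul_zero, mul_one, zero_add] at e
      rw [e, (H.eq_zero_symm hF).1 hxz]
    rw [h1, zero_smul, add_zero] at hα
    refine hz1 ?_
    rw [← hα]
    exact (P 1).smul_mem _ ⟨y, hy⟩
  choose π hπ using block
  have hπi : Function.Injective π := by
    intro i i' he
    by_contra hne
    have hj : ∃ j, j ≠ π i := ⟨1 - π i, by fin_cases i <;> omega⟩
    obtain ⟨j, hj⟩ := hj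
    obtain ⟨x, hx⟩ := Matrix.mulVec_surjective_iff_isUnit.2 (Units.isUnit g)
      (frameVec b (Pi.single j (Pi.single 0 1)))
    obtain ⟨v, rfl⟩ := hb.exists_coord hF x
    have hv : v = Pi.single i (v i) + Pi.single i' (v i') := by
      funext l; fin_cases l <;> fin_cases i <;> fin_cases i' <;> simp_all
    obtain ⟨y, hy⟩ := hπ i (v i)
    obtain ⟨y', hy'⟩ := hπ i' (v i')
    rw [hv, map_add, Matrix.mulVec_add, hy, hy', ← he, ← map_add, ← Pi.single_add] at hx
    have e := congrFun (congrFun (hb.inj hF hx) j) 0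
    simp [Pi.single_eq_of_ne hj] at e
  exact (hS g).2 ⟨Equiv.ofBijective π (Finite.injective_iff_bijective.1 hπi), hπ⟩

end Pair

theorem isMaximalIn_plane_pair_stabilizer (hF : Fintype.card F = q ^ 2) (hq : 3 ≤ q)
    (D : Fin 2 → Submodule F (Fin n → F))
    (hD : Cfsg.Geo.IsNondegenerateMDecomposition (Cfsg.hermForm n F q) 2 D) :
    Cfsg.Geo.IsMaximalIn (suGL n F q) (Cfsg.Geo.decompositionStabilizer D ⊓ suGL n F q) := by
  classical
  obtain ⟨b, hb, hmem⟩ := exists_frame_of_decomposition hF hD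
  have iff : ∀ g : Matrix.GeneralLinearGroup (Fin n) F,
      g ∈ Cfsg.Geo.decompositionStabilizer D ↔ InStab b g := fun g =>
    mem_decompositionStabilizer_iff hF hmem hD.1.finrank_eq
  refine isMaximalIn_of_forall inf_le_right ?_ fun M hHM hMK g hgM hgH => ?_
  · obtain ⟨g, hg, hgH⟩ := exists_outside_decomp hF hb le_rfl le_rfl
    exact ⟨g, hg, fun h => hgH ((iff g).1 h.1)⟩
  · exact plane_pair_overgroup hF hb iff hHM hq hgM (hMK hgM) fun h => hgH ⟨h, hMK hgM⟩

end Cfsg.Agent.Unitary
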