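import Cfsg.Agent.Lib.Unitary.MaximalNondeg
/-
Maximality of the stabiliser of a nondegenerate point in SU, for n ≥ 4.
* exists_point_map, isMaximalIn_point_stabilizer
-/
set_option autoImplicit false

namespace Cfsg.Agent.Unitary

open scoped Matrix

variable {F : Type*} [Field F] [Fintype F] {q n : ℕ}

/-- Stabiliser elements are transitive on vectors with given anisotropic components. -/
theorem exists_point_map (hF : Fintype.card F = q ^ 2) (hn : 3 ≤ n) {e₀ : Fin n → F}
    (he₀ : Cfsg.hermForm n F q e₀ e₀ = 1) {a a' : F} {c c' : Fin n → F} (ha : a ≠ 0)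
    (hna : a' ^ (q + 1) = a ^ (q + 1)) (hc : Cfsg.hermForm n F q c e₀ = 0)
    (hc' : Cfsg.hermForm n F q c' e₀ = 0) (hcc : Cfsg.hermForm n F q c c ≠ 0)
    (hnc : Cfsg.hermForm n F q c' c' = Cfsg.hermForm n F q c c) :
    ∃ g ∈ Cfsg.Geo.subspaceStabilizer (Submodule.span F {e₀}) ⊓ suGL n F q,
      (g : Matrix (Fin n) (Fin n) F) *ᵥ (a • e₀ + c) = a' • e₀ + c' := by
  have H := hermForm_isHerm hF n
  have hω : (a' / a) ^ (q + 1) = 1 := by rw [div_pow, hna, div_self (pow_ne_zero _ ha)]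
  obtain ⟨γ, hγ⟩ := exists_norm_eq hF (H.self_fixed c)
  have hγ0 : γ ≠ 0 := fun h => hcc (by rw [← hγ, h, zero_pow (Nat.succ_ne_zero q)])
  have h1 : ∀ d, Cfsg.hermForm n F q d d = Cfsg.hermForm n F q c c →
      Cfsg.hermForm n F q (γ⁻¹ • d) (γ⁻¹ • d) = 1 := fun d hd => by
    rw [H.smul_left, H.smul_right, ← mul_assoc, ← pow_succ', inv_pow, hγ, hd, inv_mul_cancel₀ hcc]
  have hon : ∀ (l : F) (d : Fin n → F), l ^ (q + 1) = 1 →
      Cfsg.hermForm n F q d d = Cfsg.hermForm n F q c c → Cfsg.hermForm n F q d e₀ = 0 →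
      Orthonormal (Cfsg.hermForm n F q) ![l • e₀, γ⁻¹ • d] := by
    intro l d hl hd hde
    refine ⟨fun i => ?_, fun i j hij => ?_⟩
    · fin_cases i
      · simp [H.smul_left, H.smul_right, he₀, ← pow_succ', hl]
      · simpa using h1 d hd
    · fin_cases i <;> fin_cases j <;>
        simp_all [H.smul_left, H.smul_right, (H.eq_zero_symm hF).1 hde]
  have hu := hon 1 c (one_pow _) rfl hc
  have hw := hon (a' / a) c' hω hnc hc'
  obtain ⟨g, hg⟩ := exists_gu_witt hF (hu.linearIndependent H) (hw.linearIndependent H)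
    (fun i j => by rw [hu.apply, hw.apply])
  obtain ⟨e, hee, he⟩ := exists_orthonormal_step hF H (hermForm_nondeg hF n) hw
    (by rw [Module.finrank_fin_fun]; omega)
  have hd : ((g : Matrix.GeneralLinearGroup (Fin n) F) : Matrix (Fin n) (Fin n) F).det ^ (q + 1) = 1 :=
    IsUnitary.det_norm hF (g.2 : IsUnitary q _)
  have hd0 : ((g : Matrix.GeneralLinearGroup (Fin n) F) : Matrix (Fin n) (Fin n) F).det ≠ 0 :=
    fun h => by simp [h] at hd
  obtain ⟨D, hD, hDd, hDf⟩ := exists_gu_det hF hee (inv_pow_succ _ hd)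
  let A : Cfsg.GU n F q := guOfUnitary hF D hD * g
  have hg0 : ((g : Matrix.GeneralLinearGroup (Fin n) F) : Matrix (Fin n) (Fin n) F) *ᵥ e₀ =
      (a' / a) • e₀ := by simpa using hg 0
  have hgc : ((g : Matrix.GeneralLinearGroup (Fin n) F) : Matrix (Fin n) (Fin n) F) *ᵥ c = c' := by
    have := hg 1
    simp only [Matrix.cons_val_one, Matrix.cons_val_zero, Matrix.mulVec_smul] at this
    exact smul_right_injective _ (inv_ne_zero hγ0) this
  have hA0 : D *ᵥ ((a' / a) • e₀) = (a' / a) • e₀ := hDf _ (by simpa using he 0)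
  have hAc : D *ᵥ c' = c' := by
    have h2 := hDf (γ⁻¹ • c') (by simpa using he 1)
    rw [Matrix.mulVec_smul] at h2
    exact smul_right_injective _ (inv_ne_zero hγ0) h2
  refine ⟨A, ⟨mem_subspaceStabilizer_of_le fun y hy => ?_, A.2, MonoidHom.mem_ker.2 (Units.ext ?_)⟩, ?_⟩
  · obtain ⟨β, rfl⟩ := Submodule.mem_span_singleton.1 hy
    show (D * _) *ᵥ (β • e₀) ∈ _
    rw [← Matrix.mulVec_mulVec, Matrix.mulVec_smul, hg0, Matrix.mulVec_smul, hA0, smul_smul]
    exact Submodule.smul_mem _ _ (Submodule.mem_span_singleton_self _)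
  · show (D * _).det = 1
    rw [Matrix.det_mul, hDd, inv_mul_cancel₀ hd0]
  · show (D * _) *ᵥ _ = _
    rw [← Matrix.mulVec_mulVec, Matrix.mulVec_add, hgc, Matrix.mulVec_smul, hg0, Matrix.mulVec_add,
      hAc, Matrix.mulVec_smul, hA0, smul_smul, mul_div_cancel₀ _ ha]

theorem isMaximalIn_point_stabilizer (hF : Fintype.card F = q ^ 2) (hn : 4 ≤ n)
    (W : Submodule F (Fin n → F)) (hW1 : Module.finrank F W = 1)
    (hW : ∀ u ∈ W, (∀ v ∈ W, Cfsg.hermForm n F q u v = 0) → u = 0) :
    Cfsg.Geo.IsMaximalIn (suGL n F q) (Cfsg.Geo.subspaceStabilizer W ⊓ suGL n F q) := by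
  have H := hermForm_isHerm hF n
  obtain ⟨b, hb, hbW⟩ := subspace_orthonormalBasis hF W hW
  have hk : 0 < Module.finrank F W := by omega
  have hsp : W = Submodule.span F {b ⟨0, hk⟩} := by
    conv_lhs => rw [← hbW]
    congr 1
    ext x
    refine ⟨?_, fun hx => ⟨_, hx.symm⟩⟩
    rintro ⟨i, rfl⟩
    rw [show i = ⟨0, hk⟩ from Fin.ext (by omega)]
    rfl
  generalize hb0 : b ⟨0, hk⟩ = e₀ at hsp
  have he₀ : Cfsg.hermForm n F q e₀ e₀ = 1 := hb0 ▸ hb.1 _
  clear hb hbW b hb0 hW
  subst hsp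
  have hb1 : Orthonormal (Cfsg.hermForm n F q) ![e₀] :=
    ⟨fun i => by fin_cases i; simpa using he₀, fun i j h => absurd (Subsingleton.elim i j) h⟩
  obtain ⟨δ, hδ0, hδ⟩ := exists_skew hF
  obtain ⟨ε, hε⟩ := exists_eps hF
  refine isMaximalIn_of_forall inf_le_right ?_ ?_
  · obtain ⟨e, hee, he⟩ := exists_orthonormal_step hF H (hermForm_nondeg hF n) hb1
      (by rw [Module.finrank_fin_fun]; omega)
    have h0e : Cfsg.hermForm n F q e₀ e = 0 := by simpa using he 0
    have hv0 : Cfsg.hermForm n F q (e₀ + ε • e) (e₀ + ε • e) = 0 := by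
      simp only [H.add_left, H.add_right hF, H.smul_left, H.smul_right, he₀, hee, h0e,
        (H.eq_zero_symm hF).1 h0e]
      linear_combination hε
    refine ⟨glTransvection hF (e₀ + ε • e) hv0 δ (by rw [hδ, add_neg_cancel]), suToGU_mem_suGL _,
      fun h => ?_⟩
    have h2 := (h.1 e₀).1 (Submodule.mem_span_singleton_self _)
    change Cfsg.unitaryTransvection n q (e₀ + ε • e) δ *ᵥ e₀ ∈ Submodule.span F {e₀} at h2
    rw [transvection_mulVec, show Cfsg.hermForm n F q e₀ (e₀ + ε • e) = 1 by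
      rw [H.add_right hF, H.smul_right, h0e, he₀, mul_zero, add_zero], mul_one,
      Submodule.add_mem_iff_right _ (Submodule.mem_span_singleton_self _),
      Submodule.smul_mem_iff _ hδ0, Submodule.add_mem_iff_right _ (Submodule.mem_span_singleton_self _)]
      at h2
    obtain ⟨β, hβ⟩ := Submodule.mem_span_singleton.1 h2
    have := congrArg (fun v => Cfsg.hermForm n F q v e) hβ
    simp only [H.smul_left, h0e, hee, mul_one, mul_zero] at this
    rw [← this, zero_pow (Nat.succ_ne_zero q)] at hε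
    simp at hε
  · intro M hHM hMK g hgM hgH
    have hcen : ∀ z, Cfsg.hermForm n F q z z = 0 → Cfsg.hermForm n F q z e₀ = 0 → z ∈ centres q M :=
      fun z hz hze => centres_of_stabilizer hF hHM hz (Or.inr fun x hx => by
        obtain ⟨β, rfl⟩ := Submodule.mem_span_singleton.1 hx
        rw [H.smul_left, (H.eq_zero_symm hF).1 hze, mul_zero])
    obtain ⟨z, hz0, hze, hgz⟩ : ∃ z, Cfsg.hermForm n F q z z = 0 ∧ Cfsg.hermForm n F q z e₀ = 0 ∧
        Cfsg.hermForm n F q ((g : Matrix (Fin n) (Fin n) F) *ᵥ z) e₀ ≠ 0 := by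
      by_contra hc
      simp only [not_exists, not_and, not_not] at hc
      apply hgH
      refine ⟨mem_subspaceStabilizer_of_le fun y hy => ?_, hMK hgM⟩
      obtain ⟨β, rfl⟩ := Submodule.mem_span_singleton.1 hy
      rw [Matrix.mulVec_smul]
      refine Submodule.smul_mem _ _ ?_
      let S : Submodule F (Fin n → F) :=
        { carrier := {x | Cfsg.hermForm n F q ((g : Matrix (Fin n) (Fin n) F) *ᵥ x) e₀ = 0}
          add_mem' := fun {x y} hx hy => by
            simp only [Set.mem_setOf_eq, Matrix.mulVec_add, H.add_left] at hx hy ⊢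
            rw [hx, hy, add_zero]
          zero_mem' := by simp [H.zero_left]
          smul_mem' := fun c x hx => by
            simp only [Set.mem_setOf_eq, Matrix.mulVec_smul, H.smul_left] at hx ⊢
            rw [hx, mul_zero] }
      set G := (g : Matrix (Fin n) (Fin n) F)
      have hperp : ∀ x, Cfsg.hermForm n F q x e₀ = 0 → x ∈ S := fun x hx =>
        span_isotropic_perp hF hb1 (by omega) S
          (fun z hz hzb => hc z hz (by simpa using hzb 0))
          (fun i => by fin_cases i; simpa using hx)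
      obtain ⟨u, hu⟩ : ∃ u, G *ᵥ u = e₀ := Matrix.mulVec_surjective_iff_isUnit.2 (Units.isUnit g) e₀
      have hne : Cfsg.hermForm n F q u e₀ ≠ 0 := fun h => by
        have h3 : Cfsg.hermForm n F q (G *ᵥ u) e₀ = 0 := hperp u h
        rw [hu, he₀] at h3
        exact one_ne_zero h3
      set d := u - Cfsg.hermForm n F q u e₀ • e₀ with hd
      have hde : Cfsg.hermForm n F q d e₀ = 0 := by rw [hd, H.sub_left, H.smul_left, he₀]; ring
      have hud : Cfsg.hermForm n F q u d = 0 := by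
        rw [← mem_suGL_herm (hMK hgM) u d, hu]
        exact (H.eq_zero_symm hF).1 (hperp d hde)
      have hd' : d = 0 := by
        by_contra hd0
        obtain ⟨w, hw⟩ : ∃ w, Cfsg.hermForm n F q d w ≠ 0 := by
          by_contra hw; push Not at hw; exact hd0 (hermForm_nondeg hF n d hw)
        set w' := w - Cfsg.hermForm n F q w e₀ • e₀ with hw'
        have hw'e : Cfsg.hermForm n F q w' e₀ = 0 := by rw [hw', H.sub_left, H.smul_left, he₀]; ring
        have huw : Cfsg.hermForm n F q u w' = 0 := by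
          rw [← mem_suGL_herm (hMK hgM) u w', hu]
          exact (H.eq_zero_symm hF).1 (hperp w' hw'e)
        apply hw
        have e2 : Cfsg.hermForm n F q d w' = 0 := by
          rw [hd, H.sub_left, H.smul_left, huw, (H.eq_zero_symm hF).1 hw'e]; ring
        rwa [hw', H.sub_right hF, H.smul_right, hde, mul_zero, sub_zero] at e2
      rw [sub_eq_zero] at hd'
      have e3 : e₀ = Cfsg.hermForm n F q u e₀ • (G *ᵥ e₀) := by
        rw [← Matrix.mulVec_smul, ← hd']; exact hu.symm
      rw [show G *ᵥ e₀ = (Cfsg.hermForm n F q u e₀)⁻¹ • e₀ from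
        (inv_smul_eq_iff₀ hne).2 e3 |>.symm]
      exact Submodule.smul_mem _ _ (Submodule.mem_span_singleton_self _)
    obtain ⟨v, hv⟩ : ∃ v, v = (g : Matrix (Fin n) (Fin n) F) *ᵥ z := ⟨_, rfl⟩
    have hvC : v ∈ centres q M := hv ▸ centres_conj hgM (hMK hgM) (hcen z hz0 hze)
    obtain ⟨a, ha⟩ : ∃ a, a = Cfsg.hermForm n F q v e₀ := ⟨_, rfl⟩
    have ha0 : a ≠ 0 := by rw [ha, hv]; exact hgz
    have part : ∀ x, Cfsg.hermForm n F q (x - Cfsg.hermForm n F q x e₀ • e₀) e₀ = 0 := fun x => by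
      rw [H.sub_left, H.smul_left, he₀]; ring
    have norm : ∀ (l : F) (d : Fin n → F), Cfsg.hermForm n F q d e₀ = 0 →
        Cfsg.hermForm n F q (l • e₀ + d) (l • e₀ + d) = l ^ (q + 1) + Cfsg.hermForm n F q d d :=
      fun l d hd => by
        simp only [H.add_left, H.add_right hF, H.smul_left, H.smul_right, he₀, hd,
          (H.eq_zero_symm hF).1 hd]
        ring
    refine le_of_centres hF (Or.inl hn) fun u hu0 => ?_
    obtain ⟨a', ha'⟩ : ∃ a', a' = Cfsg.hermForm n F q u e₀ := ⟨_, rfl⟩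
    by_cases h0 : a' = 0
    · exact hcen u hu0 (ha' ▸ h0)
    have hu' : u = a' • e₀ + (u - a' • e₀) := by abel
    have hv' : v = a • e₀ + (v - a • e₀) := by abel
    have hd₁ : Cfsg.hermForm n F q (u - a' • e₀) e₀ = 0 := by rw [ha']; exact part u
    have hd₂ : Cfsg.hermForm n F q (v - a • e₀) e₀ = 0 := by rw [ha]; exact part v
    have n₁ := norm a' _ hd₁
    have n₂ := norm a _ hd₂
    rw [← hu', hu0] at n₁
    rw [← hv', hvC.1] at n₂
    have e₂ : ((a' / a) • v) = a' • e₀ + (a' / a) • (v - a • e₀) := by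
      rw [smul_sub, smul_smul, div_mul_cancel₀ _ ha0]; abel
    have hd₃ : Cfsg.hermForm n F q ((a' / a) • (v - a • e₀)) e₀ = 0 := by
      rw [H.smul_left, hd₂, mul_zero]
    have hC := centres_smul hF hvC (a' / a)
    rw [e₂] at hC
    have n₃ := norm a' _ hd₃
    rw [hC.1] at n₃
    obtain ⟨k, hk, hkv⟩ := exists_point_map hF (by omega) he₀ h0 rfl hd₃ hd₁
      (fun h => h0 (pow_eq_zero_iff (Nat.succ_ne_zero q) |>.1 (by rw [h, add_zero] at n₃; exact n₃.symm)))
      (by linear_combination n₃ - n₁)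
    have := centres_conj (hHM hk) hk.2 hC
    rwa [hkv, ← hu'] at this

end Cfsg.Agent.Unitary
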