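import Cfsg.Agent.Lib.Unitary.MonoBase
import Cfsg.Agent.Lib.PrimeClassPGL.Count
import Cfsg.Agent.S2587
/-
Classes of prime order r ∣ q + 1 in PGU_n(q) match those of PGL_n(q^2).
* center_gu, toPG, card_pgu_classes
-/
set_option autoImplicit false

namespace Cfsg.Agent.Unitary

open scoped Matrix
open Cfsg.Agent.PrimeClassPGL

variable {K : Type*} [Field K] [Fintype K] {q n r : ℕ}

/-- The projective unitary group. -/
abbrev PGUG (n : ℕ) (K : Type*) [Field K] (q : ℕ) : Type _ :=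
  ↥(Cfsg.GU n K q) ⧸ Subgroup.center ↥(Cfsg.GU n K q)

theorem center_gu (hK : Fintype.card K = q ^ 2) (hn : 2 ≤ n) (g : ↥(Cfsg.GU n K q)) :
    g ∈ Subgroup.center ↥(Cfsg.GU n K q) ↔ ∃ u, sc n K u = (g : GL (Fin n) K) := by
  constructor
  · intro hg
    obtain ⟨z, hz⟩ := scalar_of_commutes hK hn ((g : GL (Fin n) K) : Matrix (Fin n) (Fin n) K) fun B =>
      (congrArg (fun x : ↥(Cfsg.GU n K q) => ((x : GL (Fin n) K) : Matrix (Fin n) (Fin n) K))
        (Subgroup.mem_center_iff.1 hg (suToGU n K q B))).symm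
    have hz0 : z ≠ 0 := by
      intro h
      have h1 := (g : GL (Fin n) K).isUnit
      rw [hz, h] at h1
      haveI : Nonempty (Fin n) := ⟨⟨0, by omega⟩⟩
      rw [map_zero] at h1
      exact not_isUnit_zero h1
    exact ⟨Units.mk0 z hz0, Units.ext (by rw [sc_mat, hz]; rfl)⟩
  · rintro ⟨u, hu⟩
    refine Subgroup.mem_center_iff.2 fun h => Subtype.ext ?_
    show (h : GL (Fin n) K) * g = g * h
    rw [← hu]
    exact (sc_comm u _).eq.symm

theorem norm_of_sc_mem (hn : 0 < n) {u : Kˣ} (h : sc n K u ∈ Cfsg.GU n K q) :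
    (u : K) ^ (q + 1) = 1 := by
  classical
  have h1 := (mem_GU_iff _).1 h (Pi.single ⟨0, hn⟩ 1) (Pi.single ⟨0, hn⟩ 1)
  have hsc : ((sc n K u : GL (Fin n) K) : Matrix (Fin n) (Fin n) K) *ᵥ Pi.single ⟨0, hn⟩ 1 =
      Pi.single ⟨0, hn⟩ (u : K) := by
    rw [sc_mat, Matrix.scalar_apply]
    funext j
    rw [Matrix.mulVec_diagonal]
    by_cases hj : j = (⟨0, hn⟩ : Fin n)
    · subst hj; simp
    · simp [hj]
  rw [hsc] at h1
  simp only [Cfsg.hermForm] at h1
  rw [Finset.sum_eq_single (⟨0, hn⟩ : Fin n) (fun b _ hb => by simp [hb])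
    (fun h => absurd (Finset.mem_univ _) h), Finset.sum_eq_single (⟨0, hn⟩ : Fin n)
    (fun b _ hb => by simp [hb]) (fun h => absurd (Finset.mem_univ _) h)] at h1
  rw [pow_succ']
  simpa using h1

theorem sc_mem_gu (hK : Fintype.card K = q ^ 2) {u : Kˣ} (h : (u : K) ^ (q + 1) = 1) :
    sc n K u ∈ Cfsg.GU n K q := by
  refine (mem_GU_iff _).2 fun v w => ?_
  rw [sc_mat, Matrix.scalar_apply]
  exact isUnitary_diagonal hK (fun _ => h) v w

theorem sc_center {u : Kˣ} (hK : Fintype.card K = q ^ 2) (hn : 2 ≤ n) (h : (u : K) ^ (q + 1) = 1) :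
    (⟨sc n K u, sc_mem_gu hK h⟩ : ↥(Cfsg.GU n K q)) ∈ Subgroup.center ↥(Cfsg.GU n K q) :=
  (center_gu hK hn _).2 ⟨u, rfl⟩

theorem norm_eq_one_of_pow (hK : Fintype.card K = q ^ 2) (hr : r.Prime) (hr2 : r ≠ 2) (hrq : r ∣ q + 1)
    {u : K} (h : (u ^ r) ^ (q + 1) = 1) : u ^ (q + 1) = 1 := by
  set w := u ^ (q + 1) with hw
  have h1 : w ^ r = 1 := by rw [hw, ← pow_mul, mul_comm, pow_mul, h]
  have h2 : w ^ q = w := by
    rw [hw, ← pow_mul, show (q + 1) * q = q * q + q by ring, pow_add,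
      show q * q = Fintype.card K by rw [hK, sq], FiniteField.pow_card, ← pow_succ']
  have h3 : w ^ (q + 1) = 1 := by
    obtain ⟨t, ht⟩ := hrq
    rw [ht, pow_mul, h1, one_pow]
  rw [pow_succ, h2, ← sq] at h3
  obtain ⟨k, hk⟩ := hr.odd_of_ne_two hr2
  rw [hk, pow_succ, pow_mul, h3, one_pow, one_mul] at h1
  exact h1

/-- A monomial unitary element whose r-th power is a given scalar. -/
theorem exists_mono_pow (hK : Fintype.card K = q ^ 2) [Fact r.Prime] (hdvd : r ∣ n) (c : Kˣ)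
    (hc : (c : K) ^ (q + 1) = 1) : ∃ g ∈ Cfsg.GU n K q, g ^ r = sc n K c := by
  classical
  obtain ⟨k, rfl⟩ := hdvd
  haveI : NeZero r := ⟨(Fact.out : r.Prime).ne_zero⟩
  let e : Fin (r * k) ≃ ZMod r × Fin k :=
    (Fintype.equivOfCardEq (by rw [Fintype.card_prod, ZMod.card, Fintype.card_fin, Fintype.card_fin]))
  let π : Equiv.Perm (Fin (r * k)) :=
    (e.trans ((Equiv.addRight (1 : ZMod r)).prodCongr (Equiv.refl _))).trans e.symm
  let L : ZMod r → K := fun a => if a = 0 then (c : K) else 1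
  obtain ⟨g, hg, -, hgx⟩ := exists_mono hK π (fun j => L (e j).1) (fun j => by
    simp only [L]; split_ifs
    · exact hc
    · exact one_pow _)
  have hπ : ∀ j, e (π.symm j) = ((e j).1 - 1, (e j).2) := fun j => by
    simp [π, sub_eq_add_neg, Prod.map]
  have hiter : ∀ (s : ℕ) x j, ((g ^ s : GL (Fin (r * k)) K) : Matrix (Fin (r * k)) (Fin (r * k)) K) *ᵥ x |>
      fun v => v j = (∏ i ∈ Finset.range s, L ((e j).1 - i)) * x (e.symm ((e j).1 - s, (e j).2)) := by
    intro s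
    induction s with
    | zero => intro x j; simp
    | succ s ih =>
      intro x j
      show (((g ^ (s + 1) : GL (Fin (r * k)) K) : Matrix (Fin (r * k)) (Fin (r * k)) K) *ᵥ x) j = _
      rw [pow_succ', Units.val_mul, ← Matrix.mulVec_mulVec, hgx]
      rw [show (((g ^ s : GL (Fin (r * k)) K) : Matrix (Fin (r * k)) (Fin (r * k)) K) *ᵥ x) (π.symm j) = _
        from ih x (π.symm j), hπ, Finset.prod_range_succ']
      have e1 : ∀ i : ℕ, (e j).1 - 1 - (i : ZMod r) = (e j).1 - ((i + 1 : ℕ) : ZMod r) := fun i => by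
        push_cast; ring
      simp only [e1, Nat.cast_zero, sub_zero]
      ring
  refine ⟨g, hg, Units.ext (Matrix.ext_iff_mulVec.2 fun x => funext fun j => ?_)⟩
  rw [show (((g ^ r : GL (Fin (r * k)) K) : Matrix (Fin (r * k)) (Fin (r * k)) K) *ᵥ x) j = _ from
    hiter r x j, sc_mat, Matrix.scalar_apply, Matrix.mulVec_diagonal]
  rw [show ((r : ℕ) : ZMod r) = 0 from ZMod.natCast_self r, sub_zero,
    show ((e j).1, (e j).2) = e j from rfl, e.symm_apply_apply,
    Finset.prod_eq_single (e j).1.val]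
  · simp [L]
  · intro i hi hne
    simp only [L]
    rw [if_neg]
    intro h0
    rw [sub_eq_zero] at h0
    exact hne (by rw [h0, ZMod.val_natCast, Nat.mod_eq_of_lt (Finset.mem_range.1 hi)])
  · intro h
    exact absurd (Finset.mem_range.2 (ZMod.val_lt _)) h

/-- The classes of prime order r ∣ q + 1 are those of PGL over the larger field. -/
theorem card_pgu_classes (hK : Fintype.card K = q ^ 2) (hn : 2 ≤ n) (hr : r.Prime) (hr2 : r ≠ 2)
    (hrq : r ∣ q + 1) {ζ : K} (hζ : IsPrimitiveRoot ζ r) (hr0 : (r : K) ≠ 0) :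
    Nat.card {C : ConjClasses (PGUG n K q) // ∃ g, ConjClasses.mk g = C ∧ orderOf g = r} =
      Nat.card {C : ConjClasses (PG n K) // ∃ g, ConjClasses.mk g = C ∧ orderOf g = r} := by
  classical
  have hq := two_le_q hK
  haveI := Fact.mk hr
  have hn0 : 0 < n := by omega
  have hle : Subgroup.center ↥(Cfsg.GU n K q) ≤
      (Subgroup.center (GL (Fin n) K)).comap (Cfsg.GU n K q).subtype := fun g hg => by
    obtain ⟨u, hu⟩ := (center_gu hK hn g).1 hg
    exact (mem_center_iff hn0).2 ⟨u, hu⟩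
  let f : PGUG n K q →* PG n K := QuotientGroup.map _ _ (Cfsg.GU n K q).subtype hle
  have hinj : Function.Injective f := by
    rw [injective_iff_map_eq_one]
    intro x hx
    obtain ⟨g, rfl⟩ := QuotientGroup.mk_surjective x
    obtain ⟨u, hu⟩ := (mem_center_iff hn0).1 ((QuotientGroup.eq_one_iff _).1 hx)
    exact (QuotientGroup.eq_one_iff _).2 ((center_gu hK hn g).2 ⟨u, hu⟩)
  have hord : ∀ x, orderOf (f x) = orderOf x := fun x => orderOf_injective f hinj x
  let Φ : {C : ConjClasses (PGUG n K q) // ∃ g, ConjClasses.mk g = C ∧ orderOf g = r} →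
      {C : ConjClasses (PG n K) // ∃ g, ConjClasses.mk g = C ∧ orderOf g = r} := fun C =>
    ⟨C.1.map f, by obtain ⟨g, hg, hgo⟩ := C.2; exact ⟨f g, by rw [← hg]; rfl, by rw [hord, hgo]⟩⟩
  refine Nat.card_eq_of_bijective Φ ⟨?_, ?_⟩
  · rintro ⟨_, x, rfl, hx⟩ ⟨_, y, rfl, hy⟩ hxy
    obtain ⟨g, rfl⟩ := QuotientGroup.mk_surjective x
    obtain ⟨h, rfl⟩ := QuotientGroup.mk_surjective y
    have hxy' : cls (g : GL (Fin n) K) = cls (h : GL (Fin n) K) := congrArg Subtype.val hxy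
    obtain ⟨u, hu⟩ := (cls_eq_iff hn0).1 hxy'
    obtain ⟨⟨a, ha⟩, -⟩ := (orderOf_mk_eq_iff hn0 hr (g : GL (Fin n) K)).1 ((hord _).trans hx)
    obtain ⟨⟨b, hb⟩, -⟩ := (orderOf_mk_eq_iff hn0 hr (h : GL (Fin n) K)).1 ((hord _).trans hy)
    have ha1 : (a : K) ^ (q + 1) = 1 := norm_of_sc_mem hn0 (ha ▸ pow_mem g.2 r)
    have hb1 : (b : K) ^ (q + 1) = 1 := norm_of_sc_mem hn0 (hb ▸ pow_mem h.2 r)
    have hab : b = a * u ^ r := by
      obtain ⟨w, hw⟩ := isConj_iff.1 hu
      have h1 : ((g : GL (Fin n) K) * sc n K u) ^ r = sc n K (a * u ^ r) := by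
        rw [((sc_comm u _).symm).mul_pow, ha, map_mul, map_pow]
      rw [← hw, conj_pow, h1, ← (sc_comm _ w).eq, mul_inv_cancel_right] at hb
      exact (sc_injective hn0 hb).symm
    have hu1 : (u : K) ^ (q + 1) = 1 := by
      refine norm_eq_one_of_pow hK hr hr2 hrq ?_
      have := congrArg (fun z : Kˣ => (z : K) ^ (q + 1)) hab
      simp only [Units.val_mul, Units.val_pow_eq_pow_val, mul_pow, ha1, hb1, one_mul] at this
      exact this.symm
    let z : ↥(Cfsg.GU n K q) := ⟨sc n K u, sc_mem_gu hK hu1⟩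
    obtain ⟨w, hw⟩ := isConj_iff.1 ((Cfsg.Agent.S2587.result hK (g * z) h).2 hu)
    apply Subtype.ext
    show ConjClasses.mk _ = ConjClasses.mk _
    rw [ConjClasses.mk_eq_mk_iff_isConj, isConj_iff]
    refine ⟨QuotientGroup.mk w, ?_⟩
    rw [← hw]
    have hz : (QuotientGroup.mk z : PGUG n K q) = 1 :=
      (QuotientGroup.eq_one_iff _).2 (sc_center hK hn hu1)
    simp only [QuotientGroup.mk_mul, QuotientGroup.mk_inv, hz, mul_one]
  · rintro ⟨_, x, rfl, hx⟩
    obtain ⟨g, rfl⟩ := QuotientGroup.mk_surjective x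
    obtain ⟨⟨c, hc⟩, -⟩ := (orderOf_mk_eq_iff hn0 hr g).1 hx
    suffices ∃ h : ↥(Cfsg.GU n K q), ∃ u, IsConj (g * sc n K u) (h : GL (Fin n) K) by
      obtain ⟨h, u, hu⟩ := this
      have he : cls g = cls (h : GL (Fin n) K) := (cls_eq_iff hn0).2 ⟨u, hu⟩
      refine ⟨⟨ConjClasses.mk (QuotientGroup.mk h), QuotientGroup.mk h, rfl, ?_⟩, Subtype.ext he.symm⟩
      rw [← hord, ← hx]
      obtain ⟨w, hw⟩ := isConj_iff.1 (ConjClasses.mk_eq_mk_iff_isConj.1 he)
      show orderOf (QuotientGroup.mk (h : GL (Fin n) K) : PG n K) = _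
      rw [← hw]
      exact (SemiconjBy.orderOf_eq w (by
        show w * _ = _ * w
        rw [inv_mul_cancel_right])).symm
    -- make the scalar of norm one
    have hcop : r.Coprime (q - 1) := by
      rw [hr.coprime_iff_not_dvd]
      intro h
      have h2 : r ∣ 2 := by
        have := Nat.dvd_sub hrq h
        rwa [show q + 1 - (q - 1) = 2 by omega] at this
      exact hr2 ((Nat.prime_dvd_prime_iff_eq hr Nat.prime_two).1 h2)
    obtain ⟨y, hy⟩ : ∃ y : Kˣ, ((c * (y ^ r)⁻¹ : Kˣ) : K) ^ (q + 1) = 1 := by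
      obtain ⟨j, hj⟩ := exists_pow_eq_self_of_coprime (x := c ^ (q + 1))
        (n := r) (hcop.coprime_dvd_right (orderOf_dvd_of_pow_eq_one (Units.ext (by
          rw [Units.val_pow_eq_pow_val, Units.val_pow_eq_pow_val, Units.val_one, ← pow_mul,
            show (q + 1) * (q - 1) = Fintype.card K - 1 by
              rw [hK, ← Nat.sq_sub_sq q 1, one_pow],
            FiniteField.pow_card_sub_one_eq_one _ c.ne_zero]))))
      refine ⟨c ^ j, ?_⟩
      rw [← Units.val_pow_eq_pow_val, mul_pow, inv_pow,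
        show ((c ^ j) ^ r) ^ (q + 1) = ((c ^ (q + 1)) ^ r) ^ j by
          simp only [← pow_mul]; ring_nf, hj, mul_inv_cancel, Units.val_one]
    obtain ⟨c₁, hc₁⟩ : ∃ c₁, c₁ = c * (y ^ r)⁻¹ := ⟨_, rfl⟩
    rw [← hc₁] at hy
    obtain ⟨g₁, hg₁def⟩ : ∃ g₁, g₁ = g * sc n K y⁻¹ := ⟨_, rfl⟩
    have hg₁ : g₁ ^ r = sc n K c₁ := by
      rw [hg₁def, ((sc_comm _ g).symm).mul_pow, hc, ← map_pow, ← map_mul, inv_pow, hc₁]
    by_cases hpw : c₁ ∈ pows r K
    · obtain ⟨b, hb⟩ := (mem_pows_iff c₁).1 hpw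
      obtain ⟨g₂, hg₂def⟩ : ∃ g₂, g₂ = g₁ * sc n K b⁻¹ := ⟨_, rfl⟩
      have hg₂ : g₂ ^ r = 1 := by
        rw [hg₂def, ((sc_comm _ g₁).symm).mul_pow, hg₁, ← hb, ← map_pow, ← map_mul, inv_pow,
          mul_inv_cancel, map_one]
      obtain ⟨hP, hcard, hroots⟩ := exists_roots hr.pos hζ hg₂
      set R := (g₂ : Matrix (Fin n) (Fin n) K).charpoly.roots
      obtain ⟨d, hd⟩ : ∃ d : Fin n → K, Finset.univ.val.map d = R := by
        refine ⟨fun i => R.toList.get (i.cast (by rw [Multiset.length_toList, hcard])), ?_⟩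
        rw [Fin.univ_val_map]
        conv_rhs => rw [← Multiset.coe_toList R]
        congr 1
        apply List.ext_getElem
        · simp [hcard]
        · intro i h1 h2
          simp
      have hdn : ∀ i, d i ^ (q + 1) = 1 := fun i => by
        obtain ⟨a, -, ha⟩ := hroots (d i) (hd ▸ Multiset.mem_map_of_mem d (Finset.mem_univ i))
        obtain ⟨t, ht⟩ := hrq
        rw [← ha, ← pow_mul, ht, mul_comm a, pow_mul, pow_mul, hζ.pow_eq_one, one_pow, one_pow]
      let h : ↥(Cfsg.GU n K q) := guOfUnitary hK (Matrix.diagonal d) (isUnitary_diagonal hK hdn)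
      refine ⟨h, y⁻¹ * b⁻¹, ?_⟩
      rw [map_mul, ← mul_assoc, ← hg₁def, ← hg₂def]
      have hh : ((h : GL (Fin n) K)) ^ r = 1 := by
        refine Units.ext ?_
        rw [Units.val_pow_eq_pow_val, guOfUnitary_val, Matrix.diagonal_pow, Units.val_one,
          ← Matrix.diagonal_one]
        congr 1
        funext i
        obtain ⟨a, -, ha⟩ := hroots (d i) (hd ▸ Multiset.mem_map_of_mem d (Finset.mem_univ i))
        show d i ^ r = 1
        rw [← ha, ← pow_mul, mul_comm, pow_mul, hζ.pow_eq_one, one_pow]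
      refine isConj_of_pow (c := 1) (d := 1) hr0 (by rw [map_one, hg₂]) (by rw [map_one, hh]) ?_
      rw [guOfUnitary_val, Matrix.charpoly_diagonal, Finset.prod_eq_multiset_prod, hP, ← hd,
        Multiset.map_map]
      rfl
    · have hc' := (notMem_pows_iff hr.pos c₁).1 hpw
      obtain ⟨k, hk, hP⟩ := charpoly_nonpower hr hg₁ hc'
      obtain ⟨h, hh, hhr⟩ := exists_mono_pow hK (n := n) ⟨k, hk⟩ c₁ hy
      refine ⟨⟨h, hh⟩, y⁻¹, ?_⟩
      rw [← hg₁def]
      refine isConj_of_pow hr0 hg₁ hhr ?_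
      obtain ⟨k', hk', hP'⟩ := charpoly_nonpower hr hhr hc'
      rw [hP, hP', Nat.eq_of_mul_eq_mul_left hr.pos (hk.symm.trans hk')]

end Cfsg.Agent.Unitary
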