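import Cfsg.Agent.Lib.PrimeClassPGL.Count
import Cfsg.Agent.Lib.FormClasses.Count
import Cfsg.Agent.S2587
import Cfsg.Agent.S2588
import Mathlib.RingTheory.RootsOfUnity.PrimitiveRoots
import Mathlib.FieldTheory.IsAlgClosed.AlgebraicClosure
/-
Classes of r-torsion elements of GU_n(q), r prime to q: exponent multisets fixed by -q.
* card_invExps, roots_inv, card_torsion_GU
-/
set_option autoImplicit false

namespace Cfsg.Agent.Unitary

open Polynomial
open Cfsg.Agent.PrimeClassPGL

/-- Exponent multisets fixed by multiplication by c. -/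
abbrev InvExps (r n : ℕ) (c : ZMod r) : Type := {s : Sym (ZMod r) n // s.1.map (c * ·) = s.1}

theorem card_invExps {r : ℕ} [Fact r.Prime] (c : (ZMod r)ˣ) {N : ℕ} (hN : N * orderOf c = r - 1)
    (n : ℕ) : Nat.card (InvExps r n (c : ZMod r)) = (n / orderOf c + N).choose N := by
  classical
  haveI : NeZero r := ⟨(Fact.out : r.Prime).ne_zero⟩
  let H := Subgroup.zpowers c
  set e := orderOf c with he
  have he0 : 0 < e := orderOf_pos c
  haveI : Fintype ((ZMod r)ˣ ⧸ H) := Fintype.ofFinite _
  have hQ : Fintype.card ((ZMod r)ˣ ⧸ H) = N := by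
    have h1 := Subgroup.card_eq_card_quotient_mul_card_subgroup H
    rw [Nat.card_eq_fintype_card, ZMod.card_units, Nat.card_zpowers, ← he, ← hN,
      Nat.card_eq_fintype_card] at h1
    exact (Nat.eq_of_mul_eq_mul_right he0 h1).symm
  have hfib : ∀ b : (ZMod r)ˣ ⧸ H → ℕ, ∑ u : (ZMod r)ˣ, b (QuotientGroup.mk u) = e * ∑ x, b x := by
    intro b
    rw [Finset.mul_sum, ← Finset.sum_fiberwise Finset.univ (QuotientGroup.mk : (ZMod r)ˣ → (ZMod r)ˣ ⧸ H)]
    refine Finset.sum_congr rfl fun x _ => ?_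
    rw [Finset.sum_congr rfl (g := fun _ => b x) (fun u hu => by rw [(Finset.mem_filter.1 hu).2]),
      Finset.sum_const, smul_eq_mul]
    congr 1
    obtain ⟨a, rfl⟩ := QuotientGroup.mk_surjective x
    rw [← Fintype.card_subtype, ← Nat.card_eq_fintype_card, he, ← Nat.card_zpowers c]
    exact Nat.card_congr
      { toFun := fun u => ⟨a⁻¹ * u.1, QuotientGroup.eq.1 u.2.symm⟩
        invFun := fun h => ⟨a * h.1, (QuotientGroup.eq.2 (by rw [inv_mul_cancel_left]; exact h.2)).symm⟩
        left_inv := fun u => Subtype.ext (mul_inv_cancel_left a u.1)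
        right_inv := fun h => Subtype.ext (inv_mul_cancel_left a h.1) }
  let M : ((ZMod r)ˣ ⧸ H → ℕ) → Multiset (ZMod r) := fun b =>
    Multiset.replicate (n - e * ∑ x, b x) 0 +
      ∑ u : (ZMod r)ˣ, Multiset.replicate (b (QuotientGroup.mk u)) (u : ZMod r)
  have hM0 : ∀ b, (M b).count 0 = n - e * ∑ x, b x := fun b => by
    simp [M, Multiset.count_sum', Multiset.count_replicate]
  have hMu : ∀ b (u : (ZMod r)ˣ), (M b).count (u : ZMod r) = b (QuotientGroup.mk u) := fun b u => by
    simp only [M, Multiset.count_add, Multiset.count_sum', Multiset.count_replicate,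
      if_neg (Ne.symm u.ne_zero), zero_add]
    rw [Finset.sum_eq_single u (fun v _ hv => if_neg fun h => hv (Units.ext h))
      (fun h => absurd (Finset.mem_univ u) h), if_pos rfl]
  have hcases : ∀ x : ZMod r, x = 0 ∨ ∃ u : (ZMod r)ˣ, (u : ZMod r) = x := fun x => by
    by_cases h : x = 0
    · exact Or.inl h
    · exact Or.inr ⟨Units.mk0 x h, rfl⟩
  have hcount : ∀ (s : Multiset (ZMod r)) (x : ZMod r),
      (s.map ((c : ZMod r) * ·)).count ((c : ZMod r) * x) = s.count x := fun s x =>
    Multiset.count_map_eq_count' _ _ (mul_right_injective₀ c.ne_zero) x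
  have hMinv : ∀ b, (M b).map ((c : ZMod r) * ·) = M b := by
    intro b
    ext x
    rcases hcases x with rfl | ⟨u, rfl⟩
    · conv_lhs => rw [← mul_zero (c : ZMod r), hcount]
    · rw [show (u : ZMod r) = (c : ZMod r) * ((c⁻¹ * u : (ZMod r)ˣ) : ZMod r) by
        rw [← Units.val_mul, mul_inv_cancel_left], hcount, hMu, ← Units.val_mul, mul_inv_cancel_left, hMu]
      congr 1
      refine QuotientGroup.eq.2 ?_
      rw [mul_inv_rev, inv_inv, mul_assoc, mul_comm u⁻¹, mul_assoc, mul_inv_cancel, mul_one]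
      exact Subgroup.mem_zpowers c
  let P := {f : Option ((ZMod r)ˣ ⧸ H) → ℕ // ∑ x, f x = n / e}
  have hle : ∀ f : P, e * ∑ x, f.1 (some x) ≤ n := fun f => by
    have := f.2
    rw [Fintype.sum_option] at this
    exact le_trans (Nat.mul_le_mul_left e (show ∑ x, f.1 (some x) ≤ n / e by omega)) (Nat.mul_div_le n e)
  let Ψ : P → InvExps r n (c : ZMod r) := fun f => ⟨⟨M (fun x => f.1 (some x)), by
    simp only [M, Multiset.card_add, Multiset.card_replicate, Multiset.card_sum]
    rw [hfib (fun x => f.1 (some x))]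
    have := hle f
    omega⟩, hMinv _⟩
  have hΨ : Function.Bijective Ψ := by
    constructor
    · intro f g h
      have h' : M (fun x => f.1 (some x)) = M (fun x => g.1 (some x)) :=
        congrArg (fun s : InvExps r n (c : ZMod r) => s.1.1) h
      have hs : ∀ x, f.1 (some x) = g.1 (some x) := fun x => by
        obtain ⟨u, rfl⟩ := QuotientGroup.mk_surjective x
        have := congrArg (Multiset.count (u : ZMod r)) h'
        rwa [hMu, hMu] at this
      apply Subtype.ext
      funext o
      cases o with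
      | some x => exact hs x
      | none =>
        have hf := f.2
        have hg := g.2
        rw [Fintype.sum_option, Finset.sum_congr rfl (fun x _ => hs x)] at hf
        rw [Fintype.sum_option] at hg
        omega
    · rintro ⟨⟨s, hs⟩, hinv⟩
      change s.map ((c : ZMod r) * ·) = s at hinv
      have hstep : ∀ x, s.count ((c : ZMod r) * x) = s.count x := fun x => by
        conv_lhs => rw [← hinv, hcount]
      have horbit : ∀ h ∈ H, ∀ u : (ZMod r)ˣ, s.count ((h * u : (ZMod r)ˣ) : ZMod r) = s.count (u : ZMod r) := by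
        let S : Subgroup (ZMod r)ˣ :=
          { carrier := {h | ∀ u : (ZMod r)ˣ, s.count ((h * u : (ZMod r)ˣ) : ZMod r) = s.count (u : ZMod r)}
            one_mem' := fun u => by rw [one_mul]
            mul_mem' := fun {a b} ha hb u => by rw [mul_assoc, ha, hb]
            inv_mem' := fun {a} ha u => by rw [← ha (a⁻¹ * u), mul_inv_cancel_left] }
        exact Subgroup.zpowers_le.2 (show c ∈ S from fun u => by rw [Units.val_mul]; exact hstep _)
      let b : (ZMod r)ˣ ⧸ H → ℕ := fun x => s.count ((x.out : (ZMod r)ˣ) : ZMod r)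
      have hb : ∀ u : (ZMod r)ˣ, b (QuotientGroup.mk u) = s.count (u : ZMod r) := fun u => by
        obtain ⟨h, hh⟩ := QuotientGroup.mk_out_eq_mul H u
        show s.count _ = _
        rw [hh, mul_comm u]
        exact horbit _ h.2 u
      have htot : s.count 0 + e * ∑ x, b x = n := by
        rw [← hfib, Finset.sum_congr rfl (fun u _ => hb u)]
        have h1 : ∑ x : ZMod r, s.count x = n :=
          (Multiset.sum_count_eq_card (fun a _ => Finset.mem_univ a)).trans hs
        rw [← Finset.add_sum_erase _ _ (Finset.mem_univ (0 : ZMod r))] at h1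
        rw [← h1]
        congr 1
        refine Finset.sum_nbij (fun u => (u : ZMod r)) (fun u _ => ?_) (fun u _ v _ h => Units.ext h)
          (fun x hx => ?_) (fun u _ => rfl)
        · exact Finset.mem_erase.2 ⟨u.ne_zero, Finset.mem_univ _⟩
        · exact ⟨Units.mk0 x (Finset.mem_erase.1 hx).1, Finset.mem_coe.2 (Finset.mem_univ _), rfl⟩
      have hb' : ∑ x, b x ≤ n / e := (Nat.le_div_iff_mul_le he0).2 (by rw [mul_comm]; omega)
      refine ⟨⟨fun o => o.elim (n / e - ∑ x, b x) b, ?_⟩, ?_⟩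
      · rw [Fintype.sum_option]
        simp only [Option.elim_none, Option.elim_some]
        omega
      apply Subtype.ext
      apply Subtype.ext
      show M b = s
      ext x
      rcases hcases x with rfl | ⟨u, rfl⟩
      · rw [hM0]; omega
      · rw [hMu, hb]
  rw [← Nat.card_eq_of_bijective Ψ hΨ, Nat.card_congr (Sym.equivNatSumOfFintype _ (n / e)).symm,
    Nat.card_eq_fintype_card, Sym.card_sym_eq_choose, Fintype.card_option, hQ,
    show N + 1 + n / e - 1 = n / e + N by rw [add_right_comm, Nat.add_sub_cancel, add_comm], Nat.choose_symm_add]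

theorem roots_inv {E : Type*} [Field E] [IsAlgClosed E] {n : ℕ} (A : GL (Fin n) E) :
    (((A⁻¹ : GL (Fin n) E)) : Matrix (Fin n) (Fin n) E).charpoly.roots =
      ((A : Matrix (Fin n) (Fin n) E)).charpoly.roots.map (·⁻¹) := by
  set M := (A : Matrix (Fin n) (Fin n) E) with hM
  have hdet : M.det ≠ 0 := ((Matrix.isUnit_iff_isUnit_det M).1 A.isUnit).ne_zero
  have hP := (IsAlgClosed.splits M.charpoly).eq_prod_roots_of_monic (Matrix.charpoly_monic M)
  have h0 : (0 : E) ∉ M.charpoly.roots := by
    intro h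
    rw [mem_roots (Matrix.charpoly_monic M).ne_zero, IsRoot, ← coeff_zero_eq_eval_zero] at h
    apply hdet
    rw [Matrix.det_eq_sign_charpoly_coeff, h, mul_zero]
  have key : ∀ R : Multiset E, (0 : E) ∉ R →
      ((R.map fun x => X - C x).prod).reverse = C ((R.map fun x => -x).prod) *
        ((R.map (·⁻¹)).map fun x => X - C x).prod := by
    intro R
    induction R using Multiset.induction with
    | empty => intro _; simp [reverse]
    | cons x R ih =>
      intro hx
      rw [Multiset.mem_cons, not_or] at hx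
      simp only [Multiset.map_cons, Multiset.prod_cons]
      rw [reverse_mul_of_domain, ih hx.2]
      have h1 : (X - C x).reverse = C (-x) * (X - C x⁻¹) := by
        have hX : reflect 1 (X : E[X]) = 1 := by simpa using reflect_C_mul_X_pow 1 1 (1 : E)
        rw [reverse, natDegree_X_sub_C, sub_eq_add_neg, ← map_neg, reflect_add, hX, reflect_C, pow_one,
          mul_sub, ← C_mul, neg_mul, mul_inv_cancel₀ (Ne.symm hx.1), map_neg (C : E →+* E[X]) 1, map_one]
        ring
      rw [h1, map_mul]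
      ring
  rw [Matrix.coe_units_inv, FormClasses.charpoly_inv' M hdet]
  conv_lhs => rw [hP, key _ h0, ← mul_assoc, ← map_mul]
  rw [roots_C_mul, roots_multiset_prod_X_sub_C]
  refine mul_ne_zero (mul_ne_zero (pow_ne_zero _ (neg_ne_zero.2 one_ne_zero)) (inv_ne_zero hdet)) ?_
  refine Multiset.prod_ne_zero ?_
  rw [Multiset.mem_map]
  rintro ⟨x, hx, hx0⟩
  exact h0 (neg_eq_zero.1 hx0 ▸ hx)

theorem mem_range_of_pow_card {K E : Type*} [Field K] [Fintype K] [Field E] (ι : K →+* E) {x : E}
    (hx : x ^ Fintype.card K = x) : x ∈ Set.range ι := by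
  classical
  have hq : 1 < Fintype.card K := Fintype.one_lt_card
  have hne : (X ^ Fintype.card K - X : E[X]) ≠ 0 := FiniteField.X_pow_card_sub_X_ne_zero E hq
  have hsub : Finset.univ.map ⟨ι, ι.injective⟩ ⊆ (X ^ Fintype.card K - X : E[X]).roots.toFinset := by
    intro y hy
    obtain ⟨a, -, rfl⟩ := Finset.mem_map.1 hy
    rw [Multiset.mem_toFinset, mem_roots hne]
    simp [IsRoot, ← map_pow, FiniteField.pow_card]
  have heq := Finset.eq_of_subset_of_card_le hsub (by
    rw [Finset.card_map, Finset.card_univ]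
    refine (Multiset.toFinset_card_le _).trans ((card_roots' _).trans ?_)
    rw [FiniteField.X_pow_card_sub_X_natDegree_eq E hq])
  have : x ∈ (X ^ Fintype.card K - X : E[X]).roots.toFinset := by
    rw [Multiset.mem_toFinset, mem_roots hne]
    simp [IsRoot, hx]
  rw [← heq, Finset.mem_map] at this
  obtain ⟨a, -, ha⟩ := this
  exact ⟨a, ha⟩

theorem ee_add' {E : Type*} [Field E] {r : ℕ} [NeZero r] {ζ : E} (hζ : IsPrimitiveRoot ζ r)
    (a b : ZMod r) : ee ζ (a + b) = ee ζ a * ee ζ b := by
  rw [ee, ee, ee, ← pow_add, ZMod.val_add]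
  exact (pow_eq_pow_mod _ hζ.pow_eq_one).symm

theorem ee_pow' {E : Type*} [Field E] {r : ℕ} [NeZero r] {ζ : E} (hζ : IsPrimitiveRoot ζ r)
    (a : ZMod r) : ee ζ a ^ r = 1 := by
  rw [ee, ← pow_mul, mul_comm, pow_mul, hζ.pow_eq_one, one_pow]

theorem ee_injective' {E : Type*} [Field E] {r : ℕ} [NeZero r] {ζ : E} (hζ : IsPrimitiveRoot ζ r) :
    Function.Injective (ee (r := r) ζ) := fun a b h =>
  ZMod.val_injective r (hζ.pow_inj a.val_lt b.val_lt h)

theorem ee_natMul {E : Type*} [Field E] {r : ℕ} [NeZero r] {ζ : E} (hζ : IsPrimitiveRoot ζ r)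
    (k : ℕ) (a : ZMod r) : ee ζ ((k : ZMod r) * a) = ee ζ a ^ k := by
  induction k with
  | zero => simp [ee]
  | succ k ih => rw [Nat.cast_succ, add_mul, one_mul, ee_add' hζ, ih, pow_succ]

theorem ee_neg {E : Type*} [Field E] {r : ℕ} [NeZero r] {ζ : E} (hζ : IsPrimitiveRoot ζ r)
    (a : ZMod r) : ee ζ (-a) = (ee ζ a)⁻¹ :=
  eq_inv_of_mul_eq_one_left (by rw [← ee_add' hζ, neg_add_cancel]; simp [ee])

/-- The classes of r-torsion elements. -/
theorem card_torsion_GU {K : Type*} [Field K] [Fintype K] {p q r : ℕ} [Fact p.Prime] [CharP K p]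
    [Fact r.Prime] (hK : Fintype.card K = q ^ 2) (hrp : r ≠ p) (n : ℕ) :
    Nat.card {C : ConjClasses ↥(Cfsg.GU n K q) // ∃ g : ↥(Cfsg.GU n K q), ConjClasses.mk g = C ∧ g ^ r = 1} =
      Nat.card (InvExps r n (-(q : ZMod r))) := by
  classical
  have hr : r.Prime := Fact.out
  haveI : NeZero r := ⟨hr.ne_zero⟩
  let E := AlgebraicClosure K
  let ι : K →+* E := algebraMap K E
  haveI : CharP E p := charP_of_injective_algebraMap (RingHom.injective (algebraMap K _)) p
  haveI : NeZero (r : E) := ⟨fun h => hrp ((Nat.prime_dvd_prime_iff_eq Fact.out hr).1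
    ((CharP.cast_eq_zero_iff E p r).1 h)).symm⟩
  have hrK : (r : K) ≠ 0 := fun h => NeZero.ne (r : E) (by rw [← map_natCast ι, h, map_zero])
  obtain ⟨ζ, hζ⟩ := HasEnoughRootsOfUnity.exists_primitiveRoot E r
  obtain ⟨f, hf⟩ : ∃ f, q = p ^ f := by
    obtain ⟨s, hp, hs⟩ := FiniteField.card K p
    obtain ⟨f, -, hf⟩ := (Nat.dvd_prime_pow hp).1 (show q ∣ p ^ (s : ℕ) by
      rw [← hs, hK]; exact dvd_pow_self q two_ne_zero)
    exact ⟨f, hf⟩
  let φ : E →+* E := iterateFrobenius E p f
  have hφ : ∀ x, φ x = x ^ q := fun x => by rw [hf]; exact iterateFrobenius_def p f x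
  have hφι : φ.comp ι = ι.comp (Unitary.conjHom hK) := by
    ext a
    simp [hφ, ι, map_pow]
  let c : ZMod r := -(q : ZMod r)
  have heec : ∀ a, ee ζ (c * a) = ((ee ζ a) ^ q)⁻¹ := fun a => by
    rw [show c * a = -((q : ZMod r) * a) from neg_mul _ _, ee_neg hζ, ee_natMul hζ]
  let R : GL (Fin n) K → Multiset E := fun g =>
    ((g : Matrix (Fin n) (Fin n) K).charpoly.map ι).roots
  have hRmap : ∀ g : GL (Fin n) K,
      ((Matrix.GeneralLinearGroup.map ι g : GL (Fin n) E) : Matrix (Fin n) (Fin n) E).charpoly =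
        (g : Matrix (Fin n) (Fin n) K).charpoly.map ι := fun g => Matrix.charpoly_map _ ι
  have hsplit : ∀ g : GL (Fin n) K, g ^ r = 1 →
      (g : Matrix (Fin n) (Fin n) K).charpoly.map ι = ((R g).map fun x => X - C x).prod ∧
      ∃ m : Sym (ZMod r) n, R g = m.1.map (ee ζ) := by
    intro g hg
    obtain ⟨hP, hcard, hroots⟩ := exists_roots hr.pos hζ
      (g := (Matrix.GeneralLinearGroup.map ι g : GL (Fin n) E)) (by rw [← map_pow, hg, map_one])
    rw [hRmap] at hP hcard hroots
    refine ⟨hP, ⟨(R g).map (Function.invFun (ee ζ)), by rw [Multiset.card_map]; exact hcard⟩, ?_⟩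
    show R g = ((R g).map (Function.invFun (ee ζ))).map (ee ζ)
    rw [Multiset.map_map]
    refine (Multiset.map_id' (R g)).symm.trans (Multiset.map_congr rfl fun x hx => ?_)
    obtain ⟨i, hi, hix⟩ := hroots x hx
    exact (Function.invFun_eq (f := ee ζ)
      ⟨(i : ZMod r), by rw [ee, ZMod.val_natCast, Nat.mod_eq_of_lt hi, hix]⟩).symm
  have hinj : ∀ g h : GL (Fin n) K, g ^ r = 1 → h ^ r = 1 → R g = R h → IsConj g h := fun g h hg hh e =>
    isConj_of_pow (c := 1) (d := 1) hrK (by rw [map_one, hg]) (by rw [map_one, hh])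
      (Polynomial.map_injective ι ι.injective (by rw [(hsplit g hg).1, (hsplit h hh).1, e]))
  have hmulinj : Function.Injective fun m : Multiset (ZMod r) => m.map (ee ζ) :=
    Multiset.map_injective (ee_injective' hζ)
  -- the conjugate inverse
  have hdual : ∀ g : GL (Fin n) K, g ^ r = 1 → ∀ g' : GL (Fin n) K,
      (g' : Matrix (Fin n) (Fin n) K) * ((g : Matrix (Fin n) (Fin n) K).map fun x => x ^ q).transpose = 1 →
      R g' = (R g).map fun x => (x ^ q)⁻¹ := by
    intro g hg g' hgg'
    have h1 := roots_inv (Matrix.GeneralLinearGroup.map ι g' : GL (Fin n) E)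
    rw [← map_inv, hRmap, hRmap] at h1
    have e : ((g'⁻¹ : GL (Fin n) K) : Matrix (Fin n) (Fin n) K) =
        ((g : Matrix (Fin n) (Fin n) K).map (Unitary.conjHom hK)).transpose := by
      exact Units.inv_eq_of_mul_eq_one_right hgg'
    rw [e, Matrix.charpoly_transpose, Matrix.charpoly_map, Polynomial.map_map, ← hφι, ← Polynomial.map_map,
      (hsplit g hg).1, Polynomial.map_multiset_prod, Multiset.map_map] at h1
    have h2 : (Multiset.map (map φ ∘ fun x => X - C x) (R g)) =
        ((R g).map φ).map fun x => X - C x := by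
      rw [Multiset.map_map]
      exact Multiset.map_congr rfl fun x _ => by simp
    rw [h2, roots_multiset_prod_X_sub_C] at h1
    have h3 := congrArg (Multiset.map (·⁻¹)) h1
    rw [Multiset.map_map, Multiset.map_map] at h3
    refine Eq.trans ?_ (Eq.trans h3.symm (Multiset.map_congr rfl fun x _ => by simp [hφ]))
    rw [show ((fun x : E => x⁻¹) ∘ fun x => x⁻¹) = id from funext inv_inv, Multiset.map_id]
  have hGU : ∀ g : ↥(Cfsg.GU n K q), ((g : GL (Fin n) K) : Matrix (Fin n) (Fin n) K) *
      (((g : GL (Fin n) K) : Matrix (Fin n) (Fin n) K).map fun x => x ^ q).transpose = 1 := fun g =>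
    mul_eq_one_comm.1 ((UnitaryConj.mem_GU_iff_adj hK _).1 g.2)
  have hexp : ∀ g : ↥(Cfsg.GU n K q), g ^ r = 1 →
      ∃ s : InvExps r n c, R (g : GL (Fin n) K) = s.1.1.map (ee ζ) := by
    intro g hg
    have hg' : (g : GL (Fin n) K) ^ r = 1 := by rw [← Subgroup.coe_pow, hg]; rfl
    obtain ⟨-, m, hm⟩ := hsplit _ hg'
    refine ⟨⟨m, hmulinj ?_⟩, hm⟩
    show (m.1.map (c * ·)).map (ee ζ) = m.1.map (ee ζ)
    rw [← hm, hdual _ hg' _ (hGU g), hm, Multiset.map_map, Multiset.map_map]
    exact Multiset.map_congr rfl fun a _ => heec a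
  let T := {C : ConjClasses ↥(Cfsg.GU n K q) // ∃ g : ↥(Cfsg.GU n K q), ConjClasses.mk g = C ∧ g ^ r = 1}
  let Φ : T → InvExps r n c := fun C => (hexp C.2.choose C.2.choose_spec.2).choose
  have hΦ : ∀ C : T, R (C.2.choose : GL (Fin n) K) = (Φ C).1.1.map (ee ζ) := fun C =>
    (hexp C.2.choose C.2.choose_spec.2).choose_spec
  refine Nat.card_eq_of_bijective Φ ⟨fun C D hCD => ?_, fun s => ?_⟩
  · apply Subtype.ext
    rw [← C.2.choose_spec.1, ← D.2.choose_spec.1, ConjClasses.mk_eq_mk_iff_isConj, S2587.result hK]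
    refine hinj _ _ ?_ ?_ (by rw [hΦ, hΦ, hCD])
    · rw [← Subgroup.coe_pow, C.2.choose_spec.2]; rfl
    · rw [← Subgroup.coe_pow, D.2.choose_spec.2]; rfl
  -- a polynomial with the prescribed roots
  let Q : E[X] := ((s.1.1.map (ee ζ)).map fun x => X - C x).prod
  have hQm : Q.Monic := monic_multiset_prod_of_monic _ _ fun x _ => monic_X_sub_C x
  have hQd : Q.natDegree = n := by
    rw [natDegree_multiset_prod_X_sub_C_eq_card, Multiset.card_map]; exact s.1.2
  have hQφ : Q.map φ = ((((s.1.1.map (ee ζ)).map fun x => x ^ q)).map fun x => X - C x).prod := by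
    rw [Polynomial.map_multiset_prod]
    simp only [Multiset.map_map]
    congr 1
    exact Multiset.map_congr rfl fun a _ => by simp [hφ]
  have hQ2 : (Q.map φ).map φ = Q := by
    rw [hQφ, Polynomial.map_multiset_prod]
    simp only [Multiset.map_map]
    show _ = ((s.1.1.map (ee ζ)).map fun x => X - C x).prod
    conv_rhs => rw [← s.2, show s.1.1.map (c * ·) = ((s.1.1.map (c * ·))).map (c * ·) by rw [s.2, s.2]]
    simp only [Multiset.map_map]
    congr 1
    refine Multiset.map_congr rfl fun a _ => ?_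
    simp only [Function.comp_apply, Polynomial.map_sub, map_X, map_C, hφ, heec, inv_pow]
    rw [inv_inv]
  obtain ⟨P, hPQ, hPd, hPm⟩ := lifts_and_degree_eq_and_monic (f := ι) (p := Q) (by
    rw [lifts_iff_coeff_lifts]
    intro k
    refine mem_range_of_pow_card ι ?_
    have h := congrArg (fun T : E[X] => T.coeff k) hQ2
    simp only [coeff_map, hφ] at h
    rw [hK, sq, pow_mul, h]) hQm
  have hPd' : P.natDegree = n := by rw [natDegree_eq_of_degree_eq hPd, hQd]
  have hroots : ∀ x ∈ s.1.1.map (ee ζ), x ^ r = 1 ∧ x ≠ 0 := fun x hx => by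
    obtain ⟨a, -, rfl⟩ := Multiset.mem_map.1 hx
    exact ⟨ee_pow' hζ a, fun h => by simpa [h, hr.ne_zero] using ee_pow' hζ a⟩
  obtain ⟨A, hA⟩ := Semisimple.exists_matrix_charpoly P hPm hPd'
  have hA0 : IsUnit A := by
    rw [Matrix.isUnit_iff_isUnit_det, isUnit_iff_ne_zero, Matrix.det_eq_sign_charpoly_coeff, hA]
    refine mul_ne_zero (pow_ne_zero _ (neg_ne_zero.2 one_ne_zero)) fun h => ?_
    have h' : Q.coeff 0 = 0 := by rw [← hPQ, coeff_map, h, map_zero]
    rw [coeff_zero_eq_eval_zero, eval_multiset_prod, Multiset.map_map, Multiset.prod_eq_zero_iff,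
      Multiset.mem_map] at h'
    obtain ⟨x, hx, hx0⟩ := h'
    exact (hroots x hx).2 (by simpa using hx0)
  obtain ⟨k, hcop, hk⟩ := Semisimple.exists_coprime_charpoly p (MonoidHom.id (GL (Fin n) K)) hA0.unit
  simp only [MonoidHom.id_apply] at hk
  rw [hA0.unit_spec, hA] at hk
  obtain ⟨B, hB⟩ : ∃ B, B = hA0.unit ^ k := ⟨_, rfl⟩
  rw [← hB] at hk hcop
  have hBr : B ^ r = 1 := by
    set N := orderOf B
    have hNK : (N : K) ≠ 0 := FormClasses.natCast_ne_zero_of_coprime hcop
    have hsep : (X ^ N - 1 : K[X]).Separable := by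
      rw [← map_one (C : K →+* K[X])]
      exact separable_X_pow_sub_C 1 hNK one_ne_zero
    set d := EuclideanDomain.gcd P (X ^ N - 1 : K[X]) with hd
    have hdd : aeval (B : Matrix (Fin n) (Fin n) K) d = 0 := by
      rw [hd, EuclideanDomain.gcd_eq_gcd_ab, map_add, map_mul, map_mul,
        show aeval (B : Matrix (Fin n) (Fin n) K) P = 0 by rw [← hk]; exact Matrix.aeval_self_charpoly _,
        show aeval (B : Matrix (Fin n) (Fin n) K) (X ^ N - 1 : K[X]) = 0 by
          simp [← Units.val_pow_eq_pow_val, N, pow_orderOf_eq_one]]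
      simp
    have hdsep : d.Separable := hsep.of_dvd (EuclideanDomain.gcd_dvd_right _ _)
    have hdr : d ∣ X ^ r - 1 := by
      rw [← map_dvd_map' ι]
      have hnd := nodup_roots (hdsep.map (f := ι))
      rw [(IsAlgClosed.splits (d.map ι)).eq_prod_roots]
      refine (IsUnit.mul_left_dvd ?_).2 ?_
      · rw [isUnit_C, isUnit_iff_ne_zero, Ne, leadingCoeff_eq_zero]
        intro h0
        rw [Polynomial.map_eq_zero] at h0
        exact hdsep.ne_zero h0
      refine (Multiset.prod_X_sub_C_dvd_iff_le_roots ?_ _).2 ?_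
      · rw [Polynomial.map_sub, Polynomial.map_pow, map_X, Polynomial.map_one, ← map_one (C : E →+* E[X])]
        exact X_pow_sub_C_ne_zero hr.pos 1
      rw [Multiset.le_iff_subset hnd]
      intro x hx
      rw [mem_roots'] at hx
      have hxP : Q.IsRoot x := by
        rw [← hPQ]
        exact hx.2.dvd (Polynomial.map_dvd ι (EuclideanDomain.gcd_dvd_left _ _))
      rw [← mem_roots hQm.ne_zero, roots_multiset_prod_X_sub_C] at hxP
      rw [mem_roots', Polynomial.map_sub, Polynomial.map_pow, map_X, Polynomial.map_one]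
      refine ⟨by rw [← map_one (C : E →+* E[X])]; exact X_pow_sub_C_ne_zero hr.pos 1, ?_⟩
      simp [IsRoot, (hroots x hxP).1]
    obtain ⟨t, ht⟩ := hdr
    have h1 := congrArg (aeval (B : Matrix (Fin n) (Fin n) K)) ht
    rw [map_mul, hdd, zero_mul, map_sub, map_pow, aeval_X, map_one, sub_eq_zero] at h1
    exact Units.ext (by rw [Units.val_pow_eq_pow_val, Units.val_one]; exact h1)
  have hRB : R B = s.1.1.map (ee ζ) := by
    show ((B : Matrix (Fin n) (Fin n) K).charpoly.map ι).roots = _
    rw [hk, hPQ, roots_multiset_prod_X_sub_C]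
  -- it is similar to a unitary element
  obtain ⟨g, hg⟩ := (S2588.result hK B).2 (by
    set S := ((B : Matrix (Fin n) (Fin n) K).map fun x : K => x ^ q).transpose
    have hS : IsUnit S := (Matrix.isUnit_transpose _).2 (by
      rw [show (fun x : K => x ^ q) = ⇑(Unitary.conjHom hK) from rfl]
      exact B.isUnit.map (Unitary.conjHom hK).mapMatrix)
    let B' : GL (Fin n) K := hS.unit⁻¹
    have hB' : (B' : Matrix (Fin n) (Fin n) K) = S⁻¹ := by
      show ((hS.unit⁻¹ : GL (Fin n) K) : Matrix (Fin n) (Fin n) K) = _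
      rw [Matrix.coe_units_inv, hS.unit_spec]
    have hB'B : (B' : Matrix (Fin n) (Fin n) K) * S = 1 := hS.val_inv_mul
    have hB'r : B' ^ r = 1 := by
      rw [inv_pow, inv_eq_one]
      refine Units.ext ?_
      rw [Units.val_pow_eq_pow_val, hS.unit_spec, Units.val_one,
        ← Matrix.transpose_pow, show (fun x : K => x ^ q) = ⇑(Unitary.conjHom hK) from rfl,
        show ((B : Matrix (Fin n) (Fin n) K).map (Unitary.conjHom hK)) =
          (Unitary.conjHom hK).mapMatrix (B : Matrix (Fin n) (Fin n) K) from rfl, ← map_pow,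
        ← Units.val_pow_eq_pow_val, hBr, Units.val_one, map_one, Matrix.transpose_one]
    rw [← hB']
    have hconj := hinj B B' hBr hB'r (by
      rw [hdual B hBr B' hB'B, hRB, Multiset.map_map]
      conv_lhs => rw [← s.2, Multiset.map_map]
      exact Multiset.map_congr rfl fun a _ => heec a)
    exact MonoidHom.map_isConj (Units.coeHom (Matrix (Fin n) (Fin n) K)) hconj)
  have hgr : g ^ r = 1 := by
    refine Subtype.ext ?_
    obtain ⟨w, hw⟩ := isConj_iff.1 hg
    rw [Subgroup.coe_pow, ← hw, conj_pow, hBr, mul_one, mul_inv_cancel]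
    rfl
  let C0 : T := ⟨ConjClasses.mk g, g, rfl, hgr⟩
  refine ⟨C0, Subtype.ext (Subtype.ext (hmulinj ?_))⟩
  show (Φ C0).1.1.map (ee ζ) = s.1.1.map (ee ζ)
  rw [← hΦ, ← hRB]
  have h1 : IsConj ((C0.2.choose : GL (Fin n) K)) (g : GL (Fin n) K) :=
    (S2587.result hK _ _).1 (ConjClasses.mk_eq_mk_iff_isConj.1 C0.2.choose_spec.1)
  show ((_ : Matrix (Fin n) (Fin n) K).charpoly.map ι).roots = ((B : Matrix (Fin n) (Fin n) K).charpoly.map ι).roots
  rw [Semisimple.charpoly_conj_gl (h1.trans hg.symm)]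

end Cfsg.Agent.Unitary
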